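import Mathlib
import Cfsg.Agent.S1350
import Cfsg.Agent.S1414
import Cfsg.Agent.Lib.helper8.BGTwelve
import Cfsg.Agent.Lib.helper12.BGEleven
import Cfsg.Agent.Lib.helper13.BG11a
import Cfsg.Agent.Lib.helper29.Basic
import Cfsg.Agent.Lib.helper97.PNilp

/-!
# Bender–Glauberman Theorem 12.7, part 1: commuting Sylow subgroups and `τ₂(M) = {p}`

The statements S1417 (B-G 12.5) and S1418 (B-G 12.6) are taken as explicit hypotheses
`BG7FiveHyp`, `BG7SixHyp`; S1416 (B-G 12.4) as `Cfsg.Agent.Lib.helper8.BGTwelveFourHyp`.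
-/

set_option autoImplicit false

namespace Cfsg.Agent.Lib.helper97

open Cfsg Cfsg.Agent.Lib.helper8 Cfsg.Agent.Lib.helper13

variable {G : Type*} [Group G]

/-- The statement of S1417 (B-G Theorem 12.5) for all `M`, `p`, `A`, as a hypothesis. -/
def BG7FiveHyp (G : Type*) [Group G] : Prop :=
  ∀ (M : Subgroup G), IsCoatom M → ∀ (p : ℕ) [Fact p.Prime], p ∈ tau2 M → ∀ A : Subgroup G,
    (A ≤ M ∧ IsElementaryAbelian p A ∧ Nat.card A = p ^ 2) →
    Group.IsNilpotent (sigmaCore M) ∧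
      (∀ P : Sylow p M, IsMulCommutative (P : Subgroup M) ∧
        (A ≤ (P : Subgroup M).map M.subtype →
          (∀ x ∈ (P : Subgroup M).map M.subtype, x ^ p = 1 ↔ x ∈ A) ∧
          ¬ Subgroup.normalizer ((((P : Subgroup M).map M.subtype : Subgroup G)) : Set G) ≤ M)) ∧
      M ≤ Subgroup.normalizer ((sigmaCore M ⊔ A : Subgroup G) : Set G) ∧
      sigmaCore M ⊓ Subgroup.centralizer (A : Set G) = ⊥ ∧
      (∀ Mstar : Subgroup G, IsCoatom Mstar → Mstar ≠ M → A ≤ Mstar → sigmaCore M ⊓ Mstar = ⊥) ∧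
      ∃ A₁ : Subgroup G, A₁ ≤ A ∧ Nat.card A₁ = p ∧
        sigmaCore M ⊓ Subgroup.centralizer (A₁ : Set G) = ⊥

/-- The statement of S1418 (B-G Lemma 12.6) for all `M`, `E`, `p`, `A`, as a hypothesis. -/
def BG7SixHyp (G : Type*) [Group G] : Prop :=
  ∀ (M : Subgroup G), IsCoatom M → ∀ E : Subgroup G, IsComplIn E (sigmaCore M) M →
    ∀ (p : ℕ) [Fact p.Prime], p ∈ tau2 M → ∀ A : Subgroup G,
    (A ≤ E ∧ IsElementaryAbelian p A ∧ Nat.card A = p ^ 2) →
    (E ≤ Subgroup.normalizer (A : Set G) ∧ ∀ X : Subgroup G, X ≤ E → Nat.card X = p → X ≤ A) ∧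
      (Subgroup.centralizer (A : Set G) ≤ M ⊓ Subgroup.normalizer (A : Set G) ∧
        M ⊓ Subgroup.normalizer (A : Set G) = E ∧
        ¬ Subgroup.normalizer (A : Set G) ≤ M) ∧
      ∀ X : Subgroup G, X ≤ A → Nat.card X = p →
        sigmaCore M ⊓ Subgroup.centralizer (X : Set G) ≠ ⊥ →
        (Subgroup.centralizer (X : Set G) ≤ M ∧
          ∀ L : Subgroup G, IsCoatom L → Subgroup.centralizer (X : Set G) ≤ L → L = M)

/-- In a minimal simple group the normalizer of a nontrivial proper subgroup is proper. -/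
theorem bg7_normalizer_ne_top (hG : IsMinSimpleOddOrder G) {K : Subgroup G} (hK1 : K ≠ ⊥)
    (hK2 : K ≠ ⊤) : Subgroup.normalizer (K : Set G) ≠ ⊤ := by
  obtain ⟨-, hsimple, -, -⟩ := id hG
  have := hsimple
  intro h
  have hKn : K.Normal := Subgroup.normalizer_eq_top_iff.mp h
  rcases hKn.eq_bot_or_eq_top with h1 | h1
  · exact hK1 h1
  · exact hK2 h1

/-- (C) Commuting Sylow subgroups: if `p ≠ s` both lie in `σ(M*)` and neither is ideal for `G`, then
`G` has a Sylow `p`-subgroup and a Sylow `s`-subgroup commuting elementwise. -/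
theorem bg7_commuting_sylows [Finite G] (hG : IsMinSimpleOddOrder G) (Ms : Subgroup G)
    (hMs : IsCoatom Ms) (p s : ℕ) [Fact p.Prime] [Fact s.Prime] (hps : p ≠ s)
    (hp : p ∈ sigma Ms) (hs : s ∈ sigma Ms) (hpi : ¬ IsIdealPrime p G)
    (hsi : ¬ IsIdealPrime s G) :
    ∃ (P1 : Sylow p G) (Q1 : Sylow s G),
      ∀ x ∈ (P1 : Subgroup G), ∀ y ∈ (Q1 : Subgroup G), x * y = y * x := by
  obtain ⟨-, -, -, ⟨H, ⟨hHle, -, hHidx⟩, hHnil⟩, -⟩ := Cfsg.Agent.S1414.result hG Ms hMs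
  obtain ⟨-, ⟨-, hσidx⟩, -⟩ := Cfsg.Agent.S1350.result hG Ms hMs
  have hidx : ∀ q : ℕ, q.Prime → q ∈ sigma Ms → ¬ IsIdealPrime q G → ¬ q ∣ H.index := by
    intro q hq hqσ hqi hd
    rw [← Subgroup.relIndex_mul_index hHle] at hd
    rcases (Nat.Prime.dvd_mul hq).mp hd with h | h
    · exact hHidx q hq ⟨hq, fun hβ => hqi hβ.2⟩ h
    · exact hσidx q hq hqσ h
  obtain ⟨Pp⟩ : Nonempty (Sylow p H) := inferInstance
  obtain ⟨Qs⟩ : Nonempty (Sylow s H) := inferInstance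
  have htfae : Group.IsNilpotent H ↔ ∀ (q : ℕ) (_hq : Fact q.Prime) (P : Sylow q H),
      (↑P : Subgroup H).Normal := (Group.isNilpotent_of_finite_tfae (G := H)).out 0 3
  have hPn := htfae.mp hHnil p inferInstance Pp
  have hQn := htfae.mp hHnil s inferInstance Qs
  have hdisj : Disjoint (Pp : Subgroup H) (Qs : Subgroup H) :=
    IsPGroup.disjoint_of_ne p s hps _ _ Pp.isPGroup' Qs.isPGroup'
  have hcomm := Subgroup.commute_of_normal_of_disjoint _ _ hPn hQn hdisj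
  have hPG : IsPGroup p ((Pp : Subgroup H).map H.subtype) := Pp.isPGroup'.map H.subtype
  have hQG : IsPGroup s ((Qs : Subgroup H).map H.subtype) := Qs.isPGroup'.map H.subtype
  have hPidx : ¬ p ∣ ((Pp : Subgroup H).map H.subtype).index := by
    rw [Subgroup.index_map_subtype]
    intro hd
    rcases (Nat.Prime.dvd_mul Fact.out).mp hd with h | h
    · exact Pp.not_dvd_index h
    · exact hidx p Fact.out hp hpi h
  have hQidx : ¬ s ∣ ((Qs : Subgroup H).map H.subtype).index := by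
    rw [Subgroup.index_map_subtype]
    intro hd
    rcases (Nat.Prime.dvd_mul Fact.out).mp hd with h | h
    · exact Qs.not_dvd_index h
    · exact hidx s Fact.out hs hsi h
  refine ⟨hPG.toSylow hPidx, hQG.toSylow hQidx, ?_⟩
  rintro _ ⟨x, hx, rfl⟩ _ ⟨y, hy, rfl⟩
  exact congrArg Subtype.val (hcomm x y hx hy)

/-- For `p ∈ τ₂(M)` and `A ≤ M` elementary abelian of order `p ^ 2`: `N_G(A) ⊄ M`. -/
theorem bg7_not_normalizer_le [Finite G] (h17 : BG7FiveHyp G) (M : Subgroup G) (hM : IsCoatom M)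
    (p : ℕ) [Fact p.Prime] (hp : p ∈ tau2 M) (A : Subgroup G)
    (hA : A ≤ M ∧ IsElementaryAbelian p A ∧ Nat.card A = p ^ 2) :
    ¬ Subgroup.normalizer (A : Set G) ≤ M := by
  intro hN
  obtain ⟨-, h2, -⟩ := h17 M hM p hp A hA
  obtain ⟨P, hAP⟩ := Cfsg.Agent.Lib.helper12.exc_exists_sylow hA.1 (IsPGroup.of_card hA.2.2)
  obtain ⟨hΩ, hNP⟩ := (h2 P).2 hAP
  apply hNP
  refine le_trans ?_ hN
  intro n hn
  apply mem_normalizer_of_forall_conj_mem
  intro a ha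
  have h4 : n * a * n⁻¹ ∈ (P : Subgroup M).map M.subtype :=
    (Subgroup.mem_normalizer_iff.mp hn a).mp (hAP ha)
  have h5 : (n * a * n⁻¹) ^ p = 1 := by
    rw [conj_pow, hA.2.1.2 a ha, mul_one, mul_inv_cancel]
  exact (hΩ _ h4).mp h5

/-- If `N_G(A) ≤ M*` for `A` elementary abelian of order `p ^ 2`, then `p ∈ σ(M*)`. -/
theorem bg7_mem_sigma_of_normalizer_le [Finite G] (hG : IsMinSimpleOddOrder G)
    (h17 : BG7FiveHyp G) (Ms : Subgroup G) (hMs : IsCoatom Ms) (p : ℕ) [Fact p.Prime]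
    (A : Subgroup G) (hAe : IsElementaryAbelian p A) (hA2 : Nat.card A = p ^ 2)
    (hN : Subgroup.normalizer (A : Set G) ≤ Ms) : p ∈ sigma Ms := by
  have hpp : p.Prime := Fact.out
  by_contra hσ
  have hAM : A ≤ Ms := Subgroup.le_normalizer.trans hN
  have hr2 : PRankLE p 2 Ms := by
    by_contra h
    exact hσ (bg_alpha_sub_sigma hG (bgx_uniq hG) Ms hMs ⟨hpp, h⟩)
  have hr1 : ¬ PRankLE p 1 Ms := by
    rw [Cfsg.Agent.Lib.helper28.not_pRankLE_subgroup_iff]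
    refine ⟨A, hAM, hAe, ?_⟩
    rw [hA2]
    exact Nat.pow_lt_pow_right hpp.one_lt (by norm_num)
  exact bg7_not_normalizer_le h17 Ms hMs p ⟨hpp, hσ, hr2, hr1⟩ A ⟨hAM, hAe, hA2⟩ hN

/-- If `B ≤ C_G(A) ≤ E`, `B` has exponent `s` and contains every subgroup of order `s` of `E`, then
`N_G(A) ≤ N_G(B)`. -/
theorem bg7_normalizer_le_normalizer [Finite G] {E A B : Subgroup G} {s : ℕ} [Fact s.Prime]
    (hBA : B ≤ Subgroup.centralizer (A : Set G)) (hCA : Subgroup.centralizer (A : Set G) ≤ E)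
    (hBs : ∀ b ∈ B, b ^ s = 1) (hBall : ∀ X : Subgroup G, X ≤ E → Nat.card X = s → X ≤ B) :
    Subgroup.normalizer (A : Set G) ≤ Subgroup.normalizer (B : Set G) := by
  intro n hn
  apply mem_normalizer_of_forall_conj_mem
  intro b hb
  have h1 : n * b * n⁻¹ ∈ Subgroup.centralizer (A : Set G) := by
    rw [Subgroup.mem_centralizer_iff]
    intro a ha
    have h2 : n⁻¹ * a * n ∈ A := (Subgroup.mem_normalizer_iff''.mp hn a).mp ha
    have h3 := Subgroup.mem_centralizer_iff.mp (hBA hb) _ h2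
    calc a * (n * b * n⁻¹) = n * ((n⁻¹ * a * n) * b) * n⁻¹ := by group
      _ = n * (b * (n⁻¹ * a * n)) * n⁻¹ := by rw [h3]
      _ = n * b * n⁻¹ * a := by group
  by_cases h1' : n * b * n⁻¹ = 1
  · rw [h1']; exact B.one_mem
  · have h4 : (n * b * n⁻¹) ^ s = 1 := by rw [conj_pow, hBs b hb, mul_one, mul_inv_cancel]
    have h5 : orderOf (n * b * n⁻¹) = s := orderOf_eq_prime h4 h1'
    have h6 : Subgroup.zpowers (n * b * n⁻¹) ≤ B :=
      hBall _ (by rw [Subgroup.zpowers_le]; exact hCA h1) (by rw [Nat.card_zpowers, h5])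
    exact h6 (Subgroup.mem_zpowers _)

/-- (D) `τ₂` pairs: for `p ≠ s` in `τ₂(M)`, `A, B ≤ E` elementary abelian of orders `p ^ 2`, `s ^ 2`,
some Sylow `s`-subgroup of `G` centralizes `A`. -/
theorem bg7_exists_sylow_centralizing [Finite G] (hG : IsMinSimpleOddOrder G)
    (h17 : BG7FiveHyp G) (h18 : BG7SixHyp G) (M : Subgroup G) (hM : IsCoatom M) (E : Subgroup G)
    (hE : IsComplIn E (sigmaCore M) M) (p s : ℕ) [Fact p.Prime] [Fact s.Prime] (hps : p ≠ s)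
    (hp : p ∈ tau2 M) (hs : s ∈ tau2 M) (A : Subgroup G)
    (hA : A ≤ E ∧ IsElementaryAbelian p A ∧ Nat.card A = p ^ 2) (B : Subgroup G)
    (hB : B ≤ E ∧ IsElementaryAbelian s B ∧ Nat.card B = s ^ 2) :
    ∃ Q1 : Sylow s G, (Q1 : Subgroup G) ≤ Subgroup.centralizer (A : Set G) := by
  have hpp : p.Prime := Fact.out
  obtain ⟨⟨hEA, hAall⟩, ⟨hCA, hNA, -⟩, -⟩ := h18 M hM E hE p hp A hA
  obtain ⟨⟨hEB, hBall⟩, ⟨hCB, hNB, -⟩, -⟩ := h18 M hM E hE s hs B hB
  have hAel := (bg_elemAb_iff A).mp hA.2.1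
  have hBel := (bg_elemAb_iff B).mp hB.2.1
  have hAB : A ⊓ B = ⊥ :=
    disjoint_iff.mp (IsPGroup.disjoint_of_ne p s hps A B (IsPGroup.of_card hA.2.2)
      (IsPGroup.of_card hB.2.2))
  have hcomm : ∀ a ∈ A, ∀ b ∈ B, a * b = b * a := by
    intro a ha b hb
    have h1 : a * b * a⁻¹ ∈ B := (Subgroup.mem_normalizer_iff.mp (hEB (hA.1 ha)) b).mp hb
    have h2 : b * a⁻¹ * b⁻¹ ∈ A :=
      (Subgroup.mem_normalizer_iff.mp (hEA (hB.1 hb)) a⁻¹).mp (A.inv_mem ha)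
    have h3 : a * b * a⁻¹ * b⁻¹ ∈ A ⊓ B := by
      refine ⟨?_, B.mul_mem h1 (B.inv_mem hb)⟩
      have : a * b * a⁻¹ * b⁻¹ = a * (b * a⁻¹ * b⁻¹) := by group
      rw [this]
      exact A.mul_mem ha h2
    rw [hAB, Subgroup.mem_bot] at h3
    calc a * b = (a * b * a⁻¹ * b⁻¹) * (b * a) := by group
      _ = b * a := by rw [h3, one_mul]
  have hBA : B ≤ Subgroup.centralizer (A : Set G) := fun b hb => by
    rw [Subgroup.mem_centralizer_iff]
    intro a ha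
    exact hcomm a ha b hb
  have hAB' : A ≤ Subgroup.centralizer (B : Set G) := fun a ha => by
    rw [Subgroup.mem_centralizer_iff]
    intro b hb
    exact (hcomm a ha b hb).symm
  have hCAE : Subgroup.centralizer (A : Set G) ≤ E := by rw [← hNA]; exact hCA
  have hCBE : Subgroup.centralizer (B : Set G) ≤ E := by rw [← hNB]; exact hCB
  have hN2 : Subgroup.normalizer (B : Set G) ≤ Subgroup.normalizer (A : Set G) :=
    bg7_normalizer_le_normalizer hAB' hCBE hAel.2 hAall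
  have hN1 : Subgroup.normalizer (A : Set G) ≤ Subgroup.normalizer (B : Set G) :=
    bg7_normalizer_le_normalizer hBA hCAE hBel.2 hBall
  have hA1 : A ≠ ⊥ := by
    intro h
    have h1 : Nat.card A = 1 := by rw [h]; exact Subgroup.card_bot
    rw [hA.2.2] at h1
    have : 1 < p ^ 2 := Nat.one_lt_pow (by norm_num) hpp.one_lt
    omega
  have hAtop : A ≠ ⊤ := fun h => hM.1 (top_le_iff.mp (h ▸ hA.1.trans hE.1))
  obtain ⟨Ms, hMs, hNMs⟩ :=
    (eq_top_or_exists_le_coatom (Subgroup.normalizer (A : Set G))).resolve_left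
      (bg7_normalizer_ne_top hG hA1 hAtop)
  have hpσ : p ∈ sigma Ms := bg7_mem_sigma_of_normalizer_le hG h17 Ms hMs p A hA.2.1 hA.2.2 hNMs
  have hsσ : s ∈ sigma Ms :=
    bg7_mem_sigma_of_normalizer_le hG h17 Ms hMs s B hB.2.1 hB.2.2 (hN2.trans hNMs)
  have hpi : ¬ IsIdealPrime p G :=
    bg_rank_two_not_ideal hG (bgx_uniq hG) M hM p hp.2.2.1 hp.2.2.2
  have hsi : ¬ IsIdealPrime s G :=
    bg_rank_two_not_ideal hG (bgx_uniq hG) M hM s hs.2.2.1 hs.2.2.2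
  obtain ⟨P1, Q1, hPQ⟩ := bg7_commuting_sylows hG Ms hMs p s hps hpσ hsσ hpi hsi
  obtain ⟨P', hAP'⟩ := (IsPGroup.of_card hA.2.2 : IsPGroup p A).exists_le_sylow
  obtain ⟨g, hg⟩ := MulAction.exists_smul_eq G P1 P'
  refine ⟨g • Q1, ?_⟩
  intro x hx
  rw [Subgroup.mem_centralizer_iff]
  intro a ha
  have h1 : g⁻¹ * x * g ∈ (Q1 : Subgroup G) := (bg_mem_smul_sylow Q1 g x).mp hx
  have h2 : g⁻¹ * a * g ∈ (P1 : Subgroup G) :=
    (bg_mem_smul_sylow P1 g a).mp (by rw [hg]; exact hAP' ha)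
  have h3 := hPQ _ h2 _ h1
  calc a * x = g * ((g⁻¹ * a * g) * (g⁻¹ * x * g)) * g⁻¹ := by group
    _ = g * ((g⁻¹ * x * g) * (g⁻¹ * a * g)) * g⁻¹ := by rw [h3]
    _ = x * a := by group

/-- A `σ(M)'`-subgroup of prime power order of `M` is conjugate in `M` into the complement `E`. -/
theorem bg7_conj_into_compl [Finite G] (M E : Subgroup G) (hE : IsComplIn E (sigmaCore M) M)
    (s : ℕ) [Fact s.Prime] (hs : s ∉ sigma M) (Q : Subgroup G) (hQM : Q ≤ M)
    (hQ : IsPGroup s Q) : ∃ m ∈ M, ∀ x ∈ Q, m * x * m⁻¹ ∈ E := by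
  have hsp : s.Prime := Fact.out
  obtain ⟨SE⟩ : Nonempty (Sylow s E) := inferInstance
  have hTcard : Nat.card ((SE : Subgroup E).map (Subgroup.inclusion hE.1)) =
      s ^ (Nat.card M).factorization s := by
    rw [Subgroup.card_map_of_injective (Subgroup.inclusion_injective hE.1),
      SE.card_eq_multiplicity]
    congr 1
    have h1 := Cfsg.Agent.Lib.helper29.IsComplIn.card_mul hE
    have hcop : (Nat.card (sigmaCore M)).Coprime s := bg_sigmaCore_card_coprime M hsp hs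
    have hnd : ¬ s ∣ Nat.card (sigmaCore M) :=
      (Nat.Prime.coprime_iff_not_dvd hsp).mp hcop.symm
    rw [← h1, Nat.factorization_mul Nat.card_pos.ne' Nat.card_pos.ne', Finsupp.add_apply,
      Nat.factorization_eq_zero_of_not_dvd hnd, add_zero]
  obtain ⟨P, hP⟩ := (hQ.comap_subtype (K := M)).exists_le_sylow
  obtain ⟨m, hm⟩ := MulAction.exists_smul_eq ↥M P (Sylow.ofCard _ hTcard)
  refine ⟨m, m.2, ?_⟩
  intro x hx
  have h1 : (⟨x, hQM hx⟩ : ↥M) ∈ (P : Subgroup ↥M) := hP (Subgroup.mem_subgroupOf.mpr hx)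
  have h2 : m * ⟨x, hQM hx⟩ * m⁻¹ ∈ ((m • P : Sylow s ↥M) : Subgroup ↥M) := by
    rw [bg_mem_smul_sylow]
    have : m⁻¹ * (m * ⟨x, hQM hx⟩ * m⁻¹) * m = ⟨x, hQM hx⟩ := by group
    rw [this]
    exact h1
  rw [hm] at h2
  obtain ⟨e, -, hee⟩ := h2
  have h3 : ((e : ↥E) : G) = (m : G) * x * (m : G)⁻¹ := congrArg Subtype.val hee
  rw [← h3]
  exact e.2

/-- For `s ∈ τ₂(M)` the complement `E` contains an elementary abelian subgroup of order `s ^ 2`. -/
theorem bg7_exists_elemAb_compl [Finite G] (M E : Subgroup G) (hE : IsComplIn E (sigmaCore M) M)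
    (s : ℕ) [Fact s.Prime] (hs : s ∈ tau2 M) :
    ∃ B : Subgroup G, B ≤ E ∧ IsElementaryAbelian s B ∧ Nat.card B = s ^ 2 := by
  obtain ⟨B₀, hB₀M, hB₀e, hB₀c⟩ := bg_exists_elemAb_sq M s hs.2.2.1 hs.2.2.2
  obtain ⟨m, -, hm⟩ := bg7_conj_into_compl M E hE s hs.2.1 B₀ hB₀M (IsPGroup.of_card hB₀c)
  refine ⟨B₀.map (MulAut.conj m).toMonoidHom, ?_,
    Cfsg.Agent.Lib.helper12.isElementaryAbelian_map_conj hB₀e m, ?_⟩
  · rintro _ ⟨x, hx, rfl⟩
    exact hm x hx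
  · rw [Subgroup.card_map_of_injective (MulAut.conj m).injective, hB₀c]

/-- B-G Theorem 12.7(a): if the Sylow `p`-subgroups of `G` are nonabelian and `p ∈ τ₂(M)`, then
`τ₂(M) = {p}`. -/
theorem bg7_tau2_eq [Finite G] (hG : IsMinSimpleOddOrder G) (h16 : BGTwelveFourHyp G)
    (h17 : BG7FiveHyp G) (h18 : BG7SixHyp G) (M : Subgroup G) (hM : IsCoatom M) (E : Subgroup G)
    (hE : IsComplIn E (sigmaCore M) M) (p : ℕ) [Fact p.Prime] (hp : p ∈ tau2 M)
    (hS : ∀ S : Sylow p G, ¬ IsMulCommutative (S : Subgroup G)) (A : Subgroup G)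
    (hA : A ≤ E ∧ IsElementaryAbelian p A ∧ Nat.card A = p ^ 2) : tau2 M = {p} := by
  ext s
  rw [Set.mem_singleton_iff]
  constructor
  · intro hs
    by_contra hne
    have : Fact s.Prime := ⟨hs.1⟩
    obtain ⟨B, hB⟩ := bg7_exists_elemAb_compl M E hE s hs
    obtain ⟨P1, hP1⟩ :=
      bg7_exists_sylow_centralizing hG h17 h18 M hM E hE s p hne hs hp B hB A hA
    have hCB : Subgroup.centralizer (B : Set G) ≤ M :=
      (h16 M hM s B ⟨hB.1.trans hE.1, hB.2.1, hB.2.2⟩).1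
    have hP1M : (P1 : Subgroup G) ≤ M := hP1.trans hCB
    obtain ⟨-, h2, -⟩ := h17 M hM p hp A ⟨hA.1.trans hE.1, hA.2.1, hA.2.2⟩
    have h3 := (h2 (P1.subtype hP1M)).1
    apply hS P1
    rw [isMulCommutative_iff] at h3 ⊢
    intro a b
    have ha : (⟨a.1, hP1M a.2⟩ : ↥M) ∈ ((P1.subtype hP1M : Sylow p ↥M) : Subgroup ↥M) := by
      rw [Sylow.coe_subtype, Subgroup.mem_subgroupOf]
      exact a.2
    have hb : (⟨b.1, hP1M b.2⟩ : ↥M) ∈ ((P1.subtype hP1M : Sylow p ↥M) : Subgroup ↥M) := by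
      rw [Sylow.coe_subtype, Subgroup.mem_subgroupOf]
      exact b.2
    have h4 := h3 ⟨_, ha⟩ ⟨_, hb⟩
    have h5 : (a : G) * (b : G) = (b : G) * (a : G) :=
      congrArg (fun x : ↥((P1.subtype hP1M : Sylow p ↥M) : Subgroup ↥M) => ((x : ↥M) : G)) h4
    exact Subtype.ext h5
  · rintro rfl
    exact hp

end Cfsg.Agent.Lib.helper97
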