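import Mathlib
import Cfsg.Prelude.Def_OddOrderLocal

/-!
# Bender–Glauberman, the regular complement theorem (S1421): shared interface (helper97)

* `BG8PrimeHyp G` : the statement of S1427 for the group `G`, as a `Prop`.
* `BG8Reg M e` : `e` acts regularly on `M_σ`, i.e. `M_σ ∩ C_G(e) = 1`.
* `BG8Ctx M E A p S` : the "abelian Sylow" situation: `M` maximal, `E` a complement of `M_σ` in `M`,
  `p ∈ τ₂(M)`, `A ≤ E` elementary abelian of order `p ^ 2`, `S` an abelian Sylow `p`-subgroup of `G`
  containing `A`.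
-/

set_option autoImplicit false

open Cfsg

namespace Cfsg.Agent.Lib.helper97

variable {G : Type*} [Group G]

/-- The statement of S1427 (a non-identity cyclic Sylow subgroup of a complement `E` of `M_σ` acts in
a prime manner on `M_σ`) for the group `G`. -/
def BG8PrimeHyp (G : Type*) [Group G] : Prop :=
  ∀ (M : Subgroup G), IsCoatom M → ∀ (E : Subgroup G), IsComplIn E (sigmaCore M) M →
    ∀ (p : ℕ) [Fact p.Prime] (S : Sylow p E), (S : Subgroup E) ≠ ⊥ → IsCyclic (S : Subgroup E) →
    ∀ x ∈ (S : Subgroup E).map E.subtype, x ≠ 1 →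
      sigmaCore M ⊓ Subgroup.centralizer ({x} : Set G) =
        sigmaCore M ⊓
          Subgroup.centralizer (((S : Subgroup E).map E.subtype : Subgroup G) : Set G)

/-- `e` acts regularly on `M_σ`: no non-identity element of `M_σ` commutes with `e`. -/
def BG8Reg (M : Subgroup G) (e : G) : Prop :=
  sigmaCore M ⊓ Subgroup.centralizer ({e} : Set G) = ⊥

/-- The abelian Sylow situation of S1421. -/
structure BG8Ctx (M E A : Subgroup G) (p : ℕ) (S : Sylow p G) : Prop where
  hM : IsCoatom M
  hE : IsComplIn E (sigmaCore M) M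
  hp : p ∈ tau2 M
  hA : A ≤ E ∧ IsElementaryAbelian p A ∧ Nat.card A = p ^ 2
  hSab : ∀ x ∈ (S : Subgroup G), ∀ y ∈ (S : Subgroup G), x * y = y * x
  hAS : A ≤ (S : Subgroup G)

end Cfsg.Agent.Lib.helper97
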