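import Mathlib
import Cfsg.Agent.S1412
import Cfsg.Agent.S1453
import Cfsg.Agent.Lib.helper8.BGTen4

/-!
# A `p`-group lemma for B-G Theorem 12.7

For a nonabelian Sylow `p`-subgroup `S` of a minimal simple group of odd order containing a maximal
elementary abelian subgroup `A` of order `p ^ 2`: every `p`-th power of an element of `S` that lies in
`A` is central in `S`.
-/

set_option autoImplicit false

namespace Cfsg.Agent.Lib.helper97

open Cfsg

/-- Elements of the join of two elementwise commuting subgroups are products. -/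
theorem bg7_mem_sup_of_commute {G : Type*} [Group G] {P₁ P₂ : Subgroup G}
    (h : ∀ a ∈ P₁, ∀ b ∈ P₂, a * b = b * a) {x : G} (hx : x ∈ P₁ ⊔ P₂) :
    ∃ u ∈ P₁, ∃ v ∈ P₂, x = u * v := by
  rw [Subgroup.sup_eq_closure] at hx
  induction hx using Subgroup.closure_induction with
  | mem x hx =>
    rcases hx with hx | hx
    · exact ⟨x, hx, 1, P₂.one_mem, (mul_one x).symm⟩
    · exact ⟨1, P₁.one_mem, x, hx, (one_mul x).symm⟩
  | one => exact ⟨1, P₁.one_mem, 1, P₂.one_mem, (mul_one 1).symm⟩
  | mul x y _ _ hx hy =>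
    obtain ⟨u, hu, v, hv, rfl⟩ := hx
    obtain ⟨u', hu', v', hv', rfl⟩ := hy
    refine ⟨u * u', P₁.mul_mem hu hu', v * v', P₂.mul_mem hv hv', ?_⟩
    have h1 : v * u' = u' * v := (h u' hu' v hv).symm
    calc u * v * (u' * v') = u * (v * u') * v' := by simp only [mul_assoc]
      _ = u * (u' * v) * v' := by rw [h1]
      _ = u * u' * (v * v') := by simp only [mul_assoc]
  | inv x _ hx =>
    obtain ⟨u, hu, v, hv, rfl⟩ := hx
    refine ⟨u⁻¹, P₁.inv_mem hu, v⁻¹, P₂.inv_mem hv, ?_⟩
    have h1 : u⁻¹ * v⁻¹ = v⁻¹ * u⁻¹ := h u⁻¹ (P₁.inv_mem hu) v⁻¹ (P₂.inv_mem hv)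
    rw [mul_inv_rev, h1]

/-- The closure of a set of central elements of exponent `p` consists of such elements. -/
theorem bg7_closure_central {R : Type*} [Group R] (p : ℕ) (s : Set R)
    (hs : ∀ x ∈ s, x ∈ Subgroup.center R ∧ x ^ p = 1) :
    ∀ x ∈ Subgroup.closure s, x ∈ Subgroup.center R ∧ x ^ p = 1 := by
  intro x hx
  induction hx using Subgroup.closure_induction with
  | mem x hx => exact hs x hx
  | one => exact ⟨(Subgroup.center R).one_mem, one_pow p⟩
  | mul x y _ _ hx hy =>
    refine ⟨(Subgroup.center R).mul_mem hx.1 hy.1, ?_⟩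
    have hc : Commute x y := (Subgroup.mem_center_iff.mp hx.1 y).symm
    rw [hc.mul_pow, hx.2, hy.2, one_mul]
  | inv x _ hx =>
    exact ⟨(Subgroup.center R).inv_mem hx.1, by rw [inv_pow, hx.2, inv_one]⟩

/-- (P0+), narrow case, inside the `p`-group `R`. -/
theorem bg7_pow_central_narrow {R : Type*} [Group R] [Finite R] (p : ℕ) [Fact p.Prime] (hp : p ≠ 2)
    (hR : IsPGroup p R) (hr : ¬ PRankLE p 2 R) (E : Subgroup R) (hE : IsElementaryAbelian p E)
    (hE2 : Nat.card E = p ^ 2)
    (hEmax : ∀ B : Subgroup R, IsElementaryAbelian p B → E ≤ B → B = E) :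
    ∀ r : R, r ^ p ∈ E → r ^ p ∈ Subgroup.center R := by
  have hpp : p.Prime := Fact.out
  obtain ⟨h1, h2, -, h4, h5⟩ := Cfsg.Agent.S1453.result p hp hR hr E hE hE2 hEmax
  set W : Subgroup R :=
    Subgroup.closure {x : R | x ∈ Subgroup.upperCentralSeries R 2 ∧ x ^ p = 1} with hW
  set Z' : Subgroup R := Subgroup.closure {x : R | x ∈ Subgroup.center R ∧ x ^ p = 1} with hZ'
  set T : Subgroup R := Subgroup.centralizer (W : Set R) with hT
  have hTn : T.Normal := Subgroup.normal_of_characteristic T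
  have hZc : ∀ x ∈ Z', x ∈ Subgroup.center R ∧ x ^ p = 1 :=
    bg7_closure_central p _ (fun x hx => hx)
  have hZ'E : Z' ≤ E := by
    have hZel : IsElementaryAbelian p Z' := by
      rw [Cfsg.Agent.Lib.helper8.bg_elemAb_iff]
      exact ⟨fun a ha b _ => (Subgroup.mem_center_iff.mp (hZc a ha).1 b).symm,
        fun a ha => (hZc a ha).2⟩
    have hsup : IsElementaryAbelian p (E ⊔ Z') :=
      Cfsg.Agent.Lib.helper8.bg_elemAb_sup E Z' hE hZel
        (fun x _ y hy => Subgroup.mem_center_iff.mp (hZc y hy).1 x)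
    have := hEmax (E ⊔ Z') hsup le_sup_left
    rw [← this]
    exact le_sup_right
  have hZ'T : Z' ≤ T := by
    intro x hx
    rw [hT, Subgroup.mem_centralizer_iff]
    intro w _
    exact Subgroup.mem_center_iff.mp (hZc x hx).1 w
  have hcardET : Nat.card ↥(E ⊓ T) ≤ p := by
    have hdvd : Nat.card ↥(E ⊓ T) ∣ p ^ 2 := by
      rw [← hE2]
      exact Subgroup.card_dvd_of_le inf_le_left
    obtain ⟨k, hk, hkc⟩ := (Nat.dvd_prime_pow hpp).mp hdvd
    have hk2 : k ≠ 2 := by
      intro hk2
      apply h1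
      have : E ⊓ T = E := by
        have hfin : Finite ↥E := inferInstance
        exact Subgroup.eq_of_le_of_card_ge inf_le_left (by rw [hkc, hk2, hE2])
      rw [← this]
      exact inf_le_right
    have hk1 : k ≤ 1 := by omega
    rw [hkc]
    calc p ^ k ≤ p ^ 1 := Nat.pow_le_pow_right hpp.pos hk1
      _ = p := pow_one p
  have hET : Z' = E ⊓ T := by
    have hfin : Finite ↥(E ⊓ T) := inferInstance
    exact Subgroup.eq_of_le_of_card_ge (le_inf hZ'E hZ'T) (by rw [h2]; exact hcardET)
  intro r hr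
  have hrT : r ^ p ∈ T := by
    have := Subgroup.pow_index_mem T r
    rwa [h5] at this
  have : r ^ p ∈ Z' := by
    rw [hET]
    exact ⟨hr, hrT⟩
  exact (hZc _ this).1

/-- (P0+): in a nonabelian Sylow `p`-subgroup `S` of a minimal simple group of odd order containing a
maximal elementary abelian subgroup `A` of order `p ^ 2`, every `p`-th power lying in `A` is central
in `S`. -/
theorem bg7_pow_central {G : Type*} [Group G] [Finite G] (hG : IsMinSimpleOddOrder G) (p : ℕ)
    [Fact p.Prime] (S : Sylow p G) (hS : ¬ IsMulCommutative (S : Subgroup G)) (A : Subgroup G)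
    (hAS : A ≤ (S : Subgroup G)) (hA : IsElementaryAbelian p A) (hA2 : Nat.card A = p ^ 2)
    (hAmax : ∀ B : Subgroup G, IsElementaryAbelian p B → A ≤ B → B = A) :
    ∀ r ∈ (S : Subgroup G), r ^ p ∈ A → ∀ x ∈ (S : Subgroup G), r ^ p * x = x * r ^ p := by
  have hpp : p.Prime := Fact.out
  obtain ⟨hodd, -⟩ := id hG
  have hp2 : p ≠ 2 := by
    rintro rfl
    have h1 : Nat.card A ∣ Nat.card G := Subgroup.card_subgroup_dvd_card A
    rw [hA2] at h1
    have h2 : 2 ∣ Nat.card G := (dvd_pow_self 2 (by norm_num)).trans h1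
    exact (Nat.not_even_iff_odd.mpr hodd) (even_iff_two_dvd.mpr h2)
  by_cases hr : PRankLE p 2 ↥(S : Subgroup G)
  · rcases Cfsg.Agent.S1412.result hG p S hr with hc | ⟨P₁, P₂, hsup, hcomm, -, -, hexp, hcyc, -⟩
    · exact absurd hc hS
    · intro r hrS _ x hxS
      rw [← hsup] at hrS hxS
      obtain ⟨u, hu, v, hv, rfl⟩ := bg7_mem_sup_of_commute hcomm hrS
      obtain ⟨u', hu', v', hv', rfl⟩ := bg7_mem_sup_of_commute hcomm hxS
      have hup : u ^ p = 1 := by
        have h1 := Monoid.pow_exponent_eq_one (⟨u, hu⟩ : ↥P₁)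
        rw [hexp] at h1
        exact congrArg Subtype.val h1
      have huv : Commute u v := hcomm u hu v hv
      have hpow : (u * v) ^ p = v ^ p := by rw [huv.mul_pow, hup, one_mul]
      rw [hpow]
      have hvp : v ^ p ∈ P₂ := P₂.pow_mem hv p
      have h1 : v ^ p * u' = u' * v ^ p := (hcomm u' hu' _ hvp).symm
      have h2 : v ^ p * v' = v' * v ^ p := by
        have hcg : ∀ a b : ↥P₂, a * b = b * a := fun a b => by
          let _ := IsCyclic.commGroup (α := ↥P₂)
          exact mul_comm a b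
        exact congrArg Subtype.val (hcg ⟨v ^ p, hvp⟩ ⟨v', hv'⟩)
      calc v ^ p * (u' * v') = v ^ p * u' * v' := by rw [mul_assoc]
        _ = u' * (v ^ p * v') := by rw [h1, mul_assoc]
        _ = u' * v' * v ^ p := by rw [h2, mul_assoc]
  · have hEel : IsElementaryAbelian p (A.subgroupOf (S : Subgroup G)) :=
      Cfsg.Agent.Lib.helper8.bg_elemAb_subgroupOf (S : Subgroup G) hA
    have hE2 : Nat.card ↥(A.subgroupOf (S : Subgroup G)) = p ^ 2 := by
      rw [Nat.card_congr (Subgroup.subgroupOfEquivOfLe hAS).toEquiv, hA2]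
    have hEmax : ∀ B : Subgroup ↥(S : Subgroup G), IsElementaryAbelian p B →
        A.subgroupOf (S : Subgroup G) ≤ B → B = A.subgroupOf (S : Subgroup G) := by
      intro B hB hle
      have h1 : A ≤ B.map (S : Subgroup G).subtype := by
        intro a ha
        exact ⟨⟨a, hAS ha⟩, hle (Subgroup.mem_subgroupOf.mpr ha), rfl⟩
      have h2 := hAmax _ (Cfsg.Agent.Lib.helper8.bg_elemAb_map B hB) h1
      rw [← h2]
      ext x
      rw [Subgroup.mem_subgroupOf]
      constructor
      · intro hx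
        exact ⟨x, hx, rfl⟩
      · rintro ⟨y, hy, hyx⟩
        have : y = x := Subtype.ext hyx
        rwa [← this]
    have key := bg7_pow_central_narrow p hp2 S.isPGroup' hr _ hEel hE2 hEmax
    intro r hrS hrA x hxS
    have h1 : (⟨r, hrS⟩ : ↥(S : Subgroup G)) ^ p ∈ A.subgroupOf (S : Subgroup G) := by
      rw [Subgroup.mem_subgroupOf]
      exact hrA
    have h2 := Subgroup.mem_center_iff.mp (key ⟨r, hrS⟩ h1) ⟨x, hxS⟩
    exact (congrArg Subtype.val h2).symm

end Cfsg.Agent.Lib.helper97
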