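import Mathlib
import Cfsg.Agent.Lib.helper97.BGSeven1
import Cfsg.Agent.Lib.helper97.BGSevenP
import Cfsg.Agent.Lib.helper54.BGSigmaNe
import Cfsg.Agent.Lib.helper54.SylowAux
import Cfsg.Agent.Lib.helper37.CoprimeGen
import Cfsg.Agent.Lib.helper71.BGTenB

/-!
# Bender–Glauberman Theorem 12.7, part 2: the action of `A` on `M_σ`

Setting: `p ∈ τ₂(M)`, the Sylow `p`-subgroups of `G` are nonabelian, `A ≤ E` elementary abelian of
order `p ^ 2`.  We produce the data `A₁`, `Z`, `S` (`BG7Data`) and show that every subgroup of order `p`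
of `A` other than `A₁` acts fixed-point-freely on `M_σ` and has its centralizer outside `M`, while
`A₁ = C_A(M_σ)`.
-/

set_option autoImplicit false

namespace Cfsg.Agent.Lib.helper97

open Cfsg Cfsg.Agent.Lib.helper8 Cfsg.Agent.Lib.helper13

variable {G : Type*} [Group G]

/-- Conjugating an element of `C_G(A)` by an element of `N_G(A)` stays in `C_G(A)`. -/
theorem bg7_conj_mem_centralizer {A : Subgroup G} {n x : G}
    (hn : n ∈ Subgroup.normalizer (A : Set G)) (hx : x ∈ Subgroup.centralizer (A : Set G)) :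
    n * x * n⁻¹ ∈ Subgroup.centralizer (A : Set G) := by
  rw [Subgroup.mem_centralizer_iff]
  intro a ha
  have h2 : n⁻¹ * a * n ∈ A := (Subgroup.mem_normalizer_iff''.mp hn a).mp ha
  have h3 := Subgroup.mem_centralizer_iff.mp hx _ h2
  calc a * (n * x * n⁻¹) = n * ((n⁻¹ * a * n) * x) * n⁻¹ := by group
    _ = n * (x * (n⁻¹ * a * n)) * n⁻¹ := by rw [h3]
    _ = n * x * n⁻¹ * a := by group

/-- A Sylow `p`-subgroup of `G` inside `M` is abelian when `p ∈ τ₂(M)`. -/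
theorem bg7_sylow_comm_of_le [Finite G] (h17 : BG7FiveHyp G) (M : Subgroup G) (hM : IsCoatom M)
    (p : ℕ) [Fact p.Prime] (hp : p ∈ tau2 M) (A : Subgroup G)
    (hA : A ≤ M ∧ IsElementaryAbelian p A ∧ Nat.card A = p ^ 2) (S : Sylow p G)
    (hSM : (S : Subgroup G) ≤ M) : IsMulCommutative (S : Subgroup G) := by
  obtain ⟨-, h2, -⟩ := h17 M hM p hp A hA
  have h3 := (h2 (S.subtype hSM)).1
  rw [isMulCommutative_iff] at h3 ⊢
  intro a b
  have ha : (⟨a.1, hSM a.2⟩ : ↥M) ∈ ((S.subtype hSM : Sylow p ↥M) : Subgroup ↥M) := by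
    rw [Sylow.coe_subtype, Subgroup.mem_subgroupOf]
    exact a.2
  have hb : (⟨b.1, hSM b.2⟩ : ↥M) ∈ ((S.subtype hSM : Sylow p ↥M) : Subgroup ↥M) := by
    rw [Sylow.coe_subtype, Subgroup.mem_subgroupOf]
    exact b.2
  have h4 := h3 ⟨_, ha⟩ ⟨_, hb⟩
  have h5 : (a : G) * (b : G) = (b : G) * (a : G) :=
    congrArg (fun x : ↥((S.subtype hSM : Sylow p ↥M) : Subgroup ↥M) => ((x : ↥M) : G)) h4
  exact Subtype.ext h5

/-- For `y ∈ N_G(A) ∖ M`: `M_σ ∩ yMy⁻¹ = 1` (from B-G 12.5(e)). -/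
theorem bg7_sigma_inf_conj [Finite G] (hG : IsMinSimpleOddOrder G) (h17 : BG7FiveHyp G)
    (M : Subgroup G) (hM : IsCoatom M) (p : ℕ) [Fact p.Prime] (hp : p ∈ tau2 M) (A : Subgroup G)
    (hA : A ≤ M ∧ IsElementaryAbelian p A ∧ Nat.card A = p ^ 2) (y : G)
    (hyA : y ∈ Subgroup.normalizer (A : Set G)) (hyM : y ∉ M) :
    sigmaCore M ⊓ M.map (MulAut.conj y).toMonoidHom = ⊥ := by
  have hpp : p.Prime := Fact.out
  obtain ⟨-, hsimple, -, -⟩ := id hG
  have := hsimple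
  obtain ⟨-, -, -, -, h5, -⟩ := h17 M hM p hp A hA
  have hA1 : A ≠ ⊥ := by
    intro h
    have h1 : Nat.card A = 1 := by rw [h]; exact Subgroup.card_bot
    rw [hA.2.2] at h1
    have : 1 < p ^ 2 := Nat.one_lt_pow (by norm_num) hpp.one_lt
    omega
  have hMbot : M ≠ ⊥ := fun h => hA1 (le_bot_iff.mp (h ▸ hA.1))
  apply h5 _ (Cfsg.Agent.Lib.helper71.BGA.isCoatom_map_conj hM y)
  · intro heq
    apply hyM
    have hyN : y ∈ Subgroup.normalizer (M : Set G) := by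
      apply mem_normalizer_of_forall_conj_mem
      intro m hm
      have h1 : y * m * y⁻¹ ∈ M.map (MulAut.conj y).toMonoidHom := ⟨m, hm, rfl⟩
      rwa [heq] at h1
    rw [Cfsg.Agent.Lib.helper71.BGA.normalizer_eq_of_isCoatom hM hMbot] at hyN
    exact hyN
  · intro a ha
    have h1 : y⁻¹ * a * y ∈ A := (Subgroup.mem_normalizer_iff''.mp hyA a).mp ha
    refine ⟨y⁻¹ * a * y, hA.1 h1, ?_⟩
    show y * (y⁻¹ * a * y) * y⁻¹ = a
    group

/-- The data attached to a nonabelian Sylow `p`-subgroup `S ≥ A` of `G`: `A₁ ≤ A` of order `p` with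
`N_G(A₁) ≤ M`, and `Z = Ω₁(Z(S)) ≤ A`. -/
structure BG7Data (M A : Subgroup G) (p : ℕ) (A1 Z : Subgroup G) (S : Sylow p G) : Prop where
  hA1A : A1 ≤ A
  hA1c : Nat.card A1 = p
  hNA1 : Subgroup.normalizer (A1 : Set G) ≤ M
  hZA : Z ≤ A
  hZc : Nat.card Z = p
  hne : A1 ≠ Z
  hAS : A ≤ (S : Subgroup G)
  hSZ : (S : Subgroup G) ≤ Subgroup.centralizer (Z : Set G)
  hSM : ¬ (S : Subgroup G) ≤ M
  hZchar : ∀ x ∈ (S : Subgroup G), x ∈ Subgroup.centralizer ((S : Subgroup G) : Set G) →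
    x ^ p = 1 → x ∈ Z
  htrans : ∀ X : Subgroup G, X ≤ A → Nat.card X = p → X ≠ Z → X ≠ A1 →
    ∃ y ∈ (S : Subgroup G), y ∈ Subgroup.normalizer (A : Set G) ∧ y ∉ M ∧
      X = A1.map (MulAut.conj y).toMonoidHom
  hPG : ∀ x ∈ (S : Subgroup G), x ∈ M → x ^ p = 1 → x ∈ A
  hRS : ∀ R : Subgroup ↥M, R.Normal → IsPGroup p R → R.map M.subtype ≤ (S : Subgroup G)
  hmax : ∀ B : Subgroup G, IsElementaryAbelian p B → A ≤ B → B = A

/-- Existence of the data. -/
theorem bg7_exists_data [Finite G] (hG : IsMinSimpleOddOrder G) (h16 : BGTwelveFourHyp G)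
    (h17 : BG7FiveHyp G) (hP0 : Cfsg.Agent.Lib.helper12.PP0 G) (M : Subgroup G) (hM : IsCoatom M)
    (p : ℕ) [Fact p.Prime] (hp : p ∈ tau2 M)
    (hS : ∀ S : Sylow p G, ¬ IsMulCommutative (S : Subgroup G)) (A : Subgroup G)
    (hA : A ≤ M ∧ IsElementaryAbelian p A ∧ Nat.card A = p ^ 2) :
    ∃ (A1 Z : Subgroup G) (S : Sylow p G), BG7Data M A p A1 Z S := by
  have hpp : p.Prime := Fact.out
  obtain ⟨hAM, hAe, hA2⟩ := hA
  have hAp : IsPGroup p A := IsPGroup.of_card hA2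
  obtain ⟨P, hAP⟩ := Cfsg.Agent.Lib.helper12.exc_exists_sylow hAM hAp
  obtain ⟨-, h2, -⟩ := h17 M hM p hp A ⟨hAM, hAe, hA2⟩
  obtain ⟨hPab, h3⟩ := h2 P
  obtain ⟨hΩ, -⟩ := h3 hAP
  obtain ⟨S, hPS⟩ := (P.isPGroup'.map M.subtype).exists_le_sylow
  have hAS : A ≤ (S : Subgroup G) := hAP.trans hPS
  have hSM : ¬ (S : Subgroup G) ≤ M := fun h =>
    hS S (bg7_sylow_comm_of_le h17 M hM p hp A ⟨hAM, hAe, hA2⟩ S h)
  have hmax : ∀ B : Subgroup G, IsElementaryAbelian p B → A ≤ B → B = A :=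
    fun B hB hAB => bg_rank_two_max_elemAb hG (bgx_uniq hG) M hM p hp.2.2.1 A hAM hAe hA2 B hB hAB
  have hnab : ¬ ∀ x ∈ (S : Subgroup G), ∀ y ∈ (S : Subgroup G), x * y = y * x := by
    intro h
    apply hS S
    rw [isMulCommutative_iff]
    intro a b
    exact Subtype.ext (h a a.2 b b.2)
  obtain ⟨Z, hZA, hZc, hZcent, hZchar, htr⟩ :=
    hP0 p A (S : Subgroup G) hAe hA2 hmax S.isPGroup' hAS hnab
  have hSZ : (S : Subgroup G) ≤ Subgroup.centralizer (Z : Set G) :=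
    Subgroup.le_centralizer_iff.mp hZcent
  obtain ⟨A1, hExc⟩ := bg_exc_of_not_sigma h16 M hM p hp.2.1 A ⟨hAM, hAe, hA2⟩
  obtain ⟨-, -, -, -, -, -, hA1A, hA1c, hNA1⟩ := hExc
  have hne : A1 ≠ Z := by
    intro h
    apply hSM
    rw [h] at hNA1
    exact hSZ.trans ((Subgroup.centralizer_le_normalizer _).trans hNA1)
  have hSMP : ∀ y ∈ (S : Subgroup G), ∀ hyM : y ∈ M, (⟨y, hyM⟩ : ↥M) ∈ (P : Subgroup ↥M) := by
    intro y hyS hyM
    have hQ : IsPGroup p ↥(((S : Subgroup G) ⊓ M).subgroupOf M) :=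
      (S.isPGroup'.to_le inf_le_left).comap_subtype
    have hPQ : (P : Subgroup ↥M) ≤ ((S : Subgroup G) ⊓ M).subgroupOf M := by
      intro x hx
      rw [Subgroup.mem_subgroupOf]
      exact ⟨hPS ⟨x, hx, rfl⟩, x.2⟩
    have h4 := P.is_maximal' hQ hPQ
    rw [← h4, Subgroup.mem_subgroupOf]
    exact ⟨hyS, hyM⟩
  have hPab' : ∀ u ∈ (P : Subgroup ↥M), ∀ v ∈ (P : Subgroup ↥M), (u : G) * v = v * u := by
    intro u hu v hv
    have h4 := (isMulCommutative_iff.mp hPab) ⟨u, hu⟩ ⟨v, hv⟩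
    exact congrArg (fun x : ↥(P : Subgroup ↥M) => ((x : ↥M) : G)) h4
  have hSMA : ∀ y ∈ (S : Subgroup G), y ∈ M → y ∈ Subgroup.centralizer (A : Set G) := by
    intro y hyS hyM
    rw [Subgroup.mem_centralizer_iff]
    intro a ha
    obtain ⟨a', ha', rfl⟩ := hAP ha
    exact hPab' a' ha' ⟨y, hyM⟩ (hSMP y hyS hyM)
  refine ⟨A1, Z, S, ⟨hA1A, hA1c, hNA1, hZA, hZc, hne, hAS, hSZ, hSM, hZchar, ?_, ?_, ?_, hmax⟩⟩
  · intro X hXA hXc hXZ hXA1
    obtain ⟨y, hyS, hyN, hXy⟩ := htr A1 X hA1A hXA hA1c hXc hne hXZ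
    refine ⟨y, hyS, hyN, ?_, hXy⟩
    intro hyM
    apply hXA1
    rw [hXy]
    have hyC := hSMA y hyS hyM
    ext x
    constructor
    · rintro ⟨a, ha, rfl⟩
      have h4 : a * y = y * a := Subgroup.mem_centralizer_iff.mp hyC a (hA1A ha)
      have h5 : (MulAut.conj y).toMonoidHom a = a := by
        show y * a * y⁻¹ = a
        rw [← h4]
        group
      rw [h5]
      exact ha
    · intro hx
      have h4 : x * y = y * x := Subgroup.mem_centralizer_iff.mp hyC x (hA1A hx)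
      refine ⟨x, hx, ?_⟩
      show y * x * y⁻¹ = x
      rw [← h4]
      group
  · intro x hxS hxM hxp
    exact (hΩ x ⟨⟨x, hxM⟩, hSMP x hxS hxM, rfl⟩).mp hxp
  · intro R hRn hRp
    have := hRn
    have h4 : R ≤ (P : Subgroup ↥M) := Cfsg.Agent.Lib.helper54.normal_pgroup_le_sylow hRp P
    exact (Subgroup.map_mono h4).trans hPS

/-- Every subgroup of order `p` of `A` other than `A₁` acts fixed-point-freely on `M_σ`. -/
theorem bg7_fpf [Finite G] (hG : IsMinSimpleOddOrder G) (h17 : BG7FiveHyp G) (h18 : BG7SixHyp G)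
    (M : Subgroup G) (hM : IsCoatom M) (E : Subgroup G) (hE : IsComplIn E (sigmaCore M) M)
    (p : ℕ) [Fact p.Prime] (hp : p ∈ tau2 M) (A : Subgroup G)
    (hA : A ≤ E ∧ IsElementaryAbelian p A ∧ Nat.card A = p ^ 2) (A1 Z : Subgroup G)
    (S : Sylow p G) (D : BG7Data M A p A1 Z S) (X : Subgroup G) (hXA : X ≤ A)
    (hXc : Nat.card X = p) (hX1 : X ≠ A1) :
    sigmaCore M ⊓ Subgroup.centralizer (X : Set G) = ⊥ := by
  have hAM : A ≤ M := hA.1.trans hE.1
  by_cases hXZ : X = Z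
  · by_contra hne
    obtain ⟨-, -, h3⟩ := h18 M hM E hE p hp A hA
    have h4 := (h3 Z D.hZA D.hZc (by rw [← hXZ]; exact hne)).1
    exact D.hSM (D.hSZ.trans h4)
  · obtain ⟨y, -, hyN, hyM, hXy⟩ := D.htrans X hXA hXc hXZ hX1
    have h1 := bg7_sigma_inf_conj hG h17 M hM p hp A ⟨hAM, hA.2.1, hA.2.2⟩ y hyN hyM
    have h2 : Subgroup.centralizer (X : Set G) ≤ M.map (MulAut.conj y).toMonoidHom := by
      intro c hc
      have h3 : y⁻¹ * c * y ∈ Subgroup.centralizer (A1 : Set G) := by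
        rw [Subgroup.mem_centralizer_iff]
        intro a ha
        have h4 : y * a * y⁻¹ ∈ X := by
          rw [hXy]
          exact ⟨a, ha, rfl⟩
        have h5 := Subgroup.mem_centralizer_iff.mp hc _ h4
        calc a * (y⁻¹ * c * y) = y⁻¹ * ((y * a * y⁻¹) * c) * y := by group
          _ = y⁻¹ * (c * (y * a * y⁻¹)) * y := by rw [h5]
          _ = y⁻¹ * c * y * a := by group
      refine ⟨y⁻¹ * c * y, D.hNA1 (Subgroup.centralizer_le_normalizer _ h3), ?_⟩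
      show y * (y⁻¹ * c * y) * y⁻¹ = c
      group
    exact le_bot_iff.mp (h1 ▸ inf_le_inf_left _ h2)

/-- `A₁` centralizes `M_σ`. -/
theorem bg7_sigma_le_cent [Finite G] (M : Subgroup G) (p : ℕ) [Fact p.Prime] (hp : p ∈ tau2 M)
    (A : Subgroup G) (hA : A ≤ M ∧ IsElementaryAbelian p A ∧ Nat.card A = p ^ 2)
    (A1 : Subgroup G) (hA1A : A1 ≤ A)
    (hfpf : ∀ X : Subgroup G, X ≤ A → Nat.card X = p → X ≠ A1 →
      sigmaCore M ⊓ Subgroup.centralizer (X : Set G) = ⊥) :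
    sigmaCore M ≤ Subgroup.centralizer (A1 : Set G) := by
  have hpp : p.Prime := Fact.out
  have hAel := (bg_elemAb_iff A).mp hA.2.1
  have hX : ¬ p ∣ Nat.card ↥(sigmaCore M) :=
    (Nat.Prime.coprime_iff_not_dvd hpp).mp (bg_sigmaCore_card_coprime M hpp hp.2.1).symm
  have hAX : A ≤ Subgroup.normalizer ((sigmaCore M : Subgroup G) : Set G) :=
    hA.1.trans (Cfsg.Agent.Lib.helper71.BGA.le_normalizer_sigmaCore M)
  have hgen := Cfsg.Agent.Lib.helper37.coprime_gen_hyperplane p A (sigmaCore M) hAel.1 hAel.2 hX hAX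
  rw [hgen]
  apply iSup_le
  rintro ⟨B, hBA, hBidx⟩
  show sigmaCore M ⊓ Subgroup.centralizer (B : Set G) ≤ Subgroup.centralizer (A1 : Set G)
  have hcard : Nat.card B * B.relIndex A = p ^ 2 := by
    have h1 := Subgroup.card_mul_index (B.subgroupOf A)
    rw [Nat.card_congr (Subgroup.subgroupOfEquivOfLe hBA).toEquiv, hA.2.2] at h1
    exact h1
  have hdvd : Nat.card B ∣ p ^ 2 := Dvd.intro _ hcard
  obtain ⟨k, hk, hkc⟩ := (Nat.dvd_prime_pow hpp).mp hdvd
  have hk0 : k ≠ 0 := by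
    intro h0
    rw [hkc, h0, pow_zero, one_mul] at hcard
    rw [hcard] at hBidx
    have : p < p ^ 2 := by
      calc p = p ^ 1 := (pow_one p).symm
        _ < p ^ 2 := Nat.pow_lt_pow_right hpp.one_lt (by norm_num)
    omega
  have hk12 : k = 1 ∨ k = 2 := by omega
  rcases hk12 with rfl | rfl
  · rw [pow_one] at hkc
    by_cases hB1 : B = A1
    · rw [hB1]
      exact inf_le_right
    · rw [hfpf B hBA hkc hB1]
      exact bot_le
  · have hBeq : B = A := by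
      have hfin : Finite ↥A := inferInstance
      exact Subgroup.eq_of_le_of_card_ge hBA (by rw [hkc, hA.2.2])
    rw [hBeq]
    exact inf_le_right.trans (Subgroup.centralizer_le hA1A)

/-- `C_A(M_σ) = A₁`. -/
theorem bg7_cent_eq [Finite G] (hG : IsMinSimpleOddOrder G) (h17 : BG7FiveHyp G)
    (M : Subgroup G) (hM : IsCoatom M) (p : ℕ) [Fact p.Prime] (hp : p ∈ tau2 M)
    (A : Subgroup G) (hA : A ≤ M ∧ IsElementaryAbelian p A ∧ Nat.card A = p ^ 2)
    (A1 : Subgroup G) (hA1A : A1 ≤ A) (hA1c : Nat.card A1 = p)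
    (hcent : sigmaCore M ≤ Subgroup.centralizer (A1 : Set G)) :
    A ⊓ Subgroup.centralizer ((sigmaCore M : Subgroup G) : Set G) = A1 := by
  have hpp : p.Prime := Fact.out
  have hle : A1 ≤ A ⊓ Subgroup.centralizer ((sigmaCore M : Subgroup G) : Set G) :=
    le_inf hA1A (Subgroup.le_centralizer_iff.mp hcent)
  have hdvd : Nat.card ↥(A ⊓ Subgroup.centralizer ((sigmaCore M : Subgroup G) : Set G)) ∣ p ^ 2 := by
    rw [← hA.2.2]
    exact Subgroup.card_dvd_of_le inf_le_left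
  obtain ⟨k, hk, hkc⟩ := (Nat.dvd_prime_pow hpp).mp hdvd
  have hk2 : k ≠ 2 := by
    intro hk2
    have hfin : Finite ↥A := inferInstance
    have h1 : A ⊓ Subgroup.centralizer ((sigmaCore M : Subgroup G) : Set G) = A :=
      Subgroup.eq_of_le_of_card_ge inf_le_left (by rw [hkc, hk2, hA.2.2])
    have h2 : A ≤ Subgroup.centralizer ((sigmaCore M : Subgroup G) : Set G) := by
      rw [← h1]
      exact inf_le_right
    have h3 : sigmaCore M ≤ Subgroup.centralizer (A : Set G) := Subgroup.le_centralizer_iff.mp h2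
    obtain ⟨-, -, -, h4, -⟩ := h17 M hM p hp A hA
    have h5 : sigmaCore M ≤ ⊥ := by
      rw [← h4]
      exact le_inf le_rfl h3
    exact Cfsg.Agent.Lib.helper54.sigmaCore_ne_bot hG M hM (le_bot_iff.mp h5)
  have hk1 : k ≤ 1 := by omega
  have hfin : Finite ↥(A ⊓ Subgroup.centralizer ((sigmaCore M : Subgroup G) : Set G)) :=
    inferInstance
  refine (Subgroup.eq_of_le_of_card_ge hle ?_).symm
  rw [hkc, hA1c]
  calc p ^ k ≤ p ^ 1 := Nat.pow_le_pow_right hpp.pos hk1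
    _ = p := pow_one p

/-- The centralizer of a subgroup of order `p` of `A` other than `A₁` is not contained in `M`. -/
theorem bg7_cent_not_le [Finite G] (hG : IsMinSimpleOddOrder G) (h17 : BG7FiveHyp G)
    (M : Subgroup G) (hM : IsCoatom M) (p : ℕ) [Fact p.Prime] (hp : p ∈ tau2 M) (A : Subgroup G)
    (hA : A ≤ M ∧ IsElementaryAbelian p A ∧ Nat.card A = p ^ 2) (A1 Z : Subgroup G)
    (S : Sylow p G) (D : BG7Data M A p A1 Z S)
    (hcent : sigmaCore M ≤ Subgroup.centralizer (A1 : Set G)) (X : Subgroup G) (hXA : X ≤ A)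
    (hXc : Nat.card X = p) (hX1 : X ≠ A1) : ¬ Subgroup.centralizer (X : Set G) ≤ M := by
  by_cases hXZ : X = Z
  · intro h
    rw [hXZ] at h
    exact D.hSM (D.hSZ.trans h)
  · obtain ⟨y, -, hyN, hyM, hXy⟩ := D.htrans X hXA hXc hXZ hX1
    intro hCM
    obtain ⟨u, hu, hu1⟩ :=
      (Subgroup.bot_or_exists_ne_one (sigmaCore M)).resolve_left
        (Cfsg.Agent.Lib.helper54.sigmaCore_ne_bot hG M hM)
    have h1 : y * u * y⁻¹ ∈ Subgroup.centralizer (X : Set G) := by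
      rw [Subgroup.mem_centralizer_iff]
      intro x hx
      rw [hXy] at hx
      obtain ⟨a, ha, rfl⟩ := hx
      have h2 : a * u = u * a := Subgroup.mem_centralizer_iff.mp (hcent hu) a ha
      show y * a * y⁻¹ * (y * u * y⁻¹) = y * u * y⁻¹ * (y * a * y⁻¹)
      calc y * a * y⁻¹ * (y * u * y⁻¹) = y * (a * u) * y⁻¹ := by group
        _ = y * (u * a) * y⁻¹ := by rw [h2]
        _ = y * u * y⁻¹ * (y * a * y⁻¹) := by group
    have h3 : y * u * y⁻¹ ∈ M := hCM h1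
    have hyN' : y⁻¹ ∈ Subgroup.normalizer (A : Set G) := Subgroup.inv_mem _ hyN
    have hyM' : y⁻¹ ∉ M := fun h => hyM (by simpa using M.inv_mem h)
    have h4 := bg7_sigma_inf_conj hG h17 M hM p hp A hA y⁻¹ hyN' hyM'
    have h5 : u ∈ sigmaCore M ⊓ M.map (MulAut.conj y⁻¹).toMonoidHom := by
      refine ⟨hu, y * u * y⁻¹, h3, ?_⟩
      show y⁻¹ * (y * u * y⁻¹) * y⁻¹⁻¹ = u
      group
    rw [h4, Subgroup.mem_bot] at h5
    exact hu1 h5

end Cfsg.Agent.Lib.helper97
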