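import Mathlib
import Cfsg.Agent.Lib.helper97.BGSeven2
import Cfsg.Agent.Lib.helper28.Fitting
import Cfsg.Agent.Lib.helper65.Fitting

/-!
# Bender–Glauberman Theorem 12.7, part 3: `F(M) = M_σ × C_A(M_σ)` and the final statement
-/

set_option autoImplicit false

namespace Cfsg.Agent.Lib.helper97

open Cfsg Cfsg.Agent.Lib.helper8 Cfsg.Agent.Lib.helper13

variable {G : Type*} [Group G]

/-- An `r`-subgroup of `F(M)` lies in `O_r(M)`. -/
theorem bg7_pgroup_fitting_le [Finite G] (M : Subgroup G) (r : ℕ) [Fact r.Prime] (Q : Subgroup G)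
    (hQF : Q ≤ fittingOf M) (hQ : IsPGroup r Q) : Q ≤ (piCore {r} ↥M).map M.subtype := by
  have hrp : r.Prime := Fact.out
  have hQM : Q ≤ M := hQF.trans (Subgroup.map_subtype_le _)
  have h1 : Q.subgroupOf M ≤ fittingSubgroup ↥M := by
    intro x hx
    obtain ⟨y, hy, hyx⟩ := hQF (Subgroup.mem_subgroupOf.mp hx)
    have : y = x := Subtype.ext hyx
    rwa [← this]
  have hFn : (fittingSubgroup ↥M).Normal := inferInstance
  have h2 : (Q.subgroupOf M).IsSubnormal :=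
    Cfsg.Agent.Lib.helper65.isSubnormal_of_le_of_isNilpotent h1 hFn.isSubnormal
      Cfsg.Agent.Lib.helper65.fittingSubgroup_isNilpotent
  have hQ' : IsPGroup r ↥(Q.subgroupOf M) := hQ.comap_subtype
  have h3 : Q.subgroupOf M ≤ piCore {r} ↥M :=
    Cfsg.Agent.Lib.helper65.le_piCore_of_isSubnormal h2 {r} (by
      intro q hq hd
      obtain ⟨n, hn⟩ := IsPGroup.iff_card.mp hQ'
      rw [hn] at hd
      exact (Nat.prime_dvd_prime_iff_eq hq hrp).mp (hq.dvd_of_dvd_pow hd))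
  intro x hx
  exact ⟨⟨x, hQM hx⟩, h3 (Subgroup.mem_subgroupOf.mpr hx), rfl⟩

/-- In `M_σ A`, an element of order prime to `p` lies in `M_σ`. -/
theorem bg7_mem_sigmaCore_of_coprime [Finite G] (M : Subgroup G) (p : ℕ) [Fact p.Prime]
    (A : Subgroup G) (hAM : A ≤ M) (hAp : IsPGroup p A) (c : G) (hc : c ∈ sigmaCore M ⊔ A)
    (hcop : (orderOf c).Coprime p) : c ∈ sigmaCore M := by
  have hmap : (piCore (sigma M) ↥M ⊔ A.subgroupOf M).map M.subtype = sigmaCore M ⊔ A := by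
    rw [Subgroup.map_sup, Subgroup.map_subgroupOf_eq_of_le hAM]
    rfl
  have hc' : c ∈ (piCore (sigma M) ↥M ⊔ A.subgroupOf M).map M.subtype := by
    rw [hmap]; exact hc
  obtain ⟨y, hy, rfl⟩ := hc'
  have hA' : IsPGroup p (A.subgroupOf M) := hAp.comap_of_injective M.subtype M.subtype_injective
  have hcop' : (orderOf y).Coprime p := by
    have : orderOf (M.subtype y) = orderOf y := orderOf_injective M.subtype M.subtype_injective y
    rw [← this]; exact hcop
  have h3 := bg_mem_of_mem_sup_pgroup (piCore (sigma M) ↥M) (A.subgroupOf M) hA' y hy hcop'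
  exact ⟨y, h3, rfl⟩

/-- A cyclic group of exponent `r` is elementary abelian. -/
theorem bg7_zpowers_elemAb {r : ℕ} (t : G) (ht : t ^ r = 1) :
    IsElementaryAbelian r (Subgroup.zpowers t) := by
  rw [bg_elemAb_iff]
  refine ⟨?_, ?_⟩
  · intro a ha b hb
    obtain ⟨i, rfl⟩ := Subgroup.mem_zpowers_iff.mp ha
    obtain ⟨j, rfl⟩ := Subgroup.mem_zpowers_iff.mp hb
    exact ((Commute.refl t).zpow_zpow i j).eq
  · intro a ha
    obtain ⟨i, rfl⟩ := Subgroup.mem_zpowers_iff.mp ha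
    rw [← zpow_natCast, ← zpow_mul, mul_comm, zpow_mul, zpow_natCast, ht, one_zpow]

/-- If `M` has `r`-rank at most one and `t` is an element of order `r` of a normal `r`-subgroup of
`M`, then every element `t'` of `M` with `t' ^ r = 1` is a power of `t`. -/
theorem bg7_unique_order [Finite G] (hodd : Odd (Nat.card G)) (M : Subgroup G) (r : ℕ)
    [Fact r.Prime] (hr1 : PRankLE r 1 M) (R : Subgroup ↥M) [R.Normal] (hR : IsPGroup r R) (t : G)
    (htR : t ∈ R.map M.subtype) (hto : orderOf t = r) (t' : G) (ht'M : t' ∈ M)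
    (ht' : t' ^ r = 1) : t' ∈ Subgroup.zpowers t := by
  have hrp : r.Prime := Fact.out
  obtain ⟨tM, htMR, htM_eq⟩ := htR
  have htM : t ∈ M := htM_eq ▸ tM.2
  have htR' : (⟨t, htM⟩ : ↥M) ∈ R := by
    have : tM = ⟨t, htM⟩ := Subtype.ext htM_eq
    rwa [← this]
  have ht'M' : (⟨t', ht'M⟩ : ↥M) ^ r = 1 := Subtype.ext ht'
  have hY : IsPGroup r ↥(Subgroup.zpowers (⟨t', ht'M⟩ : ↥M)) := by
    have hd : orderOf (⟨t', ht'M⟩ : ↥M) ∣ r := orderOf_dvd_of_pow_eq_one ht'M'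
    rcases (Nat.dvd_prime hrp).mp hd with h | h
    · exact IsPGroup.of_card (n := 0) (by rw [Nat.card_zpowers, h, pow_zero])
    · exact IsPGroup.of_card (n := 1) (by rw [Nat.card_zpowers, h, pow_one])
  obtain ⟨Pr, hPr⟩ := hY.exists_le_sylow
  have hRP : R ≤ (Pr : Subgroup ↥M) := Cfsg.Agent.Lib.helper54.normal_pgroup_le_sylow hR Pr
  have hcyc : IsCyclic ↥(Pr : Subgroup ↥M) :=
    bg_sylow_cyclic_of_prank_one hodd (le_refl M) r hr1 Pr
  have hcomm : t * t' = t' * t := by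
    have hcg : ∀ a b : ↥(Pr : Subgroup ↥M), a * b = b * a := fun a b => by
      let _ := IsCyclic.commGroup (α := ↥(Pr : Subgroup ↥M))
      exact mul_comm a b
    have h1 := hcg ⟨⟨t, htM⟩, hRP htR'⟩ ⟨⟨t', ht'M⟩, hPr (Subgroup.mem_zpowers _)⟩
    exact congrArg (fun x : ↥(Pr : Subgroup ↥M) => ((x : ↥M) : G)) h1
  have htr : t ^ r = 1 := by rw [← hto]; exact pow_orderOf_eq_one _
  have hXe := bg7_zpowers_elemAb t htr
  have hYe := bg7_zpowers_elemAb t' ht'
  have hc : ∀ x ∈ Subgroup.zpowers t, ∀ y ∈ Subgroup.zpowers t', x * y = y * x := by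
    intro x hx y hy
    obtain ⟨i, rfl⟩ := Subgroup.mem_zpowers_iff.mp hx
    obtain ⟨j, rfl⟩ := Subgroup.mem_zpowers_iff.mp hy
    exact (Commute.zpow_zpow hcomm i j).eq
  have hsup := bg_elemAb_sup _ _ hXe hYe hc
  have hle : Subgroup.zpowers t ⊔ Subgroup.zpowers t' ≤ M :=
    sup_le (Subgroup.zpowers_le.mpr htM) (Subgroup.zpowers_le.mpr ht'M)
  have hcard : Nat.card ↥(Subgroup.zpowers t ⊔ Subgroup.zpowers t') ≤ r := by
    by_contra hlt
    push Not at hlt
    exact (Cfsg.Agent.Lib.helper28.not_pRankLE_subgroup_iff r 1 M).mpr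
      ⟨_, hle, hsup, by rw [pow_one]; exact hlt⟩ hr1
  have heq : Subgroup.zpowers t = Subgroup.zpowers t ⊔ Subgroup.zpowers t' := by
    have hfin : Finite ↥(Subgroup.zpowers t ⊔ Subgroup.zpowers t') := inferInstance
    exact Subgroup.eq_of_le_of_card_ge le_sup_left (by rw [Nat.card_zpowers, hto]; exact hcard)
  rw [heq]
  exact (le_sup_right : Subgroup.zpowers t' ≤ _) (Subgroup.mem_zpowers t')

/-- `O_r(M) = 1` for primes `r ∉ σ(M) ∪ {p}` when `τ₂(M) = {p}`. -/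
theorem bg7_core_bot [Finite G] (hG : IsMinSimpleOddOrder G) (h17 : BG7FiveHyp G)
    (h18 : BG7SixHyp G) (M : Subgroup G) (hM : IsCoatom M) (E : Subgroup G)
    (hE : IsComplIn E (sigmaCore M) M) (p : ℕ) [Fact p.Prime] (hp : p ∈ tau2 M) (A : Subgroup G)
    (hA : A ≤ E ∧ IsElementaryAbelian p A ∧ Nat.card A = p ^ 2) (hτ : tau2 M = {p}) (r : ℕ)
    [Fact r.Prime] (hrσ : r ∉ sigma M) (hrp : r ≠ p) : (piCore {r} ↥M).map M.subtype = ⊥ := by
  have hpp : p.Prime := Fact.out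
  have hr : r.Prime := Fact.out
  obtain ⟨hodd, -, -, -⟩ := id hG
  have hAM : A ≤ M := hA.1.trans hE.1
  by_contra hne
  have hRr : IsPGroup r ↥(piCore {r} ↥M) := Cfsg.Agent.Lib.helper65.piCore_singleton_isPGroup hr
  have hRGr : IsPGroup r ↥((piCore {r} ↥M).map M.subtype) := hRr.map _
  have hRM : (piCore {r} ↥M).map M.subtype ≤ M := Subgroup.map_subtype_le _
  have hMN : M ≤ Subgroup.normalizer (((piCore {r} ↥M).map M.subtype : Subgroup G) : Set G) :=
    Cfsg.Agent.Lib.helper71.BGA.map_subtype_le_normalizer _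
  have hr2 : PRankLE r 2 M := by
    by_contra h
    exact hrσ (bg_alpha_sub_sigma hG (bgx_uniq hG) M hM ⟨hr, h⟩)
  have hr1 : PRankLE r 1 M := by
    by_contra h
    have h1 : r ∈ tau2 M := ⟨hr, hrσ, hr2, h⟩
    rw [hτ] at h1
    exact hrp h1
  -- an element of order `r`
  have hdvd : r ∣ Nat.card ↥((piCore {r} ↥M).map M.subtype) := by
    obtain ⟨n, hn⟩ := IsPGroup.iff_card.mp hRGr
    have hn0 : n ≠ 0 := by
      intro h0
      rw [h0, pow_zero] at hn
      exact hne (Subgroup.card_eq_one.mp hn)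
    rw [hn]
    exact dvd_pow_self r hn0
  obtain ⟨t₀, ht₀⟩ := exists_prime_orderOf_dvd_card' r hdvd
  obtain ⟨t, htR⟩ := t₀
  rw [Subgroup.orderOf_mk] at ht₀
  have htM : t ∈ M := hRM htR
  have htr : t ^ r = 1 := by rw [← ht₀]; exact pow_orderOf_eq_one _
  have ht1 : t ≠ 1 := by
    intro h
    rw [h, orderOf_one] at ht₀
    exact hr.one_lt.ne ht₀
  have huniq : ∀ t' ∈ M, t' ^ r = 1 → t' ∈ Subgroup.zpowers t := fun t' h1 h2 =>
    bg7_unique_order hodd M r hr1 (piCore {r} ↥M) hRr t htR ht₀ t' h1 h2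
  have hzr : ∀ x ∈ Subgroup.zpowers t, x ^ r = 1 := ((bg_elemAb_iff _).mp (bg7_zpowers_elemAb t htr)).2
  have hzM : Subgroup.zpowers t ≤ M := Subgroup.zpowers_le.mpr htM
  have hMNT : M ≤ Subgroup.normalizer ((Subgroup.zpowers t : Subgroup G) : Set G) := by
    intro m hm
    apply mem_normalizer_of_forall_conj_mem
    intro x hx
    apply huniq
    · exact M.mul_mem (M.mul_mem hm (hzM hx)) (M.inv_mem hm)
    · rw [conj_pow, hzr x hx, mul_one, mul_inv_cancel]
  have hN : Subgroup.normalizer ((Subgroup.zpowers t : Subgroup G) : Set G) = M := by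
    have hT1 : Subgroup.zpowers t ≠ ⊥ := by
      intro h
      have : t ∈ (⊥ : Subgroup G) := h ▸ Subgroup.mem_zpowers t
      exact ht1 (Subgroup.mem_bot.mp this)
    have hT2 : Subgroup.zpowers t ≠ ⊤ := fun h => hM.1 (top_le_iff.mp (h ▸ hzM))
    have h3 := bg7_normalizer_ne_top hG hT1 hT2
    rcases eq_or_lt_of_le hMNT with h | h
    · exact h.symm
    · exact absurd (hM.2 _ h) h3
  -- `t` centralizes `A`
  obtain ⟨-, -, hnorm, -⟩ := h17 M hM p hp A ⟨hAM, hA.2.1, hA.2.2⟩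
  have hdisj : sigmaCore M ⊓ (piCore {r} ↥M).map M.subtype = ⊥ := by
    apply disjoint_iff.mp
    apply Subgroup.disjoint_of_coprime_natCard
    obtain ⟨n, hn⟩ := IsPGroup.iff_card.mp hRGr
    rw [hn]
    exact Nat.Coprime.pow_right n (bg_sigmaCore_card_coprime M hr hrσ)
  have htA : t ∈ Subgroup.centralizer (A : Set G) := by
    rw [Subgroup.mem_centralizer_iff]
    intro a ha
    have haM : a ∈ M := hAM ha
    have h1 : a * t⁻¹ * a⁻¹ ∈ (piCore {r} ↥M).map M.subtype :=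
      (Subgroup.mem_normalizer_iff.mp (hMN haM) t⁻¹).mp (Subgroup.inv_mem _ htR)
    have h2 : t * a * t⁻¹ * a⁻¹ ∈ (piCore {r} ↥M).map M.subtype := by
      have : t * a * t⁻¹ * a⁻¹ = t * (a * t⁻¹ * a⁻¹) := by group
      rw [this]
      exact Subgroup.mul_mem _ htR h1
    have h3 : t * a * t⁻¹ ∈ sigmaCore M ⊔ A :=
      (Subgroup.mem_normalizer_iff.mp (hnorm htM) a).mp ((le_sup_right : A ≤ sigmaCore M ⊔ A) ha)
    have h4 : t * a * t⁻¹ * a⁻¹ ∈ sigmaCore M ⊔ A :=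
      Subgroup.mul_mem _ h3 (Subgroup.inv_mem _ ((le_sup_right : A ≤ sigmaCore M ⊔ A) ha))
    have hord : (orderOf (t * a * t⁻¹ * a⁻¹)).Coprime p := by
      obtain ⟨k, hk⟩ := (IsPGroup.iff_orderOf.mp hRGr) ⟨_, h2⟩
      rw [Subgroup.orderOf_mk] at hk
      rw [hk]
      exact Nat.Coprime.pow_left k ((Nat.coprime_primes hr hpp).mpr hrp)
    have h5 : t * a * t⁻¹ * a⁻¹ ∈ sigmaCore M :=
      bg7_mem_sigmaCore_of_coprime M p A hAM (IsPGroup.of_card hA.2.2) _ h4 hord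
    have h6 : t * a * t⁻¹ * a⁻¹ ∈ sigmaCore M ⊓ (piCore {r} ↥M).map M.subtype := ⟨h5, h2⟩
    rw [hdisj, Subgroup.mem_bot] at h6
    calc a * t = (t * a * t⁻¹ * a⁻¹)⁻¹ * (t * a) := by group
      _ = t * a := by rw [h6, inv_one, one_mul]
  have hzA : Subgroup.zpowers t ≤ Subgroup.centralizer (A : Set G) := Subgroup.zpowers_le.mpr htA
  obtain ⟨-, ⟨hCA, -, hNAM⟩, -⟩ := h18 M hM E hE p hp A hA
  obtain ⟨y, hyN, hyM⟩ := SetLike.not_le_iff_exists.mp hNAM
  apply hyM
  rw [← hN]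
  apply mem_normalizer_of_forall_conj_mem
  intro x hx
  apply huniq
  · exact (hCA (bg7_conj_mem_centralizer hyN (hzA hx))).1
  · rw [conj_pow, hzr x hx, mul_one, mul_inv_cancel]

/-- `O_p(M) ≤ C_A(M_σ)`. -/
theorem bg7_pcore_le [Finite G] (hG : IsMinSimpleOddOrder G) (M : Subgroup G) (p : ℕ)
    [Fact p.Prime] (hp : p ∈ tau2 M) (hS : ∀ S : Sylow p G, ¬ IsMulCommutative (S : Subgroup G))
    (A : Subgroup G) (hA : A ≤ M ∧ IsElementaryAbelian p A ∧ Nat.card A = p ^ 2)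
    (A1 Z : Subgroup G) (S : Sylow p G) (D : BG7Data M A p A1 Z S)
    (hA1 : A ⊓ Subgroup.centralizer ((sigmaCore M : Subgroup G) : Set G) = A1) :
    (piCore {p} ↥M).map M.subtype ≤ A1 := by
  have hpp : p.Prime := Fact.out
  have hRp : IsPGroup p ↥(piCore {p} ↥M) := Cfsg.Agent.Lib.helper65.piCore_singleton_isPGroup hpp
  have hRGp : IsPGroup p ↥((piCore {p} ↥M).map M.subtype) := hRp.map _
  have hRS : (piCore {p} ↥M).map M.subtype ≤ (S : Subgroup G) := D.hRS _ inferInstance hRp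
  have hRM : (piCore {p} ↥M).map M.subtype ≤ M := Subgroup.map_subtype_le _
  have hMN : M ≤ Subgroup.normalizer (((piCore {p} ↥M).map M.subtype : Subgroup G) : Set G) :=
    Cfsg.Agent.Lib.helper71.BGA.map_subtype_le_normalizer _
  have hdisj : (piCore {p} ↥M).map M.subtype ⊓ sigmaCore M = ⊥ := by
    apply disjoint_iff.mp
    apply Subgroup.disjoint_of_coprime_natCard
    obtain ⟨n, hn⟩ := IsPGroup.iff_card.mp hRGp
    rw [hn]
    exact Nat.Coprime.pow_left n (bg_sigmaCore_card_coprime M hpp hp.2.1).symm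
  have hcent : ∀ x ∈ (piCore {p} ↥M).map M.subtype,
      x ∈ Subgroup.centralizer ((sigmaCore M : Subgroup G) : Set G) := by
    intro x hx
    rw [Subgroup.mem_centralizer_iff]
    intro u hu
    have hxM := hRM hx
    have huM : u ∈ M := Cfsg.Agent.Lib.helper71.BGA.sigmaCore_le M hu
    have h1 : x * u * x⁻¹ ∈ sigmaCore M :=
      (Subgroup.mem_normalizer_iff.mp
        (Cfsg.Agent.Lib.helper71.BGA.le_normalizer_sigmaCore M hxM) u).mp hu
    have h2 : u * x⁻¹ * u⁻¹ ∈ (piCore {p} ↥M).map M.subtype :=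
      (Subgroup.mem_normalizer_iff.mp (hMN huM) x⁻¹).mp (Subgroup.inv_mem _ hx)
    have h3 : x * u * x⁻¹ * u⁻¹ ∈ (piCore {p} ↥M).map M.subtype ⊓ sigmaCore M := by
      refine ⟨?_, (sigmaCore M).mul_mem h1 ((sigmaCore M).inv_mem hu)⟩
      have : x * u * x⁻¹ * u⁻¹ = x * (u * x⁻¹ * u⁻¹) := by group
      rw [this]
      exact Subgroup.mul_mem _ hx h2
    rw [hdisj, Subgroup.mem_bot] at h3
    calc u * x = (x * u * x⁻¹ * u⁻¹)⁻¹ * (x * u) := by group
      _ = x * u := by rw [h3, inv_one, one_mul]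
  have hΩ : ∀ x ∈ (piCore {p} ↥M).map M.subtype, x ^ p = 1 → x ∈ A1 := by
    intro x hx hxp
    rw [← hA1]
    exact ⟨D.hPG x (hRS hx) (hRM hx) hxp, hcent x hx⟩
  have hplt : p < p ^ 2 := by
    calc p = p ^ 1 := (pow_one p).symm
      _ < p ^ 2 := Nat.pow_lt_pow_right hpp.one_lt (by norm_num)
  have hexp : ∀ x ∈ (piCore {p} ↥M).map M.subtype, x ^ p = 1 := by
    intro x hx
    by_contra hxp
    obtain ⟨k, hk⟩ := (IsPGroup.iff_orderOf.mp hRGp) ⟨x, hx⟩
    rw [Subgroup.orderOf_mk] at hk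
    have hk2 : 2 ≤ k := by
      by_contra hlt
      push Not at hlt
      apply hxp
      have h1 : orderOf x ∣ p := by
        rw [hk]
        have := pow_dvd_pow p (show k ≤ 1 by omega)
        rwa [pow_one] at this
      exact orderOf_dvd_iff_pow_eq_one.mp h1
    have hwo : orderOf (x ^ p ^ (k - 2)) = p ^ 2 := by
      rw [orderOf_pow_of_dvd (pow_ne_zero _ hpp.ne_zero)
        (by rw [hk]; exact pow_dvd_pow p (Nat.sub_le k 2)), hk,
        Nat.pow_div (Nat.sub_le k 2) hpp.pos]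
      congr 1
      omega
    have hwR : x ^ p ^ (k - 2) ∈ (piCore {p} ↥M).map M.subtype := Subgroup.pow_mem _ hx _
    have hwp1 : ((x ^ p ^ (k - 2)) ^ p) ^ p = 1 := by
      rw [← pow_mul, ← sq, ← hwo]
      exact pow_orderOf_eq_one _
    have hwpne : (x ^ p ^ (k - 2)) ^ p ≠ 1 := by
      intro h
      have h1 := orderOf_dvd_of_pow_eq_one h
      rw [hwo] at h1
      have h2 := Nat.le_of_dvd hpp.pos h1
      omega
    have hwpA1 : (x ^ p ^ (k - 2)) ^ p ∈ A1 := hΩ _ (Subgroup.pow_mem _ hwR p) hwp1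
    have hcen := bg7_pow_central hG p S (hS S) A D.hAS hA.2.1 hA.2.2 D.hmax (x ^ p ^ (k - 2))
      (hRS hwR) (D.hA1A hwpA1)
    have hwpZ : (x ^ p ^ (k - 2)) ^ p ∈ Z := by
      refine D.hZchar _ (Subgroup.pow_mem _ (hRS hwR) p) ?_ hwp1
      rw [Subgroup.mem_centralizer_iff]
      intro s hs
      exact (hcen s hs).symm
    have hAZ : A1 ⊓ Z = ⊥ := by
      by_contra hne
      have hd : Nat.card ↥(A1 ⊓ Z) ∣ p := by
        rw [← D.hA1c]
        exact Subgroup.card_dvd_of_le inf_le_left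
      rcases (Nat.dvd_prime hpp).mp hd with h | h
      · exact hne (Subgroup.card_eq_one.mp h)
      · have hfin1 : Finite ↥A1 := inferInstance
        have hfin2 : Finite ↥Z := inferInstance
        have e1 : A1 ⊓ Z = A1 := Subgroup.eq_of_le_of_card_ge inf_le_left (by rw [h, D.hA1c])
        have e2 : A1 ⊓ Z = Z := Subgroup.eq_of_le_of_card_ge inf_le_right (by rw [h, D.hZc])
        exact D.hne (e1.symm.trans e2)
    have h7 : (x ^ p ^ (k - 2)) ^ p ∈ A1 ⊓ Z := ⟨hwpA1, hwpZ⟩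
    rw [hAZ, Subgroup.mem_bot] at h7
    exact hwpne h7
  intro x hx
  exact hΩ x hx (hexp x hx)

/-- B-G Theorem 12.7(b), second half: `F(M) = M_σ C_A(M_σ)`. -/
theorem bg7_fitting_eq [Finite G] (hG : IsMinSimpleOddOrder G) (h17 : BG7FiveHyp G)
    (h18 : BG7SixHyp G) (M : Subgroup G) (hM : IsCoatom M) (E : Subgroup G)
    (hE : IsComplIn E (sigmaCore M) M) (p : ℕ) [Fact p.Prime] (hp : p ∈ tau2 M)
    (hS : ∀ S : Sylow p G, ¬ IsMulCommutative (S : Subgroup G)) (A : Subgroup G)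
    (hA : A ≤ E ∧ IsElementaryAbelian p A ∧ Nat.card A = p ^ 2) (A1 Z : Subgroup G)
    (S : Sylow p G) (D : BG7Data M A p A1 Z S)
    (hA1 : A ⊓ Subgroup.centralizer ((sigmaCore M : Subgroup G) : Set G) = A1)
    (hτ : tau2 M = {p}) : fittingOf M = sigmaCore M ⊔ A1 := by
  have hpp : p.Prime := Fact.out
  have hAM : A ≤ M := hA.1.trans hE.1
  have hA' : A ≤ M ∧ IsElementaryAbelian p A ∧ Nat.card A = p ^ 2 := ⟨hAM, hA.2.1, hA.2.2⟩
  apply le_antisymm
  · apply bg_le_of_pgroups_le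
    intro r _ Q hQF hQ
    have hQM : Q ≤ M := hQF.trans (Subgroup.map_subtype_le _)
    by_cases hrσ : r ∈ sigma M
    · exact (bg_pgroup_le_sigmaCore hG (bgx_uniq hG) (bgx_fus hG) M hM hrσ Q hQM hQ).trans
        le_sup_left
    · have hQR := bg7_pgroup_fitting_le M r Q hQF hQ
      by_cases hrp : r = p
      · subst hrp
        exact (hQR.trans (bg7_pcore_le hG M r hp hS A hA' A1 Z S D hA1)).trans le_sup_right
      · rw [bg7_core_bot hG h17 h18 M hM E hE p hp A hA hτ r hrσ hrp] at hQR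
        exact hQR.trans bot_le
  · apply sup_le
    · have hnil : Group.IsNilpotent ↥(piCore (sigma M) ↥M) :=
        (isNilpotent_sigmaCore_iff M).mp (h17 M hM p hp A hA').1
      have h1 : piCore (sigma M) ↥M ≤ fittingSubgroup ↥M :=
        Cfsg.Agent.Lib.helper28.le_fittingSubgroup inferInstance hnil
      exact Subgroup.map_mono h1
    · have hA1M : A1 ≤ M := D.hA1A.trans hAM
      obtain ⟨⟨hEA, -⟩, -, -⟩ := h18 M hM E hE p hp A hA
      have hnorm : ∀ m ∈ M, ∀ a ∈ A1, m * a * m⁻¹ ∈ A1 := by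
        intro m hm a ha
        rw [← hA1] at ha ⊢
        obtain ⟨e, he, u, hu, rfl⟩ := hE.2.2.2 m hm
        have hua : u * a = a * u := Subgroup.mem_centralizer_iff.mp ha.2 u hu
        have h1 : e * u * a * (e * u)⁻¹ = e * a * e⁻¹ := by
          calc e * u * a * (e * u)⁻¹ = e * (u * a) * u⁻¹ * e⁻¹ := by group
            _ = e * (a * u) * u⁻¹ * e⁻¹ := by rw [hua]
            _ = e * a * e⁻¹ := by group
        rw [h1]
        refine ⟨(Subgroup.mem_normalizer_iff.mp (hEA he) a).mp ha.1, ?_⟩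
        exact bg7_conj_mem_centralizer
          (Cfsg.Agent.Lib.helper71.BGA.le_normalizer_sigmaCore M (hE.1 he)) ha.2
      have hn : (A1.subgroupOf M).Normal := by
        constructor
        intro a ha m
        rw [Subgroup.mem_subgroupOf] at ha ⊢
        exact hnorm m.1 m.2 a.1 ha
      have hA1p : IsPGroup p ↥(A1.subgroupOf M) :=
        (IsPGroup.of_card (n := 1) (by rw [D.hA1c, pow_one]) : IsPGroup p ↥A1).comap_subtype
      have h1 : A1.subgroupOf M ≤ fittingSubgroup ↥M :=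
        Cfsg.Agent.Lib.helper28.le_fittingSubgroup hn hA1p.isNilpotent
      have h2 := Subgroup.map_mono (f := M.subtype) h1
      rw [Subgroup.map_subgroupOf_eq_of_le hA1M] at h2
      exact h2

/-- **B-G Theorem 12.7** in the form of statement S1419, from S1416, S1417, S1418 and the `p`-group
lemma (P0) taken as hypotheses. -/
theorem bg_12_7 [Finite G] (hG : IsMinSimpleOddOrder G) (h16 : BGTwelveFourHyp G)
    (h17 : BG7FiveHyp G) (h18 : BG7SixHyp G) (hP0 : Cfsg.Agent.Lib.helper12.PP0 G)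
    (M : Subgroup G) (hM : IsCoatom M) (E : Subgroup G) (hE : IsComplIn E (sigmaCore M) M)
    (p : ℕ) [Fact p.Prime] (hp : p ∈ tau2 M)
    (hS : ∀ S : Sylow p G, ¬ IsMulCommutative (S : Subgroup G)) (A : Subgroup G)
    (hA : A ≤ E ∧ IsElementaryAbelian p A ∧ Nat.card A = p ^ 2) :
    tau2 M = {p} ∧
      (Nat.card ↥(A ⊓ Subgroup.centralizer (sigmaCore M : Set G)) = p ∧
        fittingOf M = sigmaCore M ⊔ (A ⊓ Subgroup.centralizer (sigmaCore M : Set G))) ∧
      ∀ X : Subgroup G, X ≤ E → Nat.card X = p →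
        X ≠ A ⊓ Subgroup.centralizer (sigmaCore M : Set G) →
        sigmaCore M ⊓ Subgroup.centralizer (X : Set G) = ⊥ ∧
          ¬ Subgroup.centralizer (X : Set G) ≤ M := by
  have hA' : A ≤ M ∧ IsElementaryAbelian p A ∧ Nat.card A = p ^ 2 :=
    ⟨hA.1.trans hE.1, hA.2.1, hA.2.2⟩
  have hτ := bg7_tau2_eq hG h16 h17 h18 M hM E hE p hp hS A hA
  obtain ⟨A1, Z, S, D⟩ := bg7_exists_data hG h16 h17 hP0 M hM p hp hS A hA'
  have hfpf : ∀ X : Subgroup G, X ≤ A → Nat.card X = p → X ≠ A1 →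
      sigmaCore M ⊓ Subgroup.centralizer (X : Set G) = ⊥ :=
    fun X hXA hXc hX1 => bg7_fpf hG h17 h18 M hM E hE p hp A hA A1 Z S D X hXA hXc hX1
  have hcent := bg7_sigma_le_cent M p hp A hA' A1 D.hA1A hfpf
  have hA1 := bg7_cent_eq hG h17 M hM p hp A hA' A1 D.hA1A D.hA1c hcent
  refine ⟨hτ, ⟨?_, ?_⟩, ?_⟩
  · rw [hA1]
    exact D.hA1c
  · rw [hA1]
    exact bg7_fitting_eq hG h17 h18 M hM E hE p hp hS A hA A1 Z S D hA1 hτ
  · intro X hXE hXc hXne
    rw [hA1] at hXne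
    have hXA : X ≤ A := (h18 M hM E hE p hp A hA).1.2 X hXE hXc
    exact ⟨hfpf X hXA hXc hXne,
      bg7_cent_not_le hG h17 M hM p hp A hA' A1 Z S D hcent X hXA hXc hXne⟩

end Cfsg.Agent.Lib.helper97
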