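import Mathlib
import Cfsg.Agent.Lib.helper97.BGSeven1

/-!
# Bender–Glauberman Lemma 12.6 (statement S1418) from S1416 and S1417 taken as hypotheses

This makes `BG7SixHyp G` available from `BGTwelveFourHyp G` and `BG7FiveHyp G` alone.
-/

set_option autoImplicit false

namespace Cfsg.Agent.Lib.helper97

open Cfsg Cfsg.Agent.Lib.helper8 Cfsg.Agent.Lib.helper13

variable {G : Type*} [Group G]

/-- Elements of `N ⊔ A` are products when `A` normalizes `N`. -/
theorem bg7_mem_sup_of_normalizer {N A : Subgroup G}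
    (h : A ≤ Subgroup.normalizer (N : Set G)) {x : G} (hx : x ∈ N ⊔ A) :
    ∃ s ∈ N, ∃ a ∈ A, x = s * a := by
  rw [Subgroup.sup_eq_closure] at hx
  induction hx using Subgroup.closure_induction with
  | mem x hx =>
    rcases hx with hx | hx
    · exact ⟨x, hx, 1, A.one_mem, (mul_one x).symm⟩
    · exact ⟨1, N.one_mem, x, hx, (one_mul x).symm⟩
  | one => exact ⟨1, N.one_mem, 1, A.one_mem, (mul_one 1).symm⟩
  | mul x y _ _ hx hy =>
    obtain ⟨s, hs, a, ha, rfl⟩ := hx
    obtain ⟨s', hs', a', ha', rfl⟩ := hy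
    have h1 : a * s' * a⁻¹ ∈ N := (Subgroup.mem_normalizer_iff.mp (h ha) s').mp hs'
    refine ⟨s * (a * s' * a⁻¹), N.mul_mem hs h1, a * a', A.mul_mem ha ha', ?_⟩
    group
  | inv x _ hx =>
    obtain ⟨s, hs, a, ha, rfl⟩ := hx
    have h1 : a⁻¹ * s⁻¹ * a⁻¹⁻¹ ∈ N :=
      (Subgroup.mem_normalizer_iff.mp (h (A.inv_mem ha)) s⁻¹).mp (N.inv_mem hs)
    refine ⟨a⁻¹ * s⁻¹ * a⁻¹⁻¹, h1, a⁻¹, A.inv_mem ha, ?_⟩
    group

/-- B-G Lemma 12.6 (the statement S1418) from Proposition 12.4 and Theorem 12.5. -/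
theorem bg7_six_of [Finite G] (hG : IsMinSimpleOddOrder G) (h16 : BGTwelveFourHyp G)
    (h17 : BG7FiveHyp G) : BG7SixHyp G := by
  intro M hM E hE p _ hp A hA
  have hpp : p.Prime := Fact.out
  obtain ⟨hAE, hAe, hA2⟩ := hA
  have hEM : E ≤ M := hE.1
  have hAM : A ≤ M := hAE.trans hEM
  have hA' : A ≤ M ∧ IsElementaryAbelian p A ∧ Nat.card A = p ^ 2 := ⟨hAM, hAe, hA2⟩
  have hAp : IsPGroup p A := IsPGroup.of_card hA2
  have hAel := (bg_elemAb_iff A).mp hAe
  obtain ⟨-, h2, hnorm, hcent, huniq, -⟩ := h17 M hM p hp A hA'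
  have hCAM : Subgroup.centralizer (A : Set G) ≤ M := (h16 M hM p A hA').1
  have hdisj : E ⊓ sigmaCore M = ⊥ := hE.2.2.1
  have hσn := Cfsg.Agent.Lib.helper71.BGA.le_normalizer_sigmaCore M
  have hEA : E ≤ Subgroup.normalizer (A : Set G) := by
    intro e he
    apply mem_normalizer_of_forall_conj_mem
    intro a ha
    have h1 : e * a * e⁻¹ ∈ sigmaCore M ⊔ A :=
      (Subgroup.mem_normalizer_iff.mp (hnorm (hEM he)) a).mp ((le_sup_right : A ≤ _) ha)
    obtain ⟨s, hs, a', ha', h3⟩ := bg7_mem_sup_of_normalizer (hAM.trans hσn) h1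
    have h4 : s = e * a * e⁻¹ * a'⁻¹ := by rw [h3]; group
    have h5 : s ∈ E ⊓ sigmaCore M := by
      refine ⟨?_, hs⟩
      rw [h4]
      exact E.mul_mem (E.mul_mem (E.mul_mem he (hAE ha)) (E.inv_mem he)) (E.inv_mem (hAE ha'))
    rw [hdisj, Subgroup.mem_bot] at h5
    rw [h3, h5, one_mul]
    exact ha'
  have hA1 : A ≠ ⊥ := by
    intro h
    have h1 : Nat.card A = 1 := by rw [h]; exact Subgroup.card_bot
    rw [hA2] at h1
    have : 1 < p ^ 2 := Nat.one_lt_pow (by norm_num) hpp.one_lt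
    omega
  refine ⟨⟨hEA, ?_⟩, ⟨le_inf hCAM (Subgroup.centralizer_le_normalizer _), ?_,
    bg7_not_normalizer_le h17 M hM p hp A hA'⟩, ?_⟩
  · intro X hXE hXc
    have hXp : IsPGroup p X := IsPGroup.of_card (n := 1) (by rw [hXc, pow_one])
    have hsup : IsPGroup p ↥(X ⊔ A) := hXp.to_sup_of_normal_right' hAp (hXE.trans hEA)
    obtain ⟨P, hP⟩ := Cfsg.Agent.Lib.helper12.exc_exists_sylow
      (sup_le (hXE.trans hEM) hAM : X ⊔ A ≤ M) hsup
    obtain ⟨hΩ, -⟩ := (h2 P).2 (le_sup_right.trans hP)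
    intro x hx
    have hxp : x ^ p = 1 := by
      have h1 : (⟨x, hx⟩ : ↥X) ^ Nat.card ↥X = 1 := pow_card_eq_one'
      rw [hXc] at h1
      exact congrArg Subtype.val h1
    exact (hΩ x (hP (le_sup_left (a := X) (b := A) hx))).mp hxp
  · apply le_antisymm
    · intro n hn
      have hnM : n ∈ M := hn.1
      have hnN : n ∈ Subgroup.normalizer (A : Set G) := hn.2
      obtain ⟨e, he, s, hs, rfl⟩ := hE.2.2.2 n hnM
      have hsN : s ∈ Subgroup.normalizer (A : Set G) := by
        have h1 : s = e⁻¹ * (e * s) := by group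
        rw [h1]
        exact Subgroup.mul_mem _ (Subgroup.inv_mem _ (hEA he)) hnN
      have hsC' : s ∈ Subgroup.centralizer (A : Set G) := by
        rw [Subgroup.mem_centralizer_iff]
        intro a ha
        have h1 : s * a * s⁻¹ ∈ A := (Subgroup.mem_normalizer_iff.mp hsN a).mp ha
        have h2' : a * s⁻¹ * a⁻¹ ∈ sigmaCore M :=
          (Subgroup.mem_normalizer_iff.mp (hσn (hAM ha)) s⁻¹).mp ((sigmaCore M).inv_mem hs)
        have h3 : s * a * s⁻¹ * a⁻¹ ∈ E ⊓ sigmaCore M := by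
          refine ⟨hAE (A.mul_mem h1 (A.inv_mem ha)), ?_⟩
          have : s * a * s⁻¹ * a⁻¹ = s * (a * s⁻¹ * a⁻¹) := by group
          rw [this]
          exact (sigmaCore M).mul_mem hs h2'
        rw [hdisj, Subgroup.mem_bot] at h3
        calc a * s = (s * a * s⁻¹ * a⁻¹)⁻¹ * (s * a) := by group
          _ = s * a := by rw [h3, inv_one, one_mul]
      have hsC : s ∈ sigmaCore M ⊓ Subgroup.centralizer (A : Set G) := ⟨hs, hsC'⟩
      rw [hcent, Subgroup.mem_bot] at hsC
      rw [hsC, mul_one]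
      exact he
    · exact le_inf hEM hEA
  · intro X hXA hXc hne
    have hAX : A ≤ Subgroup.centralizer (X : Set G) := by
      intro a ha
      rw [Subgroup.mem_centralizer_iff]
      intro x hx
      exact hAel.1 x (hXA hx) a ha
    have key : ∀ L : Subgroup G, IsCoatom L → Subgroup.centralizer (X : Set G) ≤ L → L = M := by
      intro L hL hCL
      by_contra hLM
      have h1 := huniq L hL hLM (hAX.trans hCL)
      exact hne (le_bot_iff.mp (h1 ▸ inf_le_inf_left _ hCL))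
    refine ⟨?_, key⟩
    have hX1 : X ≠ ⊥ := by
      intro h
      have h1 : Nat.card X = 1 := by rw [h]; exact Subgroup.card_bot
      rw [hXc] at h1
      exact hpp.one_lt.ne' h1
    have hXtop : X ≠ ⊤ := fun h => hM.1 (top_le_iff.mp (h ▸ hXA.trans hAM))
    have hNtop := bg7_normalizer_ne_top hG hX1 hXtop
    have hCtop : Subgroup.centralizer (X : Set G) ≠ ⊤ := by
      intro h
      apply hNtop
      exact top_le_iff.mp (h ▸ Subgroup.centralizer_le_normalizer _)
    obtain ⟨L, hL, hCL⟩ :=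
      (eq_top_or_exists_le_coatom (Subgroup.centralizer (X : Set G))).resolve_left hCtop
    rw [← key L hL hCL]
    exact hCL

end Cfsg.Agent.Lib.helper97
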