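import Mathlib
import Cfsg.Agent.S1419
import Cfsg.Agent.Lib.helper97.BGEightDefs

/-!
# S1421, part 1: general facts and the key lemmas of the nonabelian case

`bg8_h16`, `bg8_h17`, `bg8_h18` : the statements of S1416, S1417, S1418 for `G`.
`bg8_tau13` : a prime order `q ∉ τ₂(M)` of an element of the complement `E` lies in `τ₁(M) ∪ τ₃(M)`.
`bg8_no_root` : (nonabelian Sylow `p`-subgroups) no element `c` of `E` has `c ^ p` a non-identity
element of `A₀ = C_A(M_σ)`.
`bg8_cent_le` : (same case, with the regularity hypothesis) `C_E(x) ≤ A₀` for `x ∈ M_σ`, `x ≠ 1`.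
-/

set_option autoImplicit false

namespace Cfsg.Agent.Lib.helper97

open Cfsg Cfsg.Agent.Lib.helper8 Cfsg.Agent.Lib.helper13

variable {G : Type*} [Group G]

theorem bg8_h16 [Finite G] (hG : IsMinSimpleOddOrder G) : BGTwelveFourHyp G :=
  fun M hM p _ A hA => Cfsg.Agent.S1416.result hG M hM p A hA

theorem bg8_h17 [Finite G] (hG : IsMinSimpleOddOrder G) : BG7FiveHyp G :=
  fun M hM p _ hp A hA => Cfsg.Agent.S1417.result hG M hM p hp A hA

theorem bg8_h18 [Finite G] (hG : IsMinSimpleOddOrder G) : BG7SixHyp G :=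
  bg7_six_of hG (bg8_h16 hG) (bg8_h17 hG)

/-- Subgroups of a maximal subgroup are solvable. -/
theorem bg8_solvable (hG : IsMinSimpleOddOrder G) (M : Subgroup G) (hM : IsCoatom M)
    (E : Subgroup G) (hEM : E ≤ M) : Group.IsSolvable E := by
  apply hG.2.2.2 E
  intro h
  apply hM.1
  rw [eq_top_iff, ← h]
  exact hEM

/-- A prime order of an element of `E` is not in `σ(M)`. -/
theorem bg8_not_sigma [Finite G] (hG : IsMinSimpleOddOrder G) (M : Subgroup G) (hM : IsCoatom M)
    (E : Subgroup G) (hE : IsComplIn E (sigmaCore M) M) (q : ℕ) (hq : q.Prime)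
    (hqE : q ∣ Nat.card E) : q ∉ sigma M := by
  intro hσ
  obtain ⟨⟨hle, -, hidx⟩, -, -⟩ := Cfsg.Agent.S1350.result hG M hM
  have h1 := Cfsg.Agent.Lib.helper29.IsComplIn.card_mul hE
  have h2 : Nat.card (sigmaCore M) * (sigmaCore M).relIndex M = Nat.card M := by
    rw [Subgroup.relIndex]
    have h3 := Subgroup.card_mul_index ((sigmaCore M).subgroupOf M)
    rw [Nat.card_congr (Subgroup.subgroupOfEquivOfLe hle).toEquiv] at h3
    exact h3
  have h4 : (sigmaCore M).relIndex M = Nat.card E := by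
    have hpos : 0 < Nat.card (sigmaCore M) := Nat.card_pos
    have : Nat.card (sigmaCore M) * (sigmaCore M).relIndex M =
        Nat.card (sigmaCore M) * Nat.card E := by
      rw [h2, ← h1, mul_comm]
    exact Nat.eq_of_mul_eq_mul_left hpos this
  exact hidx q hq hσ (h4 ▸ hqE)

/-- A prime order `q ∉ τ₂(M)` of an element of `E` lies in `τ₁(M) ∪ τ₃(M)`. -/
theorem bg8_tau13 [Finite G] (hG : IsMinSimpleOddOrder G) (M : Subgroup G) (hM : IsCoatom M)
    (E : Subgroup G) (hE : IsComplIn E (sigmaCore M) M) (e : G) (he : e ∈ E) (q : ℕ)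
    (hq : q.Prime) (ho : orderOf e = q) (hq2 : q ∉ tau2 M) : q ∈ tau1 M ∪ tau3 M := by
  have hqE : q ∣ Nat.card E := by
    have h1 : orderOf (⟨e, he⟩ : E) = q := by
      rw [← ho]
      exact (Subgroup.orderOf_mk e he)
    rw [← h1]
    exact orderOf_dvd_natCard _
  have hσ : q ∉ sigma M := bg8_not_sigma hG M hM E hE q hq hqE
  have hqM : q ∣ Nat.card M := hqE.trans (Subgroup.card_dvd_of_le hE.1)
  have hr2 : PRankLE q 2 M := by
    by_contra h
    exact hσ (bg_alpha_sub_sigma hG (bgx_uniq hG) M hM ⟨hq, h⟩)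
  have hr1 : PRankLE q 1 M := by
    by_contra h
    exact hq2 ⟨hq, hσ, hr2, h⟩
  by_cases hd : q ∣ Nat.card ↥⁅M, M⁆
  · exact Or.inr ⟨hq, hσ, hd, hr1⟩
  · exact Or.inl ⟨hq, hσ, hqM, hd, hr1⟩

/-- `E` normalizes `C_A(M_σ)`. -/
theorem bg8_normalizes_cent [Finite G] (M E A : Subgroup G) (hEM : E ≤ M)
    (hEA : E ≤ Subgroup.normalizer (A : Set G)) :
    E ≤ Subgroup.normalizer
      ((A ⊓ Subgroup.centralizer ((sigmaCore M : Subgroup G) : Set G) : Subgroup G) : Set G) := by
  intro e he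
  have hMn : M ≤ Subgroup.normalizer ((sigmaCore M : Subgroup G) : Set G) :=
    Cfsg.Agent.Lib.helper71.BGA.le_normalizer_sigmaCore M
  apply mem_normalizer_of_forall_conj_mem
  intro a ha
  have ha' := Subgroup.mem_inf.mp ha
  refine Subgroup.mem_inf.mpr ⟨?_, ?_⟩
  · exact (Subgroup.mem_normalizer_iff.mp (hEA he) a).mp ha'.1
  · exact bg7_conj_mem_centralizer (hMn (hEM he)) ha'.2

/-- Nonabelian case: no element `c` of `E` with `c ^ p ^ 2 = 1` has `c ^ p` a non-identity element
of `C_A(M_σ)`. -/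
theorem bg8_no_root [Finite G] (hG : IsMinSimpleOddOrder G) (M : Subgroup G) (hM : IsCoatom M)
    (E : Subgroup G) (hE : IsComplIn E (sigmaCore M) M) (p : ℕ) [Fact p.Prime] (hp : p ∈ tau2 M)
    (hS : ∀ S : Sylow p G, ¬ IsMulCommutative (S : Subgroup G)) (A : Subgroup G)
    (hA : A ≤ E ∧ IsElementaryAbelian p A ∧ Nat.card A = p ^ 2) (c : G) (hc : c ∈ E)
    (hcA : c ^ p ∈ A ⊓ Subgroup.centralizer ((sigmaCore M : Subgroup G) : Set G))
    (hc2 : c ^ p ^ 2 = 1) : c ^ p = 1 := by
  have hpp : p.Prime := Fact.out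
  by_contra hne
  obtain ⟨hAE, hAe, hA2⟩ := hA
  have hAM : A ≤ M := hAE.trans hE.1
  obtain ⟨⟨hEA, -⟩, -, h3⟩ := bg8_h18 hG M hM E hE p hp A ⟨hAE, hAe, hA2⟩
  have hAp : IsPGroup p A := IsPGroup.of_card hA2
  have hcp : IsPGroup p (Subgroup.zpowers c) := by
    obtain ⟨k, -, hk⟩ := (Nat.dvd_prime_pow hpp).mp (orderOf_dvd_of_pow_eq_one hc2)
    exact IsPGroup.of_card (n := k) (by rw [Nat.card_zpowers, hk])
  have hQ : IsPGroup p (Subgroup.zpowers c ⊔ A : Subgroup G) :=
    IsPGroup.to_sup_of_normal_right' hcp hAp (by rw [Subgroup.zpowers_le]; exact hEA hc)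
  obtain ⟨S, hQS⟩ := hQ.exists_le_sylow
  have hAmax := (Cfsg.Agent.S1408.result hG M hM p hp.2.1 hp.2.2.1 hp.2.2.2).2 A hAM hAe hA2
  have hcA' := Subgroup.mem_inf.mp hcA
  have hcen := bg7_pow_central hG p S (hS S) A (le_sup_right.trans hQS) hAe hA2 hAmax c
    (hQS (Subgroup.mem_sup_left (Subgroup.mem_zpowers c))) hcA'.1
  have hXA : Subgroup.zpowers (c ^ p) ≤ A := by
    rw [Subgroup.zpowers_le]; exact hcA'.1
  have hord : orderOf (c ^ p) = p := by
    apply orderOf_eq_prime
    · rw [← pow_mul, ← pow_two]; exact hc2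
    · exact hne
  have hXc : Nat.card (Subgroup.zpowers (c ^ p)) = p := by rw [Nat.card_zpowers, hord]
  have hXne : sigmaCore M ⊓ Subgroup.centralizer ((Subgroup.zpowers (c ^ p) : Subgroup G) : Set G)
      ≠ ⊥ := by
    have hle : sigmaCore M ≤
        Subgroup.centralizer ((Subgroup.zpowers (c ^ p) : Subgroup G) : Set G) := by
      intro u hu
      rw [Subgroup.mem_centralizer_iff]
      intro y hy
      obtain ⟨k, rfl⟩ := Subgroup.mem_zpowers_iff.mp hy
      have h1 := Subgroup.mem_centralizer_iff.mp hcA'.2 u hu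
      exact ((Commute.zpow_left (show Commute (c ^ p) u from h1.symm) k)).eq
    rw [inf_eq_left.mpr hle]
    exact Cfsg.Agent.Lib.helper54.sigmaCore_ne_bot hG M hM
  have hCM := (h3 _ hXA hXc hXne).1
  have hSM : (S : Subgroup G) ≤ M := by
    refine le_trans ?_ hCM
    intro s hs
    rw [Subgroup.mem_centralizer_iff]
    intro y hy
    obtain ⟨k, rfl⟩ := Subgroup.mem_zpowers_iff.mp hy
    have h1 := hcen s hs
    exact ((Commute.zpow_left (show Commute (c ^ p) s from h1) k)).eq
  exact hS S (bg7_sylow_comm_of_le (bg8_h17 hG) M hM p hp A ⟨hAM, hAe, hA2⟩ S hSM)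

/-- Nonabelian case, under the regularity hypothesis: `C_E(x) ≤ C_A(M_σ)` for `x ∈ M_σ`, `x ≠ 1`. -/
theorem bg8_cent_le [Finite G] (hG : IsMinSimpleOddOrder G) (M : Subgroup G) (hM : IsCoatom M)
    (E : Subgroup G) (hE : IsComplIn E (sigmaCore M) M)
    (h : ∀ e ∈ E, e ≠ 1 → (∀ q : ℕ, q.Prime → q ∣ orderOf e → q ∈ tau1 M ∪ tau3 M) →
      sigmaCore M ⊓ Subgroup.centralizer ({e} : Set G) = ⊥)
    (p : ℕ) [Fact p.Prime] (hp : p ∈ tau2 M)
    (hS : ∀ S : Sylow p G, ¬ IsMulCommutative (S : Subgroup G)) (A : Subgroup G)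
    (hA : A ≤ E ∧ IsElementaryAbelian p A ∧ Nat.card A = p ^ 2) (x : G) (hx : x ∈ sigmaCore M)
    (hx1 : x ≠ 1) :
    E ⊓ Subgroup.centralizer ({x} : Set G) ≤
      A ⊓ Subgroup.centralizer ((sigmaCore M : Subgroup G) : Set G) := by
  have hpp : p.Prime := Fact.out
  intro e he
  obtain ⟨heE, hec⟩ := Subgroup.mem_inf.mp he
  have hex : Commute e x := (Subgroup.mem_centralizer_iff.mp hec x rfl).symm
  obtain ⟨hτ, -, hfpf⟩ := Cfsg.Agent.S1419.result hG M hM E hE p hp hS A hA
  have hxcent : ∀ n : ℕ, x ∈ sigmaCore M ⊓ Subgroup.centralizer ({e ^ n} : Set G) := by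
    intro n
    refine Subgroup.mem_inf.mpr ⟨hx, ?_⟩
    rw [Subgroup.mem_centralizer_iff]
    intro y hy
    rw [Set.mem_singleton_iff] at hy
    subst hy
    exact (Commute.pow_left hex n).eq
  have hprime : ∀ r : ℕ, r.Prime → r ∣ orderOf e → r = p := by
    intro r hr hrd
    by_contra hrp
    have hr2 : r ∉ tau2 M := by rw [hτ]; exact hrp
    have hfo : orderOf (e ^ (orderOf e / r)) = r :=
      orderOf_pow_orderOf_div (orderOf_pos e).ne' hrd
    have hfE : e ^ (orderOf e / r) ∈ E := E.pow_mem heE _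
    have hf1 : e ^ (orderOf e / r) ≠ 1 := by
      intro h1; rw [h1, orderOf_one] at hfo; exact hr.ne_one hfo.symm
    have hreg := h _ hfE hf1 (by
      intro q hq hqd
      rw [hfo] at hqd
      have : q = r := (Nat.prime_dvd_prime_iff_eq hq hr).mp hqd
      subst this
      exact bg8_tau13 hG M hM E hE _ hfE q hq hfo hr2)
    have hxm := hxcent (orderOf e / r)
    rw [hreg, Subgroup.mem_bot] at hxm
    exact hx1 hxm
  have hk : orderOf e = p ^ (orderOf e).primeFactorsList.length :=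
    Nat.eq_prime_pow_of_unique_prime_dvd (orderOf_pos e).ne' (fun {m} hm hmd => hprime m hm hmd)
  generalize (orderOf e).primeFactorsList.length = k at hk
  rcases k with _ | k
  · rw [pow_zero, orderOf_eq_one_iff] at hk
    rw [hk]; exact Subgroup.one_mem _
  · have hdiv : orderOf e / p = p ^ k := by
      rw [hk, pow_succ, Nat.mul_div_cancel _ hpp.pos]
    have ho' : orderOf (e ^ p ^ k) = p := by
      rw [← hdiv]
      exact orderOf_pow_orderOf_div (orderOf_pos e).ne' (by rw [hk]; exact dvd_pow_self p (by omega))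
    have hX'E : Subgroup.zpowers (e ^ p ^ k) ≤ E := by
      rw [Subgroup.zpowers_le]; exact E.pow_mem heE _
    have hX'c : Nat.card (Subgroup.zpowers (e ^ p ^ k)) = p := by rw [Nat.card_zpowers, ho']
    have hX'eq : Subgroup.zpowers (e ^ p ^ k) =
        A ⊓ Subgroup.centralizer ((sigmaCore M : Subgroup G) : Set G) := by
      by_contra hne
      have h1 := (hfpf _ hX'E hX'c hne).1
      have h2 : x ∈ sigmaCore M ⊓
          Subgroup.centralizer ((Subgroup.zpowers (e ^ p ^ k) : Subgroup G) : Set G) := by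
        refine Subgroup.mem_inf.mpr ⟨hx, ?_⟩
        rw [Subgroup.mem_centralizer_iff]
        intro y hy
        obtain ⟨j, rfl⟩ := Subgroup.mem_zpowers_iff.mp hy
        exact (Commute.zpow_left (Commute.pow_left hex _) j).eq
      rw [h1, Subgroup.mem_bot] at h2
      exact hx1 h2
    rcases k with _ | k
    · have h1 : e ∈ Subgroup.zpowers (e ^ p ^ 0) := by
        rw [pow_zero, pow_one]; exact Subgroup.mem_zpowers e
      rw [hX'eq] at h1
      exact h1
    · exfalso
      have hc := bg8_no_root hG M hM E hE p hp hS A hA (e ^ p ^ k) (E.pow_mem heE _)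
        (by
          rw [← pow_mul, ← pow_succ, ← hX'eq]
          exact Subgroup.mem_zpowers _)
        (by
          rw [← pow_mul, ← pow_add, ← hk]
          exact pow_orderOf_eq_one e)
      rw [← pow_mul, ← pow_succ] at hc
      rw [hc, orderOf_one] at ho'
      exact hpp.ne_one ho'.symm

end Cfsg.Agent.Lib.helper97
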