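import Mathlib
import Cfsg.Agent.S0051
import Cfsg.Agent.Lib.helper66.AbelianCoprime
import Cfsg.Agent.Lib.helper97.BGEight1

/-!
# S1421, part 2: the nonabelian case and glue lemmas

`bg8_compl_abs` : an abelian normal subgroup `K` of exponent `p` of a finite group `E` with abelian
Sylow `p`-subgroups, such that no element `c` of order `p ^ 2` has `c ^ p ∈ K`, has a complement
(Gaschütz).
`bg8_exp_abs` : such a complement has the same exponent as `E`, if `p` divides its order.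
`bg8_nonab` : the conclusion of S1421 when the Sylow `p`-subgroups of `G` are nonabelian for some
`p ∈ τ₂(M)`.
-/

set_option autoImplicit false

namespace Cfsg.Agent.Lib.helper97

open Cfsg

/-- Gaschütz: a complement of an abelian normal subgroup of exponent `p` without "roots". -/
theorem bg8_compl_abs {E : Type*} [Group E] [Finite E] (p : ℕ) [Fact p.Prime] (K : Subgroup E)
    [K.Normal] [IsMulCommutative K] (hKp : ∀ k ∈ K, k ^ p = 1)
    (P : Sylow p E) (hP : ∀ x ∈ (P : Subgroup E), ∀ y ∈ (P : Subgroup E), x * y = y * x)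
    (hroot : ∀ c : E, c ^ p ∈ K → c ^ p ^ 2 = 1 → c ^ p = 1) :
    ∃ H : Subgroup E, Subgroup.IsComplement' K H := by
  have hpp : p.Prime := Fact.out
  have hKpg : IsPGroup p K := by
    intro k
    refine ⟨1, ?_⟩
    rw [pow_one]
    exact Subtype.ext (hKp k k.2)
  have hKP : K ≤ (P : Subgroup E) := hKpg.le_sylow_of_normal P
  let _ : CommGroup (P : Subgroup E) :=
    { (inferInstance : Group (P : Subgroup E)) with
      mul_comm := fun x y => Subtype.ext (hP x x.2 y y.2) }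
  obtain ⟨W, -, hCW, hsup⟩ := Cfsg.Agent.Lib.helper66.exists_compl_of_inf_pow_eq_bot p
    (⊤ : Subgroup (P : Subgroup E)) (K.subgroupOf (P : Subgroup E)) le_top (by
      rw [eq_bot_iff]
      rintro u ⟨hu, ⟨v, -, hv⟩⟩
      rw [Subgroup.mem_bot]
      have hv' : v ^ p = u := hv
      have h1 : (v : E) ^ p ∈ K := by
        have h0 : ((v ^ p : (P : Subgroup E)) : E) ∈ K := by
          rw [hv']
          exact hu
        simpa using h0
      have h2 : (v : E) ^ p ^ 2 = 1 := by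
        rw [pow_two, pow_mul]
        exact hKp _ h1
      have h3 := hroot v h1 h2
      rw [← hv']
      exact Subtype.ext (by simpa using h3))
  refine Cfsg.Agent.S0051.result K (P : Subgroup E) hKP ?_ (W.map (P : Subgroup E).subtype)
    ?_ ?_ ?_
  · have h1 : ¬ p ∣ (P : Subgroup E).index := P.not_dvd_index
    obtain ⟨n, hn⟩ := IsPGroup.iff_card.mp hKpg
    rw [hn]
    exact Nat.Coprime.pow_left n ((Nat.Prime.coprime_iff_not_dvd hpp).mpr h1)
  · rintro _ ⟨w, -, rfl⟩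
    exact w.2
  · rw [eq_bot_iff]
    rintro _ ⟨⟨w, hw, rfl⟩, hk⟩
    rw [Subgroup.mem_bot]
    have h1 : w ∈ K.subgroupOf (P : Subgroup E) ⊓ W :=
      Subgroup.mem_inf.mpr ⟨Subgroup.mem_subgroupOf.mpr hk, hw⟩
    rw [hCW, Subgroup.mem_bot] at h1
    rw [h1]
    rfl
  · apply le_antisymm
    · apply sup_le hKP
      rintro _ ⟨w, -, rfl⟩
      exact w.2
    · intro x hx
      have h1 : (⟨x, hx⟩ : (P : Subgroup E)) ∈ K.subgroupOf (P : Subgroup E) ⊔ W := by
        rw [hsup]; exact Subgroup.mem_top _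
      obtain ⟨k, hk, w, hw, hkw⟩ := Subgroup.mem_sup.mp h1
      have h2 : x = (k : E) * (w : E) := by
        have := congrArg (Subtype.val) hkw
        simpa using this.symm
      rw [h2]
      exact Subgroup.mul_mem_sup (Subgroup.mem_subgroupOf.mp hk) ⟨w, hw, rfl⟩

/-- The complement has the same exponent as the whole group. -/
theorem bg8_exp_abs {E : Type*} [Group E] [Finite E] (p : ℕ) [Fact p.Prime] (K H : Subgroup E)
    [K.Normal] (hKH : Subgroup.IsComplement' K H) (hKp : ∀ k ∈ K, k ^ p = 1)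
    (hpH : p ∣ Nat.card H)
    (hroot : ∀ c : E, c ^ p ∈ K → c ^ p ^ 2 = 1 → c ^ p = 1) :
    Monoid.exponent H = Monoid.exponent E := by
  have hpp : p.Prime := Fact.out
  apply Nat.dvd_antisymm (Monoid.exponent_dvd_of_monoidHom H.subtype H.subtype_injective)
  rw [Monoid.exponent_dvd_iff_forall_pow_eq_one]
  intro e
  set n := Monoid.exponent H with hn
  -- `e ^ n ∈ K`
  have h1 : e ^ n ∈ K := by
    obtain ⟨⟨k, h⟩, hkh, -⟩ := hKH.existsUnique e
    have hkh' : (k : E) * (h : E) = e := hkh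
    rw [← QuotientGroup.eq_one_iff, QuotientGroup.mk_pow, ← hkh', QuotientGroup.mk_mul,
      (QuotientGroup.eq_one_iff (k : E)).mpr k.2, one_mul, ← QuotientGroup.mk_pow]
    have h2 : (h : E) ^ n = 1 := by
      have h3 : h ^ n = 1 := Monoid.pow_exponent_eq_one h
      have := congrArg Subtype.val h3
      simpa using this
    rw [h2]
    rfl
  -- `p ∣ n`
  have hpn : p ∣ n := by
    obtain ⟨h, hh⟩ := exists_prime_orderOf_dvd_card' p hpH
    rw [← hh]
    exact Monoid.order_dvd_exponent h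
  obtain ⟨m, hm⟩ := hpn
  have h3 : (e ^ m) ^ p = e ^ n := by rw [← pow_mul, hm, mul_comm]
  have h4 := hroot (e ^ m) (by rw [h3]; exact h1) (by
    rw [pow_two, pow_mul, h3]
    exact hKp _ h1)
  rw [← h3]
  exact h4

variable {G : Type*} [Group G]

open Cfsg.Agent.Lib.helper8 Cfsg.Agent.Lib.helper13 in
/-- A `p`-subgroup of `M` is abelian when `p ∈ τ₂(M)`. -/
theorem bg8_psub_comm [Finite G] (h17 : BG7FiveHyp G) (M : Subgroup G) (hM : IsCoatom M)
    (p : ℕ) [Fact p.Prime] (hp : p ∈ tau2 M) (A : Subgroup G)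
    (hA : A ≤ M ∧ IsElementaryAbelian p A ∧ Nat.card A = p ^ 2) (Q : Subgroup G)
    (hQM : Q ≤ M) (hQ : IsPGroup p Q) : ∀ x ∈ Q, ∀ y ∈ Q, x * y = y * x := by
  obtain ⟨-, h2, -⟩ := h17 M hM p hp A hA
  have hQ' : IsPGroup p (Q.subgroupOf M) := hQ.comap_subtype
  obtain ⟨P, hP⟩ := hQ'.exists_le_sylow
  have h3 := (h2 P).1
  rw [isMulCommutative_iff] at h3
  intro x hx y hy
  have hx' : (⟨x, hQM hx⟩ : M) ∈ (P : Subgroup M) := hP (Subgroup.mem_subgroupOf.mpr hx)
  have hy' : (⟨y, hQM hy⟩ : M) ∈ (P : Subgroup M) := hP (Subgroup.mem_subgroupOf.mpr hy)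
  have h4 := h3 ⟨_, hx'⟩ ⟨_, hy'⟩
  exact congrArg (fun z : ↥(P : Subgroup M) => ((z : M) : G)) h4

open Cfsg.Agent.Lib.helper8 Cfsg.Agent.Lib.helper13 in
/-- PN: the conclusion of S1421 when the Sylow `p`-subgroups of `G` are nonabelian for some
`p ∈ τ₂(M)`. -/
theorem bg8_nonab [Finite G] (hG : IsMinSimpleOddOrder G) (M : Subgroup G) (hM : IsCoatom M)
    (E : Subgroup G) (hE : IsComplIn E (sigmaCore M) M)
    (h : ∀ e ∈ E, e ≠ 1 → (∀ p : ℕ, p.Prime → p ∣ orderOf e → p ∈ tau1 M ∪ tau3 M) →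
      sigmaCore M ⊓ Subgroup.centralizer ({e} : Set G) = ⊥)
    (p : ℕ) [Fact p.Prime] (hp : p ∈ tau2 M)
    (hS : ∀ S : Sylow p G, ¬ IsMulCommutative (S : Subgroup G)) :
    (∃ A₀ : Subgroup G, A₀ ≤ E ∧ E ≤ Subgroup.normalizer (A₀ : Set G) ∧ IsMulCommutative A₀ ∧
        ∀ x ∈ sigmaCore M, x ≠ 1 → E ⊓ Subgroup.centralizer ({x} : Set G) ≤ A₀) ∧
      ∃ E₀ : Subgroup G, E₀ ≤ E ∧ Monoid.exponent E₀ = Monoid.exponent E ∧
        ∀ e ∈ E₀, e ≠ 1 → sigmaCore M ⊓ Subgroup.centralizer ({e} : Set G) = ⊥ := by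
  have hpp : p.Prime := Fact.out
  obtain ⟨A, hAE, hAe, hA2⟩ := bg7_exists_elemAb_compl M E hE p hp
  have hA : A ≤ E ∧ IsElementaryAbelian p A ∧ Nat.card A = p ^ 2 := ⟨hAE, hAe, hA2⟩
  have hAM : A ≤ M := hAE.trans hE.1
  obtain ⟨-, ⟨hA₀c, -⟩, -⟩ := Cfsg.Agent.S1419.result hG M hM E hE p hp hS A hA
  obtain ⟨⟨hEA, -⟩, -, -⟩ := bg8_h18 hG M hM E hE p hp A hA
  have hA₀n := bg8_normalizes_cent M E A hE.1 hEA
  have hcent := bg8_cent_le hG M hM E hE h p hp hS A hA
  have hroot := bg8_no_root hG M hM E hE p hp hS A hA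
  set A₀ : Subgroup G := A ⊓ Subgroup.centralizer ((sigmaCore M : Subgroup G) : Set G)
    with hA₀def
  have hA₀A : A₀ ≤ A := inf_le_left
  have hA₀E : A₀ ≤ E := hA₀A.trans hAE
  have hA₀comm : ∀ x ∈ A₀, ∀ y ∈ A₀, x * y = y * x := by
    intro x hx y hy
    have h1 := hAe.1
    rw [isMulCommutative_iff] at h1
    exact congrArg Subtype.val (h1 ⟨x, hA₀A hx⟩ ⟨y, hA₀A hy⟩)
  have hA₀p : ∀ x ∈ A₀, x ^ p = 1 := fun x hx => hAe.2 x (hA₀A hx)
  refine ⟨⟨A₀, hA₀E, hA₀n, ?_, hcent⟩, ?_⟩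
  · rw [isMulCommutative_iff]
    intro x y
    exact Subtype.ext (hA₀comm x x.2 y y.2)
  -- the complement, inside the group `↥E`
  have hKn : (A₀.subgroupOf E).Normal := Subgroup.normal_subgroupOf_of_le_normalizer hA₀n
  have hKc : IsMulCommutative (A₀.subgroupOf E) := by
    rw [isMulCommutative_iff]
    intro x y
    exact Subtype.ext (Subtype.ext (hA₀comm _ (Subgroup.mem_subgroupOf.mp x.2) _
      (Subgroup.mem_subgroupOf.mp y.2)))
  have hKp : ∀ k ∈ A₀.subgroupOf E, k ^ p = 1 := by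
    intro k hk
    have h1 := hA₀p _ (Subgroup.mem_subgroupOf.mp hk)
    exact Subtype.ext (by simpa using h1)
  have hrootE : ∀ c : E, c ^ p ∈ A₀.subgroupOf E → c ^ p ^ 2 = 1 → c ^ p = 1 := by
    intro c hc hc2
    have h1 : (c : G) ^ p ∈ A₀ := by simpa [Subgroup.mem_subgroupOf] using hc
    have h2 : (c : G) ^ p ^ 2 = 1 := by
      have := congrArg Subtype.val hc2
      simpa using this
    have h3 := hroot (c : G) c.2 h1 h2
    exact Subtype.ext (by simpa using h3)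
  obtain ⟨P⟩ : Nonempty (Sylow p E) := inferInstance
  have hP : ∀ x ∈ (P : Subgroup E), ∀ y ∈ (P : Subgroup E), x * y = y * x := by
    intro x hx y hy
    have hQ : IsPGroup p ((P : Subgroup E).map E.subtype) := P.isPGroup'.map E.subtype
    have h1 := bg8_psub_comm (bg8_h17 hG) M hM p hp A ⟨hAM, hAe, hA2⟩ _
      ((Subgroup.map_subtype_le _).trans hE.1) hQ (x : G) ⟨x, hx, rfl⟩ (y : G) ⟨y, hy, rfl⟩
    exact Subtype.ext h1
  obtain ⟨H, hH⟩ := bg8_compl_abs p (A₀.subgroupOf E) hKp P hP hrootE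
  have hpH : p ∣ Nat.card H := by
    have h1 := hH.card_mul_card
    have h2 : Nat.card (A₀.subgroupOf E) = p := by
      rw [Nat.card_congr (Subgroup.subgroupOfEquivOfLe hA₀E).toEquiv]; exact hA₀c
    have h3 : p ^ 2 ∣ Nat.card E := by
      rw [← hA2]; exact Subgroup.card_dvd_of_le hAE
    rw [← h1, h2, pow_two] at h3
    exact (Nat.mul_dvd_mul_iff_left hpp.pos).mp h3
  have hexp := bg8_exp_abs p (A₀.subgroupOf E) H hH hKp hpH hrootE
  refine ⟨H.map E.subtype, Subgroup.map_subtype_le H, ?_, ?_⟩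
  · rw [← hexp]
    exact (Monoid.exponent_eq_of_mulEquiv
      (H.equivMapOfInjective E.subtype E.subtype_injective)).symm
  · rintro _ ⟨e, heH, rfl⟩ he1
    rw [eq_bot_iff]
    intro x hx
    rw [Subgroup.mem_bot]
    by_contra hx1
    obtain ⟨hxσ, hxc⟩ := Subgroup.mem_inf.mp hx
    have h1 : (e : G) ∈ E ⊓ Subgroup.centralizer ({x} : Set G) := by
      refine Subgroup.mem_inf.mpr ⟨e.2, ?_⟩
      rw [Subgroup.mem_centralizer_iff]
      intro y hy
      rw [Set.mem_singleton_iff] at hy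
      subst hy
      exact (Subgroup.mem_centralizer_iff.mp hxc _ rfl).symm
    have h2 : (e : G) ∈ A₀ := hcent x hxσ hx1 h1
    have h3 : e ∈ A₀.subgroupOf E ⊓ H :=
      Subgroup.mem_inf.mpr ⟨Subgroup.mem_subgroupOf.mpr h2, heH⟩
    rw [hH.disjoint.eq_bot, Subgroup.mem_bot] at h3
    apply he1
    rw [h3]
    rfl

open Cfsg.Agent.Lib.helper8 Cfsg.Agent.Lib.helper13 in
/-- Glue: the abelian Sylow context exists when some Sylow `p`-subgroup of `G` is abelian. -/
theorem bg8_exists_ctx [Finite G] (hG : IsMinSimpleOddOrder G) (M : Subgroup G) (hM : IsCoatom M)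
    (E : Subgroup G) (hE : IsComplIn E (sigmaCore M) M) (p : ℕ) [Fact p.Prime] (hp : p ∈ tau2 M)
    (S₀ : Sylow p G) (hS₀ : IsMulCommutative (S₀ : Subgroup G)) :
    ∃ (A : Subgroup G) (S : Sylow p G), BG8Ctx M E A p S := by
  obtain ⟨A, hAE, hAe, hA2⟩ := bg7_exists_elemAb_compl M E hE p hp
  have hAp : IsPGroup p A := IsPGroup.of_card hA2
  obtain ⟨S, hAS⟩ := hAp.exists_le_sylow
  refine ⟨A, S, ⟨hM, hE, hp, ⟨hAE, hAe, hA2⟩, ?_, hAS⟩⟩
  obtain ⟨g, hg⟩ := MulAction.exists_smul_eq G S₀ S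
  have key : ∀ z ∈ (S : Subgroup G), ∃ s ∈ (S₀ : Subgroup G), g * s * g⁻¹ = z := by
    intro z hz
    rw [← hg, Sylow.smul_def, Sylow.pointwise_smul_def] at hz
    obtain ⟨s, hs, rfl⟩ := (Subgroup.mem_smul_pointwise_iff_exists _ _ _).mp hz
    exact ⟨s, hs, by simp [MulAut.smul_def]⟩
  rw [isMulCommutative_iff] at hS₀
  intro x hx y hy
  obtain ⟨a, ha, rfl⟩ := key x hx
  obtain ⟨b, hb, rfl⟩ := key y hy
  have h1 : a * b = b * a := congrArg Subtype.val (hS₀ ⟨a, ha⟩ ⟨b, hb⟩)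
  calc g * a * g⁻¹ * (g * b * g⁻¹) = g * (a * b) * g⁻¹ := by group
    _ = g * (b * a) * g⁻¹ := by rw [h1]
    _ = g * b * g⁻¹ * (g * a * g⁻¹) := by group

/-- Glue: a `p`-element normalizing a Sylow `p`-subgroup lies in it. -/
theorem bg8_mem_sylow [Finite G] {E : Subgroup G} {p : ℕ} [Fact p.Prime] {S : Sylow p G}
    (hNS : E ≤ Subgroup.normalizer ((S : Subgroup G) : Set G)) (x : G) (hx : x ∈ E) (k : ℕ)
    (hxk : x ^ p ^ k = 1) : x ∈ (S : Subgroup G) := by
  have hxp : IsPGroup p (Subgroup.zpowers x) := by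
    obtain ⟨j, -, hj⟩ := (Nat.dvd_prime_pow Fact.out).mp (orderOf_dvd_of_pow_eq_one hxk)
    exact IsPGroup.of_card (n := j) (by rw [Nat.card_zpowers, hj])
  have hQ : IsPGroup p (Subgroup.zpowers x ⊔ (S : Subgroup G) : Subgroup G) :=
    IsPGroup.to_sup_of_normal_right' hxp S.isPGroup' (by rw [Subgroup.zpowers_le]; exact hNS hx)
  have h1 := S.is_maximal' hQ le_sup_right
  rw [← h1]
  exact Subgroup.mem_sup_left (Subgroup.mem_zpowers x)

end Cfsg.Agent.Lib.helper97
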