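import Mathlib
import Cfsg.Agent.Lib.helper60.BGTau2Ab
import Cfsg.Agent.Lib.helper97.BGEight2

/-!
# S1421, part 3: the Sylow `p`-subgroup is normal in `N_G(A)` (abelian case)

`bg8_sylow_normal_of_tau2` : piece PA1 of the S1421 plan, deduced from helper60's
`BGTau2Ab.tau2_sylow_normal` (B-G 12.8(a)).
-/

set_option autoImplicit false

namespace Cfsg.Agent.Lib.helper97

open Cfsg

variable {G : Type*} [Group G]

/-- PA1 (backup version): in the abelian Sylow context, `S ≤ E` and `N_G(A) ≤ N_G(S)`. -/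
theorem bg8_sylow_normal_of_tau2 [Finite G] (hG : IsMinSimpleOddOrder G) {M E A : Subgroup G}
    {p : ℕ} [Fact p.Prime] {S : Sylow p G} (c : BG8Ctx M E A p S) :
    (S : Subgroup G) ≤ E ∧
      Subgroup.normalizer (A : Set G) ≤ Subgroup.normalizer ((S : Subgroup G) : Set G) := by
  have hSab : IsMulCommutative (S : Subgroup G) := by
    rw [isMulCommutative_iff]
    intro x y
    exact Subtype.ext (c.hSab x x.2 y y.2)
  obtain ⟨hSE, hES⟩ := Cfsg.Agent.Lib.helper60.BGTau2Ab.tau2_sylow_normal hG (bg8_h17 hG)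
    (bg8_h18 hG) M c.hM E c.hE p c.hp A c.hA S c.hAS hSab
  refine ⟨hSE, ?_⟩
  obtain ⟨-, ⟨hCA, hMN, -⟩, -⟩ := bg8_h18 hG M c.hM E c.hE p c.hp A c.hA
  have hCE : Subgroup.centralizer (A : Set G) ≤ E := hMN ▸ hCA
  have hSC : (S : Subgroup G) ≤ Subgroup.centralizer (A : Set G) := by
    intro s hs
    rw [Subgroup.mem_centralizer_iff]
    intro a ha
    exact c.hSab a (c.hAS ha) s hs
  have key : ∀ n ∈ Subgroup.normalizer (A : Set G), ∀ s ∈ (S : Subgroup G),
      n * s * n⁻¹ ∈ (S : Subgroup G) := by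
    intro n hn s hs
    have h1 : n * s * n⁻¹ ∈ Subgroup.centralizer (A : Set G) :=
      bg7_conj_mem_centralizer hn (hSC hs)
    obtain ⟨k, hk⟩ := S.isPGroup' ⟨s, hs⟩
    have hk' : s ^ p ^ k = 1 := by
      have := congrArg Subtype.val hk
      simpa using this
    refine bg8_mem_sylow hES (n * s * n⁻¹) (hCE h1) k ?_
    rw [conj_pow, hk', mul_one, mul_inv_cancel]
  intro n hn
  rw [Subgroup.mem_normalizer_iff]
  intro s
  constructor
  · exact key n hn s
  · intro h
    have h2 := key n⁻¹ (Subgroup.inv_mem _ hn) _ h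
    have h3 : n⁻¹ * (n * s * n⁻¹) * n⁻¹⁻¹ = s := by group
    rw [h3] at h2
    exact h2

end Cfsg.Agent.Lib.helper97
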