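import Mathlib
import Cfsg.Agent.Lib.helper2.BFDefs
import Cfsg.Agent.Lib.helper46.D1GS

/-!
# S4503, piece B6a (`norm_TI`)

TI counting for a Sylow `p`-subgroup `P` of order `p`: the `p`-singular elements of `C = C_G(P)`
are the products `x ^ u * k` (`u` a unit mod `p`, `k` a `p`-regular element of `C`), uniquely;
every `p`-singular element `g` of `G` has exactly `|N_G(P)|` elements `t` with `t⁻¹ g t ∈ C`.
-/

set_option autoImplicit false

open Cfsg Cfsg.Agent.Lib.helper20.D1E
open scoped ComplexConjugate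

namespace Cfsg.Agent.Lib.helper2.BF

variable {G : Type*} [Group G] [Fintype G]

/-- `P` (of order `p`) lies in its centralizer. -/
theorem helper97_P_le_centralizer (p : ℕ) [Fact p.Prime] (P : Sylow p G) (hP : Nat.card P = p)
    (x : G) (hx : x ∈ (P : Subgroup G)) (hx1 : x ≠ 1) :
    (P : Subgroup G) ≤ Subgroup.centralizer ((P : Subgroup G) : Set G) := by
  obtain ⟨hPx, -⟩ := Cfsg.Agent.Lib.helper46.d1gs_eq_zpowers p (P : Subgroup G) hP x hx hx1
  intro y hy
  rw [Subgroup.mem_centralizer_iff]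
  intro z hz
  have hz' : z ∈ Subgroup.zpowers x := by
    have : z ∈ (P : Subgroup G) := hz
    rw [hPx] at this
    exact this
  rw [hPx] at hy
  obtain ⟨i, rfl⟩ := Subgroup.mem_zpowers_iff.mp hy
  obtain ⟨j, rfl⟩ := Subgroup.mem_zpowers_iff.mp hz'
  rw [← zpow_add, ← zpow_add, add_comm]

/-- The parametrisation of the `p`-singular elements of `C_G(P)`. -/
theorem helper97_sum_param (p : ℕ) [Fact p.Prime] (P : Sylow p G) (hP : Nat.card P = p)
    (x : G) (hx : x ∈ (P : Subgroup G)) (hx1 : x ≠ 1) (F : G → ℂ)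
    [DecidablePred (fun d : G =>
      d ∈ Subgroup.centralizer ((P : Subgroup G) : Set G) ∧ p ∣ orderOf d)] :
    ∑ u : (ZMod p)ˣ, ∑ k : G, Set.indicator
        {k : G | k ∈ Subgroup.centralizer ((P : Subgroup G) : Set G) ∧ ¬ p ∣ orderOf k}
        (fun k => F (x ^ (u : ZMod p).val * k)) k =
      ∑ d ∈ Finset.univ.filter (fun d : G =>
        d ∈ Subgroup.centralizer ((P : Subgroup G) : Set G) ∧ p ∣ orderOf d), F d := by
  classical
  have hp : p.Prime := Fact.out
  obtain ⟨hPx, hxo⟩ := Cfsg.Agent.Lib.helper46.d1gs_eq_zpowers p (P : Subgroup G) hP x hx hx1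
  obtain ⟨K, hK, hdec, -⟩ := Cfsg.Agent.Lib.helper46.d1_exists_K p P hP
  have hPC := helper97_P_le_centralizer p P hP x hx hx1
  -- elements of `P ∩ K` are trivial
  have hPK : ∀ w : G, w ∈ (P : Subgroup G) → w ∈ K → w = 1 := by
    intro w hwP hwK
    have h1 : w ^ p = 1 := by
      have h2 : (⟨w, hwP⟩ : ↥(P : Subgroup G)) ^ Nat.card ↥(P : Subgroup G) = 1 :=
        pow_card_eq_one'
      rw [hP] at h2
      exact congrArg Subtype.val h2
    rcases (Nat.dvd_prime hp).mp (orderOf_dvd_of_pow_eq_one h1) with h | h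
    · exact orderOf_eq_one_iff.mp h
    · exact absurd (h ▸ dvd_refl _) ((hK w).mp hwK).2
  have e1 : ∀ u : (ZMod p)ˣ, ∑ k : G, Set.indicator
        {k : G | k ∈ Subgroup.centralizer ((P : Subgroup G) : Set G) ∧ ¬ p ∣ orderOf k}
        (fun k => F (x ^ (u : ZMod p).val * k)) k =
      ∑ k ∈ Finset.univ.filter (fun k : G => k ∈ K), F (x ^ (u : ZMod p).val * k) := by
    intro u
    rw [Finset.sum_filter]
    apply Finset.sum_congr rfl
    intro k _
    by_cases h : k ∈ K
    · rw [if_pos h, Set.indicator_of_mem (show k ∈ {k : G | k ∈ Subgroup.centralizer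
        ((P : Subgroup G) : Set G) ∧ ¬ p ∣ orderOf k} from (hK k).mp h)]
    · rw [if_neg h, Set.indicator_of_notMem (show k ∉ {k : G | k ∈ Subgroup.centralizer
        ((P : Subgroup G) : Set G) ∧ ¬ p ∣ orderOf k} from fun h' => h ((hK k).mpr h'))]
  rw [Finset.sum_congr rfl (fun u _ => e1 u), ← Finset.sum_product']
  have hval : ∀ u : (ZMod p)ˣ, ¬ p ∣ (u : ZMod p).val := by
    intro u
    apply Nat.not_dvd_of_pos_of_lt
    · rw [Nat.pos_iff_ne_zero]
      intro h
      exact u.ne_zero ((ZMod.val_eq_zero _).mp h)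
    · exact ZMod.val_lt _
  apply Finset.sum_bij (fun (uk : (ZMod p)ˣ × G) _ => x ^ (uk.1 : ZMod p).val * uk.2)
  · -- maps into the `p`-singular elements of `C`
    rintro ⟨u, k⟩ huk
    have hk : k ∈ K := by simpa using huk
    obtain ⟨hkC, hkp⟩ := (hK k).mp hk
    rw [Finset.mem_filter]
    refine ⟨Finset.mem_univ _, Subgroup.mul_mem _ (hPC (Subgroup.pow_mem _ hx _)) hkC, ?_⟩
    have hcomm : Commute (x ^ (u : ZMod p).val) k :=
      (Subgroup.mem_centralizer_iff.mp hkC _ (Subgroup.pow_mem _ hx _))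
    have ho : orderOf (x ^ (u : ZMod p).val) = p := by
      rw [Nat.Coprime.orderOf_pow, hxo]
      rw [hxo]
      exact (Nat.Prime.coprime_iff_not_dvd hp).mpr (hval u)
    show p ∣ orderOf (x ^ (u : ZMod p).val * k)
    rw [hcomm.orderOf_mul_eq_mul_orderOf_of_coprime, ho]
    · exact dvd_mul_right _ _
    · rw [ho]
      exact (Nat.Prime.coprime_iff_not_dvd hp).mpr hkp
  · -- injective
    rintro ⟨u, k⟩ huk ⟨u', k'⟩ huk' heq
    have hk : k ∈ K := by simpa using huk
    have hk' : k' ∈ K := by simpa using huk'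
    have heq' : x ^ (u : ZMod p).val * k = x ^ (u' : ZMod p).val * k' := heq
    have hw : (x ^ (u' : ZMod p).val)⁻¹ * x ^ (u : ZMod p).val = k' * k⁻¹ := by
      rw [eq_mul_inv_iff_mul_eq, mul_assoc, heq', inv_mul_cancel_left]
    have hw1 : (x ^ (u' : ZMod p).val)⁻¹ * x ^ (u : ZMod p).val = 1 := by
      apply hPK
      · exact Subgroup.mul_mem _ (Subgroup.inv_mem _ (Subgroup.pow_mem _ hx _))
          (Subgroup.pow_mem _ hx _)
      · rw [hw]
        exact Subgroup.mul_mem _ hk' (Subgroup.inv_mem _ hk)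
    have hxx : x ^ (u : ZMod p).val = x ^ (u' : ZMod p).val := by
      rw [inv_mul_eq_one] at hw1
      exact hw1.symm
    have hmod := pow_eq_pow_iff_modEq.mp hxx
    rw [hxo] at hmod
    have hvv : (u : ZMod p).val = (u' : ZMod p).val := by
      have h1 := Nat.ModEq.eq_of_lt_of_lt hmod (ZMod.val_lt _) (ZMod.val_lt _)
      exact h1
    have huu : u = u' := Units.ext (ZMod.val_injective p hvv)
    subst huu
    have hkk : k = k' := mul_left_cancel heq'
    rw [hkk]
  · -- surjective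
    intro d hd
    rw [Finset.mem_filter] at hd
    obtain ⟨-, hdC, hdp⟩ := hd
    obtain ⟨y, hy, k, hk, rfl⟩ := hdec d hdC
    have hy1 : y ≠ 1 := by
      rintro rfl
      rw [one_mul] at hdp
      exact ((hK k).mp hk).2 hdp
    have hy' : y ∈ Subgroup.zpowers x := by rw [← hPx]; exact hy
    obtain ⟨i, rfl⟩ := Subgroup.mem_zpowers_iff.mp hy'
    have hi0 : ((i : ℤ) : ZMod p) ≠ 0 := by
      intro h
      rw [ZMod.intCast_zmod_eq_zero_iff_dvd] at h
      apply hy1
      rw [← orderOf_dvd_iff_zpow_eq_one, hxo]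
      exact h
    have hxi : x ^ (((i : ℤ) : ZMod p)).val = x ^ i := by
      rw [← zpow_natCast, zpow_eq_zpow_iff_modEq, hxo, ← ZMod.intCast_eq_intCast_iff,
        Int.cast_natCast, ZMod.natCast_zmod_val]
    refine ⟨(Units.mk0 ((i : ℤ) : ZMod p) hi0, k), ?_, ?_⟩
    · simpa using hk
    · show x ^ ((Units.mk0 ((i : ℤ) : ZMod p) hi0 : (ZMod p)ˣ) : ZMod p).val * k = x ^ i * k
      rw [Units.val_mk0, hxi]
  · intro uk _
    rfl

/-- For a `p`-singular element `d` of `C_G(P)`: `a⁻¹ d a ∈ C_G(P)` iff `a ∈ N_G(P)`. -/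
theorem helper97_conj_mem_iff (p : ℕ) [Fact p.Prime] (P : Sylow p G) (hP : Nat.card P = p)
    (d : G) (hd : d ∈ Subgroup.centralizer ((P : Subgroup G) : Set G)) (hdp : p ∣ orderOf d)
    (a : G) :
    a⁻¹ * d * a ∈ Subgroup.centralizer ((P : Subgroup G) : Set G) ↔
      a ∈ Subgroup.normalizer ((P : Subgroup G) : Set G) := by
  constructor
  · intro h
    by_contra hn
    have hn' : a⁻¹ ∉ Subgroup.normalizer ((P : Subgroup G) : Set G) := fun h' =>
      hn (by simpa using Subgroup.inv_mem _ h')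
    exact Cfsg.Agent.Lib.helper46.d1_conj_inter_pregular p P hP a⁻¹ hn' d hd
      (by simpa using h) hdp
  · intro ha
    rw [Subgroup.mem_centralizer_iff]
    intro y hy
    have h1 : a * y * a⁻¹ ∈ (P : Subgroup G) := (Subgroup.mem_normalizer_iff.mp ha y).mp hy
    have h2 := Subgroup.mem_centralizer_iff.mp hd _ h1
    calc y * (a⁻¹ * d * a) = a⁻¹ * ((a * y * a⁻¹) * d) * a := by group
      _ = a⁻¹ * (d * (a * y * a⁻¹)) * a := by rw [h2]
      _ = a⁻¹ * d * a * y := by group

/-- A `p`-singular element has exactly `|N_G(P)|` conjugating elements into `C_G(P)`. -/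
theorem helper97_count (p : ℕ) [Fact p.Prime] (P : Sylow p G) (hP : Nat.card P = p)
    (g : G) (hg : p ∣ orderOf g)
    [DecidablePred (fun t : G =>
      t⁻¹ * g * t ∈ Subgroup.centralizer ((P : Subgroup G) : Set G) ∧
        p ∣ orderOf (t⁻¹ * g * t))] :
    (Finset.univ.filter (fun t : G =>
        t⁻¹ * g * t ∈ Subgroup.centralizer ((P : Subgroup G) : Set G) ∧
          p ∣ orderOf (t⁻¹ * g * t))).card =
      Nat.card (Subgroup.normalizer ((P : Subgroup G) : Set G)) := by
  classical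
  obtain ⟨x, hx, hx1, -, -⟩ := Cfsg.Agent.Lib.helper46.d1_sylow_gen p P hP
  have hPC := helper97_P_le_centralizer p P hP x hx hx1
  obtain ⟨h, u, -, k, hk, -, hconj⟩ :=
    Cfsg.Agent.Lib.helper46.d1_psingular_conj p P hP x hx hx1 g hg
  have hord : ∀ a : G, orderOf (a * g * a⁻¹) = orderOf g := fun a =>
    orderOf_injective (MulAut.conj a).toMonoidHom (MulAut.conj a).injective g
  have hd0 : h * g * h⁻¹ ∈ Subgroup.centralizer ((P : Subgroup G) : Set G) := by
    rw [hconj]
    exact Subgroup.mul_mem _ (hPC (Subgroup.pow_mem _ hx u)) hk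
  have hd0p : p ∣ orderOf (h * g * h⁻¹) := by rw [hord]; exact hg
  have key : ∀ t : G, (t⁻¹ * g * t ∈ Subgroup.centralizer ((P : Subgroup G) : Set G) ∧
      p ∣ orderOf (t⁻¹ * g * t)) ↔ h * t ∈ Subgroup.normalizer ((P : Subgroup G) : Set G) := by
    intro t
    have h1 : t⁻¹ * g * t = (h * t)⁻¹ * (h * g * h⁻¹) * (h * t) := by group
    have h2 : orderOf (t⁻¹ * g * t) = orderOf g := by
      have := hord t⁻¹
      rwa [inv_inv] at this
    rw [h2, h1, helper97_conj_mem_iff p P hP _ hd0 hd0p]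
    exact ⟨fun h' => h'.1, fun h' => ⟨h', hg⟩⟩
  have hcard : Nat.card (Subgroup.normalizer ((P : Subgroup G) : Set G)) =
      (Finset.univ.filter (fun n : G =>
        n ∈ Subgroup.normalizer ((P : Subgroup G) : Set G))).card :=
    Nat.subtype_card _ (fun n => by simp)
  rw [hcard]
  apply Finset.card_bij (fun t _ => h * t)
  · intro t ht
    rw [Finset.mem_filter] at ht ⊢
    exact ⟨Finset.mem_univ _, (key t).mp ht.2⟩
  · intro a _ b _ hab
    exact mul_left_cancel hab
  · intro n hn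
    rw [Finset.mem_filter] at hn
    refine ⟨h⁻¹ * n, ?_, mul_inv_cancel_left h n⟩
    rw [Finset.mem_filter]
    refine ⟨Finset.mem_univ _, (key _).mpr ?_⟩
    rw [mul_inv_cancel_left]
    exact hn.2

/-- B6a (TI counting). -/
theorem norm_TI (p : ℕ) [Fact p.Prime] (P : Sylow p G) (hP : Nat.card P = p)
    (x : G) (hx : x ∈ (P : Subgroup G)) (hx1 : x ≠ 1) (F : G → ℂ)
    (hF : IsClassFunction G F) (hreg : ∀ g, ¬ p ∣ orderOf g → F g = 0) :
    (Nat.card (Subgroup.normalizer ((P : Subgroup G) : Set G)) : ℂ) * ∑ g : G, F g =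
      (Nat.card G : ℂ) * ∑ u : (ZMod p)ˣ, ∑ k : G, Set.indicator
        {k : G | k ∈ Subgroup.centralizer ((P : Subgroup G) : Set G) ∧ ¬ p ∣ orderOf k}
        (fun k => F (x ^ (u : ZMod p).val * k)) k := by
  classical
  rw [helper97_sum_param p P hP x hx hx1 F]
  have hsum1 : ∑ t : G, ∑ d ∈ Finset.univ.filter (fun d : G =>
        d ∈ Subgroup.centralizer ((P : Subgroup G) : Set G) ∧ p ∣ orderOf d), F (t * d * t⁻¹) =
      (Nat.card G : ℂ) * ∑ d ∈ Finset.univ.filter (fun d : G =>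
        d ∈ Subgroup.centralizer ((P : Subgroup G) : Set G) ∧ p ∣ orderOf d), F d := by
    have h1 : ∀ t : G, ∑ d ∈ Finset.univ.filter (fun d : G =>
        d ∈ Subgroup.centralizer ((P : Subgroup G) : Set G) ∧ p ∣ orderOf d), F (t * d * t⁻¹) =
        ∑ d ∈ Finset.univ.filter (fun d : G =>
        d ∈ Subgroup.centralizer ((P : Subgroup G) : Set G) ∧ p ∣ orderOf d), F d :=
      fun t => Finset.sum_congr rfl (fun d _ => hF d t)
    rw [Finset.sum_congr rfl (fun t _ => h1 t), Finset.sum_const, Finset.card_univ,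
      nsmul_eq_mul, Nat.card_eq_fintype_card]
  have hsum2 : ∑ t : G, ∑ d ∈ Finset.univ.filter (fun d : G =>
        d ∈ Subgroup.centralizer ((P : Subgroup G) : Set G) ∧ p ∣ orderOf d), F (t * d * t⁻¹) =
      (Nat.card (Subgroup.normalizer ((P : Subgroup G) : Set G)) : ℂ) * ∑ g : G, F g := by
    have e : ∀ t : G, ∑ d ∈ Finset.univ.filter (fun d : G =>
        d ∈ Subgroup.centralizer ((P : Subgroup G) : Set G) ∧ p ∣ orderOf d), F (t * d * t⁻¹) =
        ∑ g : G, if (t⁻¹ * g * t ∈ Subgroup.centralizer ((P : Subgroup G) : Set G) ∧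
          p ∣ orderOf (t⁻¹ * g * t)) then F g else 0 := by
      intro t
      rw [Finset.sum_filter]
      apply Fintype.sum_equiv (MulAut.conj t).toEquiv
      intro d
      have h1 : t⁻¹ * ((MulAut.conj t).toEquiv d) * t = d := by
        show t⁻¹ * (t * d * t⁻¹) * t = d
        group
      rw [h1]
      rfl
    rw [Finset.sum_congr rfl (fun t _ => e t), Finset.sum_comm, Finset.mul_sum]
    apply Finset.sum_congr rfl
    intro g _
    rw [← Finset.sum_filter, Finset.sum_const, nsmul_eq_mul]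
    by_cases hg : p ∣ orderOf g
    · rw [helper97_count p P hP g hg]
    · rw [hreg g hg, mul_zero, mul_zero]
  rw [← hsum2, hsum1]

end Cfsg.Agent.Lib.helper2.BF
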