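import Mathlib
import Cfsg.Agent.Lib.helper2.BGDefs
import Cfsg.Agent.Lib.helper20.D1EFinal
import Cfsg.Agent.Lib.helper4.CharDecomp
import Cfsg.Agent.Lib.helper81.Kernel
import Cfsg.Agent.Lib.helper81.CharOrtho

/-!
# S4504 piece I : Burnside's class multiplication constants are nonnegative

`∑_χ χ(a) χ(b) conj χ(g) / χ(1) = |G| · #{(u, v) ∈ a^G × b^G : u v = g} / (|a^G| |b^G|)`.
-/

set_option autoImplicit false

open Cfsg Cfsg.Agent.Lib.helper20.D1E Cfsg.Agent.Lib.helper2.BF
open scoped ComplexConjugate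

namespace Cfsg.Agent.Lib.helper2.BG

universe u

variable {G : Type*} [Group G] [Fintype G]

open Classical in
/-- I (Burnside: class multiplication constants are nonnegative). -/
theorem class_mult_nonneg (a b g : G) :
    ∃ r : ℝ, 0 ≤ r ∧ ∑ χ : IrrCharacter G,
      (χ : G → ℂ) a * (χ : G → ℂ) b * conj ((χ : G → ℂ) g) / (χ : G → ℂ) 1 = (r : ℂ) := by
  have hca := Cfsg.Agent.Lib.helper81.isConj_indicator_classFun a
  have hcb := Cfsg.Agent.Lib.helper81.isConj_indicator_classFun b
  have hF := Cfsg.Agent.Lib.helper81.conv_classFun hca hcb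
  have hexp := Cfsg.Agent.Lib.helper81.classFun_expansion hF g
  have h1 : ∀ χ : IrrCharacter G,
      (∑ v : G, Cfsg.Agent.Lib.helper81.conv (fun y : G => if IsConj a y then (1 : ℂ) else 0)
          (fun y : G => if IsConj b y then (1 : ℂ) else 0) v * (χ : G → ℂ) v) * (χ : G → ℂ) g⁻¹
        = (((Subgroup.centralizer ({a} : Set G)).index : ℂ) *
            ((Subgroup.centralizer ({b} : Set G)).index : ℂ)) *
          ((χ : G → ℂ) a * (χ : G → ℂ) b * conj ((χ : G → ℂ) g) / (χ : G → ℂ) 1) := by
    intro χ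
    rw [Cfsg.Agent.Lib.helper81.irr_sum_conv χ hca hcb, Cfsg.Agent.Lib.helper81.irr_inv]
    have ha := Cfsg.Agent.Lib.helper81.sum_isConj_classFun
      (Cfsg.Agent.Lib.helper81.irr_classFun χ) a
    have hb := Cfsg.Agent.Lib.helper81.sum_isConj_classFun
      (Cfsg.Agent.Lib.helper81.irr_classFun χ) b
    simp only [ite_mul, one_mul, zero_mul]
    rw [ha, hb]
    ring
  simp_rw [h1, ← Finset.mul_sum] at hexp
  have hia : ((Subgroup.centralizer ({a} : Set G)).index : ℂ) ≠ 0 := by
    have : (Subgroup.centralizer ({a} : Set G)).index ≠ 0 := Subgroup.index_ne_zero_of_finite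
    exact_mod_cast this
  have hib : ((Subgroup.centralizer ({b} : Set G)).index : ℂ) ≠ 0 := by
    have : (Subgroup.centralizer ({b} : Set G)).index ≠ 0 := Subgroup.index_ne_zero_of_finite
    exact_mod_cast this
  refine ⟨(Nat.card G : ℝ) * (∑ y : G, (if IsConj a y then (1 : ℝ) else 0) *
      (if IsConj b (y⁻¹ * g) then (1 : ℝ) else 0)) /
      (((Subgroup.centralizer ({a} : Set G)).index : ℝ) *
        ((Subgroup.centralizer ({b} : Set G)).index : ℝ)), ?_, ?_⟩
  · apply div_nonneg
    · apply mul_nonneg (Nat.cast_nonneg _)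
      apply Finset.sum_nonneg
      intro y _
      apply mul_nonneg <;> split_ifs <;> norm_num
    · exact mul_nonneg (Nat.cast_nonneg _) (Nat.cast_nonneg _)
  · have hconv : Cfsg.Agent.Lib.helper81.conv (fun y : G => if IsConj a y then (1 : ℂ) else 0)
        (fun y : G => if IsConj b y then (1 : ℂ) else 0) g
        = ((∑ y : G, (if IsConj a y then (1 : ℝ) else 0) *
            (if IsConj b (y⁻¹ * g) then (1 : ℝ) else 0) : ℝ) : ℂ) := by
      unfold Cfsg.Agent.Lib.helper81.conv
      push_cast
      apply Finset.sum_congr rfl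
      intro y _
      split_ifs <;> simp
    rw [hconv] at hexp
    push_cast
    rw [eq_div_iff (mul_ne_zero hia hib)]
    push_cast at hexp
    rw [mul_comm]
    exact hexp.symm

end Cfsg.Agent.Lib.helper2.BG
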