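import Mathlib
import Cfsg.Prelude.Def_Characters
import Cfsg.Prelude.Def_Blocks
import Cfsg.Prelude.Def_Solvable
import Cfsg.Prelude.Def_CaseTheorems
import Cfsg.Agent.Lib.helper84.BrDefs
import Cfsg.Agent.Lib.helper14.BR0Defs
import Cfsg.Agent.Lib.helper20.BrC0
import Cfsg.Agent.Lib.helper84.BlockOrth

/-!
# S4700 (Brauer–Reynolds) piece D0 : the principal block data for a Sylow `p`-subgroup of order
`p` with arbitrary centraliser (interface to S4441), normalised with `1 ∈ X`.

Adapted from `helper20.Br.exists_data` (S0996 piece C0); the new field `orth_Y` comes from block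
orthogonality (`helper84.block_orthogonality`) for the pair `(1, x)`, `x ∈ P ∖ 1`.
-/

set_option autoImplicit false

namespace Cfsg.Agent.Lib.helper97.BR

open Cfsg Cfsg.Agent.Lib.helper81 Cfsg.Agent.Lib.helper84.Br Cfsg.Agent.Lib.helper14.BR
open scoped ComplexConjugate

universe u

variable {G : Type u} [Group G] [Fintype G] {p : ℕ} [Fact p.Prime] {P : Sylow p G} {e n : ℕ}

/-- `∑_{θ ∈ Y} θ(x) = -ε` for `x ∈ P ∖ 1`, from block orthogonality for `(1, x)` and the relation
`ε θ(1) = ∑_{χ ∈ X} δ_χ χ(1)`. -/
theorem h97d0_orth (M : Ideal AlgInt) (hM : IsPModular p M) (hP : Nat.card P = p)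
    (X Y : Finset (IrrCharacter G))
    (hB : principalBlock M G = ((X : Set (IrrCharacter G)) ∪ (Y : Set (IrrCharacter G))))
    (hdisj : Disjoint X Y) (hYne : Y.Nonempty)
    (εX : IrrCharacter G → ℤ) (ε : ℤ)
    (hval : ∀ χ ∈ X, ∀ x : G, x ∈ (P : Subgroup G) → x ≠ 1 → (χ : G → ℂ) x = (εX χ : ℂ))
    (hagree : ∀ θ ∈ Y, ∀ θ' ∈ Y, ∀ g : G, ¬ p ∣ orderOf g → (θ : G → ℂ) g = (θ' : G → ℂ) g)
    (hrel : ∀ θ ∈ Y, ∀ g : G, ¬ p ∣ orderOf g →
      (ε : ℂ) * (θ : G → ℂ) g = ∑ χ ∈ X, (εX χ : ℂ) * (χ : G → ℂ) g)
    (x : G) (hx : x ∈ (P : Subgroup G)) (hx1 : x ≠ 1) :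
    ∑ θ ∈ Y, (θ : G → ℂ) x = -(ε : ℂ) := by
  classical
  have hp : p.Prime := Fact.out
  have h1reg : ¬ p ∣ orderOf (1 : G) := by
    rw [orderOf_one]; exact fun hd => hp.one_lt.ne' (Nat.dvd_one.mp hd)
  have hxo : p ∣ orderOf x := by
    have h1 : orderOf x ∣ p := by
      have := Subgroup.orderOf_dvd_natCard (P : Subgroup G) hx
      rwa [hP] at this
    rcases (Nat.dvd_prime hp).mp h1 with h | h
    · exact absurd (orderOf_eq_one_iff.mp h) hx1
    · rw [h]
  have horth := Cfsg.Agent.Lib.helper84.block_orthogonality hM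
    (isPBlock_principalBlock (M := M) (G := G)) 1 x h1reg hxo
  have hsplit : ∑ χ : IrrCharacter G,
      (if χ ∈ principalBlock M G then (χ : G → ℂ) 1 * conj ((χ : G → ℂ) x) else 0)
      = ∑ χ ∈ X, (χ : G → ℂ) 1 * conj ((χ : G → ℂ) x) +
        ∑ θ ∈ Y, (θ : G → ℂ) 1 * conj ((θ : G → ℂ) x) := by
    rw [← Finset.sum_union hdisj, ← Finset.sum_filter]
    apply Finset.sum_congr _ (fun _ _ => rfl)
    ext χ
    simp only [Finset.mem_filter, Finset.mem_univ, true_and, Finset.mem_union, hB,
      Set.mem_union, Finset.mem_coe]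
  rw [hsplit] at horth
  obtain ⟨θ0, hθ0⟩ := hYne
  have hX : ∑ χ ∈ X, (χ : G → ℂ) 1 * conj ((χ : G → ℂ) x) = (ε : ℂ) * (θ0 : G → ℂ) 1 := by
    rw [hrel θ0 hθ0 1 h1reg]
    apply Finset.sum_congr rfl
    intro χ hχ
    rw [hval χ hχ x hx hx1, map_intCast]
    ring
  have hY : ∑ θ ∈ Y, (θ : G → ℂ) 1 * conj ((θ : G → ℂ) x) =
      (θ0 : G → ℂ) 1 * conj (∑ θ ∈ Y, (θ : G → ℂ) x) := by
    rw [map_sum, Finset.mul_sum]
    apply Finset.sum_congr rfl
    intro θ hθ
    rw [hagree θ hθ θ0 hθ0 1 h1reg]
  rw [hX, hY] at horth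
  have hy0 : (θ0 : G → ℂ) 1 ≠ 0 := irr_one_ne_zero θ0
  have h3 : conj (∑ θ ∈ Y, (θ : G → ℂ) x) = -(ε : ℂ) := by
    have h5 : (θ0 : G → ℂ) 1 * ((ε : ℂ) + conj (∑ θ ∈ Y, (θ : G → ℂ) x)) = 0 := by
      linear_combination horth
    rcases mul_eq_zero.mp h5 with h | h
    · exact absurd h hy0
    · linear_combination h
  have h4 := congrArg conj h3
  rw [Complex.conj_conj] at h4
  rw [h4, map_neg, map_intCast]

/-- D0 (INTERFACE to S4441, general centraliser). -/
theorem exists_data0 (hperf : commutator G = ⊤) (hp2 : p ≠ 2) (hP : Nat.card P = p)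
    (he : (Subgroup.centralizer ((P : Subgroup G) : Set G)).relIndex
        (Subgroup.normalizer ((P : Subgroup G) : Set G)) = e)
    (he2 : 2 ≤ e) (hep : e ∣ p - 1) : Nonempty (Data0 G p P e) := by
  classical
  have hp : p.Prime := Fact.out
  obtain ⟨M, hM⟩ := Cfsg.Agent.Lib.helper76.exists_isPModular p hp
  have hMprime : M.IsPrime := hM.2.1.isPrime
  obtain ⟨X, Y, hB, hdisj, hcX, hcY, εX, ε, hX, hε, hdY, hagree, hrelY⟩ :=
    Cfsg.Agent.S4441.result p M hM hp2 P hP e he
  have hXfin : X.Finite := Set.toFinite X
  have hYfin : Y.Finite := Set.toFinite Y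
  have hcXF : hXfin.toFinset.card = e := by
    rw [← Set.ncard_eq_toFinset_card X hXfin, ← Nat.card_coe_set_eq]; exact hcX
  have hcYF : hYfin.toFinset.card = (p - 1) / e := by
    rw [← Set.ncard_eq_toFinset_card Y hYfin, ← Nat.card_coe_set_eq]; exact hcY
  have hcYe : hYfin.toFinset.card * e = p - 1 := by
    rw [hcYF]; exact Nat.div_mul_cancel hep
  have hvan : Subgroup.centralizer ((P : Subgroup G) : Set G) = (P : Subgroup G) →
      ∀ ψ : IrrCharacter G, ψ ∉ X → ψ ∉ Y → ∀ x : G, x ∈ (P : Subgroup G) → x ≠ 1 →
      (ψ : G → ℂ) x = 0 := by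
    intro hC ψ h1 h2 x hx hx1
    apply Cfsg.Agent.Lib.helper20.Br.helper20_vanish M hM hP hC ψ _ x hx hx1
    rw [hB]
    exact fun h => h.elim h1 h2
  have hreg1 : ¬ p ∣ orderOf (1 : G) := by
    rw [orderOf_one]; exact fun hd => hp.one_lt.ne' (Nat.dvd_one.mp hd)
  have hvalX : ∀ χ ∈ X, ∀ x : G, x ∈ (P : Subgroup G) → x ≠ 1 →
      (χ : G → ℂ) x = (εX χ : ℂ) := by
    intro χ hχ x hx hx1
    have h := (hX χ hχ).2.2 x hx hx1 1 (Subgroup.one_mem _) hreg1
    rwa [mul_one] at h
  have hrelF : ∀ θ ∈ Y, ∀ g : G, ¬ p ∣ orderOf g →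
      (ε : ℂ) * (θ : G → ℂ) g = ∑ χ ∈ hXfin.toFinset, (εX χ : ℂ) * (χ : G → ℂ) g := by
    intro θ hθ g hg
    rw [hrelY θ hθ g hg, finsum_mem_eq_finite_toFinset_sum _ hXfin]
  have hdisjF : Disjoint hXfin.toFinset hYfin.toFinset := by
    rw [Finset.disjoint_left]
    intro a ha hb
    rw [Set.Finite.mem_toFinset] at ha hb
    exact Set.disjoint_left.mp hdisj ha hb
  have hp1 : 1 ≤ p := hp.pos
  have hp3 : 3 ≤ p := by
    have := hp.two_le
    omega
  have hYne : hYfin.toFinset.Nonempty := by
    rw [← Finset.card_pos]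
    by_contra h
    have h0 : hYfin.toFinset.card = 0 := by omega
    rw [h0, zero_mul] at hcYe
    omega
  have horthF : ∀ x : G, x ∈ (P : Subgroup G) → x ≠ 1 →
      ∑ θ ∈ hYfin.toFinset, (θ : G → ℂ) x = -(ε : ℂ) := by
    intro x hx hx1
    exact h97d0_orth M hM hP hXfin.toFinset hYfin.toFinset
      (by rw [Set.Finite.coe_toFinset, Set.Finite.coe_toFinset]; exact hB) hdisjF hYne εX ε
      (fun χ hχ => hvalX χ ((Set.Finite.mem_toFinset _).mp hχ))
      (fun θ hθ θ' hθ' =>
        hagree θ ((Set.Finite.mem_toFinset _).mp hθ) θ' ((Set.Finite.mem_toFinset _).mp hθ'))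
      (fun θ hθ => hrelF θ ((Set.Finite.mem_toFinset _).mp hθ)) x hx hx1
  have htriv : trivChar G ∈ X ∪ Y := by
    rw [← hB]; exact trivChar_mem_principalBlock hMprime
  rcases htriv with h1X | h1Y
  · -- the trivial character is non-exceptional: take the data as it is
    exact ⟨{ X := hXfin.toFinset
             Y := hYfin.toFinset
             δ := εX
             ε := ε
             disj := hdisjF
             cardX := hcXF
             cardY := hcYe
             one_mem := by rw [Set.Finite.mem_toFinset]; exact h1X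
             δ_sq := fun χ hχ => (hX χ ((Set.Finite.mem_toFinset _).mp hχ)).1
             deg_X := fun χ hχ => (hX χ ((Set.Finite.mem_toFinset _).mp hχ)).2.1
             val_X := fun χ hχ => (hX χ ((Set.Finite.mem_toFinset _).mp hχ)).2.2
             ε_sq := hε
             deg_Y := fun θ hθ => hdY θ ((Set.Finite.mem_toFinset _).mp hθ)
             agree := fun θ hθ θ' hθ' =>
               hagree θ ((Set.Finite.mem_toFinset _).mp hθ) θ' ((Set.Finite.mem_toFinset _).mp hθ')
             rel := fun θ hθ => hrelF θ ((Set.Finite.mem_toFinset _).mp hθ)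
             orth_Y := horthF
             vanish := fun hC ψ h1 h2 =>
               hvan hC ψ (fun h => h1 ((Set.Finite.mem_toFinset _).mpr h))
                 (fun h => h2 ((Set.Finite.mem_toFinset _).mpr h)) }⟩
  · -- the trivial character is exceptional: then `Y = {1}`, `e = p - 1`, `ε = -1`; swap
    have hYsing : ∀ θ ∈ Y, θ = trivChar G := by
      intro θ hθ
      apply Cfsg.Agent.Lib.helper20.Br.helper20_lin_perfect_val hperf
      rw [hagree θ hθ (trivChar G) h1Y 1 hreg1]
      rfl
    have h1X : trivChar G ∉ X := fun h => Set.disjoint_left.mp hdisj h h1Y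
    have hYF : hYfin.toFinset = {trivChar G} := by
      ext θ
      rw [Set.Finite.mem_toFinset, Finset.mem_singleton]
      exact ⟨hYsing θ, fun h => h ▸ h1Y⟩
    have he1 : e = p - 1 := by
      rw [hYF, Finset.card_singleton, one_mul] at hcYe
      exact hcYe
    have hdeg1 : charDegree ((trivChar G : IrrCharacter G) : G → ℂ) = 1 := by
      have h := irr_one_eq_charDegree (trivChar G)
      rw [trivChar_apply] at h
      exact_mod_cast h.symm
    have hεm : ε = -1 := by
      rcases hε with h | h
      · exfalso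
        have h2 := hdY (trivChar G) h1Y
        rw [hdeg1, h, he1, one_mul] at h2
        have h3 : (p : ℤ) ∣ ((p - 1 : ℕ) : ℤ) - ((1 : ℕ) : ℤ) := (Int.modEq_iff_dvd).mp h2
        have h4 : (p : ℤ) ∣ 2 := by
          have h5 : ((p - 1 : ℕ) : ℤ) = (p : ℤ) - 1 := by
            rw [Nat.cast_sub hp1]; simp
          rw [h5] at h3
          have h6 : (p : ℤ) ∣ (p : ℤ) - (((p : ℤ) - 1) - ((1 : ℕ) : ℤ)) :=
            dvd_sub dvd_rfl h3
          have h7 : (p : ℤ) - (((p : ℤ) - 1) - ((1 : ℕ) : ℤ)) = 2 := by push_cast; ring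
          rwa [h7] at h6
        have h8 : p ∣ 2 := by exact_mod_cast h4
        have := Nat.le_of_dvd (by norm_num) h8
        omega
      · exact h
    -- choose a member of `X`
    have hXne : hXfin.toFinset.Nonempty := by
      rw [← Finset.card_pos, hcXF]
      omega
    obtain ⟨χ0, hχ0F⟩ := hXne
    have hχ0 : χ0 ∈ X := (Set.Finite.mem_toFinset _).mp hχ0F
    have hχ0ne : χ0 ≠ trivChar G := fun h => h1X (h ▸ hχ0)
    have h1erase : trivChar G ∉ hXfin.toFinset.erase χ0 := by
      intro h
      exact h1X ((Set.Finite.mem_toFinset _).mp (Finset.mem_of_mem_erase h))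
    -- relation at `1 ∈ Y`
    have hrel1 : ∀ g : G, ¬ p ∣ orderOf g →
        ∑ χ ∈ hXfin.toFinset.erase χ0, (εX χ : ℂ) * (χ : G → ℂ) g =
          -1 - (εX χ0 : ℂ) * (χ0 : G → ℂ) g := by
      intro g hg
      have h := hrelF (trivChar G) h1Y g hg
      rw [trivChar_apply, hεm, ← Finset.add_sum_erase _ _ hχ0F] at h
      push_cast at h
      linear_combination -h
    exact ⟨{ X := insert (trivChar G) (hXfin.toFinset.erase χ0)
             Y := {χ0}
             δ := fun χ => if χ = trivChar G then 1 else εX χ
             ε := -εX χ0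
             disj := by
               rw [Finset.disjoint_singleton_right, Finset.mem_insert, not_or]
               exact ⟨hχ0ne, fun h => (Finset.mem_erase.mp h).1 rfl⟩
             cardX := by
               rw [Finset.card_insert_of_notMem h1erase, Finset.card_erase_of_mem hχ0F, hcXF]
               omega
             cardY := by rw [Finset.card_singleton, one_mul, he1]
             one_mem := Finset.mem_insert_self _ _
             δ_sq := by
               intro χ hχ
               by_cases h : χ = trivChar G
               · left; simp [h]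
               · rw [if_neg h]
                 rcases Finset.mem_insert.mp hχ with h' | h'
                 · exact absurd h' h
                 · exact (hX χ ((Set.Finite.mem_toFinset _).mp (Finset.mem_of_mem_erase h'))).1
             deg_X := by
               intro χ hχ
               by_cases h : χ = trivChar G
               · rw [if_pos h, h, hdeg1]; rfl
               · rw [if_neg h]
                 rcases Finset.mem_insert.mp hχ with h' | h'
                 · exact absurd h' h
                 · exact (hX χ ((Set.Finite.mem_toFinset _).mp (Finset.mem_of_mem_erase h'))).2.1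
             val_X := by
               intro χ hχ x hx hx1 y hy hyreg
               by_cases h : χ = trivChar G
               · rw [if_pos h, h, trivChar_apply]; simp
               · rw [if_neg h]
                 rcases Finset.mem_insert.mp hχ with h' | h'
                 · exact absurd h' h
                 · exact (hX χ ((Set.Finite.mem_toFinset _).mp
                     (Finset.mem_of_mem_erase h'))).2.2 x hx hx1 y hy hyreg
             ε_sq := by
               rcases (hX χ0 hχ0).1 with h | h
               · right; rw [h]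
               · left; rw [h]; norm_num
             deg_Y := by
               intro θ hθ
               rw [Finset.mem_singleton] at hθ
               rw [hθ, he1]
               have h := (hX χ0 hχ0).2.1
               have h5 : ((p - 1 : ℕ) : ℤ) = (p : ℤ) - 1 := by
                 rw [Nat.cast_sub hp1]; simp
               rw [h5]
               refine h.trans ?_
               rw [Int.modEq_iff_dvd]
               exact ⟨-εX χ0, by ring⟩
             agree := by
               intro θ hθ θ' hθ' g _
               rw [Finset.mem_singleton] at hθ hθ'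
               rw [hθ, hθ']
             rel := by
               intro θ hθ g hg
               rw [Finset.mem_singleton] at hθ
               rw [hθ, Finset.sum_insert h1erase, if_pos rfl, trivChar_apply]
               have hsum : ∑ χ ∈ hXfin.toFinset.erase χ0,
                   (((if χ = trivChar G then (1 : ℤ) else εX χ : ℤ) : ℂ)) * (χ : G → ℂ) g =
                   ∑ χ ∈ hXfin.toFinset.erase χ0, (εX χ : ℂ) * (χ : G → ℂ) g := by
                 apply Finset.sum_congr rfl
                 intro χ hχ
                 have : χ ≠ trivChar G := fun h => h1erase (h ▸ hχ)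
                 rw [if_neg this]
               rw [hsum, hrel1 g hg]
               push_cast
               ring
             orth_Y := by
               intro x hx hx1
               rw [Finset.sum_singleton, hvalX χ0 hχ0 x hx hx1]
               push_cast
               ring
             vanish := by
               intro hC ψ h1 h2 x hx hx1
               rw [Finset.mem_insert, not_or] at h1
               rw [Finset.mem_singleton] at h2
               apply hvan hC ψ _ _ x hx hx1
               · intro h
                 exact h1.2 (Finset.mem_erase.mpr ⟨h2, (Set.Finite.mem_toFinset _).mpr h⟩)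
               · intro h
                 exact h1.1 (hYsing ψ h) }⟩

end Cfsg.Agent.Lib.helper97.BR
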