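import Mathlib
import Cfsg.Prelude.Def_Characters
import Cfsg.Prelude.Def_Blocks
import Cfsg.Prelude.Def_Solvable
import Cfsg.Prelude.Def_CaseTheorems
import Cfsg.Agent.Lib.helper84.BrDefs
import Cfsg.Agent.Lib.helper14.BR0Defs
import Cfsg.Agent.Lib.helper81.CharOrtho

/-!
# S4700 (Brauer–Reynolds) piece DY : the degrees in `Y` divide `e (1 + n p) = |G : C_G(P)|`

For `x ∈ P ∖ 1` the class of `x` has `|G : C_G(P)| = e (1 + n p)` elements; the sum over `Y` of the
central characters at `x` is `-ε e (1 + n p) / y` (`y` the common degree of the characters of `Y`),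
an algebraic integer.
-/

set_option autoImplicit false

namespace Cfsg.Agent.Lib.helper97.BR

open Cfsg Cfsg.Agent.Lib.helper81 Cfsg.Agent.Lib.helper84.Br Cfsg.Agent.Lib.helper14.BR
open scoped ComplexConjugate

universe u

variable {G : Type u} [Group G] [Fintype G] {p : ℕ} [Fact p.Prime] {P : Sylow p G} {e n : ℕ}

/-- For `x ∈ P ∖ 1` (`|P| = p`), `C_G(x) = C_G(P)`. -/
theorem h97dy_centralizer_eq (hP : Nat.card P = p) (x : G) (hx : x ∈ (P : Subgroup G))
    (hx1 : x ≠ 1) :
    Subgroup.centralizer ({x} : Set G) = Subgroup.centralizer ((P : Subgroup G) : Set G) := by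
  have hp : p.Prime := Fact.out
  have hzP : Subgroup.zpowers x = (P : Subgroup G) := by
    have hle : Subgroup.zpowers x ≤ (P : Subgroup G) := by
      rw [Subgroup.zpowers_le]; exact hx
    apply Subgroup.eq_of_le_of_card_ge hle
    have h1 : Nat.card (Subgroup.zpowers x) ∣ Nat.card (P : Subgroup G) :=
      Subgroup.card_dvd_of_le hle
    rw [hP] at h1 ⊢
    rcases (Nat.dvd_prime hp).mp h1 with h | h
    · exfalso
      rw [Nat.card_zpowers, orderOf_eq_one_iff] at h
      exact hx1 h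
    · exact h.ge
  rw [← hzP]
  ext g
  rw [Subgroup.mem_centralizer_singleton_iff, Subgroup.mem_centralizer_iff]
  constructor
  · intro h y hy
    obtain ⟨k, rfl⟩ := Subgroup.mem_zpowers_iff.mp hy
    have hc : Commute g x := h
    exact ((hc.zpow_right k).eq).symm
  · intro h
    exact (h x (Subgroup.mem_zpowers x)).symm

/-- For `x ∈ P ∖ 1` (`|P| = p`), `|G : C_G(x)| = e (1 + n p)`. -/
theorem h97dy_index (hP : Nat.card P = p)
    (he : (Subgroup.centralizer ((P : Subgroup G) : Set G)).relIndex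
        (Subgroup.normalizer ((P : Subgroup G) : Set G)) = e)
    (hn : Nat.card (Sylow p G) = 1 + n * p) (x : G) (hx : x ∈ (P : Subgroup G))
    (hx1 : x ≠ 1) :
    (Subgroup.centralizer ({x} : Set G)).index = e * (1 + n * p) := by
  have h2 : (Subgroup.normalizer ((P : Subgroup G) : Set G)).index = 1 + n * p := by
    rw [← hn]
    exact (Sylow.card_eq_index_normalizer P).symm
  rw [h97dy_centralizer_eq hP x hx hx1,
    ← Subgroup.relIndex_mul_index (Subgroup.centralizer_le_normalizer ((P : Subgroup G) : Set G)),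
    he, h2]

/-- DY : the degrees in `Y` divide `e (1 + n p) = |G : C_G(P)|`. -/
theorem dvd_Y (D : Data0 G p P e) (hP : Nat.card P = p)
    (he : (Subgroup.centralizer ((P : Subgroup G) : Set G)).relIndex
        (Subgroup.normalizer ((P : Subgroup G) : Set G)) = e)
    (hn : Nat.card (Sylow p G) = 1 + n * p) (θ : IrrCharacter G) (hθ : θ ∈ D.Y) :
    charDegree (θ : G → ℂ) ∣ e * (1 + n * p) := by
  classical
  have hp : p.Prime := Fact.out
  obtain ⟨x, hx, hx1⟩ : ∃ x : G, x ∈ (P : Subgroup G) ∧ x ≠ 1 := by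
    have h1 : 1 < Nat.card (P : Subgroup G) := by rw [hP]; exact hp.one_lt
    have : Nontrivial (P : Subgroup G) := Finite.one_lt_card_iff_nontrivial.mp h1
    obtain ⟨y, hy⟩ := exists_ne (1 : (P : Subgroup G))
    exact ⟨y, y.2, fun h => hy (Subtype.ext h)⟩
  have hidx := h97dy_index hP he hn x hx hx1
  have h1reg : ¬ p ∣ orderOf (1 : G) := by
    rw [orderOf_one]
    exact fun hd => hp.one_lt.ne' (Nat.dvd_one.mp hd)
  have hdeg : ∀ θ' ∈ D.Y, (θ' : G → ℂ) 1 = (θ : G → ℂ) 1 :=
    fun θ' h' => D.agree θ' h' θ hθ 1 h1reg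
  have hint : IsIntegral ℤ (∑ θ' ∈ D.Y, centralChar (θ' : G → ℂ) x) :=
    IsIntegral.sum _ (fun θ' _ => irr_centralChar_isIntegral θ' x)
  have hsum : ∑ θ' ∈ D.Y, centralChar (θ' : G → ℂ) x =
      -(D.ε : ℂ) * ((e * (1 + n * p) : ℕ) : ℂ) / (charDegree (θ : G → ℂ) : ℂ) := by
    unfold centralChar
    rw [Finset.sum_congr rfl (fun θ' h' => by rw [hdeg θ' h'])]
    rw [← Finset.sum_div, ← Finset.mul_sum, D.orth_Y x hx hx1, hidx, irr_one_eq_charDegree]
    ring
  rw [hsum] at hint
  apply dvd_of_isIntegral_div (irr_charDegree_pos θ).ne'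
  rcases D.ε_sq with h | h
  · rw [h] at hint
    have h2 : ((e * (1 + n * p) : ℕ) : ℂ) / (charDegree (θ : G → ℂ) : ℂ) =
        -(-(((1 : ℤ)) : ℂ) * ((e * (1 + n * p) : ℕ) : ℂ) / (charDegree (θ : G → ℂ) : ℂ)) := by
      push_cast; ring
    rw [h2]
    exact hint.neg
  · rw [h] at hint
    have h2 : ((e * (1 + n * p) : ℕ) : ℂ) / (charDegree (θ : G → ℂ) : ℂ) =
        (-(((-1 : ℤ)) : ℂ) * ((e * (1 + n * p) : ℕ) : ℂ) / (charDegree (θ : G → ℂ) : ℂ)) := by
      push_cast; ring
    rw [h2]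
    exact hint

end Cfsg.Agent.Lib.helper97.BR
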