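import Mathlib
import Cfsg.Agent.Lib.helper2.BFDefs
import Cfsg.Agent.Lib.helper81.Kernel

/-!
# S4503, piece C3 (`ker_of_preg`)

If `p ^ 2 ∤ |G|`, `x` has order `p`, some element of `G` acts on `⟨x⟩` as a nontrivial power map
and the character `φ` has all `p`-regular elements in its kernel, then `x` lies in the kernel.
-/

set_option autoImplicit false

open Cfsg Cfsg.Agent.Lib.helper20.D1E
open scoped ComplexConjugate

namespace Cfsg.Agent.Lib.helper2.BF

variable {G : Type*} [Group G] [Fintype G]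

/-- C3. -/
theorem ker_of_preg (p : ℕ) [Fact p.Prime] (hsq : ¬ p ^ 2 ∣ Nat.card G) (x : G)
    (hxo : orderOf x = p) (H : Subgroup (ZMod p)ˣ)
    (hH : ∀ r : (ZMod p)ˣ, r ∈ H ↔ ∃ n : G, n * x * n⁻¹ = x ^ ((r : ZMod p).val))
    (he2 : 2 ≤ Nat.card H) (φ : G → ℂ) (hφ : IsCharacter G φ)
    (hker : ∀ y : G, ¬ p ∣ orderOf y → φ y = φ 1) : φ x = φ 1 := by
  classical
  have hp : p.Prime := Fact.out
  have hxp : x ^ p = 1 := by rw [← hxo]; exact pow_orderOf_eq_one x
  -- a nontrivial element of `H`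
  have hnt : Nontrivial H := Finite.one_lt_card_iff_nontrivial.mp (by omega)
  obtain ⟨⟨r, hrH⟩, hr1⟩ := exists_ne (1 : H)
  have hr1' : r ≠ 1 := fun h => hr1 (Subtype.ext h)
  obtain ⟨n, hn⟩ := (hH r).mp hrH
  set a : ℕ := (r : ZMod p).val with ha
  have hacast : ((a : ℕ) : ZMod p) = (r : ZMod p) := ZMod.natCast_zmod_val _
  have ha0 : a ≠ 0 := by
    intro h
    have h0 : (r : ZMod p) = 0 := by rw [← hacast, h, Nat.cast_zero]
    exact r.ne_zero h0
  have ha1 : a ≠ 1 := by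
    intro h
    have h0 : (r : ZMod p) = 1 := by rw [← hacast, h, Nat.cast_one]
    exact hr1' (Units.ext h0)
  have halt : a < p := ZMod.val_lt _
  -- conjugation by powers of `n`
  have hpow : ∀ k : ℕ, n ^ k * x * (n ^ k)⁻¹ = x ^ (a ^ k) := by
    intro k
    induction k with
    | zero => simp
    | succ k ih =>
      have h1 : n ^ (k + 1) * x * (n ^ (k + 1))⁻¹ = n * (n ^ k * x * (n ^ k)⁻¹) * n⁻¹ := by
        rw [pow_succ']; group
      rw [h1, ih, ← conj_pow, hn, ← pow_mul, pow_succ']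
  have hfermat : x ^ (a ^ p) = x ^ a := by
    rw [pow_eq_pow_iff_modEq, hxo, ← ZMod.natCast_eq_natCast_iff, Nat.cast_pow, hacast,
      ZMod.pow_card]
  -- `n ^ p` is `p`-regular
  have hreg : ¬ p ∣ orderOf (n ^ p) := by
    have hN : n ^ Nat.card G = 1 := pow_card_eq_one'
    by_cases hpN : p ∣ Nat.card G
    · obtain ⟨c, hc⟩ := hpN
      have hpc : ¬ p ∣ c := by
        rintro ⟨d, rfl⟩
        exact hsq ⟨d, by rw [hc]; ring⟩
      have h1 : (n ^ p) ^ c = 1 := by rw [← pow_mul, ← hc, hN]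
      exact fun h => hpc (h.trans (orderOf_dvd_of_pow_eq_one h1))
    · have h1 : (n ^ p) ^ Nat.card G = 1 := by rw [← pow_mul, mul_comm, pow_mul, hN, one_pow]
      exact fun h => hpN (h.trans (orderOf_dvd_of_pow_eq_one h1))
  have hnK : n ^ p ∈ Cfsg.Agent.Lib.helper81.charKer φ hφ :=
    (Cfsg.Agent.Lib.helper81.mem_charKer φ hφ _).mpr (hker _ hreg)
  have hnormal : (Cfsg.Agent.Lib.helper81.charKer φ hφ).Normal :=
    Cfsg.Agent.Lib.helper81.charKer_normal φ hφ
  -- the commutator lies in the kernel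
  have hcomm : x ^ (a - 1) ∈ Cfsg.Agent.Lib.helper81.charKer φ hφ := by
    have h1 : x ^ (a - 1) = n ^ p * (x * (n ^ p)⁻¹ * x⁻¹) := by
      have h2 : n ^ p * (x * (n ^ p)⁻¹ * x⁻¹) = (n ^ p * x * (n ^ p)⁻¹) * x⁻¹ := by group
      rw [h2, hpow p, hfermat]
      have h3 : a = (a - 1) + 1 := by omega
      conv_rhs => rw [h3, pow_succ, mul_inv_cancel_right]
    rw [h1]
    exact Subgroup.mul_mem _ hnK (hnormal.conj_mem _ (Subgroup.inv_mem _ hnK) x)
  have hcop : (a - 1).Coprime (orderOf x) := by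
    rw [hxo]
    apply Nat.Coprime.symm
    rw [Nat.Prime.coprime_iff_not_dvd hp]
    exact Nat.not_dvd_of_pos_of_lt (by omega) (by omega)
  obtain ⟨m, hm⟩ := exists_pow_eq_self_of_coprime hcop
  have hxK : x ∈ Cfsg.Agent.Lib.helper81.charKer φ hφ := by
    rw [← hm]
    exact Subgroup.pow_mem _ hcomm m
  exact (Cfsg.Agent.Lib.helper81.mem_charKer φ hφ x).mp hxK

end Cfsg.Agent.Lib.helper2.BF
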