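import Mathlib
import Cfsg.Agent.Lib.helper2.BFDefs

/-!
# S4503, piece A2a (`sum_class_off_P`)

`P` a Sylow `p`-subgroup of order `p`, `1 ≠ x ∈ P`.  The conjugates of `x` outside `P` form a set
stable under conjugation by `x`, without fixed points; hence the sum over it of a function `F`
invariant under conjugation by `x`, with algebraic integer values, is `p` times an algebraic integer.
-/

set_option autoImplicit false

open Cfsg Cfsg.Agent.Lib.helper20.D1E
open scoped ComplexConjugate

namespace Cfsg.Agent.Lib.helper2.BF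

variable {G : Type*} [Group G] [Fintype G]

/-- A conjugate of `x` commuting with `x` lies in `P` (`|P| = p`, `1 ≠ x ∈ P`). -/
theorem helper97_conj_comm_mem (p : ℕ) [Fact p.Prime] (P : Sylow p G) (hP : Nat.card P = p)
    (x : G) (hx : x ∈ (P : Subgroup G)) (hx1 : x ≠ 1) (a : G) (ha : IsConj x a)
    (hc : x * a = a * x) : a ∈ (P : Subgroup G) := by
  have hp : p.Prime := Fact.out
  have hxp : x ^ p = 1 := by
    have h1 : (⟨x, hx⟩ : ↥(P : Subgroup G)) ^ Nat.card ↥(P : Subgroup G) = 1 := pow_card_eq_one'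
    rw [hP] at h1
    exact congrArg Subtype.val h1
  have hxo : orderOf x = p := by
    rcases (Nat.dvd_prime hp).mp (orderOf_dvd_of_pow_eq_one hxp) with h | h
    · exact absurd (orderOf_eq_one_iff.mp h) hx1
    · exact h
  have hzP : Subgroup.zpowers x = (P : Subgroup G) := by
    apply Subgroup.eq_of_le_of_card_ge
    · rw [Subgroup.zpowers_le]; exact hx
    · rw [Nat.card_zpowers, hxo, hP]
  have hap : a ^ p = 1 := by
    obtain ⟨c, rfl⟩ := isConj_iff.mp ha
    rw [conj_pow, hxp, mul_one, mul_inv_cancel]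
  have hA : IsPGroup p (Subgroup.zpowers a) := by
    rintro ⟨g, hg⟩
    obtain ⟨k, rfl⟩ := Subgroup.mem_zpowers_iff.mp hg
    refine ⟨1, Subtype.ext ?_⟩
    show (a ^ k) ^ p ^ 1 = 1
    rw [pow_one, ← zpow_natCast, ← zpow_mul, mul_comm, zpow_mul, zpow_natCast, hap, one_zpow]
  have hX : IsPGroup p (Subgroup.zpowers x) := hzP ▸ P.isPGroup'
  have hcomm : ∀ k : ℤ, a * x ^ k = x ^ k * a := fun k =>
    (Commute.zpow_right (show Commute a x from hc.symm) k).eq
  have hnorm : Subgroup.zpowers a ≤ Subgroup.normalizer (Subgroup.zpowers x : Set G) := by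
    rw [Subgroup.zpowers_le, Subgroup.mem_normalizer_iff]
    intro h
    constructor
    · intro hh
      obtain ⟨k, rfl⟩ := Subgroup.mem_zpowers_iff.mp hh
      rw [hcomm k, mul_inv_cancel_right]
      exact hh
    · intro hh
      obtain ⟨k, hk⟩ := Subgroup.mem_zpowers_iff.mp hh
      have h1 : h = a⁻¹ * (a * h * a⁻¹) * a := by group
      rw [h1, ← hk, mul_assoc, ← hcomm k, inv_mul_cancel_left]
      exact Subgroup.zpow_mem_zpowers x k
  have hK : IsPGroup p (Subgroup.zpowers a ⊔ Subgroup.zpowers x : Subgroup G) :=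
    IsPGroup.to_sup_of_normal_right' hA hX hnorm
  have hle : (P : Subgroup G) ≤ Subgroup.zpowers a ⊔ Subgroup.zpowers x := hzP ▸ le_sup_right
  have heq := P.is_maximal' hK hle
  rw [← heq]
  exact Subgroup.mem_sup_left (Subgroup.mem_zpowers a)

/-- A2a. -/
theorem sum_class_off_P (p : ℕ) [Fact p.Prime] (P : Sylow p G) (hP : Nat.card P = p)
    (x : G) (hx : x ∈ (P : Subgroup G)) (hx1 : x ≠ 1) (F : G → ℂ)
    (hF : ∀ g, IsIntegral ℤ (F g)) (hinv : ∀ g, F (x * g * x⁻¹) = F g) :
    ∃ w : ℂ, IsIntegral ℤ w ∧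
      ∑ g : G, Set.indicator {g : G | IsConj x g ∧ g ∉ (P : Subgroup G)} F g = (p : ℂ) * w := by
  classical
  have hp : p.Prime := Fact.out
  have hxp : x ^ p = 1 := by
    have h1 : (⟨x, hx⟩ : ↥(P : Subgroup G)) ^ Nat.card ↥(P : Subgroup G) = 1 := pow_card_eq_one'
    rw [hP] at h1
    exact congrArg Subtype.val h1
  let σ : Equiv.Perm G := (MulAut.conj x).toEquiv
  have hσ : ∀ g, σ g = x * g * x⁻¹ := fun g => rfl
  have hσk : ∀ (k : ℕ) (g : G), (σ ^ k) g = x ^ k * g * (x ^ k)⁻¹ := by
    intro k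
    induction k with
    | zero => intro g; simp
    | succ k ih =>
      intro g
      rw [pow_succ', Equiv.Perm.mul_apply, ih, hσ, pow_succ']
      group
  have hσp : σ ^ p = 1 := by
    ext g
    rw [hσk, hxp]
    simp
  let T : Finset G := Finset.univ.filter (fun g => IsConj x g ∧ g ∉ (P : Subgroup G))
  have hsum : ∑ g : G, Set.indicator {g : G | IsConj x g ∧ g ∉ (P : Subgroup G)} F g
      = ∑ g ∈ T, F g := by
    rw [Finset.sum_filter]
    apply Finset.sum_congr rfl
    intro g _
    by_cases h : IsConj x g ∧ g ∉ (P : Subgroup G)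
    · rw [Set.indicator_of_mem (show g ∈ {g : G | IsConj x g ∧ g ∉ (P : Subgroup G)} from h),
        if_pos h]
    · rw [Set.indicator_of_notMem (show g ∉ {g : G | IsConj x g ∧ g ∉ (P : Subgroup G)} from h),
        if_neg h]
  have hdvd : ∀ v : ℂ, p ∣ (T.filter (fun g => F g = v)).card := by
    intro v
    have hQ : ∀ g : G, ((IsConj x (σ g) ∧ σ g ∉ (P : Subgroup G)) ∧ F (σ g) = v) ↔
        ((IsConj x g ∧ g ∉ (P : Subgroup G)) ∧ F g = v) := by
      intro g
      rw [hσ, hinv]
      have h1 : IsConj x (x * g * x⁻¹) ↔ IsConj x g := by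
        constructor
        · intro h
          obtain ⟨c, hc⟩ := isConj_iff.mp h
          refine isConj_iff.mpr ⟨x⁻¹ * c, ?_⟩
          have : g = x⁻¹ * (x * g * x⁻¹) * x := by group
          rw [this, ← hc]
          group
        · intro h
          obtain ⟨c, hc⟩ := isConj_iff.mp h
          refine isConj_iff.mpr ⟨x * c, ?_⟩
          rw [← hc]
          group
      have h2 : x * g * x⁻¹ ∈ (P : Subgroup G) ↔ g ∈ (P : Subgroup G) := by
        constructor
        · intro h
          have : g = x⁻¹ * (x * g * x⁻¹) * x := by group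
          rw [this]
          exact Subgroup.mul_mem _ (Subgroup.mul_mem _ (Subgroup.inv_mem _ hx) h) hx
        · intro h
          exact Subgroup.mul_mem _ (Subgroup.mul_mem _ hx h) (Subgroup.inv_mem _ hx)
      rw [h1, h2]
    let τ : Equiv.Perm {g : G // (IsConj x g ∧ g ∉ (P : Subgroup G)) ∧ F g = v} :=
      σ.subtypePerm hQ
    have hτp : τ ^ p ^ 1 = 1 := by
      rw [pow_one]
      ext a
      rw [Equiv.Perm.subtypePerm_pow, Equiv.Perm.subtypePerm_apply]
      simp [hσp]
    have hmod := Equiv.Perm.card_compl_support_modEq (p := p) (n := 1) hτp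
    have hsupp : τ.supportᶜ = ∅ := by
      rw [Finset.compl_eq_empty_iff]
      ext a
      simp only [Equiv.Perm.mem_support, Finset.mem_univ, iff_true]
      intro hfix
      have h1 : x * (a : G) * x⁻¹ = a := congrArg Subtype.val hfix
      have h2 : x * (a : G) = a * x := by
        calc x * (a : G) = x * a * x⁻¹ * x := by group
          _ = a * x := by rw [h1]
      exact a.2.1.2 (helper97_conj_comm_mem p P hP x hx hx1 a a.2.1.1 h2)
    rw [hsupp, Finset.card_empty] at hmod
    have h3 : p ∣ Fintype.card {g : G // (IsConj x g ∧ g ∉ (P : Subgroup G)) ∧ F g = v} :=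
      (Nat.modEq_zero_iff_dvd.mp hmod.symm)
    rw [Fintype.card_subtype] at h3
    have h4 : T.filter (fun g => F g = v) =
        Finset.univ.filter (fun g => (IsConj x g ∧ g ∉ (P : Subgroup G)) ∧ F g = v) := by
      rw [Finset.filter_filter]
    rw [h4]
    exact h3
  refine ⟨∑ b ∈ T.image F, (((T.filter (fun g => F g = b)).card / p : ℕ) : ℂ) * b, ?_, ?_⟩
  · apply IsIntegral.sum
    intro b hb
    obtain ⟨g, -, rfl⟩ := Finset.mem_image.mp hb
    exact IsIntegral.mul (isIntegral_natCast _) (hF g)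
  · rw [hsum, Finset.sum_comp (fun v : ℂ => v) F, Finset.mul_sum]
    apply Finset.sum_congr rfl
    intro b _
    obtain ⟨c, hc⟩ := hdvd b
    rw [nsmul_eq_mul, hc, Nat.mul_div_cancel_left c hp.pos, Nat.cast_mul, mul_assoc]

end Cfsg.Agent.Lib.helper2.BF
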