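import Mathlib
import Cfsg.Agent.Lib.helper15.ZassDefs

/-!
S0690 (Zassenhaus), piece M: a Sylow `2`-subgroup of order `16` is impossible
(`sylow_16_false`).
-/

set_option autoImplicit false

namespace Cfsg.Agent.Lib.helper97

open Cfsg.Agent.Lib.helper15.Zass

/-- In a finite group, an element conjugating a subgroup into itself normalizes it. -/
theorem zm_mem_normalizer {G : Type*} [Group G] [Finite G] (H : Subgroup G) (g : G)
    (hg : ∀ w ∈ H, g * w * g⁻¹ ∈ H) : g ∈ Subgroup.normalizer (H : Set G) := by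
  have key : ∀ k : ℕ, ∀ w ∈ H, g ^ k * w * (g ^ k)⁻¹ ∈ H := by
    intro k
    induction k with
    | zero => intro w hw; simpa using hw
    | succ k ih =>
      intro w hw
      have h1 := hg _ (ih w hw)
      have h2 : g ^ (k + 1) * w * (g ^ (k + 1))⁻¹ = g * (g ^ k * w * (g ^ k)⁻¹) * g⁻¹ := by
        rw [pow_succ']; group
      rw [h2]; exact h1
  have hinv : g ^ (orderOf g - 1) = g⁻¹ := by
    rw [eq_inv_iff_mul_eq_one, ← pow_succ, Nat.sub_add_cancel (orderOf_pos g),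
      pow_orderOf_eq_one]
  rw [Subgroup.mem_normalizer_iff]
  intro w
  refine ⟨hg w, fun hw => ?_⟩
  have h1 := key (orderOf g - 1) _ hw
  rw [hinv] at h1
  have h2 : g⁻¹ * (g * w * g⁻¹) * g⁻¹⁻¹ = w := by group
  rwa [h2] at h1

theorem zm_zpow_mod4 {G : Type*} [Group G] {u : G} (hu4 : u ^ 4 = 1) (i : ℤ) :
    u ^ i = 1 ∨ u ^ i = u ∨ u ^ i = u ^ 2 ∨ u ^ i = u ^ 3 := by
  have h1 : u ^ i = u ^ (i % 4) := by
    have h0 : i = 4 * (i / 4) + i % 4 := by omega
    calc u ^ i = u ^ (4 * (i / 4) + i % 4) := by rw [← h0]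
      _ = u ^ (i % 4) := by
        rw [zpow_add, zpow_mul, zpow_ofNat, hu4, one_zpow, one_mul]
  have h2 : 0 ≤ i % 4 := Int.emod_nonneg _ (by norm_num)
  have h3 : i % 4 < 4 := Int.emod_lt_of_pos _ (by norm_num)
  rw [h1]
  generalize i % 4 = r at h2 h3
  interval_cases r <;> simp

/-- The elements of the quaternion group `⟨u, t⟩`. -/
theorem zm_q8_mem {G : Type*} [Group G] {u t : G} (ht2 : t ^ 2 = u ^ 2)
    (htu : t * u * t⁻¹ = u⁻¹) {w : G} (hw : w ∈ Subgroup.closure ({u, t} : Set G)) :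
    ∃ i : ℤ, w = u ^ i ∨ w = u ^ i * t := by
  have htz : ∀ j : ℤ, t * u ^ j = u ^ (-j) * t := by
    intro j
    have h1 : t * u ^ j * t⁻¹ = u ^ (-j) := by
      rw [← conj_zpow, htu, inv_zpow']
    calc t * u ^ j = (t * u ^ j * t⁻¹) * t := by group
      _ = u ^ (-j) * t := by rw [h1]
  have htinv : t⁻¹ = u ^ (2 : ℤ) * t := by
    rw [inv_eq_iff_mul_eq_one]
    have h1 := htz 2
    calc t * (u ^ (2 : ℤ) * t) = (t * u ^ (2 : ℤ)) * t := by rw [mul_assoc]
      _ = u ^ (-2 : ℤ) * t * t := by rw [h1]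
      _ = u ^ (-2 : ℤ) * (t * t) := by rw [mul_assoc]
      _ = u ^ (-2 : ℤ) * u ^ (2 : ℤ) := by rw [← pow_two, ht2, zpow_ofNat]
      _ = 1 := by rw [← zpow_add]; norm_num
  induction hw using Subgroup.closure_induction with
  | mem w hw =>
    rcases hw with rfl | rfl
    · exact ⟨1, Or.inl (zpow_one _).symm⟩
    · exact ⟨0, Or.inr (by simp)⟩
  | one => exact ⟨0, Or.inl (by simp)⟩
  | mul a b _ _ ha hb =>
    obtain ⟨i, rfl | rfl⟩ := ha <;> obtain ⟨j, rfl | rfl⟩ := hb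
    · exact ⟨i + j, Or.inl (zpow_add u i j).symm⟩
    · exact ⟨i + j, Or.inr (by rw [zpow_add, mul_assoc])⟩
    · refine ⟨i - j, Or.inr ?_⟩
      rw [mul_assoc, htz, ← mul_assoc, ← zpow_add, sub_eq_add_neg]
    · refine ⟨i - j + 2, Or.inl ?_⟩
      calc u ^ i * t * (u ^ j * t) = u ^ i * (t * u ^ j) * t := by simp only [mul_assoc]
        _ = u ^ i * (u ^ (-j) * t) * t := by rw [htz]
        _ = u ^ i * u ^ (-j) * (t * t) := by simp only [mul_assoc]
        _ = u ^ (i - j) * t ^ 2 := by rw [← zpow_add, ← sub_eq_add_neg, pow_two]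
        _ = u ^ (i - j + 2) := by rw [ht2, zpow_add, zpow_ofNat]
  | inv a _ ha =>
    obtain ⟨i, rfl | rfl⟩ := ha
    · exact ⟨-i, Or.inl (zpow_neg u i).symm⟩
    · refine ⟨i + 2, Or.inr ?_⟩
      calc (u ^ i * t)⁻¹ = t⁻¹ * u ^ (-i) := by group
        _ = u ^ (2 : ℤ) * (t * u ^ (-i)) := by rw [htinv]; group
        _ = u ^ (2 : ℤ) * (u ^ (- -i) * t) := by rw [htz]
        _ = u ^ (i + 2) * t := by group

/-- An element of `⟨u, t⟩` is a power of `u` or inverts `u`. -/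
theorem zm_q8_alt {G : Type*} [Group G] {u t : G} (hu4 : u ^ 4 = 1) (ht2 : t ^ 2 = u ^ 2)
    (htu : t * u * t⁻¹ = u⁻¹) {w : G} (hw : w ∈ Subgroup.closure ({u, t} : Set G)) :
    (w = 1 ∨ w = u ∨ w = u ^ 2 ∨ w = u ^ 3) ∨ w * u * w⁻¹ = u⁻¹ := by
  obtain ⟨i, rfl | rfl⟩ := zm_q8_mem ht2 htu hw
  · left; exact zm_zpow_mod4 hu4 i
  · right
    calc u ^ i * t * u * (u ^ i * t)⁻¹ = u ^ i * (t * u * t⁻¹) * (u ^ i)⁻¹ := by group
      _ = u⁻¹ := by rw [htu]; group

/-- An element of order `4` of `⟨u, t⟩` outside `⟨u⟩` inverts `u`. -/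
theorem zm_q8_inverts {G : Type*} [Group G] {u t : G} (hu2 : u ^ 2 ≠ 1) (hu4 : u ^ 4 = 1)
    (ht2 : t ^ 2 = u ^ 2) (htu : t * u * t⁻¹ = u⁻¹) {w : G}
    (hw : w ∈ Subgroup.closure ({u, t} : Set G)) (hw2 : w ^ 2 = u ^ 2) (h1 : w ≠ u)
    (h2 : w ≠ u⁻¹) : w * u * w⁻¹ = u⁻¹ := by
  rcases zm_q8_alt hu4 ht2 htu hw with (h0 | h0 | h0 | h0) | h0
  · exfalso; apply hu2; rw [← hw2, h0]; simp
  · exact absurd h0 h1
  · exfalso; apply hu2; rw [← hw2, h0, ← pow_mul]; exact hu4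
  · exfalso; apply h2
    rw [h0, eq_inv_iff_mul_eq_one, ← pow_succ]; exact hu4
  · exact h0

/-- Two elements of `⟨u, t⟩` inverting `u` and generating different subgroups. -/
theorem zm_q8_third {G : Type*} [Group G] {u t : G} (hu2 : u ^ 2 ≠ 1) (hu4 : u ^ 4 = 1)
    (ht2 : t ^ 2 = u ^ 2) (htu : t * u * t⁻¹ = u⁻¹) {b c : G}
    (hb : b ∈ Subgroup.closure ({u, t} : Set G)) (hc : c ∈ Subgroup.closure ({u, t} : Set G))
    (hbu : b * u * b⁻¹ = u⁻¹) (hcu : c * u * c⁻¹ = u⁻¹) (hb2 : b ^ 2 = u ^ 2)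
    (h1 : c ≠ b) (h2 : c ≠ b⁻¹) : c = u * b ∨ c = b * u := by
  have hw : b⁻¹ * c ∈ Subgroup.closure ({u, t} : Set G) :=
    Subgroup.mul_mem _ (Subgroup.inv_mem _ hb) hc
  have hwu : b⁻¹ * c * u * (b⁻¹ * c)⁻¹ = u := by
    calc b⁻¹ * c * u * (b⁻¹ * c)⁻¹ = b⁻¹ * (c * u * c⁻¹) * b := by group
      _ = b⁻¹ * (b * u * b⁻¹) * b := by rw [hcu, hbu]
      _ = u := by group
  have hbu' : b * u⁻¹ = u * b := by
    have h3 : b * u⁻¹ * b⁻¹ = u := by
      have h4 : b * u⁻¹ * b⁻¹ = (b * u * b⁻¹)⁻¹ := by group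
      rw [h4, hbu, inv_inv]
    calc b * u⁻¹ = (b * u⁻¹ * b⁻¹) * b := by group
      _ = u * b := by rw [h3]
  rcases zm_q8_alt hu4 ht2 htu hw with (h0 | h0 | h0 | h0) | h0
  · exfalso; apply h1
    exact (inv_mul_eq_one.mp h0).symm
  · right; exact inv_mul_eq_iff_eq_mul.mp h0
  · exfalso; apply h2
    have h3 : c = b * u ^ 2 := inv_mul_eq_iff_eq_mul.mp h0
    rw [h3, ← hb2, eq_inv_iff_mul_eq_one]
    calc b * b ^ 2 * b = (b ^ 2) ^ 2 := by rw [pow_two, pow_two]; group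
      _ = 1 := by rw [hb2, ← pow_mul]; exact hu4
  · left
    have h3 : c = b * u ^ 3 := inv_mul_eq_iff_eq_mul.mp h0
    have h4 : u ^ 3 = u⁻¹ := by rw [eq_inv_iff_mul_eq_one, ← pow_succ]; exact hu4
    rw [h3, h4, hbu']
  · exfalso; apply hu2
    rw [hwu] at h0
    calc u ^ 2 = u * u := pow_two u
      _ = u * u⁻¹ := by rw [← h0]
      _ = 1 := mul_inv_cancel u

theorem sylow_16_false {G : Type*} [Group G] [Finite G] (h : ZH G) (u v x : G) (hs : Std u v x)
    (h3c : ∀ y : G, y * u = u * y → y ^ 3 = 1 → y = 1)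
    (α n : G) (hα : α ^ 2 = u) (hvα : v * α * v⁻¹ = α⁻¹) (hnu : n * u * n⁻¹ = α * v)
    (hnt : n * (α * v) * n⁻¹ ∈ Subgroup.closure {u, α * v}) : False := by
  classical
  have : Fact (Nat.Prime 2) := ⟨Nat.prime_two⟩
  have : Fact (Nat.Prime 3) := ⟨Nat.prime_three⟩
  have hu2 := hs.u2
  have hu4 := hs.u4
  have hune : u ≠ u⁻¹ := by
    intro h0
    apply hu2
    calc u ^ 2 = u * u := pow_two u
      _ = u * u⁻¹ := by rw [← h0]
      _ = 1 := mul_inv_cancel u
  have hzc : ∀ g : G, g * u ^ 2 * g⁻¹ = u ^ 2 := by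
    intro g
    have hu22 : (u ^ 2) ^ 2 = 1 := by rw [← pow_mul]; exact hu4
    apply h.invol _ _ _ hu2 _ hu22
    · intro h0
      apply hu2
      have h2 : ∀ w : G, w = g⁻¹ * (g * w * g⁻¹) * g := fun w => by group
      rw [h2 (u ^ 2), h0]; group
    · rw [conj_pow, hu22]; group
  have hαu : α * u = u * α := by rw [← hα, pow_two, mul_assoc]
  have hαuc : α * u * α⁻¹ = u := by rw [hαu]; group
  obtain ⟨t, ht⟩ : ∃ t : G, t = α * v := ⟨_, rfl⟩
  rw [← ht] at hnu hnt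
  have hvα' : v * α = α⁻¹ * v := by
    calc v * α = (v * α * v⁻¹) * v := by group
      _ = α⁻¹ * v := by rw [hvα]
  have hvαi : v * α⁻¹ = α * v := by
    have h3 : v * α⁻¹ * v⁻¹ = α := by
      have h4 : v * α⁻¹ * v⁻¹ = (v * α * v⁻¹)⁻¹ := by group
      rw [h4, hvα, inv_inv]
    calc v * α⁻¹ = (v * α⁻¹ * v⁻¹) * v := by group
      _ = α * v := by rw [h3]
  have ht2 : t ^ 2 = u ^ 2 := by
    rw [ht, ← hs.v2]
    calc (α * v) ^ 2 = α * (v * α) * v := by rw [pow_two]; simp only [mul_assoc]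
      _ = v ^ 2 := by rw [hvα', pow_two]; group
  have htu : t * u * t⁻¹ = u⁻¹ := by
    rw [ht]
    calc α * v * u * (α * v)⁻¹ = α * (v * u * v⁻¹) * α⁻¹ := by group
      _ = α * u⁻¹ * α⁻¹ := by rw [hs.vu]
      _ = (α * u * α⁻¹)⁻¹ := by group
      _ = u⁻¹ := by rw [hαuc]
  have hαt : α * t * α⁻¹ = u * t := by
    rw [ht, ← hα]
    calc α * (α * v) * α⁻¹ = α * α * (v * α⁻¹) := by group
      _ = α ^ 2 * (α * v) := by rw [hvαi, pow_two]
  have htui : t * u⁻¹ * t⁻¹ = u := by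
    have h4 : t * u⁻¹ * t⁻¹ = (t * u * t⁻¹)⁻¹ := by group
    rw [h4, htu, inv_inv]
  have htut : t * u * t = u := by
    calc t * u * t = (t * u * t⁻¹) * t ^ 2 := by rw [pow_two]; group
      _ = u := by rw [htu, ht2, pow_two]; group
  have ht_ne_u : t ≠ u := by
    intro h0
    rw [h0] at htu
    apply hune
    calc u = u * u * u⁻¹ := by group
      _ = u⁻¹ := htu
  have ht_ne_ui : t ≠ u⁻¹ := by
    intro h0
    rw [h0] at htu
    apply hune
    calc u = u⁻¹ * u * u⁻¹⁻¹ := by group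
      _ = u⁻¹ := htu
  -- the quaternion group `Q₂ = ⟨u, t⟩`
  obtain ⟨Q₂, hQ₂⟩ : ∃ Q₂ : Subgroup G, Q₂ = Subgroup.closure ({u, t} : Set G) := ⟨_, rfl⟩
  rw [← hQ₂] at hnt
  have hQu : u ∈ Q₂ := by rw [hQ₂]; exact Subgroup.subset_closure (by simp)
  have hQt : t ∈ Q₂ := by rw [hQ₂]; exact Subgroup.subset_closure (by simp)
  have hNP : ∀ g : G, g * u * g⁻¹ ∈ Q₂ → g * t * g⁻¹ ∈ Q₂ → g ∈ Subgroup.normalizer (Q₂ : Set G) := by
    intro g h1 h2
    apply zm_mem_normalizer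
    have h3 : Q₂ ≤ Q₂.comap (MulAut.conj g).toMonoidHom := by
      conv_lhs => rw [hQ₂]
      rw [Subgroup.closure_le]
      rintro w (rfl | rfl)
      · exact Subgroup.mem_comap.mpr h1
      · exact Subgroup.mem_comap.mpr h2
    intro w hw
    exact h3 hw
  have hNconj : ∀ g ∈ Subgroup.normalizer (Q₂ : Set G), ∀ w ∈ Q₂, g * w * g⁻¹ ∈ Q₂ :=
    fun g hg w hw => (Subgroup.mem_normalizer_iff.mp hg w).mp hw
  have hnN : n ∈ Subgroup.normalizer (Q₂ : Set G) := hNP n (by rw [hnu]; exact hQt) hnt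
  have hαN : α ∈ Subgroup.normalizer (Q₂ : Set G) :=
    hNP α (by rw [hαuc]; exact hQu) (by rw [hαt]; exact Subgroup.mul_mem _ hQu hQt)
  have hvN : v ∈ Subgroup.normalizer (Q₂ : Set G) := by
    apply hNP v
    · rw [hs.vu]; exact Subgroup.inv_mem _ hQu
    · have h1 : v * t * v⁻¹ = u⁻¹ * t := by
        rw [ht, ← hα]
        calc v * (α * v) * v⁻¹ = v * α := by group
          _ = α⁻¹ * v := hvα'
          _ = (α ^ 2)⁻¹ * (α * v) := by rw [pow_two]; group
      rw [h1]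
      exact Subgroup.mul_mem _ (Subgroup.inv_mem _ hQu) hQt
  -- an element `g` of the normalizer inducing a `3`-cycle
  obtain ⟨g, hgN, hg1, hg3⟩ : ∃ g : G, g ∈ Subgroup.normalizer (Q₂ : Set G) ∧ g * u ≠ u * g ∧
      g ^ 3 * u = u * g ^ 3 := by
    obtain ⟨s, hsdef⟩ : ∃ s : G, s = n * t * n⁻¹ := ⟨_, rfl⟩
    have hsQ : s ∈ Q₂ := hsdef ▸ hnt
    have hs2 : s ^ 2 = u ^ 2 := by
      rw [hsdef, conj_pow, ht2]; exact hzc n
    have key : ∀ g : G, ∀ a b c : G, g * u * g⁻¹ = a → g * a * g⁻¹ = b → g * b * g⁻¹ = c →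
        g ^ 3 * u = c * g ^ 3 := by
      intro g a b c h1 h2 h3
      have e3 : g ^ 3 = g * g * g := by rw [pow_succ, pow_two]
      calc g ^ 3 * u = g * g * g * u := by rw [e3]
        _ = g * (g * (g * u * g⁻¹) * g⁻¹) * g⁻¹ * (g * g * g) := by group
        _ = c * (g * g * g) := by rw [h1, h2, h3]
        _ = c * g ^ 3 := by rw [e3]
    by_cases hsu : s = u ∨ s = u⁻¹
    · -- `n` swaps `⟨u⟩` and `⟨t⟩`: take `α * n`
      refine ⟨α * n, Subgroup.mul_mem _ hαN hnN, ?_, ?_⟩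
      · intro h0
        have h1 : α * n * u * (α * n)⁻¹ = u := by rw [h0]; group
        have h2 : α * n * u * (α * n)⁻¹ = u * t := by
          calc α * n * u * (α * n)⁻¹ = α * (n * u * n⁻¹) * α⁻¹ := by group
            _ = u * t := by rw [hnu, hαt]
        rw [h2] at h1
        have h3 : t = 1 := mul_eq_left.mp h1
        apply hu2
        rw [← ht2, h3]; simp
      · have h1 : α * n * u * (α * n)⁻¹ = u * t := by
          calc α * n * u * (α * n)⁻¹ = α * (n * u * n⁻¹) * α⁻¹ := by group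
            _ = u * t := by rw [hnu, hαt]
        have h2 : α * n * t * (α * n)⁻¹ = α * s * α⁻¹ := by rw [hsdef]; group
        rcases hsu with h0 | h0
        · have h3 : α * n * t * (α * n)⁻¹ = u := by rw [h2, h0, hαuc]
          have h4 : α * n * (u * t) * (α * n)⁻¹ = u * t * u := by
            calc α * n * (u * t) * (α * n)⁻¹
                = (α * n * u * (α * n)⁻¹) * (α * n * t * (α * n)⁻¹) := by group
              _ = u * t * u := by rw [h1, h3]
          have h5 : α * n * (u * t * u) * (α * n)⁻¹ = u := by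
            calc α * n * (u * t * u) * (α * n)⁻¹
                = (α * n * u * (α * n)⁻¹) * (α * n * t * (α * n)⁻¹) *
                  (α * n * u * (α * n)⁻¹) := by group
              _ = u * t * u * (u * t) := by rw [h1, h3]
              _ = u * (t * u * t) * (t⁻¹ * u * t) := by group
              _ = u * u * (t⁻¹ * u * t) := by rw [htut]
              _ = u := by
                have h6 : t⁻¹ * u * t = u⁻¹ := by
                  calc t⁻¹ * u * t = t⁻¹ * (t * u⁻¹ * t⁻¹) * t := by rw [htui]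
                    _ = u⁻¹ := by group
                rw [h6]; group
          exact key _ _ _ _ h1 h4 h5
        · have hαui : α * u⁻¹ * α⁻¹ = u⁻¹ := by
            have h4 : α * u⁻¹ * α⁻¹ = (α * u * α⁻¹)⁻¹ := by group
            rw [h4, hαuc]
          have h3 : α * n * t * (α * n)⁻¹ = u⁻¹ := by rw [h2, h0, hαui]
          have h4 : α * n * (u * t) * (α * n)⁻¹ = u * t * u⁻¹ := by
            calc α * n * (u * t) * (α * n)⁻¹
                = (α * n * u * (α * n)⁻¹) * (α * n * t * (α * n)⁻¹) := by group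
              _ = u * t * u⁻¹ := by rw [h1, h3]
          have h5 : α * n * (u * t * u⁻¹) * (α * n)⁻¹ = u := by
            calc α * n * (u * t * u⁻¹) * (α * n)⁻¹
                = (α * n * u * (α * n)⁻¹) * (α * n * t * (α * n)⁻¹) *
                  (α * n * u * (α * n)⁻¹)⁻¹ := by group
              _ = u * t * u⁻¹ * (u * t)⁻¹ := by rw [h1, h3]
              _ = u * (t * u⁻¹ * t⁻¹) * u⁻¹ := by group
              _ = u := by rw [htui]; group
          exact key _ _ _ _ h1 h4 h5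
    · -- `n` induces a `3`-cycle
      push Not at hsu
      have hsinv : s * u * s⁻¹ = u⁻¹ :=
        zm_q8_inverts hu2 hu4 ht2 htu (hQ₂ ▸ hsQ) hs2 hsu.1 hsu.2
      have hs_ne_t : s ≠ t := by
        intro h0
        apply ht_ne_u
        have h1 : n * t * n⁻¹ = n * u * n⁻¹ := by rw [← hsdef, h0, hnu]
        have h2 : t = n⁻¹ * (n * t * n⁻¹) * n := by group
        rw [h2, h1]; group
      have hs_ne_ti : s ≠ t⁻¹ := by
        intro h0
        apply ht_ne_ui
        have h1 : n * t * n⁻¹ = n * u⁻¹ * n⁻¹ := by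
          rw [← hsdef, h0, ← hnu]; group
        have h2 : t = n⁻¹ * (n * t * n⁻¹) * n := by group
        rw [h2, h1]; group
      have hthird := zm_q8_third hu2 hu4 ht2 htu (hQ₂ ▸ hQt) (hQ₂ ▸ hsQ) htu hsinv ht2
        hs_ne_t hs_ne_ti
      refine ⟨n, hnN, ?_, ?_⟩
      · intro h0
        apply ht_ne_u
        rw [← hnu, h0]; group
      · have h5 : n * s * n⁻¹ = u := by
          rcases hthird with h0 | h0
          · calc n * s * n⁻¹ = (n * u * n⁻¹) * (n * t * n⁻¹) := by rw [h0]; group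
              _ = t * s := by rw [hnu, ← hsdef]
              _ = t * u * t := by rw [h0]; group
              _ = u := htut
          · calc n * s * n⁻¹ = (n * t * n⁻¹) * (n * u * n⁻¹) := by rw [h0]; group
              _ = s * t := by rw [hnu, ← hsdef]
              _ = t * u * t := by rw [h0]
              _ = u := htut
        exact key n t s u hnu hsdef.symm h5
  -- an element `y` of order `3` in the normalizer
  have h3dvd : 3 ∣ orderOf g := by
    by_contra h3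
    have hcop : Nat.Coprime 3 (orderOf g) :=
      (Nat.Prime.coprime_iff_not_dvd Nat.prime_three).mpr h3
    obtain ⟨m, hm⟩ := exists_pow_eq_self_of_coprime hcop
    have h1 : Commute ((g ^ 3) ^ m) u := Commute.pow_left hg3 m
    rw [hm] at h1
    exact hg1 h1
  obtain ⟨y, hy⟩ : ∃ y : G, y = g ^ (orderOf g / 3) := ⟨_, rfl⟩
  have hy3 : y ^ 3 = 1 := by
    rw [hy, ← pow_mul, Nat.div_mul_cancel h3dvd, pow_orderOf_eq_one]
  have hy1 : y ≠ 1 := by
    rw [hy]
    have hpos := orderOf_pos g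
    have hle := Nat.le_of_dvd hpos h3dvd
    apply pow_ne_one_of_lt_orderOf
    · omega
    · omega
  have hyN : y ∈ Subgroup.normalizer (Q₂ : Set G) := by rw [hy]; exact Subgroup.pow_mem _ hgN _
  have hyQ := hNconj y hyN
  have hyy : y * y = y⁻¹ := by
    rw [eq_inv_iff_mul_eq_one]
    calc y * y * y = y ^ 3 := by rw [pow_succ, pow_two]
      _ = 1 := hy3
  have hyu : y * u ≠ u * y := fun h0 => hy1 (h3c y h0 hy3)
  obtain ⟨b, hb⟩ : ∃ b : G, b = y * u * y⁻¹ := ⟨_, rfl⟩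
  have hbQ : b ∈ Q₂ := hb ▸ hyQ u hQu
  have hb2 : b ^ 2 = u ^ 2 := by rw [hb, conj_pow]; exact hzc y
  have hb_ne_u : b ≠ u := by
    intro h0
    apply hyu
    calc y * u = (y * u * y⁻¹) * y := by group
      _ = u * y := by rw [← hb, h0]
  have hb_ne_ui : b ≠ u⁻¹ := by
    intro h0
    rw [hb] at h0
    have h1 : y * y * u = u * (y * y) := by
      calc y * y * u = y * (y * u * y⁻¹) * y := by group
        _ = y * u⁻¹ * y := by rw [h0]
        _ = (y * u * y⁻¹)⁻¹ * (y * y) := by group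
        _ = u * (y * y) := by rw [h0, inv_inv]
    rw [hyy] at h1
    apply hyu
    calc y * u = y * (u * y⁻¹) * y := by group
      _ = y * (y⁻¹ * u) * y := by rw [h1]
      _ = u * y := by group
  have hbu : b * u * b⁻¹ = u⁻¹ :=
    zm_q8_inverts hu2 hu4 ht2 htu (hQ₂ ▸ hbQ) hb2 hb_ne_u hb_ne_ui
  obtain ⟨c, hc⟩ : ∃ c : G, c = y * b * y⁻¹ := ⟨_, rfl⟩
  have hcQ : c ∈ Q₂ := hc ▸ hyQ b hbQ
  have hc2 : c ^ 2 = u ^ 2 := by rw [hc, conj_pow, hb2]; exact hzc y
  have hc' : c = y⁻¹ * u * y := by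
    rw [hc, hb]
    calc y * (y * u * y⁻¹) * y⁻¹ = (y * y) * u * (y * y)⁻¹ := by group
      _ = y⁻¹ * u * y := by rw [hyy, inv_inv]
  have hc_ne_b : c ≠ b := by
    intro h0
    apply hb_ne_u
    have h1 : b = y⁻¹ * (y * b * y⁻¹) * y := by group
    rw [← hc, h0] at h1
    calc b = y⁻¹ * b * y := h1
      _ = u := by rw [hb]; group
  have hc_ne_bi : c ≠ b⁻¹ := by
    intro h0
    apply hb_ne_ui
    have h1 : b = y⁻¹ * (y * b * y⁻¹) * y := by group
    rw [← hc, h0] at h1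
    calc b = y⁻¹ * b⁻¹ * y := h1
      _ = u⁻¹ := by rw [hb]; group
  have hc_ne_u : c ≠ u := by
    intro h0
    apply hyu
    rw [hc'] at h0
    calc y * u = y * (y⁻¹ * u * y) := by rw [h0]
      _ = u * y := by group
  have hc_ne_ui : c ≠ u⁻¹ := by
    intro h0
    apply hb_ne_ui
    rw [hc'] at h0
    calc b = y * u * y⁻¹ := hb
      _ = (y * u⁻¹ * y⁻¹)⁻¹ := by group
      _ = (y * (y⁻¹ * u * y) * y⁻¹)⁻¹ := by rw [h0]
      _ = u⁻¹ := by group
  have hQ' : ∀ w : G, w ∈ Q₂ → w ∈ Subgroup.closure ({u, t} : Set G) := fun w hw => hQ₂ ▸ hw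
  -- orientation
  obtain ⟨x₂, b₂, hx₂3, hx₂N, hb₂Q, hb₂2, hb₂u, hx₂u, hx₂b⟩ : ∃ x₂ b₂ : G, x₂ ^ 3 = 1 ∧
      x₂ ∈ Subgroup.normalizer (Q₂ : Set G) ∧ b₂ ∈ Q₂ ∧ b₂ ^ 2 = u ^ 2 ∧
      b₂ * u * b₂⁻¹ = u⁻¹ ∧ x₂ * u * x₂⁻¹ = b₂ ∧ x₂ * b₂ * x₂⁻¹ = u * b₂ := by
    have hcu : c * u * c⁻¹ = u⁻¹ :=
      zm_q8_inverts hu2 hu4 ht2 htu (hQ' c hcQ) hc2 hc_ne_u hc_ne_ui
    rcases zm_q8_third hu2 hu4 ht2 htu (hQ' b hbQ) (hQ' c hcQ) hbu hcu hb2 hc_ne_b hc_ne_bi
      with h0 | h0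
    · exact ⟨y, b, hy3, hyN, hbQ, hb2, hbu, hb.symm, by rw [← hc, h0]⟩
    · refine ⟨y⁻¹, c, by rw [inv_pow, hy3, inv_one], Subgroup.inv_mem _ hyN, hcQ, hc2, hcu,
        ?_, ?_⟩
      · rw [inv_inv, hc']
      · rw [inv_inv]
        have hbu'' : b * u = u⁻¹ * b := by
          calc b * u = (b * u * b⁻¹) * b := by group
            _ = u⁻¹ * b := by rw [hbu]
        calc y⁻¹ * c * y = b := by rw [hc]; group
          _ = u * (u⁻¹ * b) := by group
          _ = u * c := by rw [← hbu'', h0]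
  have hx₂1 : x₂ ≠ 1 := by
    intro h0
    rw [h0] at hx₂u
    apply hune
    have h1 : b₂ = u := by rw [← hx₂u]; group
    rw [h1] at hb₂u
    calc u = u * u * u⁻¹ := by group
      _ = u⁻¹ := hb₂u
  have hQle : Q₂ ≤ Subgroup.closure ({u, v, α} : Set G) := by
    rw [hQ₂, Subgroup.closure_le]
    intro w hw
    rcases hw with h0 | h0
    · rw [h0]; exact Subgroup.subset_closure (by simp)
    · have h1 : w = α * v := by rw [← ht]; exact h0
      rw [h1]
      exact Subgroup.mul_mem _ (Subgroup.subset_closure (by simp))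
        (Subgroup.subset_closure (by simp))
  have hbcl : b₂ ∈ Subgroup.closure ({u, v, α} : Set G) := hQle hb₂Q
  have hCS := h.h3 u v x α b₂ x₂ hs hαu hvα hbcl hb₂2 hb₂u hx₂3 hx₂u hx₂b
  obtain ⟨H, hH⟩ : ∃ H : Subgroup G, H = Subgroup.closure ({u, v, x, α, x₂} : Set G) :=
    ⟨_, rfl⟩
  rw [← hH] at hCS
  obtain ⟨K, hK⟩ : ∃ K : Subgroup G, K = Subgroup.closure ({α, v, x₂} : Set G) := ⟨_, rfl⟩
  have hKH : K ≤ H := by
    rw [hK, hH]
    apply Subgroup.closure_mono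
    intro w hw
    simp only [Set.mem_insert_iff, Set.mem_singleton_iff] at hw ⊢
    tauto
  have hαK : α ∈ K := by rw [hK]; exact Subgroup.subset_closure (by simp)
  have hvK : v ∈ K := by rw [hK]; exact Subgroup.subset_closure (by simp)
  have hx₂K : x₂ ∈ K := by rw [hK]; exact Subgroup.subset_closure (by simp)
  have hKN : K ≤ Subgroup.normalizer (Q₂ : Set G) := by
    rw [hK, Subgroup.closure_le]
    intro w hw
    rcases hw with h0 | h0 | h0
    · rw [h0]; exact hαN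
    · rw [h0]; exact hvN
    · have h1 : w = x₂ := h0
      rw [h1]; exact hx₂N
  -- the order of `K` is divisible by `48`
  have hα4 : α ^ 4 = u ^ 2 := by rw [← hα, ← pow_mul]
  have hα8 : α ^ 8 = 1 := by
    have h1 : α ^ 8 = (α ^ 2) ^ 4 := by rw [← pow_mul]
    rw [h1, hα, hu4]
  have hoα : orderOf α = 8 := by
    have h1 := orderOf_eq_prime_pow (x := α) (p := 2) (n := 2)
      (by rw [show (2 : ℕ) ^ 2 = 4 from rfl, hα4]; exact hu2)
      (by rw [show (2 : ℕ) ^ (2 + 1) = 8 from rfl]; exact hα8)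
    simpa using h1
  have hPα : IsPGroup 2 (Subgroup.zpowers α) :=
    IsPGroup.of_card (n := 3) (by rw [Nat.card_zpowers, hoα]; norm_num)
  have hv4 : v ^ 4 = 1 := by
    have h1 : v ^ 4 = (v ^ 2) ^ 2 := by rw [← pow_mul]
    rw [h1, hs.v2, ← pow_mul]; exact hu4
  have hov : orderOf v = 4 := by
    have h1 := orderOf_eq_prime_pow (x := v) (p := 2) (n := 1)
      (by rw [pow_one, hs.v2]; exact hu2)
      (by rw [show (2 : ℕ) ^ (1 + 1) = 4 from rfl]; exact hv4)
    simpa using h1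
  have hPv : IsPGroup 2 (Subgroup.zpowers v) :=
    IsPGroup.of_card (n := 2) (by rw [Nat.card_zpowers, hov]; norm_num)
  have hvnα : Subgroup.zpowers v ≤ Subgroup.normalizer (Subgroup.zpowers α : Set G) := by
    rw [Subgroup.zpowers_le]
    apply zm_mem_normalizer
    intro w hw
    obtain ⟨k, rfl⟩ := Subgroup.mem_zpowers_iff.mp hw
    rw [← conj_zpow, hvα]
    exact Subgroup.zpow_mem _ (Subgroup.inv_mem _ (Subgroup.mem_zpowers α)) k
  have hT2 : IsPGroup 2 (Subgroup.zpowers v ⊔ Subgroup.zpowers α : Subgroup G) :=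
    IsPGroup.to_sup_of_normal_right' hPv hPα hvnα
  obtain ⟨k, hk⟩ := hT2.exists_card_eq
  have hvα_notMem : v ∉ Subgroup.zpowers α := by
    intro h0
    obtain ⟨j, hj⟩ := Subgroup.mem_zpowers_iff.mp h0
    have h1 : v * α * v⁻¹ = α := by rw [← hj]; group
    rw [hvα] at h1
    apply hu2
    have h2 : u = 1 := by
      rw [← hα, pow_two]
      calc α * α = α * α⁻¹ := by rw [h1]
        _ = 1 := mul_inv_cancel α
    rw [h2]; simp
  have h16 : 16 ∣ Nat.card K := by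
    have hle : (Subgroup.zpowers v ⊔ Subgroup.zpowers α : Subgroup G) ≤ K :=
      sup_le (Subgroup.zpowers_le.mpr hvK) (Subgroup.zpowers_le.mpr hαK)
    have h1 := Subgroup.card_dvd_of_le hle
    have h2 : Nat.card (Subgroup.zpowers α) ≤
        Nat.card (Subgroup.zpowers v ⊔ Subgroup.zpowers α : Subgroup G) :=
      Subgroup.card_le_of_le le_sup_right
    rw [Nat.card_zpowers, hoα, hk] at h2
    have h3 : 2 ^ k ≠ 8 := by
      intro h0
      apply hvα_notMem
      have h4 : Subgroup.zpowers α = (Subgroup.zpowers v ⊔ Subgroup.zpowers α : Subgroup G) :=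
        Subgroup.eq_of_le_of_card_ge le_sup_right (by rw [hk, h0, Nat.card_zpowers, hoα])
      rw [h4]
      exact (le_sup_left : Subgroup.zpowers v ≤ _) (Subgroup.mem_zpowers v)
    have h5 : 4 ≤ k := by
      by_contra h6
      push Not at h6
      have h7 : 2 ^ k ≤ 2 ^ 3 := Nat.pow_le_pow_right (by norm_num) (by omega)
      norm_num at h7
      omega
    rw [hk] at h1
    exact (pow_dvd_pow 2 h5).trans h1
  have h3K : 3 ∣ Nat.card K := by
    have h1 : orderOf x₂ = 3 := orderOf_eq_prime hx₂3 hx₂1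
    rw [← h1]
    exact Subgroup.orderOf_dvd_natCard K hx₂K
  have h48 : 48 ∣ Nat.card K :=
    Nat.Coprime.mul_dvd_of_dvd_of_dvd (by norm_num : Nat.Coprime 16 3) h16 h3K
  have hKHc : Nat.card K ∣ Nat.card H := Subgroup.card_dvd_of_le hKH
  have hH48 : Nat.card H = 48 := by
    obtain ⟨c', hc'⟩ := h48.trans hKHc
    rcases hCS with h0 | h0 | h0 <;> omega
  have hK48 : Nat.card K = 48 := by
    rw [hH48] at hKHc
    exact Nat.dvd_antisymm hKHc h48
  have hKeq : K = H := Subgroup.eq_of_le_of_card_ge hKH (by rw [hH48, hK48])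
  have hxK : x ∈ K := by
    rw [hKeq, hH]; exact Subgroup.subset_closure (by simp)
  have hvQ : v ∈ Q₂ := by
    have h1 := hNconj x (hKN hxK) u hQu
    rwa [hs.xu] at h1
  obtain ⟨i, h0 | h0⟩ := zm_q8_mem ht2 htu (hQ' v hvQ)
  · apply hune
    have h1 : v * u * v⁻¹ = u := by rw [h0]; group
    rw [hs.vu] at h1
    exact h1.symm
  · rw [ht] at h0
    have h1 : α = u ^ (-i) := by
      have h2 : u ^ i * α = 1 := by
        have h3 : u ^ i * α * v = v := by rw [mul_assoc]; exact h0.symm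
        exact mul_eq_right.mp h3
      calc α = (u ^ i)⁻¹ * (u ^ i * α) := by group
        _ = u ^ (-i) := by rw [h2, mul_one, zpow_neg]
    apply hu2
    rw [← hα4, h1]
    calc (u ^ (-i)) ^ 4 = (u ^ 4) ^ (-i) := by
          rw [← zpow_natCast (u ^ (-i)) 4, ← zpow_mul, ← zpow_natCast u 4, ← zpow_mul, mul_comm]
      _ = 1 := by rw [hu4, one_zpow]

end Cfsg.Agent.Lib.helper97
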