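import Mathlib
import Cfsg.Prelude.Def_Transfer
import Cfsg.Agent.Lib.helper15.ZassDefs
import Cfsg.Agent.S3277
import Cfsg.Agent.S3378

/-!
S0690 (Zassenhaus), piece O: the final step.  A perfect group `G` with the local properties `ZH`
and a standard triple `u, v, x` such that `C_G(u) = ⟨u⟩` is `SL(2,5)`.
-/

set_option autoImplicit false

namespace Cfsg.Agent.Lib.helper97

open Cfsg.Agent.Lib.helper15.Zass
open scoped Pointwise

/-- A homomorphism from a perfect group to a solvable group is trivial. -/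
theorem zo_hom_trivial {G H : Type*} [Group G] [Group H] (hperf : commutator G = ⊤)
    [Group.IsSolvable H] (f : G →* H) (g : G) : f g = 1 := by
  have h1 : ∀ n, derivedSeries G n = ⊤ := by
    intro n
    induction n with
    | zero => rfl
    | succ n ih => rw [derivedSeries_succ, ih, ← commutator_def, hperf]
  obtain ⟨n, hn⟩ := Group.IsSolvable.solvable (G := H)
  have h2 := map_derivedSeries_le_derivedSeries f n
  rw [h1, hn] at h2
  have h3 : f g ∈ (⊤ : Subgroup G).map f := Subgroup.mem_map_of_mem f (Subgroup.mem_top g)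
  exact Subgroup.mem_bot.mp (h2 h3)

/-- The order of a Sylow `2`-subgroup of a group of order `120` is `8`. -/
theorem zo_card_sylow {G : Type*} [Group G] [Finite G] (hG : Nat.card G = 120) (P : Sylow 2 G) :
    Nat.card P = 8 := by
  have : Fact (Nat.Prime 2) := ⟨Nat.prime_two⟩
  obtain ⟨k, hk⟩ := P.isPGroup'.exists_card_eq
  have hdvd : Nat.card P ∣ 120 := hG ▸ Subgroup.card_subgroup_dvd_card (P : Subgroup G)
  have hidx : (P : Subgroup G).index * Nat.card P = 120 := by
    rw [Subgroup.index_mul_card, hG]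
  have hnd : ¬ 2 ∣ (P : Subgroup G).index := P.not_dvd_index
  have hk4 : k < 4 := by
    by_contra hk4
    push Not at hk4
    have h1 : 2 ^ 4 ∣ 2 ^ k := pow_dvd_pow 2 hk4
    rw [← hk] at h1
    have h2 := h1.trans hdvd
    norm_num at h2
  rw [hk] at hidx ⊢
  interval_cases k
  · exfalso; apply hnd; omega
  · exfalso; apply hnd; omega
  · exfalso; apply hnd; omega
  · norm_num

theorem zass_end {G : Type*} [Group G] [Finite G] (h : ZH G) (hperf : commutator G = ⊤)
    (u v x : G) (hs : Std u v x)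
    (hcu : ∀ c : G, c * u = u * c → c ∈ Subgroup.zpowers u) :
    Nonempty (G ≃* Matrix.SpecialLinearGroup (Fin 2) (ZMod 5)) := by
  classical
  have : Fact (Nat.Prime 2) := ⟨Nat.prime_two⟩
  obtain ⟨z, hz⟩ : ∃ z : G, z = u ^ 2 := ⟨_, rfl⟩
  have hz1 : z ≠ 1 := hz ▸ hs.u2
  have hz2 : z ^ 2 = 1 := by rw [hz, ← pow_mul]; exact hs.u4
  have hzc : ∀ g : G, g * z = z * g := by
    intro g
    have h1 : g * z * g⁻¹ = z := by
      apply h.invol _ _ _ hz1 _ hz2
      · intro h0
        apply hz1
        have h2 : z = g⁻¹ * (g * z * g⁻¹) * g := by group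
        rw [h2, h0]; group
      · rw [conj_pow, hz2]; group
    calc g * z = g * z * g⁻¹ * g := by group
      _ = z * g := by rw [h1]
  have hu1 : u ≠ 1 := by
    intro h0; apply hs.u2; rw [h0]; simp
  have huinv : u⁻¹ = z * u := by
    rw [hz]
    have h4 := hs.u4
    calc u⁻¹ = u⁻¹ * u ^ 4 := by rw [h4, mul_one]
      _ = u ^ 2 * u := by group
  have hvu : ¬ v * u = u * v := by
    intro h0
    have h1 := hs.vu
    rw [h0, mul_inv_cancel_right] at h1
    apply hs.u2
    calc u ^ 2 = u * u := pow_two u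
      _ = u * u⁻¹ := by rw [← h1]
      _ = 1 := mul_inv_cancel u
  -- the central subgroup `Z = ⟨z⟩`
  obtain ⟨Z, hZ⟩ : ∃ Z : Subgroup G, Z = Subgroup.zpowers z := ⟨_, rfl⟩
  have hZmem : ∀ n : G, n ∈ Z ↔ n = 1 ∨ n = z := by
    intro n
    rw [hZ]
    constructor
    · rintro ⟨k, rfl⟩
      rcases Int.even_or_odd' k with ⟨m, rfl | rfl⟩
      · left
        show z ^ (2 * m) = 1
        rw [zpow_mul, zpow_ofNat, hz2, one_zpow]
      · right
        show z ^ (2 * m + 1) = z
        rw [zpow_add, zpow_mul, zpow_ofNat, hz2, one_zpow, one_mul, zpow_one]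
    · rintro (rfl | rfl)
      · exact one_mem _
      · exact Subgroup.mem_zpowers _
  have hZcomm : ∀ n ∈ Z, ∀ g : G, g * n = n * g := by
    intro n hn g
    rcases (hZmem n).mp hn with rfl | rfl
    · simp
    · exact hzc g
  have hZn : Z.Normal := by
    refine ⟨fun n hn g => ?_⟩
    have h1 := hZcomm n hn g
    rw [h1, mul_inv_cancel_right]
    exact hn
  have hZcard : Nat.card Z = 2 := by
    rw [hZ, Nat.card_zpowers]
    exact orderOf_eq_prime hz2 hz1
  have huZ : u ∉ Z := by
    intro h0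
    rcases (hZmem u).mp h0 with h1 | h1
    · exact hu1 h1
    · apply hu1
      rw [hz, pow_two] at h1
      exact (mul_eq_left.mp h1.symm)
  have hvZ : v ∉ Z := fun h0 => hvu ((hZcomm v h0 u).symm)
  -- the quotient
  let π : G →* G ⧸ Z := QuotientGroup.mk' Z
  have hπ1 : ∀ g : G, π g = 1 ↔ g ∈ Z := fun g => QuotientGroup.eq_one_iff g
  have hπs : Function.Surjective π := QuotientGroup.mk'_surjective Z
  have hU2 : π u ^ 2 = 1 := by
    rw [← map_pow, hπ1, ← hz]
    exact (hZmem z).mpr (Or.inr rfl)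
  have hU1 : π u ≠ 1 := fun h0 => huZ ((hπ1 u).mp h0)
  have hV2 : π v ^ 2 = 1 := by
    rw [← map_pow, hπ1, hs.v2, ← hz]
    exact (hZmem z).mpr (Or.inr rfl)
  have hV1 : π v ≠ 1 := fun h0 => hvZ ((hπ1 v).mp h0)
  have hUinv : (π u)⁻¹ = π u := by
    rw [inv_eq_iff_mul_eq_one, ← pow_two]; exact hU2
  have hVinv : (π v)⁻¹ = π v := by
    rw [inv_eq_iff_mul_eq_one, ← pow_two]; exact hV2
  have hVU : π v * π u = π u * π v := by
    have h1 : π (v * u * v⁻¹) = π (u⁻¹) := by rw [hs.vu]
    rw [map_mul, map_mul, map_inv, map_inv, hUinv] at h1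
    calc π v * π u = π v * π u * (π v)⁻¹ * π v := by group
      _ = π u * π v := by rw [h1]
  have hUV : π u ≠ π v := by
    intro h0
    have h1 : π (u⁻¹ * v) = 1 := by rw [map_mul, map_inv, h0, inv_mul_cancel]
    have h2 := hZcomm _ ((hπ1 _).mp h1) u
    apply hvu
    calc v * u = u * (u⁻¹ * v * u) := by group
      _ = u * (u * (u⁻¹ * v)) := by rw [h2]
      _ = u * v := by group
  -- the centralizer of `π u`
  have hcent : ∀ c : G ⧸ Z, c * π u = π u * c →
      c = 1 ∨ c = π u ∨ c = π v ∨ c = π v * π u := by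
    intro c hc
    obtain ⟨g, rfl⟩ := hπs c
    have h1 : π (g * u * g⁻¹ * u⁻¹) = 1 := by
      rw [map_mul, map_mul, map_mul, map_inv, map_inv, hc]; group
    have hpow : ∀ w : G, w ∈ Subgroup.zpowers u → π w = 1 ∨ π w = π u := by
      rintro w ⟨k, rfl⟩
      rcases Int.even_or_odd' k with ⟨m, rfl | rfl⟩
      · left
        show π (u ^ (2 * m)) = 1
        rw [map_zpow, zpow_mul, zpow_ofNat, hU2, one_zpow]
      · right
        show π (u ^ (2 * m + 1)) = π u
        rw [map_zpow, zpow_add, zpow_mul, zpow_ofNat, hU2, one_zpow, one_mul, zpow_one]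
    rcases (hZmem _).mp ((hπ1 _).mp h1) with h2 | h2
    · have h3 : g * u = u * g := by
        calc g * u = g * u * g⁻¹ * u⁻¹ * u * g := by group
          _ = u * g := by rw [h2]; group
      rcases hpow g (hcu g h3) with h4 | h4
      · exact Or.inl h4
      · exact Or.inr (Or.inl h4)
    · have h3 : v⁻¹ * g * u = u * (v⁻¹ * g) := by
        have h4 : g * u = z * u * g := by
          calc g * u = g * u * g⁻¹ * u⁻¹ * u * g := by group
            _ = z * u * g := by rw [h2]
        have h5 : v⁻¹ * u⁻¹ = u * v⁻¹ := by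
          have := hs.vu
          calc v⁻¹ * u⁻¹ = v⁻¹ * (v * u * v⁻¹) := by rw [this]
            _ = u * v⁻¹ := by group
        calc v⁻¹ * g * u = v⁻¹ * (g * u) := by group
          _ = v⁻¹ * (z * u * g) := by rw [h4]
          _ = v⁻¹ * u⁻¹ * g := by rw [huinv]; group
          _ = u * (v⁻¹ * g) := by rw [h5]; group
      rcases hpow _ (hcu _ h3) with h4 | h4
      · right; right; left
        rw [map_mul, map_inv, inv_mul_eq_one] at h4
        exact h4.symm
      · right; right; right
        rw [map_mul, map_inv, inv_mul_eq_iff_eq_mul] at h4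
        exact h4
  have hx : orderOf (π u) = 2 := orderOf_eq_prime hU2 hU1
  have hCset : ((Subgroup.centralizer ({π u} : Set (G ⧸ Z)) : Subgroup (G ⧸ Z)) : Set (G ⧸ Z)) =
      {1, π u, π v, π v * π u} := by
    ext c
    simp only [SetLike.mem_coe, Subgroup.mem_centralizer_singleton_iff, Set.mem_insert_iff,
      Set.mem_singleton_iff]
    constructor
    · exact hcent c
    · rintro (rfl | rfl | rfl | rfl)
      · simp
      · rfl
      · exact hVU
      · rw [← mul_assoc (π u), ← hVU]
  have hC4 : Nat.card ↥(Subgroup.centralizer ({π u} : Set (G ⧸ Z))) = 4 := by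
    have h1 : Nat.card ↥(Subgroup.centralizer ({π u} : Set (G ⧸ Z))) =
        Set.ncard ((Subgroup.centralizer ({π u} : Set (G ⧸ Z)) : Subgroup (G ⧸ Z)) :
          Set (G ⧸ Z)) := (Nat.card_coe_set_eq _)
    rw [h1, hCset]
    have hVVU : π v ≠ π v * π u := by
      intro h0
      exact hU1 (mul_eq_left.mp h0.symm)
    have hUVU : π u ≠ π v * π u := by
      intro h0
      exact hV1 (mul_eq_right.mp h0.symm)
    have h1VU : (1 : G ⧸ Z) ≠ π v * π u := by
      intro h0
      have h2 : π v = (π u)⁻¹ := eq_inv_of_mul_eq_one_left h0.symm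
      rw [hUinv] at h2
      exact hUV h2.symm
    rw [Set.ncard_insert_of_notMem (by
        simp only [Set.mem_insert_iff, Set.mem_singleton_iff]
        push Not
        exact ⟨hU1.symm, hV1.symm, h1VU⟩),
      Set.ncard_insert_of_notMem (by
        simp only [Set.mem_insert_iff, Set.mem_singleton_iff]
        push Not
        exact ⟨hUV, hUVU⟩),
      Set.ncard_pair hVVU]
  have hCe : ∀ c ∈ Subgroup.centralizer ({π u} : Set (G ⧸ Z)), c ^ 2 = 1 := by
    intro c hc
    rcases hcent c (Subgroup.mem_centralizer_singleton_iff.mp hc) with rfl | rfl | rfl | rfl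
    · simp
    · exact hU2
    · exact hV2
    · rw [pow_two, mul_assoc, ← mul_assoc (π u), ← hVU, mul_assoc, ← pow_two, hU2, mul_one,
        ← pow_two, hV2]
  -- no normal `2`-complement
  have hnc : ¬ Cfsg.HasNormalPComplement 2 (G ⧸ Z) := by
    rintro ⟨P, N, hN, hc⟩
    have hidx : N.index = Nat.card P := hc.symm.index_eq_card
    have hPG : IsPGroup 2 ((G ⧸ Z) ⧸ N) := by
      obtain ⟨k, hk⟩ := P.isPGroup'.exists_card_eq
      apply IsPGroup.of_card (n := k)
      rw [← hk, ← hidx]
      rfl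
    have : Group.IsNilpotent ((G ⧸ Z) ⧸ N) := hPG.isNilpotent
    have htriv : ∀ c : G ⧸ Z, c ∈ N := by
      intro c
      obtain ⟨g, rfl⟩ := hπs c
      have h1 := zo_hom_trivial hperf ((QuotientGroup.mk' N).comp π) g
      exact (QuotientGroup.eq_one_iff _).mp h1
    have hodd : ¬ 2 ∣ Nat.card N := by
      have h1 : (P : Subgroup (G ⧸ Z)).index = Nat.card N := hc.index_eq_card
      rw [← h1]
      exact P.not_dvd_index
    apply hodd
    have h2 : orderOf (⟨π u, htriv _⟩ : N) = 2 := by
      rw [← Subgroup.orderOf_coe]; exact hx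
    rw [← h2]
    exact orderOf_dvd_natCard _
  -- no small normal elementary abelian subgroups
  have hne : ∀ E : Subgroup (G ⧸ Z), E.Normal → Cfsg.IsElementaryAbelian 2 E →
      Nat.card ↥E ≠ 2 ∧ Nat.card ↥E ≠ 4 := by
    intro E hE _
    by_contra hcon
    have h24 : Nat.card E = 2 ∨ Nat.card E = 4 := by omega
    have hsol : Group.IsSolvable (Equiv.Perm E) := by
      apply Cfsg.Agent.Lib.helper61.SL25U.isSolvable_of_card_lt_sixty
      rw [Nat.card_perm]
      rcases h24 with h0 | h0 <;> rw [h0] <;> decide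
    have hcentral : ∀ g : G, ∀ e ∈ E, π g * e * (π g)⁻¹ = e := by
      intro g e he
      have h1 := zo_hom_trivial hperf
        ((MulAut.toPerm E).comp ((MulAut.conjNormal (H := E)).comp π)) g
      have h2 := congrArg (fun σ : Equiv.Perm E => ((σ ⟨e, he⟩ : E) : G ⧸ Z)) h1
      have h3 : (((MulAut.conjNormal (H := E) (π g)) ⟨e, he⟩ : E) : G ⧸ Z) = e := h2
      rw [MulAut.conjNormal_apply] at h3
      exact h3
    have hnt : Nontrivial E := by
      rw [← Finite.one_lt_card_iff_nontrivial]
      omega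
    obtain ⟨e, he1⟩ := exists_ne (1 : E)
    have he1' : (e : G ⧸ Z) ≠ 1 := fun h0 => he1 (Subtype.ext h0)
    have hecomm : ∀ g : G, π g * (e : G ⧸ Z) = (e : G ⧸ Z) * π g := by
      intro g
      have h1 := hcentral g e e.2
      calc π g * (e : G ⧸ Z) = π g * (e : G ⧸ Z) * (π g)⁻¹ * π g := by group
        _ = (e : G ⧸ Z) * π g := by rw [h1]
    have hXU : π x * π u = π v * π x := by
      have h1 : π (x * u * x⁻¹) = π v := by rw [hs.xu]
      rw [map_mul, map_mul, map_inv] at h1
      rw [← h1]; group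
    have hXV : π x * π v = π u * π v * π x := by
      have h1 : π (x * v * x⁻¹) = π (u * v) := by rw [hs.xv]
      rw [map_mul, map_mul, map_inv, map_mul] at h1
      rw [← h1]; group
    rcases hcent e (hecomm u).symm with h0 | h0 | h0 | h0
    · exact he1' h0
    · have h1 := hecomm x
      rw [h0, hXU] at h1
      exact hUV (mul_right_cancel h1).symm
    · have h1 := hecomm x
      rw [h0, hXV] at h1
      have h2 := mul_right_cancel h1
      exact hU1 (mul_eq_right.mp h2)
    · have h1 := hecomm x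
      rw [h0, ← mul_assoc, hXV, mul_assoc, mul_assoc, hXU, ← mul_assoc, ← mul_assoc,
        mul_assoc (π u), ← pow_two, hV2, mul_one] at h1
      have h2 := mul_right_cancel h1
      exact hV1 (mul_eq_right.mp h2.symm)
  obtain ⟨e5⟩ := Cfsg.Agent.S3277.result (π u) hx hC4 hCe hnc hne
  have hQ60 : Nat.card (G ⧸ Z) = 60 := by
    rw [Nat.card_congr e5.toEquiv, nat_card_alternatingGroup]
    simp [Nat.factorial]
  have hG120 : Nat.card G = 120 := by
    rw [Subgroup.card_eq_card_quotient_mul_card_subgroup Z, hQ60, hZcard]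
  have hns : ¬ Group.IsSolvable G := by
    intro hsol
    have : Nontrivial G := ⟨⟨u, 1, hu1⟩⟩
    have h1 := Group.IsSolvable.commutator_lt_top_of_nontrivial G
    rw [hperf] at h1
    exact lt_irrefl _ h1
  have hu4 : orderOf u = 4 := by
    have h1 := orderOf_eq_prime_pow (x := u) (p := 2) (n := 1) (by simpa using hs.u2)
      (by simpa using hs.u4)
    simpa using h1
  have hPu : IsPGroup 2 (Subgroup.zpowers u) :=
    IsPGroup.of_card (n := 2) (by rw [Nat.card_zpowers, hu4]; norm_num)
  refine Cfsg.Agent.S3378.result.1 G hG120 hns ?_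
  intro P
  have hP8 := zo_card_sylow hG120 P
  rcases h.pgrp 2 (P : Subgroup G) P.isPGroup' with hcyc | ⟨-, n, ⟨e⟩⟩
  · exfalso
    obtain ⟨P₂, hP₂⟩ := hPu.exists_le_sylow
    obtain ⟨a, ha⟩ := MulAction.exists_smul_eq G P₂ P
    have ha' : (P : Subgroup G) = MulAut.conj a • (P₂ : Subgroup G) := by
      rw [← ha, Sylow.smul_def, Sylow.pointwise_smul_def]
    have hmem : ∀ p ∈ P₂, a * p * a⁻¹ ∈ (P : Subgroup G) := by
      intro p hp
      rw [ha']
      exact (Subgroup.mem_smul_pointwise_iff_exists _ _ _).mpr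
        ⟨p, hp, by simp [MulAut.smul_def]⟩
    have hcomm : ∀ p ∈ P₂, p * u = u * p := by
      intro p hp
      have h1 := hmem p hp
      have h2 := hmem u (hP₂ (Subgroup.mem_zpowers u))
      have h3 : (⟨_, h1⟩ : (P : Subgroup G)) * ⟨_, h2⟩ = ⟨_, h2⟩ * ⟨_, h1⟩ := mul_comm' _ _
      have h4 : (a * p * a⁻¹) * (a * u * a⁻¹) = (a * u * a⁻¹) * (a * p * a⁻¹) :=
        congrArg Subtype.val h3
      calc p * u = a⁻¹ * ((a * p * a⁻¹) * (a * u * a⁻¹)) * a := by group
        _ = u * p := by rw [h4]; group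
    have hle : (P₂ : Subgroup G) ≤ Subgroup.zpowers u := fun p hp => hcu p (hcomm p hp)
    have h5 := Subgroup.card_le_of_le hle
    rw [Nat.card_zpowers, hu4] at h5
    have h6 := zo_card_sylow hG120 P₂
    omega
  · have h1 : Nat.card (P : Subgroup G) = Nat.card (QuaternionGroup (2 ^ n)) :=
      Nat.card_congr e.toEquiv
    rw [hP8, Nat.card_eq_fintype_card, QuaternionGroup.card] at h1
    have hn : n = 1 := by
      rcases n with _ | _ | n
      · simp at h1
      · rfl
      · exfalso
        have h2 : 2 ^ (n + 1 + 1) = 4 * 2 ^ n := by ring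
        have h3 : 1 ≤ 2 ^ n := Nat.one_le_two_pow
        omega
    subst hn
    rw [pow_one] at e
    exact ⟨e⟩

end Cfsg.Agent.Lib.helper97
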