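import Mathlib
import Cfsg.Agent.Lib.helper16.U34CDefs

/-! S1903 piece A3 (`d3_of_d12`): `G'/Z` is elementary abelian and `x` acts on it without fixed
points. -/

set_option autoImplicit false
set_option linter.unusedSectionVars false
set_option linter.unusedVariables false

namespace Cfsg.Agent.Lib.helper16.U34C

open Cfsg
open scoped commutatorElement

/-- A nontrivial finite `2`-subgroup is not equal to its own commutator subgroup. -/
theorem helper97_comm_ne_self {G : Type*} [Group G] (N : Subgroup G) [Finite N]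
    (hN : IsPGroup 2 N) (hne : N ≠ ⊥) : ⁅N, N⁆ ≠ N := by
  intro hNN
  have hnil : Group.IsNilpotent N := hN.isNilpotent
  have hnt : Nontrivial N := (Subgroup.nontrivial_iff_ne_bot N).mpr hne
  have hlt := Group.IsSolvable.commutator_lt_top_of_nontrivial N
  have e1 : Subgroup.map N.subtype (commutator N) = Subgroup.map N.subtype ⊤ := by
    rw [Subgroup.map_subtype_commutator, hNN, ← MonoidHom.range_eq_map, Subgroup.range_subtype]
  have e2 := Subgroup.map_injective N.subtype_injective e1
  exact (ne_of_lt hlt) e2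

/-- PIECE A3 -/
theorem helper97_d3_of_d12 {G : Type*} [Group G] [Finite G] (hD : Nat.card (commutator G) = 64)
    {x : G} {Z : Subgroup G} (h1 : D1 x Z) (h2 : D2 x Z) : D3 x Z := by
  have hPn : (commutator G).Normal := inferInstance
  have hZn : Z.Normal := by
    constructor
    intro z hz g
    have := h1.Zc z hz g
    have e : g * z * g⁻¹ = z := by rw [← this, mul_inv_cancel_right]
    rw [e]
    exact hz
  have hxZ : ∀ z ∈ Z, x * z * x⁻¹ = z := by
    intro z hz
    rw [← h1.Zc z hz x, mul_inv_cancel_right]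
  have hP2 : IsPGroup 2 (commutator G) := IsPGroup.of_card (n := 6) (by rw [hD]; norm_num)
  -- `Z ≠ G'`
  have hZne : Z ≠ commutator G := by
    intro h
    have := h1.cardZ
    rw [h, hD] at this
    omega
  -- the commutator part
  have hcomm : ∀ g ∈ commutator G, ∀ h ∈ commutator G, ⁅g, h⁆ ∈ Z := by
    have hP'n : (⁅commutator G, commutator G⁆ : Subgroup G).Normal := inferInstance
    have hP'le : ⁅commutator G, commutator G⁆ ≤ commutator G := Subgroup.commutator_le_right _ _
    have hK := h2.inv (Z ⊔ ⁅commutator G, commutator G⁆) le_sup_left (sup_le h1.ZP hP'le) (by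
      intro k hk
      have hKn : (Z ⊔ ⁅commutator G, commutator G⁆ : Subgroup G).Normal := inferInstance
      exact hKn.conj_mem k hk x)
    rcases hK with hK | hK
    · intro g hg h hh
      have : ⁅g, h⁆ ∈ Z ⊔ ⁅commutator G, commutator G⁆ :=
        le_sup_right (a := Z) (Subgroup.commutator_mem_commutator hg hh)
      rw [hK] at this
      exact this
    · exfalso
      -- `P' ≤ P''`
      have hle : ⁅commutator G, commutator G⁆
          ≤ ⁅⁅commutator G, commutator G⁆, ⁅commutator G, commutator G⁆⁆ := by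
        rw [Subgroup.commutator_le]
        intro g hg h hh
        rw [← hK, Subgroup.mem_sup_of_normal_right] at hg hh
        obtain ⟨z1, hz1, q1, hq1, rfl⟩ := hg
        obtain ⟨z2, hz2, q2, hq2, rfl⟩ := hh
        have e : ⁅z1 * q1, z2 * q2⁆ = ⁅q1, q2⁆ := by
          have c1 := h1.Zc z1 hz1
          have c2 := h1.Zc z2 hz2
          rw [commutatorElement_def, commutatorElement_def]
          calc z1 * q1 * (z2 * q2) * (z1 * q1)⁻¹ * (z2 * q2)⁻¹
              = z1 * (q1 * (z2 * (q2 * q1⁻¹ * z1⁻¹ * q2⁻¹))) * z2⁻¹ := by group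
            _ = q1 * (z2 * (q2 * q1⁻¹ * z1⁻¹ * q2⁻¹)) * z1 * z2⁻¹ := by rw [c1]
            _ = q1 * ((q2 * q1⁻¹ * z1⁻¹ * q2⁻¹) * z2) * z1 * z2⁻¹ := by rw [c2]
            _ = q1 * q2 * q1⁻¹ * (z1⁻¹ * (q2⁻¹ * z2 * z1)) * z2⁻¹ := by group
            _ = q1 * q2 * q1⁻¹ * ((q2⁻¹ * z2 * z1) * z1⁻¹) * z2⁻¹ := by
                rw [← h1.Zc z1⁻¹ (Z.inv_mem hz1)]
            _ = q1 * q2 * q1⁻¹ * q2⁻¹ := by group
        rw [e]
        exact Subgroup.commutator_mem_commutator hq1 hq2
      have heq : ⁅⁅commutator G, commutator G⁆, ⁅commutator G, commutator G⁆⁆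
          = ⁅commutator G, commutator G⁆ :=
        le_antisymm (Subgroup.commutator_le_right _ _) hle
      have hP'2 : IsPGroup 2 (⁅commutator G, commutator G⁆ : Subgroup G) := hP2.to_le hP'le
      by_cases hbot : (⁅commutator G, commutator G⁆ : Subgroup G) = ⊥
      · -- `P` abelian, so `P ≤ Z`
        apply hZne
        apply le_antisymm h1.ZP
        intro g hg
        apply h1.cen g hg
        intro h hh
        have : ⁅g, h⁆ ∈ (⁅commutator G, commutator G⁆ : Subgroup G) :=
          Subgroup.commutator_mem_commutator hg hh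
        rw [hbot, Subgroup.mem_bot, commutatorElement_eq_one_iff_mul_comm] at this
        exact this
      · exact helper97_comm_ne_self _ hP'2 hbot heq
  -- the square part
  have hsq : ∀ g ∈ commutator G, g ^ 2 ∈ Z := by
    let K : Subgroup G :=
      { carrier := {g | g ∈ commutator G ∧ g ^ 2 ∈ Z}
        mul_mem' := by
          rintro g h ⟨hg, hg2⟩ ⟨hh, hh2⟩
          refine ⟨mul_mem hg hh, ?_⟩
          have hc : ⁅h⁻¹, g⁻¹⁆ ∈ Z := hcomm _ (inv_mem hh) _ (inv_mem hg)
          have e : (g * h) ^ 2 = g ^ 2 * h ^ 2 * ⁅h⁻¹, g⁻¹⁆ := by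
            have c := h1.Zc _ hc h
            calc (g * h) ^ 2 = g * g * (h * ⁅h⁻¹, g⁻¹⁆) * h := by
                  rw [commutatorElement_def, pow_two]; group
              _ = g * g * (⁅h⁻¹, g⁻¹⁆ * h) * h := by rw [c]
              _ = g * g * (⁅h⁻¹, g⁻¹⁆ * (h * h)) := by simp only [mul_assoc]
              _ = g * g * ((h * h) * ⁅h⁻¹, g⁻¹⁆) := by rw [h1.Zc _ hc (h * h)]
              _ = g ^ 2 * h ^ 2 * ⁅h⁻¹, g⁻¹⁆ := by rw [pow_two, pow_two]; simp only [mul_assoc]
          rw [e]
          exact mul_mem (mul_mem hg2 hh2) hc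
        one_mem' := ⟨one_mem _, by rw [one_pow]; exact one_mem _⟩
        inv_mem' := by
          rintro g ⟨hg, hg2⟩
          refine ⟨inv_mem hg, ?_⟩
          rw [inv_pow]
          exact inv_mem hg2 }
    have hKmem : ∀ g, g ∈ K ↔ g ∈ commutator G ∧ g ^ 2 ∈ Z := fun g => Iff.rfl
    have hK := h2.inv K (by
        intro z hz
        rw [hKmem]
        refine ⟨h1.ZP hz, ?_⟩
        rw [h1.Z2 z hz]
        exact one_mem _) (fun g hg => hg.1) (by
        intro k hk
        rw [hKmem] at hk ⊢
        refine ⟨hPn.conj_mem k hk.1 x, ?_⟩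
        have e : (x * k * x⁻¹) ^ 2 = x * k ^ 2 * x⁻¹ := by rw [pow_two, pow_two]; group
        rw [e, hxZ _ hk.2]
        exact hk.2)
    rcases hK with hK | hK
    · exfalso
      -- an element of `P ∖ Z`
      have hex : ∃ g₀ ∈ commutator G, g₀ ∉ Z := by
        by_contra hcon
        apply hZne
        apply le_antisymm h1.ZP
        intro g hg
        by_contra hgZ
        exact hcon ⟨g, hg, hgZ⟩
      obtain ⟨g₀, hg₀, hg₀Z⟩ := hex
      have h64 : g₀ ^ 2 ^ 6 = 1 := by
        have := pow_card_eq_one' (G := commutator G) (x := ⟨g₀, hg₀⟩)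
        rw [hD] at this
        have := congrArg Subtype.val this
        simpa using this
      have hexj : ∃ j : ℕ, g₀ ^ 2 ^ j ∈ Z := ⟨6, by rw [h64]; exact one_mem _⟩
      classical
      have hj := Nat.find_spec hexj
      have hj0 : Nat.find hexj ≠ 0 := by
        intro h0
        rw [h0] at hj
        simp only [pow_zero, pow_one] at hj
        exact hg₀Z hj
      obtain ⟨j, hjs⟩ := Nat.exists_eq_succ_of_ne_zero hj0
      have hmin : g₀ ^ 2 ^ j ∉ Z := Nat.find_min hexj (by rw [hjs]; exact Nat.lt_succ_self j)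
      have hin : g₀ ^ 2 ^ j ∈ K := by
        rw [hKmem]
        refine ⟨pow_mem hg₀ _, ?_⟩
        rw [← pow_mul, ← pow_succ, ← Nat.succ_eq_add_one, ← hjs]
        exact hj
      rw [hK] at hin
      exact hmin hin
    · intro g hg
      have : g ∈ K := by rw [hK]; exact hg
      exact this.2
  -- fixed-point-freeness
  have hfpf : ∀ g ∈ commutator G, g⁻¹ * (x * g * x⁻¹) ∈ Z → g ∈ Z := by
    intro g hg hz
    set z := g⁻¹ * (x * g * x⁻¹) with hzdef
    have hxg : x * g * x⁻¹ = g * z := by rw [hzdef]; group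
    have hpow : ∀ k : ℕ, x ^ k * g * (x ^ k)⁻¹ = g * z ^ k := by
      intro k
      induction k with
      | zero => simp
      | succ k ih =>
        have hzk : z ^ k ∈ Z := pow_mem hz k
        calc x ^ (k + 1) * g * (x ^ (k + 1))⁻¹ = x * (x ^ k * g * (x ^ k)⁻¹) * x⁻¹ := by
              rw [pow_succ']; group
          _ = x * (g * z ^ k) * x⁻¹ := by rw [ih]
          _ = (x * g * x⁻¹) * (x * z ^ k * x⁻¹) := by group
          _ = g * z * z ^ k := by rw [hxg, hxZ _ hzk]
          _ = g * z ^ (k + 1) := by rw [pow_succ', mul_assoc]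
    have h5 := hpow 5
    rw [h1.x5] at h5
    have hz5 : z ^ 5 = 1 := by
      have : g * z ^ 5 = g := by rw [← h5]; group
      exact mul_eq_left.mp this
    have hz2 : z ^ 2 = 1 := h1.Z2 z hz
    have hz1 : z = 1 := by
      have e5 : z ^ 5 = z ^ 2 * z ^ 2 * z := by rw [← pow_add, ← pow_succ]
      rw [hz5, hz2, one_mul, one_mul] at e5
      exact e5.symm
    apply h2.fix g hg
    rw [hxg, hz1, mul_one]
  exact ⟨hcomm, hsq, hfpf⟩

end Cfsg.Agent.Lib.helper16.U34C
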