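import Mathlib
import Cfsg.Agent.Lib.helper2.BGDefs
import Cfsg.Agent.Lib.helper20.D1EFinal
import Cfsg.Agent.Lib.helper4.CharDecomp
import Cfsg.Agent.Lib.helper81.Kernel
import Cfsg.Agent.Lib.helper81.CharOrtho
import Cfsg.Agent.Lib.helper81.CharBasic
import Cfsg.Agent.Lib.helper97.BFB6a
import Cfsg.Agent.Lib.helper79.GaloisChar
import Cfsg.Agent.Lib.helper48.BGBC
import Cfsg.Agent.Lib.helper82.BGP

/-!
# S4504 piece K (`Dlam_formula`)

For `χ ≠ ψ, ψ'` (`ψ' = ψ ∘ (· ^ mp)`) with the central character of `ψ`: `<χ, ψ - ψ'> = 0` and the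
TI counting `norm_TI` give `χ(x) = χ(x ^ mp)`; so only `ψ` and `ψ'` survive in the sum.
-/

set_option autoImplicit false

open Cfsg Cfsg.Agent.Lib.helper20.D1E Cfsg.Agent.Lib.helper2.BF
open scoped ComplexConjugate

namespace Cfsg.Agent.Lib.helper2.BG

universe u

variable {G : Type*} [Group G] [Fintype G]

omit [Fintype G] in
/-- A class function takes the same value on `x ^ j` and on `x ^ (j r)` for `r ∈ H`. -/
theorem helper97_k_conj_pow (p : ℕ) (x : G) (H : Subgroup (ZMod p)ˣ)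
    (hH : ∀ r : (ZMod p)ˣ, r ∈ H ↔ ∃ n : G, n * x * n⁻¹ = x ^ ((r : ZMod p).val))
    (f : G → ℂ) (hf : IsClassFunction G f) (r : (ZMod p)ˣ) (hr : r ∈ H) (j : ℕ) :
    f (x ^ (j * (r : ZMod p).val)) = f (x ^ j) := by
  obtain ⟨n, hn⟩ := (hH r).mp hr
  have h1 : n * x ^ j * n⁻¹ = x ^ (j * (r : ZMod p).val) := by
    rw [← conj_pow, hn, ← pow_mul, mul_comm]
  rw [← h1]
  exact hf (x ^ j) n

omit [Fintype G] in
/-- Exponents of `x` only matter modulo `p`. -/
theorem helper97_k_pow_congr (p : ℕ) (x : G) (hxp : x ^ p = 1) (a b : ℕ)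
    (hab : (a : ZMod p) = (b : ZMod p)) : x ^ a = x ^ b := by
  rw [ZMod.natCast_eq_natCast_iff] at hab
  rw [pow_eq_pow_iff_modEq]
  exact hab.of_dvd (orderOf_dvd_of_pow_eq_one hxp)

omit [Fintype G] in
/-- The values of a class function on the powers of `x`, `H` of index 2, `c ∉ H`, `mp ≡ c`. -/
theorem helper97_k_values (p : ℕ) [Fact p.Prime] (x : G) (hxp : x ^ p = 1)
    (H : Subgroup (ZMod p)ˣ)
    (hH : ∀ r : (ZMod p)ˣ, r ∈ H ↔ ∃ n : G, n * x * n⁻¹ = x ^ ((r : ZMod p).val))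
    (hidx : H.index = 2) (c : (ZMod p)ˣ) (hc : c ∉ H) (mp : ℕ)
    (hmc : (mp : ZMod p) = (c : ZMod p)) (f : G → ℂ) (hf : IsClassFunction G f)
    (u : (ZMod p)ˣ) :
    (u ∈ H → f (x ^ (u : ZMod p).val) = f x ∧ f (x ^ ((u : ZMod p).val * mp)) = f (x ^ mp)) ∧
    (u ∉ H → f (x ^ (u : ZMod p).val) = f (x ^ mp) ∧ f (x ^ ((u : ZMod p).val * mp)) = f x) := by
  constructor
  · intro hu
    constructor
    · have h1 := helper97_k_conj_pow p x H hH f hf u hu 1
      rwa [one_mul, pow_one] at h1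
    · have h1 := helper97_k_conj_pow p x H hH f hf u hu mp
      rwa [mul_comm] at h1
  · intro hu
    have hr : c⁻¹ * u ∈ H := by
      rw [Subgroup.mul_mem_iff_of_index_two hidx, inv_mem_iff]
      exact ⟨fun h => absurd h hc, fun h => absurd h hu⟩
    have hr' : u * c ∈ H := by
      rw [Subgroup.mul_mem_iff_of_index_two hidx]
      exact ⟨fun h => absurd h hu, fun h => absurd h hc⟩
    constructor
    · have h1 := helper97_k_conj_pow p x H hH f hf (c⁻¹ * u) hr mp
      have h2 : x ^ (u : ZMod p).val = x ^ (mp * ((c⁻¹ * u : (ZMod p)ˣ) : ZMod p).val) := by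
        apply helper97_k_pow_congr p x hxp
        rw [Nat.cast_mul, ZMod.natCast_zmod_val, ZMod.natCast_zmod_val, hmc, ← Units.val_mul,
          mul_inv_cancel_left]
      rw [h2]
      exact h1
    · have h1 := helper97_k_conj_pow p x H hH f hf (u * c) hr' 1
      have h2 : x ^ ((u : ZMod p).val * mp) = x ^ (1 * ((u * c : (ZMod p)ˣ) : ZMod p).val) := by
        apply helper97_k_pow_congr p x hxp
        rw [one_mul, Nat.cast_mul, ZMod.natCast_zmod_val, ZMod.natCast_zmod_val, hmc,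
          ← Units.val_mul]
      rw [h2, h1, pow_one]

/-- K. -/
theorem Dlam_formula (p : ℕ) [Fact p.Prime] (P : Sylow p G) (hP : Nat.card P = p)
    (x : G) (hx : x ∈ (P : Subgroup G)) (hx1 : x ≠ 1) (H : Subgroup (ZMod p)ˣ)
    (hH : ∀ r : (ZMod p)ˣ, r ∈ H ↔ ∃ n : G, n * x * n⁻¹ = x ^ ((r : ZMod p).val))
    (ψ : IrrCharacter G) (a₀ : (ZMod p)ˣ) (hmu : OrbitMu p x H (ψ : G → ℂ) a₀ 1)
    (he : 2 * Nat.card H + 1 = p)
    (hK : ∀ k ∈ Subgroup.centralizer ((P : Subgroup G) : Set G), ¬ p ∣ orderOf k →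
      k ∈ Subgroup.center G)
    (hZ : ∀ z ∈ Subgroup.center G, ¬ p ∣ orderOf z)
    (c : (ZMod p)ˣ) (hc : c ∉ H) (mp : ℕ) (hmp : mp.Coprime (Nat.card G))
    (hmc : (mp : ZMod p) = (c : ZMod p)) (hmreg : ∀ g : G, ¬ p ∣ orderOf g → g ^ mp = g)
    (h : G) (hh : ¬ p ∣ orderOf h) :
    ∑ χ : IrrCharacter G, Set.indicator
        {χ : IrrCharacter G | SameCentral (χ : G → ℂ) (ψ : G → ℂ)}
        (fun χ => (χ : G → ℂ) x * ((χ : G → ℂ) x - (χ : G → ℂ) (x ^ mp)) *
          conj ((χ : G → ℂ) h) / (χ : G → ℂ) 1) χ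
      = ((ψ : G → ℂ) x - (ψ : G → ℂ) (x ^ mp)) ^ 2 * conj ((ψ : G → ℂ) h) / (ψ : G → ℂ) 1 := by
  classical
  have hp : p.Prime := Fact.out
  have hxp : x ^ p = 1 := by
    have h2 : (⟨x, hx⟩ : ↥(P : Subgroup G)) ^ Nat.card ↥(P : Subgroup G) = 1 := pow_card_eq_one'
    rw [hP] at h2
    have h3 := congrArg (fun y : ↥(P : Subgroup G) => (y : G)) h2
    simpa using h3
  -- `H` has index 2
  have hHpos : 0 < Nat.card H := Nat.card_pos
  have hidx : H.index = 2 := by
    have h1 := Subgroup.index_mul_card H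
    rw [Nat.card_eq_fintype_card (α := (ZMod p)ˣ), ZMod.card_units p] at h1
    have h2 : H.index * Nat.card H = 2 * Nat.card H := by omega
    exact Nat.eq_of_mul_eq_mul_right hHpos h2
  -- the facts on `ψ`
  obtain ⟨-, -, -, hpf4, -, hpf6, -⟩ := period_facts p x hxp H (ψ : G → ℂ)
    (Cfsg.Agent.Lib.helper81.irr_isCharacter ψ) a₀ hmu he c hc mp hmc
  have hDψ : (ψ : G → ℂ) x - (ψ : G → ℂ) (x ^ mp) ≠ 0 := by
    intro h0
    rw [h0, zero_mul] at hpf4
    have : (p : ℂ) ≠ 0 := by exact_mod_cast hp.ne_zero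
    exact this hpf4.symm
  -- the conjugate character
  set ψ' : IrrCharacter G := ⟨fun g => (ψ : G → ℂ) (g ^ mp),
    Cfsg.Agent.Lib.helper79.isIrrCharacter_pow_coprime mp hmp ψ.2⟩ with hψ'
  have hψ'app : ∀ g, (ψ' : G → ℂ) g = (ψ : G → ℂ) (g ^ mp) := fun g => rfl
  have hne : ψ ≠ ψ' := by
    intro h0
    apply hDψ
    have h1 := congrArg (fun χ : IrrCharacter G => (χ : G → ℂ) x) h0
    simp only [hψ'app] at h1
    rw [← h1, sub_self]
  have hGne : (Nat.card G : ℂ) ≠ 0 := by exact_mod_cast Nat.card_pos.ne'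
  have h1reg : ¬ p ∣ orderOf (1 : G) := by
    rw [orderOf_one]; exact fun hd => hp.one_lt.ne' (Nat.dvd_one.mp hd)
  -- the key claim
  have hkey : ∀ χ : IrrCharacter G, SameCentral (χ : G → ℂ) (ψ : G → ℂ) → χ ≠ ψ → χ ≠ ψ' →
      (χ : G → ℂ) x = (χ : G → ℂ) (x ^ mp) := by
    intro χ hs hχ1 hχ2
    set F : G → ℂ := fun g => (χ : G → ℂ) g * conj ((ψ : G → ℂ) g - (ψ : G → ℂ) (g ^ mp))
      with hF
    have hFc : IsClassFunction G F := by
      intro g t
      simp only [hF]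
      rw [conj_pow, Cfsg.Agent.Lib.helper81.irr_classFun χ g t,
        Cfsg.Agent.Lib.helper81.irr_classFun ψ g t,
        Cfsg.Agent.Lib.helper81.irr_classFun ψ (g ^ mp) t]
    have hFreg : ∀ g, ¬ p ∣ orderOf g → F g = 0 := by
      intro g hg
      simp only [hF]
      rw [hmreg g hg, sub_self, map_zero, mul_zero]
    have hTI := norm_TI p P hP x hx hx1 F hFc hFreg
    have hsum0 : ∑ g : G, F g = 0 := by
      have h1 := Cfsg.Agent.Lib.helper81.irr_classInner_ne hχ1
      have h2 := Cfsg.Agent.Lib.helper81.irr_classInner_ne hχ2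
      unfold classInner at h1 h2
      have hG : (Nat.card G : ℂ)⁻¹ ≠ 0 := inv_ne_zero hGne
      have h1' := (mul_eq_zero.mp h1).resolve_left hG
      have h2' : ∑ g : G, (χ : G → ℂ) g * conj ((ψ : G → ℂ) (g ^ mp)) = 0 :=
        (mul_eq_zero.mp h2).resolve_left hG
      simp only [hF, map_sub, mul_sub, Finset.sum_sub_distrib]
      rw [h1', h2', sub_zero]
    rw [hsum0, mul_zero] at hTI
    -- the number of `p`-regular elements of `C(P)`
    set NK : ℂ := ∑ k : G, Set.indicator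
      {k : G | k ∈ Subgroup.centralizer ((P : Subgroup G) : Set G) ∧ ¬ p ∣ orderOf k}
      (fun _ => (1 : ℂ)) k with hNK
    have hNK0 : NK ≠ 0 := by
      have h1 : NK = ((Finset.univ.filter (fun k : G =>
          k ∈ Subgroup.centralizer ((P : Subgroup G) : Set G) ∧ ¬ p ∣ orderOf k)).card : ℂ) := by
        rw [hNK, ← Finset.sum_boole]
        apply Finset.sum_congr rfl
        intro k _
        rw [Set.indicator_apply]
        rfl
      rw [h1]
      have h2 : (1 : G) ∈ Finset.univ.filter (fun k : G =>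
          k ∈ Subgroup.centralizer ((P : Subgroup G) : Set G) ∧ ¬ p ∣ orderOf k) := by
        rw [Finset.mem_filter]
        exact ⟨Finset.mem_univ _, Subgroup.one_mem _, h1reg⟩
      have h3 : 0 < (Finset.univ.filter (fun k : G =>
          k ∈ Subgroup.centralizer ((P : Subgroup G) : Set G) ∧ ¬ p ∣ orderOf k)).card :=
        Finset.card_pos.mpr ⟨1, h2⟩
      exact_mod_cast h3.ne'
    -- the inner sums
    have hinner : ∀ u : (ZMod p)ˣ, ∑ k : G, Set.indicator
        {k : G | k ∈ Subgroup.centralizer ((P : Subgroup G) : Set G) ∧ ¬ p ∣ orderOf k}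
        (fun k => F (x ^ (u : ZMod p).val * k)) k =
        NK * (if u ∈ H then
            (χ : G → ℂ) x * conj ((ψ : G → ℂ) x - (ψ : G → ℂ) (x ^ mp))
          else -((χ : G → ℂ) (x ^ mp) * conj ((ψ : G → ℂ) x - (ψ : G → ℂ) (x ^ mp)))) := by
      intro u
      have hcu : ∀ k : G, k ∈ Subgroup.centralizer ((P : Subgroup G) : Set G) →
          ¬ p ∣ orderOf k → F (x ^ (u : ZMod p).val * k) =
            (χ : G → ℂ) (x ^ (u : ZMod p).val) * conj ((ψ : G → ℂ) (x ^ (u : ZMod p).val) -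
              (ψ : G → ℂ) (x ^ ((u : ZMod p).val * mp))) := by
        intro k hk hkreg
        have hkc := hK k hk hkreg
        obtain ⟨μ, hμ, hμχ⟩ := helper48_central_scalar χ k hkc
        obtain ⟨μ', hμ', hμψ⟩ := helper48_central_scalar ψ k hkc
        have hμeq : μ = μ' := by
          have h1 := hs k hkc
          have h2 := hμχ 1
          have h3 := hμψ 1
          rw [one_mul] at h2 h3
          rw [h2, h3] at h1
          have hχ1' := Cfsg.Agent.Lib.helper81.irr_one_ne_zero χ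
          have hψ1' := Cfsg.Agent.Lib.helper81.irr_one_ne_zero ψ
          have h4 : (μ - μ') * ((χ : G → ℂ) 1 * (ψ : G → ℂ) 1) = 0 := by
            linear_combination h1
          rcases mul_eq_zero.mp h4 with h5 | h5
          · exact sub_eq_zero.mp h5
          · exact absurd h5 (mul_ne_zero hχ1' hψ1')
        have hcomm : Commute (x ^ (u : ZMod p).val) k := by
          exact Subgroup.mem_center_iff.mp hkc (x ^ (u : ZMod p).val)
        have hpow : (x ^ (u : ZMod p).val * k) ^ mp = x ^ ((u : ZMod p).val * mp) * k := by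
          rw [hcomm.mul_pow, ← pow_mul, hmreg k hkreg]
        simp only [hF]
        rw [hpow, hμχ, hμψ, hμψ, ← hμeq, ← mul_sub, map_mul]
        have hμ2 : μ * conj μ = 1 := by
          rw [Complex.mul_conj, Complex.normSq_eq_norm_sq, hμ]
          norm_num
        linear_combination ((χ : G → ℂ) (x ^ (u : ZMod p).val) *
          conj ((ψ : G → ℂ) (x ^ (u : ZMod p).val) -
            (ψ : G → ℂ) (x ^ ((u : ZMod p).val * mp)))) * hμ2
      have hχv := helper97_k_values p x hxp H hH hidx c hc mp hmc (χ : G → ℂ)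
        (Cfsg.Agent.Lib.helper81.irr_classFun χ) u
      have hψv := helper97_k_values p x hxp H hH hidx c hc mp hmc (ψ : G → ℂ)
        (Cfsg.Agent.Lib.helper81.irr_classFun ψ) u
      rw [hNK, Finset.sum_mul]
      apply Finset.sum_congr rfl
      intro k _
      by_cases hk : k ∈ {k : G | k ∈ Subgroup.centralizer ((P : Subgroup G) : Set G) ∧
          ¬ p ∣ orderOf k}
      · rw [Set.indicator_of_mem hk, Set.indicator_of_mem hk, one_mul, hcu k hk.1 hk.2]
        by_cases hu : u ∈ H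
        · rw [if_pos hu, (hχv.1 hu).1, (hψv.1 hu).1, (hψv.1 hu).2]
        · rw [if_neg hu, (hχv.2 hu).1, (hψv.2 hu).1, (hψv.2 hu).2]
          have h6 : conj ((ψ : G → ℂ) (x ^ mp) - (ψ : G → ℂ) x) =
              -conj ((ψ : G → ℂ) x - (ψ : G → ℂ) (x ^ mp)) := by
            rw [← map_neg, neg_sub]
          rw [h6]
          ring
      · rw [Set.indicator_of_notMem hk, Set.indicator_of_notMem hk, zero_mul]
    rw [Finset.sum_congr rfl (fun u _ => hinner u), ← Finset.mul_sum, Finset.sum_ite,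
      Finset.sum_const, Finset.sum_const] at hTI
    have hc1 : (Finset.univ.filter (fun u : (ZMod p)ˣ => u ∈ H)).card = Nat.card H := by
      rw [Nat.card_eq_fintype_card, Fintype.card_subtype]
    have hc2 : (Finset.univ.filter (fun u : (ZMod p)ˣ => ¬ u ∈ H)).card = Nat.card H := by
      have h1 := Finset.card_filter_add_card_filter_not
        (s := (Finset.univ : Finset (ZMod p)ˣ)) (fun u : (ZMod p)ˣ => u ∈ H)
      rw [hc1, Finset.card_univ, ZMod.card_units p] at h1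
      omega
    rw [hc1, hc2] at hTI
    have hHne : (Nat.card H : ℂ) ≠ 0 := by exact_mod_cast hHpos.ne'
    have hconj : conj ((ψ : G → ℂ) x - (ψ : G → ℂ) (x ^ mp)) ≠ 0 := by
      intro h0
      apply hDψ
      have := congrArg conj h0
      rwa [Complex.conj_conj, map_zero] at this
    have hfin : (Nat.card G : ℂ) * (NK * ((Nat.card H : ℂ) *
        (((χ : G → ℂ) x - (χ : G → ℂ) (x ^ mp)) *
          conj ((ψ : G → ℂ) x - (ψ : G → ℂ) (x ^ mp))))) = 0 := by
      rw [hTI]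
      simp only [nsmul_eq_mul]
      ring
    have h7 := (mul_eq_zero.mp hfin).resolve_left hGne
    have h8 := (mul_eq_zero.mp h7).resolve_left hNK0
    have h9 := (mul_eq_zero.mp h8).resolve_left hHne
    have h10 := (mul_eq_zero.mp h9).resolve_right hconj
    exact sub_eq_zero.mp h10
  -- split the sum
  have hs1 : ψ ∈ {χ : IrrCharacter G | SameCentral (χ : G → ℂ) (ψ : G → ℂ)} := by
    intro z _
    rfl
  have hs2 : ψ' ∈ {χ : IrrCharacter G | SameCentral (χ : G → ℂ) (ψ : G → ℂ)} := by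
    intro z hz
    show (ψ : G → ℂ) (z ^ mp) * (ψ : G → ℂ) 1 = (ψ : G → ℂ) z * (ψ : G → ℂ) (1 ^ mp)
    rw [hmreg z (hZ z hz), one_pow]
  have hzero : ∀ χ ∈ (Finset.univ : Finset (IrrCharacter G)),
      χ ∉ ({ψ, ψ'} : Finset (IrrCharacter G)) →
      Set.indicator {χ : IrrCharacter G | SameCentral (χ : G → ℂ) (ψ : G → ℂ)}
        (fun χ => (χ : G → ℂ) x * ((χ : G → ℂ) x - (χ : G → ℂ) (x ^ mp)) *
          conj ((χ : G → ℂ) h) / (χ : G → ℂ) 1) χ = 0 := by
    intro χ _ hχ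
    simp only [Finset.mem_insert, Finset.mem_singleton, not_or] at hχ
    by_cases hs : χ ∈ {χ : IrrCharacter G | SameCentral (χ : G → ℂ) (ψ : G → ℂ)}
    · rw [Set.indicator_of_mem hs]
      have h1 := hkey χ hs hχ.1 hχ.2
      show (χ : G → ℂ) x * ((χ : G → ℂ) x - (χ : G → ℂ) (x ^ mp)) *
          conj ((χ : G → ℂ) h) / (χ : G → ℂ) 1 = 0
      rw [h1, sub_self, mul_zero, zero_mul, zero_div]
    · exact Set.indicator_of_notMem hs _
  rw [← Finset.sum_subset (Finset.subset_univ ({ψ, ψ'} : Finset (IrrCharacter G))) hzero,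
    Finset.sum_pair hne, Set.indicator_of_mem hs1, Set.indicator_of_mem hs2]
  show (ψ : G → ℂ) x * ((ψ : G → ℂ) x - (ψ : G → ℂ) (x ^ mp)) *
        conj ((ψ : G → ℂ) h) / (ψ : G → ℂ) 1 +
      (ψ : G → ℂ) (x ^ mp) * ((ψ : G → ℂ) (x ^ mp) - (ψ : G → ℂ) ((x ^ mp) ^ mp)) *
        conj ((ψ : G → ℂ) (h ^ mp)) / (ψ : G → ℂ) (1 ^ mp) = _
  rw [hmreg h hh, one_pow, ← pow_mul, hpf6]
  ring

end Cfsg.Agent.Lib.helper2.BG
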