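import Mathlib
import Cfsg.Prelude.Def_GeometricClasses
import Cfsg.Agent.Lib.helper24.SfoDefs
import Cfsg.Agent.Lib.helper27.SfoCNTE
import Cfsg.Agent.Lib.helper77.SfoCNTO

/-!
# S5977 / S5978, block [A], KUNIQ sub-split, piece CNTEQ (racer copy)

The two `K'`-forms `qk₁ ∘ Φ₁`, `qk₂ ∘ Φ₂` (`K' = QuadraticAlgebra F δ 0`) whose real parts are the
same `F`-form `Q` have the same number of vectors of value `1`: the number of `v` with `Q v = 1`
is the sum over `b` of the numbers of `k` with value `⟨1, b⟩`, and the count formulas over `K'`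
recover the sign of the form from that sum.
-/

set_option autoImplicit false

namespace Cfsg.Agent.Lib.helper2

open Cfsg.Geo Matrix Cfsg.Agent.Lib.helper24

/-- FIB (local copy): the vectors with `Q v = 1` fibre over the second coordinate of the `K'`-value. -/
theorem h97_qfu_fib {F : Type*} [Field F] [Fintype F] {ι : Type} [Fintype ι] [DecidableEq ι]
    (Q : (ι → F) → F) (δ : F) [Fact (∀ r : F, r ^ 2 ≠ δ + 0 * r)]
    (d : ℕ) (Φ : (Fin d → QuadraticAlgebra F δ 0) ≃+ (ι → F))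
    (qk : (ι → F) → QuadraticAlgebra F δ 0) (hre : ∀ v, (qk v).re = Q v) :
    Nat.card {v : ι → F // Q v = 1} =
      ∑ b : F, sfoCount (fun k => qk (Φ k)) (⟨1, b⟩ : QuadraticAlgebra F δ 0) := by
  classical
  have : Finite (QuadraticAlgebra F δ 0) := Finite.of_equiv _ (QuadraticAlgebra.equivProd δ 0).symm
  have e1 : {k : Fin d → QuadraticAlgebra F δ 0 // (qk (Φ k)).re = 1} ≃ {v : ι → F // Q v = 1} :=
    Equiv.subtypeEquiv Φ.toEquiv (fun k => by rw [hre]; rfl)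
  have e2 : {k : Fin d → QuadraticAlgebra F δ 0 // (qk (Φ k)).re = 1} ≃
      Σ b : F, {k : Fin d → QuadraticAlgebra F δ 0 // qk (Φ k) = (⟨1, b⟩ : QuadraticAlgebra F δ 0)} :=
    { toFun := fun k => ⟨(qk (Φ k.1)).im, k.1, QuadraticAlgebra.ext k.2 rfl⟩
      invFun := fun p => ⟨p.2.1, by rw [p.2.2]⟩
      left_inv := fun k => rfl
      right_inv := fun p => by
        obtain ⟨b, k, hk⟩ := p
        have hb : (qk (Φ k)).im = b := by rw [hk]
        subst hb
        rfl }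
  rw [← Nat.card_congr e1, Nat.card_congr e2, Nat.card_sigma]
  rfl

/-- A sum of an odd number of signs is not zero. -/
theorem h97_sign_sum_ne_zero {α : Type*} [Fintype α] (hodd : Odd (Fintype.card α)) (P : α → Prop)
    [DecidablePred P] : (∑ b : α, (if P b then (1 : ℤ) else -1)) ≠ 0 := by
  have h1 : (∑ b : α, (if P b then (1 : ℤ) else -1)) =
      (Fintype.card α : ℤ) - 2 * ∑ b : α, (if P b then (0 : ℤ) else 1) := by
    rw [Finset.mul_sum, Finset.card_univ.symm, Finset.cast_card, ← Finset.sum_sub_distrib]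
    refine Finset.sum_congr rfl (fun b _ => ?_)
    split_ifs <;> norm_num
  rw [h1]
  obtain ⟨t, ht⟩ := hodd
  rw [ht]
  push_cast
  omega

/-- CNTEQ (racer copy). -/
theorem h97_qfu_count_eq {F : Type*} [Field F] [Fintype F] {ι : Type} [Fintype ι] [DecidableEq ι]
    (hodd : Odd (Fintype.card F)) (Q : (ι → F) → F) (δ : F) [Fact (∀ r : F, r ^ 2 ≠ δ + 0 * r)]
    (d : ℕ) (Φ₁ Φ₂ : (Fin d → QuadraticAlgebra F δ 0) ≃+ (ι → F))
    (qk₁ qk₂ : (ι → F) → QuadraticAlgebra F δ 0) (hre₁ : ∀ v, (qk₁ v).re = Q v)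
    (hre₂ : ∀ v, (qk₂ v).re = Q v)
    (hQ₁ : IsNondegenerateQuadraticForm (fun k : Fin d → QuadraticAlgebra F δ 0 => qk₁ (Φ₁ k)))
    (hQ₂ : IsNondegenerateQuadraticForm (fun k : Fin d → QuadraticAlgebra F δ 0 => qk₂ (Φ₂ k))) :
    sfoCount (fun k : Fin d → QuadraticAlgebra F δ 0 => qk₁ (Φ₁ k)) 1 =
      sfoCount (fun k : Fin d → QuadraticAlgebra F δ 0 => qk₂ (Φ₂ k)) 1 := by
  classical
  let _ : Fintype (QuadraticAlgebra F δ 0) := Fintype.ofEquiv _ (QuadraticAlgebra.equivProd δ 0).symm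
  -- `2 ≠ 0`
  have h2F : (2 : F) ≠ 0 := by
    intro h
    have hchar : ringChar F = 2 := by
      have h3 := (ringChar.spec F 2).mp (by exact_mod_cast h)
      rcases (Nat.dvd_prime Nat.prime_two).mp h3 with h1 | h1
      · exact absurd h1 (CharP.ringChar_ne_one)
      · exact h1
    have h4 := FiniteField.even_card_iff_char_two.mp hchar
    obtain ⟨t, ht⟩ := hodd
    omega
  have h2E : (2 : QuadraticAlgebra F δ 0) ≠ 0 := by
    intro h
    apply h2F
    have h3 : (2 : QuadraticAlgebra F δ 0).re = (0 : QuadraticAlgebra F δ 0).re :=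
      congrArg QuadraticAlgebra.re h
    exact h3
  have hne : ∀ b : F, (⟨1, b⟩ : QuadraticAlgebra F δ 0) ≠ 0 := by
    intro b h
    have h3 := congrArg QuadraticAlgebra.re h
    simp at h3
  have hq0 : (Fintype.card F : ℤ) ≠ 0 := by
    exact_mod_cast Fintype.card_ne_zero
  have hq'0 : (Fintype.card (QuadraticAlgebra F δ 0) : ℤ) ≠ 0 := by
    exact_mod_cast Fintype.card_ne_zero
  have hN₁ := h97_qfu_fib Q δ d Φ₁ qk₁ hre₁
  have hN₂ := h97_qfu_fib Q δ d Φ₂ qk₂ hre₂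
  have hNeq : (∑ b : F, (sfoCount (fun k => qk₁ (Φ₁ k)) (⟨1, b⟩ : QuadraticAlgebra F δ 0) : ℤ)) =
      ∑ b : F, (sfoCount (fun k => qk₂ (Φ₂ k)) (⟨1, b⟩ : QuadraticAlgebra F δ 0) : ℤ) := by
    rw [← Nat.cast_sum, ← Nat.cast_sum, ← hN₁, ← hN₂]
  have hcast : ∀ a b : ℕ, (a : ℤ) = (b : ℤ) → a = b := fun a b h => by exact_mod_cast h
  apply hcast
  rcases Nat.even_or_odd' d with ⟨k, hk | hk⟩
  · -- even dimension
    obtain ⟨ε₁, hε₁, hc₁⟩ := h27_sfo_count_even h2E d k hk _ hQ₁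
    obtain ⟨ε₂, hε₂, hc₂⟩ := h27_sfo_count_even h2E d k hk _ hQ₂
    have hs₁ : (∑ b : F, (sfoCount (fun k => qk₁ (Φ₁ k)) (⟨1, b⟩ : QuadraticAlgebra F δ 0) : ℤ)) =
        (Fintype.card F : ℤ) * ((Fintype.card (QuadraticAlgebra F δ 0) : ℤ) ^ (k - 1) *
          ((Fintype.card (QuadraticAlgebra F δ 0) : ℤ) ^ k - ε₁)) := by
      rw [Finset.sum_congr rfl (fun b _ => hc₁ _ (hne b))]
      simp [Finset.sum_const, Finset.card_univ]
    have hs₂ : (∑ b : F, (sfoCount (fun k => qk₂ (Φ₂ k)) (⟨1, b⟩ : QuadraticAlgebra F δ 0) : ℤ)) =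
        (Fintype.card F : ℤ) * ((Fintype.card (QuadraticAlgebra F δ 0) : ℤ) ^ (k - 1) *
          ((Fintype.card (QuadraticAlgebra F δ 0) : ℤ) ^ k - ε₂)) := by
      rw [Finset.sum_congr rfl (fun b _ => hc₂ _ (hne b))]
      simp [Finset.sum_const, Finset.card_univ]
    rw [hs₁, hs₂] at hNeq
    have h5 := mul_left_cancel₀ (pow_ne_zero (k - 1) hq'0) (mul_left_cancel₀ hq0 hNeq)
    have hεε : ε₁ = ε₂ := by linarith
    rw [hc₁ 1 one_ne_zero, hc₂ 1 one_ne_zero, hεε]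
  · -- odd dimension
    obtain ⟨E₁, hE₁, hsq₁, hns₁⟩ := sfo_count_odd h2E d k hk _ hQ₁
    obtain ⟨E₂, hE₂, hsq₂, hns₂⟩ := sfo_count_odd h2E d k hk _ hQ₂
    have hX := h97_sign_sum_ne_zero hodd
      (fun b : F => IsSquare (⟨1, b⟩ : QuadraticAlgebra F δ 0))
    have hs : ∀ (g : (Fin d → QuadraticAlgebra F δ 0) → QuadraticAlgebra F δ 0) (E : ℤ),
        (∀ c : QuadraticAlgebra F δ 0, c ≠ 0 → IsSquare c →
          (sfoCount g c : ℤ) = (Fintype.card (QuadraticAlgebra F δ 0) : ℤ) ^ k *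
            ((Fintype.card (QuadraticAlgebra F δ 0) : ℤ) ^ k + E)) →
        (∀ c : QuadraticAlgebra F δ 0, c ≠ 0 → ¬ IsSquare c →
          (sfoCount g c : ℤ) = (Fintype.card (QuadraticAlgebra F δ 0) : ℤ) ^ k *
            ((Fintype.card (QuadraticAlgebra F δ 0) : ℤ) ^ k - E)) →
        (∑ b : F, (sfoCount g (⟨1, b⟩ : QuadraticAlgebra F δ 0) : ℤ)) =
          (Fintype.card F : ℤ) * ((Fintype.card (QuadraticAlgebra F δ 0) : ℤ) ^ k) ^ 2 +
            (Fintype.card (QuadraticAlgebra F δ 0) : ℤ) ^ k * E *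
              ∑ b : F, (if IsSquare (⟨1, b⟩ : QuadraticAlgebra F δ 0) then (1 : ℤ) else -1) := by
      intro g E hsq hns
      have h6 : ∀ b : F, (sfoCount g (⟨1, b⟩ : QuadraticAlgebra F δ 0) : ℤ) =
          ((Fintype.card (QuadraticAlgebra F δ 0) : ℤ) ^ k) ^ 2 +
            (Fintype.card (QuadraticAlgebra F δ 0) : ℤ) ^ k * E *
              (if IsSquare (⟨1, b⟩ : QuadraticAlgebra F δ 0) then (1 : ℤ) else -1) := by
        intro b
        by_cases hb : IsSquare (⟨1, b⟩ : QuadraticAlgebra F δ 0)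
        · rw [hsq _ (hne b) hb, if_pos hb]; ring
        · rw [hns _ (hne b) hb, if_neg hb]; ring
      rw [Finset.sum_congr rfl (fun b _ => h6 b), Finset.sum_add_distrib, ← Finset.mul_sum]
      simp [Finset.sum_const, Finset.card_univ]
    rw [hs _ E₁ hsq₁ hns₁, hs _ E₂ hsq₂ hns₂] at hNeq
    have h7 : (Fintype.card (QuadraticAlgebra F δ 0) : ℤ) ^ k * E₁ *
          (∑ b : F, (if IsSquare (⟨1, b⟩ : QuadraticAlgebra F δ 0) then (1 : ℤ) else -1)) =
        (Fintype.card (QuadraticAlgebra F δ 0) : ℤ) ^ k * E₂ *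
          ∑ b : F, (if IsSquare (⟨1, b⟩ : QuadraticAlgebra F δ 0) then (1 : ℤ) else -1) := by
      linarith
    have h8 := mul_right_cancel₀ hX h7
    have hEE : E₁ = E₂ := mul_left_cancel₀ (pow_ne_zero k hq'0) h8
    rw [hsq₁ 1 one_ne_zero ⟨1, by ring⟩, hsq₂ 1 one_ne_zero ⟨1, by ring⟩, hEE]

end Cfsg.Agent.Lib.helper2
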