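import Mathlib
import Cfsg.Agent.Lib.helper68.HallPet
import Cfsg.Agent.Lib.helper65.PearlPow

/-!
# S5238, block G, step (5): the base case of F4 (standalone, helper97)

`G` any group, `gam G i = γ_i(G)`, `com a b = a⁻¹ b⁻¹ a b` (helper68.HallPet).  If `γ_n = 1`,
`x ^ p = 1`, every element of `γ_(n-p)` is `com x g` with `g ∈ γ_(n-p-1)`, `x` is uniserial and
`γ_i ^ p ≤ γ_(i+p-1)`, then `m ^ p ∈ γ_(n-1) \ γ_n` for every `m ∈ γ_(n-p) \ γ_(n-p+1)`
(by helper65's `pearl_pow`: `m ^ p * [m, x, …, x] = 1`).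
-/

set_option autoImplicit false

namespace Cfsg.Agent.Lib.helper97

open Cfsg.Agent.Lib.helper68 Cfsg.Agent.Lib.helper65.PearlPow

theorem h97_pearl_f4_base {G : Type*} [Group G] (p : ℕ) (hp : p.Prime) (n : ℕ) (hn : p + 2 ≤ n)
    (x : G) (hx : x ^ p = 1) (hnil : gam G n = ⊥)
    (hsurj : ∀ m ∈ gam G (n - p), ∃ g ∈ gam G (n - p - 1), m = com x g)
    (huni : ∀ i, 2 ≤ i → i + 2 ≤ n → ∀ m ∈ gam G i, m ∉ gam G (i + 1) →
      com m x ∈ gam G (i + 1) ∧ com m x ∉ gam G (i + 2))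
    (hF3 : ∀ i, 2 ≤ i → ∀ m ∈ gam G i, m ^ p ∈ gam G (i + p - 1))
    (m : G) (hm : m ∈ gam G (n - p)) (hm' : m ∉ gam G (n - p + 1)) :
    m ^ p ∈ gam G (n - 1) ∧ m ^ p ∉ gam G n := by
  have hp2 : 2 ≤ p := hp.two_le
  obtain ⟨g, hg, rfl⟩ := hsurj m hm
  have hnil' : gam G (n - p - 1 + 1 + p) = ⊥ := by
    have e : n - p - 1 + 1 + p = n := by omega
    rw [e]; exact hnil
  have hexp : ∀ y ∈ gam G (n - p - 1 + 2), y ^ p = 1 := by
    intro y hy
    have h1 := hF3 (n - p - 1 + 2) (by omega) y hy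
    have e : n - p - 1 + 2 + p - 1 = n := by omega
    rw [e, hnil] at h1
    exact Subgroup.mem_bot.mp h1
  have hpow := pearl_pow p hp (n - p - 1) (by omega) x g hx hg hnil' hexp
  -- the iterated commutators go down the series one step at a time
  have hyk : ∀ k, k ≤ p - 1 → yk x (com x g) k ∈ gam G (n - p + k) ∧
      yk x (com x g) k ∉ gam G (n - p + k + 1) := by
    intro k
    induction k with
    | zero =>
      intro _
      exact ⟨hm, hm'⟩
    | succ k ih =>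
      intro hk
      obtain ⟨h1, h2⟩ := ih (by omega)
      have h3 := huni (n - p + k) (by omega) (by omega) _ h1 h2
      have e1 : n - p + (k + 1) = n - p + k + 1 := by omega
      rw [e1]
      exact h3
  obtain ⟨h1, h2⟩ := hyk (p - 1) le_rfl
  have e1 : n - p + (p - 1) = n - 1 := by omega
  have e2 : n - p + (p - 1) + 1 = n := by omega
  rw [e1] at h1
  rw [e2] at h2
  have hmp : (com x g) ^ p = (yk x (com x g) (p - 1))⁻¹ := eq_inv_of_mul_eq_one_left hpow
  rw [hmp]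
  refine ⟨(gam G (n - 1)).inv_mem h1, fun h => h2 ?_⟩
  have := (gam G n).inv_mem h
  rwa [inv_inv] at this

end Cfsg.Agent.Lib.helper97
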