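import Mathlib
import Cfsg.Agent.Lib.helper24.S6eDefs

/-!
# S6002, piece NBIG (core, helper97): primes `r ≥ 7` give derangements

BSC and BFC are taken as hypotheses.
-/

set_option autoImplicit false
set_option linter.unusedVariables false

namespace Cfsg.Agent.Lib.helper24

open Matrix Cfsg Cfsg.Geo

theorem helper97_s6_arith (r c i : ℕ) (hr : r.Prime) (hr7 : 7 ≤ r) (hc : c ∣ 32)
    (hmod : c % r = 32 % r) (hi : i % r = 10 % r) (hic : i + 2 ≤ c) : c = 32 := by
  have hc32 : c ≤ 32 := Nat.le_of_dvd (by norm_num) hc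
  by_contra hne
  have hlt : c < 32 := lt_of_le_of_ne hc32 hne
  have hdvd : r ∣ 32 - c := (Nat.modEq_iff_dvd' hc32).1 hmod
  have hr32 : r ≤ 32 := le_trans (Nat.le_of_dvd (by omega) hdvd) (by omega)
  interval_cases c <;> first
    | omega
    | (interval_cases r <;> first | omega | (exfalso; revert hr; norm_num))

/-- NBIG core: BSC and BFC as hypotheses. -/
theorem helper97_s6_nec_big_core {F : Type*} [Field F] [Fintype F] (R : Subgroup (GL S6I F))
    (hG : S6Good R) (r : ℕ) [Fact r.Prime] (hr : 7 ≤ r) (hdvd : r ∣ Nat.card (spGL 2 F))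
    (hBSC : ∀ (x : GL S6I F), x ∈ spGL 2 F → ∀ (k : ℕ) (z : F),
      (x : Matrix S6I S6I F) ^ k = z • (1 : Matrix S6I S6I F) → z = 1 ∨ z = -1)
    (hBFC : ∀ y : GL S6I F, y ∈ subgroupNormalizer R → y ^ r = 1 →
      Nat.card {s : GL S6I F // s ∈ R ∧ y * s = s * y} ∣ 32 ∧
      Nat.card {s : GL S6I F // s ∈ R ∧ y * s = s * y} % r = 32 % r ∧
      ∃ i : ℕ, i % r = 10 % r ∧ i + 2 ≤ Nat.card {s : GL S6I F // s ∈ R ∧ y * s = s * y}) :
    S6Derang R r := by
  classical
  have hrp : r.Prime := Fact.out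
  obtain ⟨x', hx'⟩ := exists_prime_orderOf_dvd_card' r hdvd
  have hxr : (x' : GL S6I F) ^ r = 1 := by
    have h1 := pow_orderOf_eq_one x'
    rw [hx'] at h1
    have h := congrArg Subtype.val h1
    simpa using h
  have ho : orderOf (x' : GL S6I F) = r := by
    rw [← hx']
    exact Subgroup.orderOf_coe x'
  have hns : ∀ z : F, ((x' : GL S6I F) : Matrix S6I S6I F) ≠ z • (1 : Matrix S6I S6I F) := by
    intro z hz
    have hz' : ((x' : GL S6I F) : Matrix S6I S6I F) ^ 1 = z • (1 : Matrix S6I S6I F) := by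
      rw [pow_one]
      exact hz
    have hsq : (x' : GL S6I F) ^ 2 = 1 := by
      apply Units.ext
      rw [Units.val_pow_eq_pow_val, Units.val_one, hz]
      rcases hBSC _ x'.2 1 z hz' with h | h
      · rw [h, one_smul, one_pow]
      · rw [h]
        simp
    have h2' := orderOf_dvd_of_pow_eq_one hsq
    rw [ho] at h2'
    have := Nat.le_of_dvd (by norm_num) h2'
    omega
  refine ⟨(x' : GL S6I F), x'.2, hxr, hns, ?_⟩
  intro g hmem
  have hyr : (g⁻¹ * (x' : GL S6I F) * g) ^ r = 1 := by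
    have h1 : g⁻¹ * (x' : GL S6I F) * g = g⁻¹ * (x' : GL S6I F) * g⁻¹⁻¹ := by rw [inv_inv]
    rw [h1, conj_pow, hxr, mul_one, mul_inv_cancel]
  obtain ⟨hc32, hcmod, i, hi, hic⟩ := hBFC _ hmem hyr
  have hc := helper97_s6_arith r _ i hrp hr hc32 hcmod hi hic
  have hall : ∀ s ∈ R, (g⁻¹ * (x' : GL S6I F) * g) * s = s * (g⁻¹ * (x' : GL S6I F) * g) := by
    have hinj : Function.Injective
        (fun s : {s : GL S6I F // s ∈ R ∧ (g⁻¹ * (x' : GL S6I F) * g) * s =
          s * (g⁻¹ * (x' : GL S6I F) * g)} => (⟨s.1, s.2.1⟩ : R)) := by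
      intro a b hab
      have h : (⟨a.1, a.2.1⟩ : R) = ⟨b.1, b.2.1⟩ := hab
      have h' : a.1 = b.1 := congrArg (fun t : R => (t : GL S6I F)) h
      exact Subtype.ext h'
    have hle : Nat.card R ≤ Nat.card {s : GL S6I F // s ∈ R ∧
        (g⁻¹ * (x' : GL S6I F) * g) * s = s * (g⁻¹ * (x' : GL S6I F) * g)} := by
      rw [hc, hG.card]
    have hbij := Function.Injective.bijective_of_nat_card_le hinj hle
    intro s hs
    obtain ⟨a, ha⟩ := hbij.2 ⟨s, hs⟩
    have hs' : a.1 = s := congrArg (fun t : R => (t : GL S6I F)) ha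
    rw [← hs']
    exact a.2.2
  obtain ⟨c, hcs⟩ := hG.schur ((g⁻¹ * (x' : GL S6I F) * g : GL S6I F) : Matrix S6I S6I F)
    (fun s hs => by
      have h := congrArg (fun u : GL S6I F => (u : Matrix S6I S6I F)) (hall s hs)
      simpa using h)
  apply hns c
  have hx : (x' : GL S6I F) = g * (g⁻¹ * (x' : GL S6I F) * g) * g⁻¹ := by group
  rw [hx, Units.val_mul, Units.val_mul, hcs, Matrix.mul_smul, Matrix.mul_one, Matrix.smul_mul,
    ← Units.val_mul, mul_inv_cancel, Units.val_one]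

end Cfsg.Agent.Lib.helper24
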