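import Mathlib
import Cfsg.Agent.Lib.helper24.S6eDefs
import Cfsg.Agent.Lib.helper97.S6eNBIGcore
import Cfsg.Agent.Lib.helper54.S6eBSC
import Cfsg.Agent.Lib.helper72.S6eBFC

/-!
# S6002, piece NBIG: canonical wrapper

`s6_nec_big` is the verbatim Skel statement, obtained from the hypothesis-core
`helper97_s6_nec_big_core` by feeding it the landed pieces BSC (`s6_scalar_pm`)
and BFC (`s6_fix_count`).
-/

open Matrix Cfsg Cfsg.Geo

namespace Cfsg.Agent.Lib.helper24

theorem s6_nec_big {F : Type*} [Field F] [Fintype F] (h2 : (2 : F) ≠ 0) (R : Subgroup (GL S6I F)) (hG : S6Good R)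
    (r : ℕ) [Fact r.Prime] (hr : 7 ≤ r) (hdvd : r ∣ Nat.card (spGL 2 F)) : S6Derang R r :=
  helper97_s6_nec_big_core R hG r hr hdvd
    (fun x hx k z hz => s6_scalar_pm x hx k z hz)
    (fun y hy hyr => s6_fix_count h2 R hG r y hy hyr)

end Cfsg.Agent.Lib.helper24
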