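import Mathlib
import Cfsg.Agent.Lib.helper24.SfoDefs
import Cfsg.Agent.Lib.helper63.Elusive2
import Cfsg.Agent.Lib.helper32.SffN3

/-! S5981 piece ONEVEN, core form: the free-count statement (piece OFREE) is a hypothesis. -/

set_option autoImplicit false

namespace Cfsg.Agent.Lib.helper24

open Module Matrix Cfsg.Geo

/-- ONEVEN (core): a fixed-point-free element of order `r` is a derangement when `r ∤ N_1`. -/
theorem helper97_sfo_nec_even_core {F : Type*} [Field F] [Fintype F] {n : ℕ} (hn0 : 0 < n)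
    (Q : (Fin n → F) → F) (r : ℕ) [Fact r.Prime]
    (hrF : (r : F) ≠ 0) (hnd : ¬ r ∣ Fintype.card F - 1)
    (hdiv : orderOf ((Fintype.card F : ℕ) : ZMod r) ∣ n) (hcnt : ¬ r ∣ sfoCount Q 1)
    (hfree : ∀ g : GL (Fin n) F, g ∈ quadSimilarityGroup Q →
      (g : Matrix (Fin n) (Fin n) F) ^ r = 1 →
      LinearMap.ker (Matrix.toLin' (g : Matrix (Fin n) (Fin n) F) - 1) = ⊥ →
      r ∣ sfoCount Q 1) :
    SfoDerang Q r := by
  classical
  have hr : r.Prime := Fact.out
  obtain ⟨i, hidef⟩ : ∃ i, i = orderOf ((Fintype.card F : ℕ) : ZMod r) := ⟨_, rfl⟩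
  rw [← hidef] at hdiv
  have hq : ((Fintype.card F : ℕ) : ZMod r) ≠ 0 := by
    intro h0
    rw [ZMod.natCast_eq_zero_iff] at h0
    obtain ⟨p, hchar⟩ := CharP.exists F
    obtain ⟨k, hp, hc⟩ := FiniteField.card F p
    rw [hc] at h0
    have h1 : r ∣ p := hr.dvd_of_dvd_pow h0
    have h2 : r = p := (Nat.prime_dvd_prime_iff_eq hr hp).mp h1
    apply hrF
    rw [h2]
    exact CharP.cast_eq_zero F p
  have hi1 : 1 ≤ i := by
    rw [hidef]
    apply orderOf_pos_iff.mpr
    rw [isOfFinOrder_iff_pow_eq_one]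
    exact ⟨r - 1, by have := hr.two_le; omega, ZMod.pow_card_sub_one_eq_one hq⟩
  obtain ⟨g0, hg0, hker0⟩ :=
    Cfsg.Agent.Lib.helper63.Elusive.exists_block (F := F) r hq i hidef hi1
  obtain ⟨b, hb⟩ := hdiv
  obtain ⟨f, hfr, hfk⟩ :=
    Cfsg.Agent.Lib.helper63.Elusive.exists_end_order (F := F) r i b 0 n (by omega) g0 hg0 hker0
  have hroot := h32_eq_one_of_pow_prime (F := F) r hnd
  have hyr : (LinearMap.toMatrix' f) ^ r = 1 := by
    have h1 : LinearMap.toMatrix' (f ^ r) = (LinearMap.toMatrix' f) ^ r := by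
      have := map_pow (LinearMap.toMatrixAlgEquiv' (R := F) (n := Fin n)) f r
      exact this
    rw [← h1, hfr]
    exact LinearMap.toMatrix'_one
  have hyk : Module.finrank F (LinearMap.ker (Matrix.toLin' (LinearMap.toMatrix' f) - 1)) = 0 := by
    rw [Matrix.toLin'_toMatrix']
    omega
  refine ⟨LinearMap.toMatrix' f, ?_, ⟨1, by rw [hyr, one_smul]⟩, ?_, ?_⟩
  · apply hroot
    rw [← Matrix.det_pow, hyr, Matrix.det_one]
  · intro z hz
    have hz1 : z = 1 := by
      apply hroot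
      have h1 : ((LinearMap.toMatrix' f) ^ r) ⟨0, hn0⟩ ⟨0, hn0⟩ = z ^ r := by
        rw [hz, _root_.smul_pow, one_pow, Matrix.smul_apply, Matrix.one_apply_eq, smul_eq_mul,
          mul_one]
      rw [hyr, Matrix.one_apply_eq] at h1
      exact h1.symm
    rw [hz1, one_smul] at hz
    rw [hz] at hyk
    have h2 : (Matrix.toLin' (1 : Matrix (Fin n) (Fin n) F) - 1 : Module.End F (Fin n → F)) = 0 := by
      rw [Matrix.toLin'_one]
      exact sub_self _
    rw [h2, LinearMap.ker_zero, finrank_top, Module.finrank_fin_fun] at hyk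
    omega
  · rintro ⟨P, g, hP, hg, hx⟩
    have hPu : IsUnit P.det := isUnit_iff_ne_zero.mpr hP
    have hgr : (g : Matrix (Fin n) (Fin n) F) ^ r = 1 := by
      have h1 := h32_conj_pow (LinearMap.toMatrix' f) P (g : Matrix (Fin n) (Fin n) F) hx r
      rw [hyr, one_mul] at h1
      have h2 : P⁻¹ * P = P⁻¹ * (P * (g : Matrix (Fin n) (Fin n) F) ^ r) := by rw [← h1]
      rw [← mul_assoc, Matrix.nonsing_inv_mul P hPu, one_mul] at h2
      exact h2.symm
    have hgk : LinearMap.ker (Matrix.toLin' (g : Matrix (Fin n) (Fin n) F) - 1) = ⊥ := by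
      have h1 := h32_finrank_ker_conj (LinearMap.toMatrix' f) P
        (g : Matrix (Fin n) (Fin n) F) hP hx 1
      rw [one_smul, hyk] at h1
      exact Submodule.finrank_eq_zero.mp h1.symm
    exact hcnt (hfree g hg hgr hgk)

end Cfsg.Agent.Lib.helper24
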