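import Mathlib
import Cfsg.Agent.Lib.helper24.SfoDefs
import Cfsg.Agent.Lib.helper40.SfoOFREE
import Cfsg.Agent.Lib.helper97.SfoONEVENcore

/-! S5981 piece ONEVEN (`sfo_nec_even`): derangement of order `r` when `i = ord_r(q)` divides `n`
and `r ∤ N_1`. -/

set_option autoImplicit false
set_option linter.unusedVariables false

namespace Cfsg.Agent.Lib.helper24

open Module Matrix Cfsg.Geo

/-- ONEVEN -/
theorem sfo_nec_even {F : Type*} [Field F] [Fintype F] {n : ℕ} (hn0 : 0 < n) (h2 : (2 : F) ≠ 0)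
    (Q : (Fin n → F) → F) (hQ : IsNondegenerateQuadraticForm Q) (r : ℕ) [Fact r.Prime]
    (hr2 : r ≠ 2) (hrF : (r : F) ≠ 0) (hnd : ¬ r ∣ Fintype.card F - 1)
    (hdiv : orderOf ((Fintype.card F : ℕ) : ZMod r) ∣ n) (hcnt : ¬ r ∣ sfoCount Q 1) :
    SfoDerang Q r :=
  helper97_sfo_nec_even_core hn0 Q r hrF hnd hdiv hcnt
    (fun g hg hgr hker => h40_sfo_free_count h2 Q hQ r hrF hnd g hg hgr hker)

end Cfsg.Agent.Lib.helper24
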