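import Mathlib
import Cfsg.Agent.Lib.helper44.PresDefs

/-!
# S2286, piece X2 (`h_param`)

If `x : F → G` is the parametrisation of the root group attached to `g = h ^ i` (acting by `μ`,
`F = F_p[μ]`) and `h u h⁻¹ = polyWord g u L` with `L(μ) = lam`, then `h x(a) h⁻¹ = x(lam a)`.
-/

set_option autoImplicit false

namespace Cfsg.Agent.Lib.helper44.Pres

open Polynomial

/-- The set of parameters `a` with `h x(a) h⁻¹ = x(lam a)` contains `F_p[μ]`. -/
theorem helper97_h_param_aeval {G : Type*} [Group G] {F : Type*} [Field F] {p : ℕ}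
    [Fact p.Prime] [Algebra (ZMod p) F] (g h : G) (μ lam : F) (x : F → G)
    (hxa : ∀ a b, x (a + b) = x a * x b) (hxg : ∀ a, g * x a * g⁻¹ = x (μ * a))
    (hgh : Commute h g) (h1 : h * x 1 * h⁻¹ = x (lam * 1)) (f : (ZMod p)[X]) :
    h * x (aeval μ f) * h⁻¹ = x (lam * aeval μ f) := by
  have hx0 : x 0 = 1 := by
    have h0 := hxa 0 0
    rw [add_zero] at h0
    exact (mul_eq_left.mp h0.symm)
  have hadd : ∀ a b : F, h * x a * h⁻¹ = x (lam * a) → h * x b * h⁻¹ = x (lam * b) →
      h * x (a + b) * h⁻¹ = x (lam * (a + b)) := by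
    intro a b ha hb
    rw [hxa, mul_add, hxa, ← ha, ← hb]
    group
  have hmul : ∀ a : F, h * x a * h⁻¹ = x (lam * a) →
      h * x (μ * a) * h⁻¹ = x (lam * (μ * a)) := by
    intro a ha
    have e1 : h * x (μ * a) * h⁻¹ = g * (h * x a * h⁻¹) * g⁻¹ := by
      rw [← hxg]
      have e2 : h * (g * x a * g⁻¹) * h⁻¹ = (h * g) * x a * (h * g)⁻¹ := by group
      have e3 : g * (h * x a * h⁻¹) * g⁻¹ = (g * h) * x a * (g * h)⁻¹ := by group
      rw [e2, e3, hgh.eq]
    rw [e1, ha, hxg]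
    congr 1
    ring
  have hnsmul : ∀ (n : ℕ) (a : F), h * x a * h⁻¹ = x (lam * a) →
      h * x (n • a) * h⁻¹ = x (lam * (n • a)) := by
    intro n a ha
    induction n with
    | zero => rw [zero_smul, mul_zero, hx0]; group
    | succ n ih => rw [succ_nsmul]; exact hadd _ _ ih ha
  have hpow : ∀ n : ℕ, h * x (μ ^ n) * h⁻¹ = x (lam * μ ^ n) := by
    intro n
    induction n with
    | zero => rw [pow_zero]; exact h1
    | succ n ih => rw [pow_succ']; exact hmul _ ih
  induction f using Polynomial.induction_on' with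
  | add f f' hf hf' =>
    rw [map_add]
    exact hadd _ _ hf hf'
  | monomial n c =>
    have e : aeval μ (monomial n c : (ZMod p)[X]) = (c.val) • μ ^ n := by
      rw [aeval_monomial, nsmul_eq_mul]
      congr 1
      have hc : c = ((c.val : ℕ) : ZMod p) := (ZMod.natCast_zmod_val c).symm
      conv_lhs => rw [hc]
      rw [map_natCast]
    rw [e]
    exact hnsmul _ _ (hpow n)

-- X2
theorem h_param {G : Type*} [Group G] {F : Type*} [Field F] [Fintype F] {p : ℕ}
    [Fact p.Prime] [Algebra (ZMod p) F] (u g h : G) (μ lam : F)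
    (hμ : Algebra.adjoin (ZMod p) {μ} = ⊤) (x : F → G) (hx1 : x 1 = u)
    (hxa : ∀ a b, x (a + b) = x a * x b) (hxg : ∀ a, g * x a * g⁻¹ = x (μ * a))
    (hxf : ∀ f : (ZMod p)[X], x (aeval μ f) = polyWord g u f)
    (hgh : Commute h g) (L : (ZMod p)[X]) (hL : aeval μ L = lam)
    (hrel : h * u * h⁻¹ = polyWord g u L) :
    ∀ a, h * x a * h⁻¹ = x (lam * a) := by
  intro a
  have h1 : h * x 1 * h⁻¹ = x (lam * 1) := by
    rw [hx1, hrel, ← hxf, hL, mul_one]
  have ha : a ∈ (Algebra.adjoin (ZMod p) {μ} : Subalgebra (ZMod p) F) := by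
    rw [hμ]; exact Algebra.mem_top
  rw [Algebra.adjoin_singleton_eq_range_aeval] at ha
  obtain ⟨f, rfl⟩ := ha
  exact helper97_h_param_aeval g h μ lam x hxa hxg hgh h1 f

end Cfsg.Agent.Lib.helper44.Pres
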