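import Mathlib
import Cfsg.Agent.Lib.helper3.GfDefs

/-!
# S4395, piece EXB (helper97): finite-field lemmas (also usable for EXA)
-/

set_option autoImplicit false
set_option linter.unusedVariables false
set_option linter.style.longLine false

namespace Cfsg.Agent.Lib.helper3.Gf

/-- `q ∣ p ^ t - 1` iff the order of `p` modulo `q` divides `t`. -/
theorem h97_gf_dvd_iff (p q t : ℕ) (hp : 1 ≤ p) :
    q ∣ p ^ t - 1 ↔ orderOf ((p : ℕ) : ZMod q) ∣ t := by
  rw [orderOf_dvd_iff_pow_eq_one, ← ZMod.natCast_eq_zero_iff,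
    Nat.cast_sub (Nat.one_le_pow _ _ hp), Nat.cast_pow, Nat.cast_one, sub_eq_zero]

/-- the order of `p` modulo `q` is positive -/
theorem h97_gf_order_pos (p q : ℕ) [Fact p.Prime] [Fact q.Prime] (hpq : p ≠ q) :
    0 < orderOf ((p : ℕ) : ZMod q) := by
  have hp : p.Prime := Fact.out
  have hq : q.Prime := Fact.out
  have h0 : ((p : ℕ) : ZMod q) ≠ 0 := by
    intro h
    rw [ZMod.natCast_eq_zero_iff] at h
    exact hpq ((Nat.prime_dvd_prime_iff_eq hq hp).1 h).symm
  have h1 := orderOf_dvd_of_pow_eq_one (ZMod.pow_card_sub_one_eq_one h0)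
  rcases Nat.eq_zero_or_pos (orderOf ((p : ℕ) : ZMod q)) with h | h
  · rw [h] at h1
    have := Nat.eq_zero_of_zero_dvd h1
    have := hq.two_le
    omega
  · exact h

/-- an element of order `q` in the field with `p ^ a` elements -/
theorem h97_gf_exists_lam (p q : ℕ) [Fact p.Prime] [Fact q.Prime] {L : Type*} [Field L] [Finite L]
    (hL : Nat.card L = p ^ orderOf (p : ZMod q)) : ∃ lam : L, orderOf lam = q := by
  classical
  have hp : p.Prime := Fact.out
  have hcu : Nat.card Lˣ = p ^ orderOf (p : ZMod q) - 1 := by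
    rw [Nat.card_units, hL]
  have hdvd : q ∣ Nat.card Lˣ := by
    rw [hcu, h97_gf_dvd_iff p q _ hp.one_lt.le]
  obtain ⟨u, hu⟩ := exists_prime_orderOf_dvd_card' q hdvd
  exact ⟨(u : L), by rw [orderOf_units, hu]⟩

/-- the field with `p ^ a` elements is irreducible under multiplication by an element of order `q` -/
theorem h97_gf_irr (p q : ℕ) [Fact p.Prime] [Fact q.Prime] {L : Type*} [Field L] [Finite L]
    (hL : Nat.card L = p ^ orderOf (p : ZMod q)) (lam : L) (hlam : orderOf lam = q)
    (W : AddSubgroup L) (hW : ∀ w ∈ W, lam * w ∈ W) : W = ⊥ ∨ W = ⊤ := by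
  classical
  have hp : p.Prime := Fact.out
  have hq : q.Prime := Fact.out
  by_cases hbot : W = ⊥
  · exact Or.inl hbot
  right
  obtain ⟨w, hw, hw0⟩ : ∃ w ∈ W, w ≠ 0 := by
    by_contra hcon
    push_neg at hcon
    exact hbot ((AddSubgroup.eq_bot_iff_forall W).2 hcon)
  have hpowmem : ∀ c : L, (∀ v ∈ W, c * v ∈ W) → ∀ j : ℕ, ∀ v ∈ W, c ^ j * v ∈ W := by
    intro c hc j
    induction j with
    | zero => intro v hv; rw [pow_zero, one_mul]; exact hv
    | succ j ih => intro v hv; rw [pow_succ, mul_assoc]; exact ih _ (hc v hv)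
  -- the stabiliser subfield
  let S : Subfield L :=
    { carrier := {c | ∀ v ∈ W, c * v ∈ W}
      mul_mem' := fun {a b} ha hb v hv => by rw [mul_assoc]; exact ha _ (hb v hv)
      one_mem' := fun v hv => by rw [one_mul]; exact hv
      add_mem' := fun {a b} ha hb v hv => by rw [add_mul]; exact W.add_mem (ha v hv) (hb v hv)
      zero_mem' := fun v hv => by rw [zero_mul]; exact W.zero_mem
      neg_mem' := fun {a} ha v hv => by rw [neg_mul]; exact W.neg_mem (ha v hv)
      inv_mem' := fun c hc => by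
        by_cases hc0 : c = 0
        · intro v hv
          rw [hc0, inv_zero, zero_mul]
          exact W.zero_mem
        · obtain ⟨n, hn, hcn⟩ := (isOfFinOrder_iff_pow_eq_one.1
            (isOfFinOrder_of_finite (Units.mk0 c hc0)))
          have hcn' : c ^ n = 1 := by
            have := congrArg Units.val hcn
            simpa using this
          have hinv : c⁻¹ = c ^ (n - 1) := by
            apply inv_eq_of_mul_eq_one_right
            rw [← pow_succ', Nat.sub_add_cancel hn, hcn']
          rw [hinv]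
          exact hpowmem c hc (n - 1) }
  have hmemS : ∀ c : L, c ∈ S ↔ ∀ v ∈ W, c * v ∈ W := fun c => Iff.rfl
  have hlamS : lam ∈ S := hW
  -- card S = p ^ d
  have hSdvd : Nat.card S ∣ p ^ orderOf (p : ZMod q) := by
    rw [← hL]
    exact AddSubgroup.card_addSubgroup_dvd_card S.toSubring.toAddSubgroup
  obtain ⟨d, hd, hSd⟩ := (Nat.dvd_prime_pow hp).1 hSdvd
  letI : Fintype S := Fintype.ofFinite S
  have hlam0 : lam ≠ 0 := by
    rintro rfl
    rw [orderOf_zero] at hlam
    exact hq.ne_zero hlam.symm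
  have h1 : (⟨lam, hlamS⟩ : S) ^ (Fintype.card S - 1) = 1 :=
    FiniteField.pow_card_sub_one_eq_one _ (by
      intro h; exact hlam0 (congrArg Subtype.val h))
  have h2 : lam ^ (p ^ d - 1) = 1 := by
    have := congrArg Subtype.val h1
    rw [← Nat.card_eq_fintype_card, hSd] at this
    simpa using this
  have h3 : q ∣ p ^ d - 1 := by
    rw [← hlam]; exact orderOf_dvd_of_pow_eq_one h2
  have h4 : orderOf (p : ZMod q) ∣ d := (h97_gf_dvd_iff p q d hp.one_lt.le).1 h3
  have hd0 : d ≠ 0 := by
    rintro rfl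
    rw [pow_zero] at hSd
    have hss : Subsingleton S := (Nat.card_eq_one_iff_unique.1 hSd).1
    exact zero_ne_one (congrArg Subtype.val (Subsingleton.elim (0 : S) 1))
  have hda : d = orderOf (p : ZMod q) :=
    le_antisymm hd (Nat.le_of_dvd (Nat.pos_of_ne_zero hd0) h4)
  have hStop : ∀ c : L, c ∈ S := by
    have hinj : Function.Injective (Subtype.val : S → L) := Subtype.val_injective
    have hcard : Nat.card L ≤ Nat.card S := by rw [hSd, hL, hda]
    have hbij := Function.Injective.bijective_of_nat_card_le hinj hcard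
    intro c
    obtain ⟨s, rfl⟩ := hbij.2 c
    exact s.2
  ext v
  simp only [AddSubgroup.mem_top, iff_true]
  have := (hmemS _).1 (hStop (v * w⁻¹)) w hw
  rwa [inv_mul_cancel_right₀ hw0] at this

/-- at most `n` solutions of `x ^ n = c * x` -/
theorem h97_gf_roots_le {L : Type*} [Field L] (c : L) (n : ℕ) (hn : 2 ≤ n) (Z : Finset L)
    (hZ : ∀ x ∈ Z, x ^ n = c * x) : Z.card ≤ n := by
  classical
  have hdeg : (Polynomial.X ^ n - Polynomial.C c * Polynomial.X : Polynomial L).natDegree = n := by
    have h1 : (Polynomial.C c * Polynomial.X : Polynomial L).natDegree <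
        (Polynomial.X ^ n : Polynomial L).natDegree := by
      rw [Polynomial.natDegree_X_pow]
      exact lt_of_le_of_lt (Polynomial.natDegree_C_mul_le _ _)
        (by rw [Polynomial.natDegree_X]; omega)
    rw [Polynomial.natDegree_sub_eq_left_of_natDegree_lt h1, Polynomial.natDegree_X_pow]
  have hne : (Polynomial.X ^ n - Polynomial.C c * Polynomial.X : Polynomial L) ≠ 0 := by
    intro h
    rw [h, Polynomial.natDegree_zero] at hdeg
    omega
  have hsub : Z.val ⊆ (Polynomial.X ^ n - Polynomial.C c * Polynomial.X : Polynomial L).roots := by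
    intro x hx
    rw [Polynomial.mem_roots hne, Polynomial.IsRoot.def]
    have hx' : x ∈ Z := hx
    simp [hZ x hx']
  have := Polynomial.card_le_degree_of_subset_roots hsub
  rwa [hdeg] at this

/-- the involution `x ↦ x ^ p ^ b` of the field with `p ^ (2 b)` elements -/
theorem h97_gf_sigma (p q b : ℕ) [Fact p.Prime] [Fact q.Prime] (hpq : p ≠ q)
    (hb : orderOf (p : ZMod q) = 2 * b) {L : Type*} [Field L] [Finite L] [CharP L p]
    (hL : Nat.card L = p ^ (2 * b)) (lam : L) (hlam : orderOf lam = q) :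
    (∀ x y : L, (x + y) ^ p ^ b = x ^ p ^ b + y ^ p ^ b) ∧
    (∀ x : L, (x ^ p ^ b) ^ p ^ b = x) ∧ lam * lam ^ p ^ b = 1 ∧ (∃ t : L, t + t ^ p ^ b = 1) ∧
    Nat.card {z : L // z + z ^ p ^ b = 0} = p ^ b := by
  classical
  have hp : p.Prime := Fact.out
  have hq : q.Prime := Fact.out
  let _ : Fintype L := Fintype.ofFinite L
  have _ : ExpChar L p := ExpChar.prime hp
  have hcard : Fintype.card L = p ^ (2 * b) := by rw [← Nat.card_eq_fintype_card, hL]
  have hadd : ∀ x y : L, (x + y) ^ p ^ b = x ^ p ^ b + y ^ p ^ b := by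
    intro x y
    have := map_add (iterateFrobenius L p b) x y
    simpa [iterateFrobenius_def] using this
  have hinv : ∀ x : L, (x ^ p ^ b) ^ p ^ b = x := by
    intro x
    rw [← pow_mul, ← pow_add, ← two_mul, ← hcard, FiniteField.pow_card]
  have hb0 : b ≠ 0 := by
    rintro rfl
    have := h97_gf_order_pos p q hpq
    omega
  have hu2 : ((p : ZMod q) ^ b) ^ 2 = 1 := by
    rw [← pow_mul, mul_comm, ← hb, pow_orderOf_eq_one]
  have hu1 : (p : ZMod q) ^ b ≠ 1 := by
    intro h
    have h' := orderOf_dvd_of_pow_eq_one h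
    rw [hb] at h'
    have := Nat.le_of_dvd (Nat.pos_of_ne_zero hb0) h'
    omega
  have hum : (p : ZMod q) ^ b = -1 := by
    have h : ((p : ZMod q) ^ b - 1) * ((p : ZMod q) ^ b + 1) = 0 := by linear_combination hu2
    rcases mul_eq_zero.1 h with h | h
    · exact absurd (sub_eq_zero.1 h) hu1
    · exact eq_neg_of_add_eq_zero_left h
  have hqd : q ∣ p ^ b + 1 := by
    rw [← ZMod.natCast_eq_zero_iff]
    push_cast
    rw [hum]
    ring
  have hlamn : lam * lam ^ p ^ b = 1 := by
    rw [← pow_succ']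
    obtain ⟨c, hc⟩ := hqd
    rw [hc, pow_mul, ← hlam, pow_orderOf_eq_one, one_pow]
  have hpb2 : 2 ≤ p ^ b := by
    calc 2 ≤ p := hp.two_le
      _ = p ^ 1 := (pow_one p).symm
      _ ≤ p ^ b := Nat.pow_le_pow_right hp.pos (Nat.one_le_iff_ne_zero.2 hb0)
  let φ : L →+ L := AddMonoidHom.mk' (fun z => z + z ^ p ^ b) (by intro x y; rw [hadd]; ring)
  have hφ : ∀ z, φ z = z + z ^ p ^ b := fun z => rfl
  have hmul : Nat.card φ.ker * Nat.card φ.range = p ^ b * p ^ b := by
    rw [← AddSubgroup.index_ker, AddSubgroup.card_mul_index, hL, two_mul, pow_add]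
  have hker : Nat.card φ.ker ≤ p ^ b := by
    refine le_of_eq_of_le (Nat.card_eq_card_finite_toFinset (Set.toFinite (φ.ker : Set L))) ?_
    apply h97_gf_roots_le (-1) (p ^ b) hpb2
    intro x hx
    rw [Set.Finite.mem_toFinset] at hx
    have h0 : φ x = 0 := hx
    rw [hφ] at h0
    linear_combination h0
  have hrangeZ : ∀ x ∈ (Set.toFinite (φ.range : Set L)).toFinset, x ^ p ^ b = x := by
    intro x hx
    rw [Set.Finite.mem_toFinset] at hx
    obtain ⟨z, rfl⟩ := hx
    rw [hφ, hadd, hinv]
    ring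
  have hrange : Nat.card φ.range ≤ p ^ b := by
    refine le_of_eq_of_le (Nat.card_eq_card_finite_toFinset (Set.toFinite (φ.range : Set L))) ?_
    apply h97_gf_roots_le 1 (p ^ b) hpb2
    intro x hx
    rw [hrangeZ x hx, one_mul]
  have hpos : 0 < p ^ b := by positivity
  have hker_eq : Nat.card φ.ker = p ^ b := by
    rcases Nat.lt_or_ge (Nat.card φ.ker) (p ^ b) with h | h
    · exfalso
      have h1 : Nat.card φ.ker * Nat.card φ.range ≤ Nat.card φ.ker * p ^ b :=
        Nat.mul_le_mul_left _ hrange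
      have h2 : Nat.card φ.ker * p ^ b < p ^ b * p ^ b := by nlinarith
      omega
    · exact le_antisymm hker h
  have hrange_eq : Nat.card φ.range = p ^ b := by
    rw [hker_eq] at hmul
    exact Nat.eq_of_mul_eq_mul_left hpos hmul
  have ht : ∃ t : L, t + t ^ p ^ b = 1 := by
    have hsub : (Set.toFinite (φ.range : Set L)).toFinset ⊆
        Finset.univ.filter (fun x : L => x ^ p ^ b = x) := by
      intro x hx
      rw [Finset.mem_filter]
      exact ⟨Finset.mem_univ _, hrangeZ x hx⟩
    have hc : ((Set.toFinite (φ.range : Set L)).toFinset).card = p ^ b :=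
      (Nat.card_eq_card_finite_toFinset (Set.toFinite (φ.range : Set L))).symm.trans hrange_eq
    have hle : (Finset.univ.filter (fun x : L => x ^ p ^ b = x)).card ≤
        ((Set.toFinite (φ.range : Set L)).toFinset).card := by
      rw [hc]
      apply h97_gf_roots_le 1 (p ^ b) hpb2
      intro x hx
      rw [Finset.mem_filter] at hx
      rw [hx.2, one_mul]
    have heq := Finset.eq_of_subset_of_card_le hsub hle
    have h1 : (1 : L) ∈ Finset.univ.filter (fun x : L => x ^ p ^ b = x) := by
      rw [Finset.mem_filter]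
      exact ⟨Finset.mem_univ _, one_pow _⟩
    rw [← heq, Set.Finite.mem_toFinset] at h1
    obtain ⟨t, ht⟩ := h1
    exact ⟨t, ht⟩
  refine ⟨hadd, hinv, hlamn, ht, ?_⟩
  exact (Nat.card_congr (Equiv.subtypeEquivRight
    (fun z => by rw [AddMonoidHom.mem_ker, hφ]))).trans hker_eq

end Cfsg.Agent.Lib.helper3.Gf
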