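import Mathlib
import Cfsg.Agent.Lib.helper44.PresDefs
import Cfsg.Agent.Lib.helper97.PresX2

/-!
# S2286, piece ASO (`conf_odd`), core

The abstract odd side: from the parametrisation of the root group (X1), the action of `h` (X2)
and the two Bruhat lemmas (BR, taken here as hypotheses) we get a Bruhat configuration.
-/

set_option autoImplicit false

namespace Cfsg.Agent.Lib.helper44.Pres

open Polynomial

/-- Every nonzero `a` is `lam ^ k` or `lam ^ k * ζ⁻¹` (`lam = ζ ^ 2`, `ζ` a generator). -/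
theorem helper97_sq_cases {F : Type*} [Field F] [Fintype F] (ζ : Fˣ)
    (hζ : ∀ y : Fˣ, y ∈ Subgroup.zpowers ζ) (a : F) (ha : a ≠ 0) :
    ∃ k : ℕ, a = ((ζ : F) ^ 2) ^ k * 1 ∨ a = ((ζ : F) ^ 2) ^ k * ((ζ⁻¹ : Fˣ) : F) := by
  have hy := hζ (Units.mk0 a ha)
  obtain ⟨m, hm⟩ := (mem_powers_iff_mem_zpowers).mpr hy
  have hm' : (ζ : F) ^ m = a := by
    have := congrArg (fun z : Fˣ => (z : F)) hm
    simpa using this
  rcases Nat.even_or_odd' m with ⟨k, hk | hk⟩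
  · refine ⟨k, Or.inl ?_⟩
    rw [mul_one, ← pow_mul, ← hk, hm']
  · refine ⟨k + 1, Or.inr ?_⟩
    rw [← hm', hk, ← pow_mul]
    have h1 : (ζ : F) * ((ζ⁻¹ : Fˣ) : F) = 1 := by
      rw [← Units.val_mul, mul_inv_cancel, Units.val_one]
    calc (ζ : F) ^ (2 * k + 1) = (ζ : F) ^ (2 * k + 1) * ((ζ : F) * ((ζ⁻¹ : Fˣ) : F)) := by
          rw [h1, mul_one]
      _ = (ζ : F) ^ (2 * (k + 1)) * ((ζ⁻¹ : Fˣ) : F) := by ring

/-- ASO, with the pieces X1 and BR as hypotheses. -/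
theorem helper97_conf_odd_core {G : Type*} [Group G] {F : Type*} [Field F] [Fintype F] {p : ℕ}
    [Fact p.Prime] [Algebra (ZMod p) F] (u t h : G) (ζ : Fˣ)
    (hζ : ∀ y : Fˣ, y ∈ Subgroup.zpowers ζ) (i : ℕ)
    (hμ : Algebra.adjoin (ZMod p) {((ζ : F) ^ 2) ^ i} = ⊤)
    (hX1 : ∃ x : F → G, x 1 = u ∧ (∀ a b, x (a + b) = x a * x b) ∧
      (∀ a, h ^ i * x a * (h ^ i)⁻¹ = x (((ζ : F) ^ 2) ^ i * a)) ∧
      ∀ f : (ZMod p)[X], x (aeval (((ζ : F) ^ 2) ^ i) f) = polyWord (h ^ i) u f)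
    (L Z Z' : (ZMod p)[X]) (hL : aeval (((ζ : F) ^ 2) ^ i) L = (ζ : F) ^ 2)
    (hZ : aeval (((ζ : F) ^ 2) ^ i) Z = (ζ : F))
    (hZ' : aeval (((ζ : F) ^ 2) ^ i) Z' = ((ζ⁻¹ : Fˣ) : F))
    (hLrel : h * u * h⁻¹ = polyWord (h ^ i) u L) (hD : t * h * t⁻¹ = h⁻¹)
    (h6 : u * t * u * t⁻¹ * u = t)
    (h7 : polyWord (h ^ i) u Z * t * polyWord (h ^ i) u Z' * t⁻¹ * polyWord (h ^ i) u Z = h * t)
    (n s : ℕ) (ht2 : t * t = h ^ s) (hn : h ^ n = 1) (hn0 : 0 < n)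
    (hscale : ∀ x : F → G, (∀ a b, x (a + b) = x a * x b) →
      (∀ a, h * x a * h⁻¹ = x ((ζ : F) ^ 2 * a)) → ∀ (a : F) (k : ℕ),
        BP x t h a → BP x t h (((ζ : F) ^ 2) ^ k * a))
    (hrel : ∀ x : F → G, (∀ a b, x (a + b) = x a * x b) →
      (∀ a, h * x a * h⁻¹ = x ((ζ : F) ^ 2 * a)) → ∀ (a a' : F) (k : ℕ),
        x a * t * x a' * t⁻¹ * x a = h ^ k * t → BP x t h a') :
    ∃ x : F → G, IsBConf x u t h ((ζ : F) ^ 2) n s := by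
  obtain ⟨x, hx1, hxa, hxg, hxf⟩ := hX1
  have hhx : ∀ a, h * x a * h⁻¹ = x ((ζ : F) ^ 2 * a) :=
    h_param u (h ^ i) h (((ζ : F) ^ 2) ^ i) ((ζ : F) ^ 2) hμ x hx1 hxa hxg hxf
      (Commute.pow_right (Commute.refl h) i) L hL hLrel
  have hb1 : BP x t h 1 := by
    apply hrel x hxa hhx 1 1 0
    rw [hx1, pow_zero, one_mul]
    exact h6
  have hb2 : BP x t h ((ζ⁻¹ : Fˣ) : F) := by
    apply hrel x hxa hhx (ζ : F) ((ζ⁻¹ : Fˣ) : F) 1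
    rw [pow_one, ← hZ, ← hZ', hxf, hxf]
    exact h7
  refine ⟨x, ⟨hx1, hxa, hhx, hD, ht2, hn, hn0, ?_⟩⟩
  intro a ha
  obtain ⟨k, hk | hk⟩ := helper97_sq_cases ζ hζ a ha
  · rw [hk]; exact hscale x hxa hhx 1 k hb1
  · rw [hk]; exact hscale x hxa hhx _ k hb2

end Cfsg.Agent.Lib.helper44.Pres
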