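import Mathlib
import Cfsg.Agent.Lib.helper49.SPEDefs

/-! S2333 split (architect helper49), piece QINJ (racing copy, helper97): a symmetric matrix is
determined by its quadratic form `qfy`. -/

set_option autoImplicit false

namespace Cfsg.Agent.Lib.helper49.SPE

open Matrix

theorem h97_bil_single {F : Type*} [Field F] {n : ℕ} (M : Matrix (Fin n) (Fin n) F)
    (k l : Fin n) :
    ∑ i, ∑ j, M i j * (Pi.single k 1 : Fin n → F) i * (Pi.single l 1 : Fin n → F) j = M k l := by
  rw [Finset.sum_eq_single k, Finset.sum_eq_single l]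
  · simp
  · intro j _ hj
    simp [Pi.single_apply, hj]
  · intro h
    exact absurd (Finset.mem_univ _) h
  · intro i _ hi
    apply Finset.sum_eq_zero
    intro j _
    simp [Pi.single_apply, hi]
  · intro h
    exact absurd (Finset.mem_univ _) h

theorem h97_qfy_add {F : Type*} [Field F] {n : ℕ} (y : Matrix (Fin n) (Fin n) F)
    (u v : Fin n → F) :
    qfy y (u + v) = (∑ i, ∑ j, upT y i j * u i * u j) + (∑ i, ∑ j, upT y i j * u i * v j) +
      (∑ i, ∑ j, upT y i j * v i * u j) + (∑ i, ∑ j, upT y i j * v i * v j) := by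
  unfold qfy
  simp only [← Finset.sum_add_distrib]
  refine Finset.sum_congr rfl (fun i _ => Finset.sum_congr rfl (fun j _ => ?_))
  simp only [Pi.add_apply]
  ring

theorem h97_qfy_single {F : Type*} [Field F] {n : ℕ} (y : Matrix (Fin n) (Fin n) F)
    (k : Fin n) : qfy y (Pi.single k 1) = y k k := by
  unfold qfy
  rw [h97_bil_single]
  simp [upT]

theorem h97_qfy_pair {F : Type*} [Field F] {n : ℕ} (y : Matrix (Fin n) (Fin n) F)
    (k l : Fin n) (hkl : k < l) :
    qfy y (Pi.single k 1 + Pi.single l 1) = y k k + y k l + y l l := by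
  rw [h97_qfy_add, h97_bil_single, h97_bil_single, h97_bil_single, h97_bil_single]
  simp [upT, hkl.le, hkl.not_ge]

/-- QINJ (racing copy) -/
theorem h97_qfy_inj {F : Type*} [Field F] {n : ℕ} (y y' : Matrix (Fin n) (Fin n) F)
    (hy : y ∈ symH F n) (hy' : y' ∈ symH F n) (h : ∀ x, qfy y x = qfy y' x) : y = y' := by
  have hd : ∀ k, y k k = y' k k := by
    intro k
    rw [← h97_qfy_single y k, ← h97_qfy_single y' k]
    exact h _
  have hlt : ∀ k l : Fin n, k < l → y k l = y' k l := by
    intro k l hkl
    have h1 := h (Pi.single k 1 + Pi.single l 1)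
    rw [h97_qfy_pair y k l hkl, h97_qfy_pair y' k l hkl, hd k, hd l] at h1
    linear_combination h1
  ext i j
  rcases lt_trichotomy i j with hij | hij | hij
  · exact hlt i j hij
  · rw [hij]
    exact hd j
  · rw [hy i j, hy' i j]
    exact hlt j i hij

end Cfsg.Agent.Lib.helper49.SPE
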