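import Mathlib

/-! S2111 piece PAIR2 (`pairing2`): a bi-additive pairing on a field of characteristic two which is
invariant under `(s, t) ↦ (μ s, μ μ^e t)` is trivial, given one good field element. -/

set_option autoImplicit false

namespace Cfsg.Agent.Lib.helper97.S2111

/-- PIECE PAIR2 (pure Mathlib). -/
theorem helper97_pairing2 {F Γ : Type*} [Field F] [Group Γ] (h2 : (2 : F) = 0) (e : ℕ)
    (B : F → F → Γ)
    (hl : ∀ s s' t, B (s + s') t = B s t * B s' t) (hr : ∀ s t t', B s (t + t') = B s t * B s t')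
    (hinv : ∀ μ s t, μ ≠ 0 → B (μ * s) (μ * μ ^ e * t) = B s t)
    (x : F) (hx0 : x ≠ 0) (hx1 : x + 1 ≠ 0)
    (hκ : ((x + 1) * (x + 1) ^ e)⁻¹ + (x * x ^ e)⁻¹ + 1 ≠ 0) : ∀ s t, B s t = 1 := by
  have hzero : ∀ s, B s 0 = 1 := by
    intro s
    have h := hr s 0 0
    rw [add_zero] at h
    exact (mul_eq_left.mp h.symm)
  have hdouble : ∀ v : F, v + v = 0 := by
    intro v
    have : v + v = 2 * v := by ring
    rw [this, h2, zero_mul]
  have hmove : ∀ μ : F, μ ≠ 0 → ∀ s t, B (μ * s) t = B s ((μ * μ ^ e)⁻¹ * t) := by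
    intro μ hμ s t
    have hψ : μ * μ ^ e ≠ 0 := mul_ne_zero hμ (pow_ne_zero e hμ)
    have h := hinv μ s ((μ * μ ^ e)⁻¹ * t) hμ
    rw [mul_inv_cancel_left₀ hψ] at h
    exact h
  have key : ∀ s t, B s ((((x + 1) * (x + 1) ^ e)⁻¹ + (x * x ^ e)⁻¹ + 1) * t) = 1 := by
    intro s t
    have e1 : B ((x + 1) * s) t = B s (((x + 1) * (x + 1) ^ e)⁻¹ * t) := hmove (x + 1) hx1 s t
    have e2 : B ((x + 1) * s) t = B s ((x * x ^ e)⁻¹ * t + t) := by
      have : (x + 1) * s = x * s + s := by ring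
      rw [this, hl, hmove x hx0 s t, ← hr]
    have e3 : (((x + 1) * (x + 1) ^ e)⁻¹ + (x * x ^ e)⁻¹ + 1) * t
        = ((x + 1) * (x + 1) ^ e)⁻¹ * t + ((x * x ^ e)⁻¹ * t + t) := by ring
    rw [e3, hr, ← e1, e2, ← hr, hdouble, hzero]
  intro s t
  have h := key s ((((x + 1) * (x + 1) ^ e)⁻¹ + (x * x ^ e)⁻¹ + 1)⁻¹ * t)
  rw [mul_inv_cancel_left₀ hκ] at h
  exact h

end Cfsg.Agent.Lib.helper97.S2111
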