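import Mathlib

/-! S2113 piece FLAC (`fl_ac`): a bi-additive pairing on the field with `3^(2m+1)` elements which is
invariant under `(s, t) ↦ (ν s, ν² φ(ν) t)`, `φ ν = (ν^(3^m))^3`, is trivial. -/

set_option autoImplicit false

namespace Cfsg.Agent.Lib.helper97.S2113

open Polynomial

/-- Core: invariance under `(s, t) ↦ (ν s, ψ ν t)` plus one good field element kills the pairing. -/
theorem helper97_fl_core {K Γ : Type*} [Field K] [Group Γ] (B : K → K → Γ) (ψ : K → K)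
    (hl : ∀ s s' t, B (s + s') t = B s t * B s' t) (hr : ∀ s t t', B s (t + t') = B s t * B s t')
    (hψ : ∀ ν, ν ≠ 0 → ψ ν ≠ 0)
    (hinv : ∀ ν s t, ν ≠ 0 → B (ν * s) (ψ ν * t) = B s t)
    (x : K) (hx0 : x ≠ 0) (hx1 : x + 1 ≠ 0)
    (hκ : (ψ (x + 1))⁻¹ - (ψ x)⁻¹ - 1 ≠ 0) : ∀ s t, B s t = 1 := by
  have hmove : ∀ ν : K, ν ≠ 0 → ∀ s t, B (ν * s) t = B s ((ψ ν)⁻¹ * t) := by
    intro ν hν s t
    have h := hinv ν s ((ψ ν)⁻¹ * t) hν
    rw [mul_inv_cancel_left₀ (hψ ν hν)] at h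
    exact h
  have key : ∀ s t, B s (((ψ (x + 1))⁻¹ - (ψ x)⁻¹ - 1) * t) = 1 := by
    intro s t
    have e1 : B ((x + 1) * s) t = B s ((ψ (x + 1))⁻¹ * t) := hmove (x + 1) hx1 s t
    have e2 : B ((x + 1) * s) t = B s ((ψ x)⁻¹ * t + t) := by
      have : (x + 1) * s = x * s + s := by ring
      rw [this, hl, hmove x hx0 s t, ← hr]
    have e3 : (ψ (x + 1))⁻¹ * t
        = ((ψ (x + 1))⁻¹ - (ψ x)⁻¹ - 1) * t + ((ψ x)⁻¹ * t + t) := by ring
    have h := hr s (((ψ (x + 1))⁻¹ - (ψ x)⁻¹ - 1) * t) ((ψ x)⁻¹ * t + t)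
    rw [← e3, ← e1, e2] at h
    exact mul_eq_right.mp h.symm
  intro s t
  have h := key s (((ψ (x + 1))⁻¹ - (ψ x)⁻¹ - 1)⁻¹ * t)
  rw [mul_inv_cancel_left₀ hκ] at h
  exact h

/-- The field point for FLAC, abstract form. -/
theorem helper97_fl_ac_pt {K : Type*} [Field K] [Fintype K] (E : ℕ)
    (hfrob : ∀ x : K, (x + 1) ^ E = x ^ E + 1) (hE : E ≠ 0)
    (hcard : 2 * E + 6 < Fintype.card K) :
    ∃ x : K, x ≠ 0 ∧ x + 1 ≠ 0 ∧
      ((x + 1) ^ 2 * (x + 1) ^ E)⁻¹ - (x ^ 2 * x ^ E)⁻¹ - 1 ≠ 0 := by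
  classical
  set P : K[X] := X ^ 2 * X ^ E - (X + 1) ^ 2 * (X ^ E + 1)
    - X ^ 2 * X ^ E * ((X + 1) ^ 2 * (X ^ E + 1)) with hP
  have hev : ∀ x : K, P.eval x
      = x ^ 2 * x ^ E - (x + 1) ^ 2 * (x ^ E + 1) - x ^ 2 * x ^ E * ((x + 1) ^ 2 * (x ^ E + 1)) := by
    intro x
    simp [hP]
  have hP0 : P ≠ 0 := by
    intro h0
    have h1 := hev 0
    rw [h0] at h1
    simp [hE] at h1
  have hdeg : P.natDegree ≤ 2 * E + 4 := by
    rw [hP]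
    compute_degree
    all_goals omega
  have hroots : P.roots.toFinset.card ≤ 2 * E + 4 :=
    (Multiset.toFinset_card_le _).trans ((Polynomial.card_roots' P).trans hdeg)
  have hS : (P.roots.toFinset ∪ {0, -1}).card ≤ 2 * E + 6 := by
    refine (Finset.card_union_le _ _).trans ?_
    have : ({0, -1} : Finset K).card ≤ 2 := Finset.card_insert_le _ _
    omega
  have hex : ∃ x : K, x ∉ P.roots.toFinset ∪ {0, -1} := by
    by_contra hcon
    have hall : ∀ x : K, x ∈ P.roots.toFinset ∪ {0, -1} := by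
      intro x
      by_contra hx
      exact hcon ⟨x, hx⟩
    have huniv : P.roots.toFinset ∪ {0, -1} = Finset.univ := Finset.eq_univ_iff_forall.mpr hall
    rw [huniv, Finset.card_univ] at hS
    omega
  obtain ⟨x, hx⟩ := hex
  rw [Finset.mem_union, not_or] at hx
  obtain ⟨hxr, hx01⟩ := hx
  have hx0 : x ≠ 0 := by
    intro h
    apply hx01
    rw [h]
    exact Finset.mem_insert_self _ _
  have hx1 : x + 1 ≠ 0 := by
    intro h
    apply hx01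
    rw [eq_neg_of_add_eq_zero_left h]
    exact Finset.mem_insert_of_mem (Finset.mem_singleton_self _)
  have hPx : P.eval x ≠ 0 := by
    intro h
    apply hxr
    rw [Multiset.mem_toFinset, Polynomial.mem_roots hP0]
    exact h
  refine ⟨x, hx0, hx1, ?_⟩
  intro hk
  apply hPx
  have hA : x ^ 2 * x ^ E ≠ 0 := mul_ne_zero (pow_ne_zero 2 hx0) (pow_ne_zero E hx0)
  have hB : (x + 1) ^ 2 * (x + 1) ^ E ≠ 0 := mul_ne_zero (pow_ne_zero 2 hx1) (pow_ne_zero E hx1)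
  have h3 : x ^ 2 * x ^ E - (x + 1) ^ 2 * (x + 1) ^ E
      - (x ^ 2 * x ^ E) * ((x + 1) ^ 2 * (x + 1) ^ E) = 0 := by
    have h4 : (((x + 1) ^ 2 * (x + 1) ^ E)⁻¹ - (x ^ 2 * x ^ E)⁻¹ - 1) *
        ((x ^ 2 * x ^ E) * ((x + 1) ^ 2 * (x + 1) ^ E))
        = x ^ 2 * x ^ E - (x + 1) ^ 2 * (x + 1) ^ E
          - (x ^ 2 * x ^ E) * ((x + 1) ^ 2 * (x + 1) ^ E) := by
      field_simp
    rw [← h4, hk, zero_mul]
  rw [hfrob] at h3
  rw [hev]
  linear_combination h3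

/-- PIECE FLAC. -/
theorem helper97_fl_ac {K : Type*} [Field K] [Fintype K] {m : ℕ} (hm : 1 ≤ m)
    (hK : Fintype.card K = 3 ^ (2 * m + 1)) {Γ : Type*} [Group Γ] (B : K → K → Γ)
    (hl : ∀ s s' t, B (s + s') t = B s t * B s' t) (hr : ∀ s t t', B s (t + t') = B s t * B s t')
    (hinv : ∀ ν s t, ν ≠ 0 → B (ν * s) (ν ^ 2 * (ν ^ 3 ^ m) ^ 3 * t) = B s t) :
    ∀ s t, B s t = 1 := by
  have h3 : ((3 : ℕ) : K) = 0 := by
    have h := Nat.cast_card_eq_zero K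
    rw [hK] at h
    push_cast at h
    have h' := pow_eq_zero_iff (by omega) |>.mp h
    exact_mod_cast h'
  have hch : CharP K 3 := (CharP.charP_iff_prime_eq_zero Nat.prime_three).mpr h3
  have hpow : ∀ ν : K, (ν ^ 3 ^ m) ^ 3 = ν ^ 3 ^ (m + 1) := by
    intro ν
    rw [← pow_mul, ← pow_succ]
  have hfrob : ∀ x : K, (x + 1) ^ 3 ^ (m + 1) = x ^ 3 ^ (m + 1) + 1 := by
    intro x
    have := add_pow_char_pow x 1 3 (m + 1)
    rw [this, one_pow]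
  have hE9 : 9 ≤ 3 ^ (m + 1) := by
    calc 9 = 3 ^ 2 := by norm_num
      _ ≤ 3 ^ (m + 1) := Nat.pow_le_pow_right (by norm_num) (by omega)
  have hsq : 3 * 3 ^ (2 * m + 1) = 3 ^ (m + 1) * 3 ^ (m + 1) := by
    rw [← pow_add, ← pow_succ']
    congr 1
    omega
  have hcard : 2 * 3 ^ (m + 1) + 6 < Fintype.card K := by
    rw [hK]
    generalize 3 ^ (m + 1) = k at hE9 hsq
    generalize 3 ^ (2 * m + 1) = q at hsq
    nlinarith
  obtain ⟨x, hx0, hx1, hκ⟩ := helper97_fl_ac_pt (K := K) (3 ^ (m + 1)) hfrob (by positivity) hcard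
  refine helper97_fl_core B (fun ν => ν ^ 2 * (ν ^ 3 ^ m) ^ 3) hl hr ?_ hinv x hx0 hx1 ?_
  · intro ν hν
    exact mul_ne_zero (pow_ne_zero 2 hν) (pow_ne_zero 3 (pow_ne_zero _ hν))
  · show ((x + 1) ^ 2 * ((x + 1) ^ 3 ^ m) ^ 3)⁻¹ - (x ^ 2 * (x ^ 3 ^ m) ^ 3)⁻¹ - 1 ≠ 0
    rw [hpow, hpow]
    exact hκ

end Cfsg.Agent.Lib.helper97.S2113
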