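import Mathlib
import Cfsg.Agent.Lib.helper97.S2113FLAC

/-! S2113 piece FLAB (`fl_ab`): a bi-additive pairing on the field with `3^(2m+1)` elements which is
invariant under `(s, t) ↦ (ν s, ν φ(ν) t)`, `φ ν = (ν^(3^m))^3`, is trivial. -/

set_option autoImplicit false

namespace Cfsg.Agent.Lib.helper97.S2113

open Polynomial

/-- The field point for FLAB, abstract form. -/
theorem helper97_fl_ab_pt {K : Type*} [Field K] [Fintype K] (E : ℕ)
    (hfrob : ∀ x : K, (x + 1) ^ E = x ^ E + 1) (hE : E ≠ 0)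
    (hcard : 2 * E + 6 < Fintype.card K) :
    ∃ x : K, x ≠ 0 ∧ x + 1 ≠ 0 ∧
      ((x + 1) * (x + 1) ^ E)⁻¹ - (x * x ^ E)⁻¹ - 1 ≠ 0 := by
  classical
  set P : K[X] := X * X ^ E - (X + 1) * (X ^ E + 1)
    - X * X ^ E * ((X + 1) * (X ^ E + 1)) with hP
  have hev : ∀ x : K, P.eval x
      = x * x ^ E - (x + 1) * (x ^ E + 1) - x * x ^ E * ((x + 1) * (x ^ E + 1)) := by
    intro x
    simp [hP]
  have hP0 : P ≠ 0 := by
    intro h0
    have h1 := hev 0
    rw [h0] at h1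
    simp [hE] at h1
  have hdeg : P.natDegree ≤ 2 * E + 4 := by
    rw [hP]
    compute_degree
    all_goals omega
  have hroots : P.roots.toFinset.card ≤ 2 * E + 4 :=
    (Multiset.toFinset_card_le _).trans ((Polynomial.card_roots' P).trans hdeg)
  have hS : (P.roots.toFinset ∪ {0, -1}).card ≤ 2 * E + 6 := by
    refine (Finset.card_union_le _ _).trans ?_
    have : ({0, -1} : Finset K).card ≤ 2 := Finset.card_insert_le _ _
    omega
  have hex : ∃ x : K, x ∉ P.roots.toFinset ∪ {0, -1} := by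
    by_contra hcon
    have hall : ∀ x : K, x ∈ P.roots.toFinset ∪ {0, -1} := by
      intro x
      by_contra hx
      exact hcon ⟨x, hx⟩
    have huniv : P.roots.toFinset ∪ {0, -1} = Finset.univ := Finset.eq_univ_iff_forall.mpr hall
    rw [huniv, Finset.card_univ] at hS
    omega
  obtain ⟨x, hx⟩ := hex
  rw [Finset.mem_union, not_or] at hx
  obtain ⟨hxr, hx01⟩ := hx
  have hx0 : x ≠ 0 := by
    intro h
    apply hx01
    rw [h]
    exact Finset.mem_insert_self _ _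
  have hx1 : x + 1 ≠ 0 := by
    intro h
    apply hx01
    rw [eq_neg_of_add_eq_zero_left h]
    exact Finset.mem_insert_of_mem (Finset.mem_singleton_self _)
  have hPx : P.eval x ≠ 0 := by
    intro h
    apply hxr
    rw [Multiset.mem_toFinset, Polynomial.mem_roots hP0]
    exact h
  refine ⟨x, hx0, hx1, ?_⟩
  intro hk
  apply hPx
  have hA : x * x ^ E ≠ 0 := mul_ne_zero hx0 (pow_ne_zero E hx0)
  have hB : (x + 1) * (x + 1) ^ E ≠ 0 := mul_ne_zero hx1 (pow_ne_zero E hx1)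
  have h3 : x * x ^ E - (x + 1) * (x + 1) ^ E
      - (x * x ^ E) * ((x + 1) * (x + 1) ^ E) = 0 := by
    have h4 : (((x + 1) * (x + 1) ^ E)⁻¹ - (x * x ^ E)⁻¹ - 1) *
        ((x * x ^ E) * ((x + 1) * (x + 1) ^ E))
        = x * x ^ E - (x + 1) * (x + 1) ^ E
          - (x * x ^ E) * ((x + 1) * (x + 1) ^ E) := by
      field_simp
    rw [← h4, hk, zero_mul]
  rw [hfrob] at h3
  rw [hev]
  linear_combination h3

/-- PIECE FLAB. -/
theorem helper97_fl_ab {K : Type*} [Field K] [Fintype K] {m : ℕ} (hm : 1 ≤ m)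
    (hK : Fintype.card K = 3 ^ (2 * m + 1)) {Γ : Type*} [Group Γ] (B : K → K → Γ)
    (hl : ∀ s s' t, B (s + s') t = B s t * B s' t) (hr : ∀ s t t', B s (t + t') = B s t * B s t')
    (hinv : ∀ ν s t, ν ≠ 0 → B (ν * s) (ν * (ν ^ 3 ^ m) ^ 3 * t) = B s t) :
    ∀ s t, B s t = 1 := by
  have h3 : ((3 : ℕ) : K) = 0 := by
    have h := Nat.cast_card_eq_zero K
    rw [hK] at h
    push_cast at h
    have h' := pow_eq_zero_iff (by omega) |>.mp h
    exact_mod_cast h'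
  have hch : CharP K 3 := (CharP.charP_iff_prime_eq_zero Nat.prime_three).mpr h3
  have hpow : ∀ ν : K, (ν ^ 3 ^ m) ^ 3 = ν ^ 3 ^ (m + 1) := by
    intro ν
    rw [← pow_mul, ← pow_succ]
  have hfrob : ∀ x : K, (x + 1) ^ 3 ^ (m + 1) = x ^ 3 ^ (m + 1) + 1 := by
    intro x
    have := add_pow_char_pow x 1 3 (m + 1)
    rw [this, one_pow]
  have hE9 : 9 ≤ 3 ^ (m + 1) := by
    calc 9 = 3 ^ 2 := by norm_num
      _ ≤ 3 ^ (m + 1) := Nat.pow_le_pow_right (by norm_num) (by omega)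
  have hsq : 3 * 3 ^ (2 * m + 1) = 3 ^ (m + 1) * 3 ^ (m + 1) := by
    rw [← pow_add, ← pow_succ']
    congr 1
    omega
  have hcard : 2 * 3 ^ (m + 1) + 6 < Fintype.card K := by
    rw [hK]
    generalize 3 ^ (m + 1) = k at hE9 hsq
    generalize 3 ^ (2 * m + 1) = q at hsq
    nlinarith
  obtain ⟨x, hx0, hx1, hκ⟩ := helper97_fl_ab_pt (K := K) (3 ^ (m + 1)) hfrob (by positivity) hcard
  refine helper97_fl_core B (fun ν => ν * (ν ^ 3 ^ m) ^ 3) hl hr ?_ hinv x hx0 hx1 ?_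
  · intro ν hν
    exact mul_ne_zero hν (pow_ne_zero 3 (pow_ne_zero _ hν))
  · show ((x + 1) * ((x + 1) ^ 3 ^ m) ^ 3)⁻¹ - (x * (x ^ 3 ^ m) ^ 3)⁻¹ - 1 ≠ 0
    rw [hpow, hpow]
    exact hκ

end Cfsg.Agent.Lib.helper97.S2113
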