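import Mathlib
import Cfsg.Agent.Lib.helper68.HallPet
import Cfsg.Agent.Lib.helper65.PearlDefs
import Cfsg.Agent.Lib.helper65.PearlBasic

/-!
# S5238L piece S (`s_claim`), hypothesis-core (racer copy, helper97)

`rel_dl_ph` (I2) and `rel_ph` (D2) are taken as hypotheses.
-/

set_option autoImplicit false

namespace Cfsg.Agent.Lib.helper65.PearlPow

open Cfsg.Agent.Lib.helper68

variable {H : Type*} [Group H]

theorem h97_s_claim_core
    (hI2 : ∀ {v : ℕ} (x : H) {s : ℕ → H}, PolySeq v s →
      Rel (2 * v + 2) (ph x (dl s)) (dl (ph x s)))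
    (hD2 : ∀ {u v : ℕ} (x : H) {s s' : ℕ → H}, PolySeq v s → Rel u s s' →
      Rel (u + 1) (ph x s) (ph x s'))
    (x g : H) {w : ℕ} (hw : 1 ≤ w) (hg : g ∈ gam H w) (j : ℕ) :
    Rel (w + j + 2) ((ph x)^[j] (dl (tt x g))) (dl ((ph x)^[j] (tt x g))) := by
  induction j with
  | zero => exact rel_refl _ _
  | succ j ih =>
    rw [Function.iterate_succ_apply', Function.iterate_succ_apply']
    have ht := tt_polyseq x g hg
    have hdl : PolySeq (w + 1) (dl (tt x g)) := PolySeq.diff ht
    have h1 := hD2 x (polyseq_ph_iter x hdl j) ih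
    have h2 := hI2 x (polyseq_ph_iter x ht j)
    exact rel_trans (rel_mono (by omega) h1) (rel_mono (by omega) h2)

end Cfsg.Agent.Lib.helper65.PearlPow
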