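import Mathlib
import Cfsg.Agent.Lib.helper2.BGDefs

set_option autoImplicit false

open Cfsg

namespace Cfsg.Agent.Lib.helper2.BG

universe u

/-- R1 (V0), racing copy of `R_p_ge_five` (verbatim statement, prefixed name). -/
theorem helper97_R_p_ge_five {G : Type u} [Group G] [Finite G] (p : ℕ) [Fact p.Prime]
    (hdiv : p ∣ Nat.card G) (hsq : ¬ p ^ 2 ∣ Nat.card G)
    (hnn : ∀ H : Subgroup G, H.Normal → Nat.card H ≠ p) (χ : G → ℂ)
    (hχ : Cfsg.IsCharacter G χ) (hfaith : ∀ g : G, χ g = χ 1 → g = 1)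
    (hdeg : 2 * Cfsg.charDegree χ + 1 = p) : 5 ≤ p := by
  have hp : p.Prime := Fact.out
  by_contra hlt
  rw [not_le] at hlt
  obtain ⟨n, ρ, rfl⟩ := hχ
  have hdn : Cfsg.charDegree ρ.character = n := by
    unfold Cfsg.charDegree
    rw [Representation.char_one]
    simp
  rw [hdn] at hdeg
  have hn1 : n = 1 := by
    have h0 : n ≠ 0 := by
      rintro rfl
      simp at hdeg
      exact hp.ne_one hdeg.symm
    omega
  subst hn1
  have hmul : ∀ g h : G, ρ.character (g * h) = ρ.character g * ρ.character h := by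
    intro g h
    simp only [Representation.character, map_mul]
    rw [LinearMap.trace_eq_matrix_trace ℂ (Pi.basisFun ℂ (Fin 1)),
      LinearMap.trace_eq_matrix_trace ℂ (Pi.basisFun ℂ (Fin 1)) (ρ g),
      LinearMap.trace_eq_matrix_trace ℂ (Pi.basisFun ℂ (Fin 1)) (ρ h), LinearMap.toMatrix_mul]
    simp [Matrix.trace_fin_one, Matrix.mul_apply]
  have h1 : ρ.character 1 = 1 := by
    rw [Representation.char_one]; simp
  have hcomm : ∀ g h : G, g * h = h * g := by
    intro g h
    have h2 : g * h * g⁻¹ * h⁻¹ = 1 := by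
      apply hfaith
      rw [hmul, hmul, hmul, h1]
      have hg : ρ.character g * ρ.character g⁻¹ = 1 := by rw [← hmul, mul_inv_cancel, h1]
      have hh : ρ.character h * ρ.character h⁻¹ = 1 := by rw [← hmul, mul_inv_cancel, h1]
      calc ρ.character g * ρ.character h * ρ.character g⁻¹ * ρ.character h⁻¹
          = (ρ.character g * ρ.character g⁻¹) * (ρ.character h * ρ.character h⁻¹) := by ring
        _ = 1 := by rw [hg, hh, mul_one]
    calc g * h = (g * h * g⁻¹ * h⁻¹) * (h * g) := by group
      _ = h * g := by rw [h2, one_mul]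
  obtain ⟨x, hx⟩ := exists_prime_orderOf_dvd_card' p hdiv
  apply hnn (Subgroup.zpowers x)
  · constructor
    intro a ha g
    have h3 : g * a * g⁻¹ = a := by rw [hcomm g a, mul_inv_cancel_right]
    rw [h3]; exact ha
  · rw [Nat.card_zpowers, hx]

end Cfsg.Agent.Lib.helper2.BG
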