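import Mathlib
import Cfsg.Agent.S1415
import Cfsg.Agent.S1426
import Cfsg.Agent.Lib.helper26.BG1375
import Cfsg.Agent.Lib.helper60.BGSylU
import Cfsg.Agent.Lib.helper97.BGEight1

/-!
# S1355 (B-G Theorem 15.2, first part): general facts and the case `M_σ` nilpotent

`bgf_fitHallOf_le`   : `M_F ≤ M_σ`.
`bgf_sigmaCore_le_comm` : `M_σ ≤ M'`.
`bgf_comm_lt`        : `M' < M`.
`bgf_caseA`          : if `M_σ` is nilpotent then `M_F = M_σ ≠ 1` and the image of `M'` in `M / M_F`
                       is nilpotent.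
`bgf_caseB_core`     : the same conclusion from a nontrivial normal Sylow subgroup `S` of `M` inside
                       `M_σ`, with `M' ≤ M_σ` and a nilpotent quotient of `M_σ` with kernel in `S`.
-/

set_option autoImplicit false

universe u

namespace Cfsg.Agent.Lib.helper97

open Cfsg

variable {G : Type u} [Group G]

/-- `M_F ≤ M_σ`, inside `M`. -/
theorem bgf_fitHall_le [Finite G] (hG : IsMinSimpleOddOrder G) (M : Subgroup G)
    (hM : IsCoatom M) : fittingHall ↥M ≤ piCore (sigma M) ↥M := by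
  apply le_sSup
  exact ⟨inferInstance, fun p hp hd =>
    Cfsg.Agent.Lib.helper26.BG1375.mem_sigma_of_dvd_card_fittingHall hG hM hp hd⟩

/-- `M_F ≤ M_σ`. -/
theorem bgf_fitHallOf_le [Finite G] (hG : IsMinSimpleOddOrder G) (M : Subgroup G)
    (hM : IsCoatom M) : fittingHallOf M ≤ sigmaCore M :=
  Subgroup.map_mono (bgf_fitHall_le hG M hM)

/-- `M_σ ≤ M'`. -/
theorem bgf_sigmaCore_le_comm [Finite G] (hG : IsMinSimpleOddOrder G) (M : Subgroup G)
    (hM : IsCoatom M) : sigmaCore M ≤ ⁅M, M⁆ := by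
  obtain ⟨E, hE⟩ := Cfsg.Agent.Lib.helper60.BGSylU.exists_compl_sigmaCore hG M hM
  have h := (Cfsg.Agent.S1426.result hG M hM E hE).2.1
  rw [← h]
  exact Subgroup.commutator_mono hE.2.1 hE.1

theorem bgf_map_commutator (M : Subgroup G) :
    (commutator ↥M).map M.subtype = ⁅M, M⁆ := by
  rw [commutator_def, Subgroup.map_commutator, ← MonoidHom.range_eq_map, Subgroup.range_subtype]

/-- `M' < M`. -/
theorem bgf_comm_lt [Finite G] (hG : IsMinSimpleOddOrder G) (M : Subgroup G)
    (hM : IsCoatom M) : ⁅M, M⁆ < M := by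
  have hsolv : Group.IsSolvable ↥M := bg8_solvable hG M hM M le_rfl
  have hnt : Nontrivial ↥M := by
    rw [Subgroup.nontrivial_iff_ne_bot]
    intro h
    apply Cfsg.Agent.Lib.helper54.sigmaCore_ne_bot hG M hM
    have h1 : sigmaCore M ≤ M := Subgroup.map_subtype_le _
    exact le_bot_iff.mp (h1.trans h.le)
  have h1 : commutator ↥M < ⊤ := Group.IsSolvable.commutator_lt_top_of_nontrivial ↥M
  rw [← bgf_map_commutator M]
  refine lt_of_le_of_ne (Subgroup.map_subtype_le _) ?_
  intro h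
  apply h1.ne
  apply Subgroup.map_injective M.subtype_injective
  rw [h, ← MonoidHom.range_eq_map, Subgroup.range_subtype]

/-- A subgroup of a subgroup that is nilpotent is nilpotent. -/
theorem bgf_nilpotent_of_le {X : Type*} [Group X] {A B : Subgroup X} (h : A ≤ B)
    (hB : Group.IsNilpotent ↥B) : Group.IsNilpotent ↥A := by
  have h1 : Group.IsNilpotent ↥(A.subgroupOf B) := inferInstance
  exact Group.nilpotent_of_mulEquiv (Subgroup.subgroupOfEquivOfLe h)

/-- The case `M_σ` nilpotent: `M_F = M_σ ≠ 1`, and `M' M_F / M_F` is nilpotent. -/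
theorem bgf_caseA [Finite G] (hG : IsMinSimpleOddOrder G) (M : Subgroup G) (hM : IsCoatom M)
    (hnil : Group.IsNilpotent (sigmaCore M)) :
    fittingHallOf M ≠ ⊥ ∧
      Group.IsNilpotent ↥((commutator ↥M).map (QuotientGroup.mk' (fittingHall ↥M))) := by
  have heq := Cfsg.Agent.Lib.helper26.BG1375.sigmaCore_eq_fittingHallOf hG hM hnil
  refine ⟨heq ▸ Cfsg.Agent.Lib.helper54.sigmaCore_ne_bot hG M hM, ?_⟩
  obtain ⟨E, hE⟩ := Cfsg.Agent.Lib.helper60.BGSylU.exists_compl_sigmaCore hG M hM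
  have hE' : Group.IsNilpotent ↥⁅E, E⁆ := (Cfsg.Agent.S1415.result hG M hM E hE).1
  let φ : ↥E →* ↥M ⧸ fittingHall ↥M :=
    (QuotientGroup.mk' (fittingHall ↥M)).comp (Subgroup.inclusion hE.1)
  have hsurj : Function.Surjective φ := by
    intro y
    obtain ⟨m, rfl⟩ := QuotientGroup.mk'_surjective _ y
    obtain ⟨a, ha, b, hb, hm⟩ := hE.2.2.2 m.1 m.2
    refine ⟨⟨a, ha⟩, ?_⟩
    show QuotientGroup.mk' _ (Subgroup.inclusion hE.1 ⟨a, ha⟩) = QuotientGroup.mk' _ m
    rw [QuotientGroup.mk'_eq_mk']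
    have hbM : b ∈ M := hE.2.1 hb
    refine ⟨⟨b, hbM⟩, ?_, ?_⟩
    · rw [← Cfsg.Agent.Lib.helper29.mem_fittingHallOf_iff M hbM, ← heq]
      exact hb
    · apply Subtype.ext
      simp [hm]
  have h1 : Group.IsNilpotent ↥(commutator ↥E) := by
    have e := (commutator ↥E).equivMapOfInjective E.subtype E.subtype_injective
    rw [bgf_map_commutator E] at e
    exact Group.nilpotent_of_mulEquiv e.symm
  have h2 : (commutator ↥E).map φ = (commutator ↥M).map (QuotientGroup.mk' (fittingHall ↥M)) := by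
    rw [commutator_def, commutator_def, Subgroup.map_commutator, Subgroup.map_commutator,
      Subgroup.map_top_of_surjective φ hsurj,
      Subgroup.map_top_of_surjective _ (QuotientGroup.mk'_surjective _)]
  rw [← h2]
  exact Group.nilpotent_of_surjective (φ.subgroupMap (commutator ↥E))
    (φ.subgroupMap_surjective (commutator ↥E))

/-- A homomorphic image is nilpotent as soon as the homomorphism kills the kernel of a homomorphism
to a nilpotent group. -/
theorem bgf_range_nilpotent {A B H : Type*} [Group A] [Group B] [Group H]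
    [hH : Group.IsNilpotent H] (f : A →* H) (ψ : A →* B) (hker : f.ker ≤ ψ.ker) :
    Group.IsNilpotent ↥ψ.range := by
  have hs : Function.Surjective f.rangeRestrict := f.rangeRestrict_surjective
  have hker' : f.rangeRestrict.ker ≤ ψ.ker := by
    rw [MonoidHom.ker_rangeRestrict]; exact hker
  let g : ↥f.range →* B :=
    (f.rangeRestrict.liftOfRightInverse (Function.surjInv hs) (Function.rightInverse_surjInv hs))
      ⟨ψ, hker'⟩
  have hg : ∀ a : A, g (f.rangeRestrict a) = ψ a := fun a =>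
    MonoidHom.liftOfRightInverse_comp_apply _ _ (Function.rightInverse_surjInv hs) ⟨ψ, hker'⟩ a
  have hrange : g.range = ψ.range := by
    ext b
    constructor
    · rintro ⟨y, rfl⟩
      obtain ⟨a, rfl⟩ := hs y
      exact ⟨a, (hg a).symm⟩
    · rintro ⟨a, rfl⟩
      exact ⟨f.rangeRestrict a, hg a⟩
  rw [← hrange]
  have : Group.IsNilpotent ↥f.range := inferInstance
  exact Group.nilpotent_of_surjective g.rangeRestrict g.rangeRestrict_surjective

/-- The case of a normal Sylow subgroup `S ≠ 1` of `M` inside `M_σ` such that `M' ≤ M_σ` and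
`M_σ` has a nilpotent quotient with kernel inside `S`. -/
theorem bgf_caseB_core [Finite G] (M : Subgroup G)
    (S : Subgroup G) (hS1 : S ≠ ⊥) (hSσ : S ≤ sigmaCore M)
    (hSn : M ≤ Subgroup.normalizer (S : Set G)) (q : ℕ) [hq : Fact q.Prime] (hSq : IsPGroup q S)
    (hSyl : ¬ q ∣ S.relIndex M) (hcomm : ⁅M, M⁆ ≤ sigmaCore M)
    (hnilq : ∃ (H : Type u) (_ : Group H) (_ : Group.IsNilpotent H) (f : ↥(sigmaCore M) →* H),
      f.ker ≤ S.subgroupOf (sigmaCore M)) :
    fittingHallOf M ≠ ⊥ ∧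
      Group.IsNilpotent ↥((commutator ↥M).map (QuotientGroup.mk' (fittingHall ↥M))) := by
  have hσM : sigmaCore M ≤ M := Subgroup.map_subtype_le _
  have hSM : S ≤ M := hSσ.trans hσM
  -- `S ≤ M_F`
  have hSF : S.subgroupOf M ≤ fittingHall ↥M := by
    apply Cfsg.Agent.Lib.helper29.le_fittingHall
    · exact (Subgroup.normal_subgroupOf_iff_le_normalizer hSM).mpr hSn
    · have e := Subgroup.subgroupOfEquivOfLe hSM
      have : Group.IsNilpotent ↥S := hSq.isNilpotent
      exact Group.nilpotent_of_mulEquiv e.symm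
    · have hc : Nat.card ↥(S.subgroupOf M) = Nat.card S :=
        Nat.card_congr (Subgroup.subgroupOfEquivOfLe hSM).toEquiv
      rw [hc]
      obtain ⟨n, hn⟩ := IsPGroup.iff_card.mp hSq
      rw [hn]
      apply Nat.Coprime.pow_left
      rw [Nat.Prime.coprime_iff_not_dvd hq.out]
      exact hSyl
  have hSF' : S ≤ fittingHallOf M := by
    intro x hx
    rw [Cfsg.Agent.Lib.helper29.mem_fittingHallOf_iff M (hSM hx)]
    exact hSF (Subgroup.mem_subgroupOf.mpr hx)
  refine ⟨fun h => hS1 (le_bot_iff.mp (h ▸ hSF')), ?_⟩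
  obtain ⟨H, iH, hHn, f, hf⟩ := hnilq
  let ψ : ↥(sigmaCore M) →* ↥M ⧸ fittingHall ↥M :=
    (QuotientGroup.mk' (fittingHall ↥M)).comp (Subgroup.inclusion hσM)
  have hker : f.ker ≤ ψ.ker := by
    intro x hx
    have hxS : (x : G) ∈ S := Subgroup.mem_subgroupOf.mp (hf hx)
    rw [MonoidHom.mem_ker]
    show QuotientGroup.mk' _ (Subgroup.inclusion hσM x) = 1
    rw [QuotientGroup.mk'_apply, QuotientGroup.eq_one_iff]
    exact hSF (Subgroup.mem_subgroupOf.mpr hxS)
  have hψ : Group.IsNilpotent ↥ψ.range := bgf_range_nilpotent f ψ hker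
  refine bgf_nilpotent_of_le ?_ hψ
  rintro _ ⟨c, hc, rfl⟩
  have hc1 : (c : G) ∈ ⁅M, M⁆ := by
    rw [← bgf_map_commutator M]
    exact ⟨c, hc, rfl⟩
  exact ⟨⟨(c : G), hcomm hc1⟩, rfl⟩

end Cfsg.Agent.Lib.helper97
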