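import Mathlib
import Cfsg.Agent.Lib.helper12.FrobFixB
import Cfsg.Agent.Lib.helper20.BG8ASM
import Cfsg.Agent.Lib.helper30.BG8PAD
import Cfsg.Agent.Lib.helper60.BGTau2Ab
import Cfsg.Agent.Lib.helper97.BGEight3

/-!
# S1421, part 4: the invariant line (piece PAR, steps (0)-(4))

`bg8_exists_invariant_line_of` : in the abelian Sylow context, `E` normalizes a subgroup of order
`p` of `A`, provided there is no "bad element" (the statement `hB`, which is piece PAR-B).
-/

set_option autoImplicit false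

namespace Cfsg.Agent.Lib.helper97

open Cfsg

variable {G : Type*} [Group G]

/-- If `e` acts as the `k`-th power map on two elements generating different subgroups of the
abelian group `A` of order `p ^ 2`, then it acts as the `k`-th power map on `A`. -/
theorem bg8_scalar_of_two [Finite G] {A : Subgroup G} {p : ℕ} [Fact p.Prime]
    (hAab : ∀ a ∈ A, ∀ b ∈ A, a * b = b * a) (hA2 : Nat.card A = p ^ 2) (e : G)
    (k : ℤ) (y y₂ : G) (hy : y ∈ A) (hy1 : y ≠ 1) (hyp : y ^ p = 1) (hy₂ : y₂ ∈ A)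
    (hne : y₂ ∉ Subgroup.zpowers y)
    (h1 : e * y * e⁻¹ = y ^ k) (h2 : e * y₂ * e⁻¹ = y₂ ^ k) :
    ∀ a ∈ A, e * a * e⁻¹ = a ^ k := by
  have hpp : p.Prime := Fact.out
  let T : Subgroup G :=
    { carrier := {a | a ∈ A ∧ e * a * e⁻¹ = a ^ k}
      mul_mem' := by
        rintro a b ⟨ha, ha'⟩ ⟨hb, hb'⟩
        refine ⟨A.mul_mem ha hb, ?_⟩
        have hc : Commute a b := hAab a ha b hb
        rw [hc.mul_zpow, ← ha', ← hb']
        group
      one_mem' := ⟨A.one_mem, by simp⟩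
      inv_mem' := by
        rintro a ⟨ha, ha'⟩
        refine ⟨A.inv_mem ha, ?_⟩
        rw [inv_zpow, ← ha']
        group }
  have hTA : T ≤ A := fun a ha => ha.1
  have hyT : y ∈ T := ⟨hy, h1⟩
  have hy₂T : y₂ ∈ T := ⟨hy₂, h2⟩
  have hyo : orderOf y = p := orderOf_eq_prime hyp hy1
  have hlt : p < Nat.card T := by
    by_contra hle
    push Not at hle
    have h3 : Subgroup.zpowers y = T :=
      Subgroup.eq_of_le_of_card_ge ((Subgroup.zpowers_le).mpr hyT)
        (by rw [Nat.card_zpowers, hyo]; exact hle)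
    exact hne (h3 ▸ hy₂T)
  have hTd : Nat.card T ∣ p ^ 2 := hA2 ▸ Subgroup.card_dvd_of_le hTA
  obtain ⟨i, hi, hTi⟩ := (Nat.dvd_prime_pow hpp).mp hTd
  have hTeq : T = A := by
    apply Subgroup.eq_of_le_of_card_ge hTA
    rw [hA2, hTi]
    interval_cases i
    · rw [hTi, pow_zero] at hlt
      have := hpp.one_lt
      omega
    · rw [hTi, pow_one] at hlt
      omega
    · exact le_rfl
  intro a ha
  have : a ∈ T := hTeq ▸ ha
  exact this.2

/-- Step (1): an element of `E` normalizing a subgroup `Y` of order `p` of `A` that is not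
`E`-invariant acts on `A` as a power map. -/
theorem bg8_scalar_of_line [Finite G] (hG : IsMinSimpleOddOrder G) {M E A : Subgroup G} {p : ℕ}
    [Fact p.Prime] {S : Sylow p G} (c : BG8Ctx M E A p S)
    (Y : Subgroup G) (hYA : Y ≤ A) (hYc : Nat.card Y = p)
    (hYE : ¬ E ≤ Subgroup.normalizer (Y : Set G)) (e : G) (heE : e ∈ E)
    (heY : e ∈ Subgroup.normalizer (Y : Set G)) :
    ∃ k : ℤ, ∀ a ∈ A, e * a * e⁻¹ = a ^ k := by
  have hpp : p.Prime := Fact.out
  obtain ⟨hAE, hAe, hA2⟩ := c.hA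
  obtain ⟨⟨hEA, -⟩, -, -⟩ := bg8_h18 hG M c.hM E c.hE p c.hp A c.hA
  have hAab : ∀ a ∈ A, ∀ b ∈ A, a * b = b * a := by
    intro a ha b hb
    have h1 := hAe.1
    rw [isMulCommutative_iff] at h1
    exact congrArg Subtype.val (h1 ⟨a, ha⟩ ⟨b, hb⟩)
  obtain ⟨f, hfE, hfY⟩ := SetLike.not_le_iff_exists.mp hYE
  have hex : ∃ y ∈ Y, f * y * f⁻¹ ∉ Y := by
    by_contra hcon
    push Not at hcon
    exact hfY (Cfsg.Agent.Lib.helper13.mem_normalizer_of_forall_conj_mem hcon)
  obtain ⟨y, hyY, hfy⟩ := hex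
  have hy1 : y ≠ 1 := by
    rintro rfl
    apply hfy
    simp [Y.one_mem]
  have hyA := hYA hyY
  have hyp : y ^ p = 1 := hAe.2 y hyA
  have hyo : orderOf y = p := orderOf_eq_prime hyp hy1
  have hYz : Subgroup.zpowers y = Y :=
    Subgroup.eq_of_le_of_card_ge ((Subgroup.zpowers_le).mpr hyY)
      (by rw [hYc, Nat.card_zpowers, hyo])
  have h1 : e * y * e⁻¹ ∈ Subgroup.zpowers y := by
    rw [hYz]
    exact (Subgroup.mem_normalizer_iff.mp heY y).mp hyY
  obtain ⟨k, hk⟩ := Subgroup.mem_zpowers_iff.mp h1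
  refine ⟨k, bg8_scalar_of_two hAab hA2 e k y (f * y * f⁻¹) hyA hy1 hyp ?_ ?_ hk.symm ?_⟩
  · exact (Subgroup.mem_normalizer_iff.mp (hEA hfE) y).mp hyA
  · rw [hYz]
    exact hfy
  · have hg := Cfsg.Agent.Lib.helper30.bg8_comm_le_cent hG c f⁻¹ (Subgroup.inv_mem _ (hEA hfE)) e
      (hEA heE)
    have hyk : y ^ k ∈ A := A.zpow_mem hyA k
    have hgc := Subgroup.mem_centralizer_iff.mp hg (y ^ k) hyk
    rw [conj_zpow]
    calc e * (f * y * f⁻¹) * e⁻¹
        = f * ((f⁻¹ * e * f⁻¹⁻¹ * e⁻¹) * (e * y * e⁻¹) * (f⁻¹ * e * f⁻¹⁻¹ * e⁻¹)⁻¹) * f⁻¹ := by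
          group
      _ = f * ((f⁻¹ * e * f⁻¹⁻¹ * e⁻¹) * y ^ k * (f⁻¹ * e * f⁻¹⁻¹ * e⁻¹)⁻¹) * f⁻¹ := by rw [← hk]
      _ = f * (y ^ k * (f⁻¹ * e * f⁻¹⁻¹ * e⁻¹) * (f⁻¹ * e * f⁻¹⁻¹ * e⁻¹)⁻¹) * f⁻¹ := by rw [← hgc]
      _ = f * y ^ k * f⁻¹ := by group

/-- Step (4): an element `x` of prime order of `E` acting regularly on `M_σ` centralizes a
non-identity element of `A` (Frobenius–Wielandt fixed point formula). -/
theorem bg8_exists_fixed [Finite G] (hG : IsMinSimpleOddOrder G) {M E A : Subgroup G} {p : ℕ}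
    [Fact p.Prime] {S : Sylow p G} (c : BG8Ctx M E A p S) (x : G) (hxE : x ∈ E) (r : ℕ)
    (hr : r.Prime) (hxr : orderOf x = r) (hreg : BG8Reg M x) :
    ∃ a ∈ A, a ≠ 1 ∧ x * a = a * x := by
  by_contra hcon
  push Not at hcon
  obtain ⟨hAE, hAe, hA2⟩ := c.hA
  have hM := c.hM
  have hE := c.hE
  obtain ⟨⟨hEA, -⟩, -, -⟩ := bg8_h18 hG M hM E hE p c.hp A c.hA
  obtain ⟨⟨hle, hσ, -⟩, -, -⟩ := Cfsg.Agent.S1350.result hG M hM
  have hMn : M ≤ Subgroup.normalizer ((sigmaCore M : Subgroup G) : Set G) :=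
    Cfsg.Agent.Lib.helper71.BGA.le_normalizer_sigmaCore M
  have hx1 : x ≠ 1 := by
    intro h
    rw [h, orderOf_one] at hxr
    exact hr.ne_one hxr.symm
  have hzE : Subgroup.zpowers x ≤ E := (Subgroup.zpowers_le).mpr hxE
  have hsupE : A ⊔ Subgroup.zpowers x ≤ E := sup_le hAE hzE
  have hff := Cfsg.Agent.Lib.helper12.ff_formula A (Subgroup.zpowers x) (sigmaCore M)
    (by
      intro h
      have : x ∈ (⊥ : Subgroup G) := h ▸ Subgroup.mem_zpowers x
      exact hx1 (Subgroup.mem_bot.mp this))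
    (by
      intro e he u hu
      exact (Subgroup.mem_normalizer_iff.mp (hEA (hzE he)) u).mp hu)
    (by
      intro e he he1 u hu hcomm
      by_contra hu1
      apply hcon u hu hu1
      have ho : orderOf e = r := by
        have h1 : orderOf e ∣ r := hxr ▸ orderOf_dvd_of_mem_zpowers he
        rcases (Nat.dvd_prime hr).mp h1 with h2 | h2
        · exact absurd (orderOf_eq_one_iff.mp h2) he1
        · exact h2
      have hz : Subgroup.zpowers e = Subgroup.zpowers x :=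
        Subgroup.eq_of_le_of_card_ge ((Subgroup.zpowers_le).mpr he)
          (by rw [Nat.card_zpowers, Nat.card_zpowers, ho, hxr])
      have hxe : x ∈ Subgroup.zpowers e := hz ▸ Subgroup.mem_zpowers x
      obtain ⟨j, rfl⟩ := Subgroup.mem_zpowers_iff.mp hxe
      exact (Commute.zpow_left (show Commute e u from hcomm) j).eq)
    (by
      intro y hy h hh
      exact (Subgroup.mem_normalizer_iff.mp (hMn (hE.1 (hsupE hy))) h).mp hh)
    (bg8_solvable hG M hM (sigmaCore M) hle)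
    (by
      by_contra hnc
      obtain ⟨q, hq, hq1, hq2⟩ := Nat.Prime.not_coprime_iff_dvd.mp hnc
      exact bg8_not_sigma hG M hM E hE q hq (hq2.trans (Subgroup.card_dvd_of_le hsupE))
        (hσ q hq hq1))
  have hC1 : sigmaCore M ⊓ Subgroup.centralizer ((Subgroup.zpowers x : Subgroup G) : Set G)
      = ⊥ := by
    rw [eq_bot_iff]
    unfold BG8Reg at hreg
    rw [← hreg]
    apply inf_le_inf_left
    intro u hu
    rw [Subgroup.mem_centralizer_iff] at hu ⊢
    intro y hy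
    rw [Set.mem_singleton_iff] at hy
    subst hy
    exact hu y (Subgroup.mem_zpowers y)
  have hC2 : sigmaCore M ⊓ Subgroup.centralizer (A : Set G) = ⊥ :=
    (bg8_h17 hG M hM p c.hp A ⟨hAE.trans hE.1, hAe, hA2⟩).2.2.2.1
  rw [hC1, hC2, Subgroup.card_bot, one_pow, one_mul] at hff
  have h1 : Nat.card (sigmaCore M) = 1 := Nat.dvd_one.mp (Dvd.intro_left _ hff)
  exact Cfsg.Agent.Lib.helper54.sigmaCore_ne_bot hG M hM (Subgroup.card_eq_one.mp h1)

/-- PAR, steps (0)-(4): `E` normalizes a subgroup of order `p` of `A`, if there is no bad element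
(`hB` is the statement of piece PAR-B). -/
theorem bg8_exists_invariant_line_of [Finite G] (hG : IsMinSimpleOddOrder G)
    {M E A : Subgroup G} {p : ℕ} [Fact p.Prime] {S : Sylow p G} (c : BG8Ctx M E A p S)
    (hreg : ∀ e ∈ E, e ≠ 1 → (∀ q : ℕ, q.Prime → q ∣ orderOf e → q ∈ tau1 M ∪ tau3 M) →
      BG8Reg M e)
    (hNS : Subgroup.normalizer (A : Set G) ≤ Subgroup.normalizer ((S : Subgroup G) : Set G))
    (hB : ∀ e : G, e ∈ E → ∀ r k : ℕ, r.Prime → r ≠ p → orderOf e = r ^ k → PRankLE r 1 M →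
      (∀ Y : Subgroup G, Y ≤ A → e ∈ Subgroup.normalizer (Y : Set G) → Y = ⊥ ∨ Y = A) →
      e ^ r ^ (k - 1) ∈ Subgroup.centralizer (A : Set G) →
      e ∉ Subgroup.centralizer (A : Set G) → False) :
    ∃ Y : Subgroup G, Y ≤ A ∧ Nat.card Y = p ∧ E ≤ Subgroup.normalizer (Y : Set G) := by
  have hpp : p.Prime := Fact.out
  by_contra hno
  push Not at hno
  obtain ⟨hAE, hAe, hA2⟩ := c.hA
  have hM := c.hM
  have hE := c.hE
  have hp := c.hp
  obtain ⟨⟨hEA, -⟩, -, -⟩ := bg8_h18 hG M hM E hE p hp A c.hA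
  have hES : E ≤ Subgroup.normalizer ((S : Subgroup G) : Set G) := hEA.trans hNS
  -- a line `Y0`
  obtain ⟨y0, hy0⟩ := exists_prime_orderOf_dvd_card' (G := A) p
    (by rw [hA2]; exact dvd_pow_self p two_ne_zero)
  obtain ⟨Y0, hY0def⟩ : ∃ Y0 : Subgroup G, Y0 = Subgroup.zpowers (y0 : G) := ⟨_, rfl⟩
  have hY0A : Y0 ≤ A := by
    rw [hY0def]
    exact (Subgroup.zpowers_le).mpr y0.2
  have hY0c : Nat.card Y0 = p := by
    rw [hY0def, Nat.card_zpowers, Subgroup.orderOf_coe, hy0]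
  obtain ⟨e0, he0E, he0Y⟩ := SetLike.not_le_iff_exists.mp (hno Y0 hY0A hY0c)
  -- an element of prime power order not normalizing `Y0`
  have h1 := Cfsg.Agent.Lib.helper20.bg8_mem_closure_primary (orderOf e0) e0 rfl
  have hex : ∃ z ∈ Subgroup.zpowers e0, (∃ q k : ℕ, q.Prime ∧ z ^ (q ^ k) = 1) ∧
      z ∉ Subgroup.normalizer (Y0 : Set G) := by
    by_contra hcon
    push Not at hcon
    apply he0Y
    have h2 : Subgroup.closure {z : G | z ∈ Subgroup.zpowers e0 ∧
        ∃ q k : ℕ, q.Prime ∧ z ^ (q ^ k) = 1} ≤ Subgroup.normalizer (Y0 : Set G) := by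
      rw [Subgroup.closure_le]
      rintro z ⟨hz1, hz2⟩
      exact hcon z hz1 hz2
    exact h2 h1
  obtain ⟨e, hez, ⟨r, k0, hr, hek0⟩, heY0⟩ := hex
  have heE : e ∈ E := (Subgroup.zpowers_le.mpr he0E) hez
  -- `e` normalizes no line
  have hline : ∀ Y : Subgroup G, Y ≤ A → Nat.card Y = p →
      e ∉ Subgroup.normalizer (Y : Set G) := by
    intro Y hYA hYc heY
    obtain ⟨k, hk⟩ := bg8_scalar_of_line hG c Y hYA hYc (hno Y hYA hYc) e heE heY
    apply heY0
    apply Cfsg.Agent.Lib.helper13.mem_normalizer_of_forall_conj_mem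
    intro a ha
    rw [hk a (hY0A ha)]
    exact Y0.zpow_mem ha k
  have heC : e ∉ Subgroup.centralizer (A : Set G) := by
    intro hC
    apply heY0
    apply Cfsg.Agent.Lib.helper13.mem_normalizer_of_forall_conj_mem
    intro a ha
    have h2 := Subgroup.mem_centralizer_iff.mp hC a (hY0A ha)
    rw [← h2, mul_inv_cancel_right]
    exact ha
  have he1 : e ≠ 1 := by
    rintro rfl
    exact heC (Subgroup.one_mem _)
  obtain ⟨k, -, hk⟩ := (Nat.dvd_prime_pow hr).mp (orderOf_dvd_of_pow_eq_one hek0)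
  have hk1 : k ≠ 0 := by
    rintro rfl
    rw [pow_zero, orderOf_eq_one_iff] at hk
    exact he1 hk
  -- `r ≠ p`, `r ∉ τ₂(M)`
  have hrp : r ≠ p := by
    rintro rfl
    have heS : e ∈ (S : Subgroup G) := bg8_mem_sylow hES e heE k0 hek0
    apply heC
    rw [Subgroup.mem_centralizer_iff]
    intro a ha
    exact c.hSab a (c.hAS ha) e heS
  have hr2 : r ∉ tau2 M := by
    intro hr2
    have : Fact r.Prime := ⟨hr⟩
    have hQ : IsPGroup r (Subgroup.zpowers e) :=
      IsPGroup.of_card (n := k) (by rw [Nat.card_zpowers, hk])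
    have h2 := Cfsg.Agent.Lib.helper60.BGTau2Ab.pgroup_centralizes_tau2 hG (bg8_h17 hG)
      (bg8_h18 hG) M hM E hE p r hrp hp hr2 A c.hA (Subgroup.zpowers e)
      (Subgroup.zpowers_le.mpr heE) hQ
    exact heC (h2 (Subgroup.mem_zpowers e))
  -- the element `e'` of order `r`
  obtain ⟨e', he'def⟩ : ∃ e' : G, e' = e ^ r ^ (k - 1) := ⟨_, rfl⟩
  have he'o : orderOf e' = r := by
    have h2 : orderOf e / r = r ^ (k - 1) := by
      rw [hk]
      apply Nat.div_eq_of_eq_mul_left hr.pos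
      rw [← pow_succ]
      congr 1
      omega
    rw [he'def, ← h2]
    exact orderOf_pow_orderOf_div (orderOf_pos e).ne' (by rw [hk]; exact dvd_pow_self r hk1)
  have he'E : e' ∈ E := by
    rw [he'def]
    exact E.pow_mem heE _
  have hr13 := bg8_tau13 hG M hM E hE e' he'E r hr he'o hr2
  have hr1 : PRankLE r 1 M := by
    rcases hr13 with h | h
    · exact h.2.2.2.2
    · exact h.2.2.2
  have he'1 : e' ≠ 1 := by
    intro h
    rw [h, orderOf_one] at he'o
    exact hr.ne_one he'o.symm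
  have hreg' : BG8Reg M e' := hreg e' he'E he'1 (by
    intro q hq hqd
    rw [he'o] at hqd
    have h2 : q = r := (Nat.prime_dvd_prime_iff_eq hq hr).mp hqd
    rw [h2]
    exact hr13)
  obtain ⟨a, haA, ha1, hax⟩ := bg8_exists_fixed hG c e' he'E r hr he'o hreg'
  -- `C_A(e')` is `e`-invariant, hence equal to `A`
  obtain ⟨CA, hCAdef⟩ : ∃ CA : Subgroup G, CA = A ⊓ Subgroup.centralizer ({e'} : Set G) :=
    ⟨_, rfl⟩
  have hCAle : CA ≤ A := by
    rw [hCAdef]
    exact inf_le_left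
  have haCA : a ∈ CA := by
    rw [hCAdef]
    refine Subgroup.mem_inf.mpr ⟨haA, ?_⟩
    rw [Subgroup.mem_centralizer_iff]
    intro y hy
    rw [Set.mem_singleton_iff] at hy
    subst hy
    exact hax
  have heCA : e ∈ Subgroup.normalizer (CA : Set G) := by
    apply Cfsg.Agent.Lib.helper13.mem_normalizer_of_forall_conj_mem
    intro b hb
    rw [hCAdef] at hb ⊢
    obtain ⟨hbA, hbc⟩ := Subgroup.mem_inf.mp hb
    refine Subgroup.mem_inf.mpr ⟨(Subgroup.mem_normalizer_iff.mp (hEA heE) b).mp hbA, ?_⟩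
    rw [Subgroup.mem_centralizer_iff]
    intro y hy
    rw [Set.mem_singleton_iff] at hy
    subst hy
    have hc2 : Commute y b := Subgroup.mem_centralizer_iff.mp hbc y rfl
    have hc1 : Commute y e := by
      rw [he'def]
      exact (Commute.refl e).pow_left _
    exact ((hc1.mul_right hc2).mul_right hc1.inv_right).eq
  have hCAd : Nat.card CA ∣ p ^ 2 := hA2 ▸ Subgroup.card_dvd_of_le hCAle
  obtain ⟨i, hi, hCAi⟩ := (Nat.dvd_prime_pow hpp).mp hCAd
  have hCAeq : CA = A := by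
    interval_cases i
    · exfalso
      rw [pow_zero] at hCAi
      have h2 := Subgroup.card_eq_one.mp hCAi
      rw [h2, Subgroup.mem_bot] at haCA
      exact ha1 haCA
    · exfalso
      rw [pow_one] at hCAi
      exact hline CA hCAle hCAi heCA
    · exact Subgroup.eq_of_le_of_card_ge hCAle (by rw [hA2, hCAi])
  have he'C : e ^ r ^ (k - 1) ∈ Subgroup.centralizer (A : Set G) := by
    rw [← he'def, Subgroup.mem_centralizer_iff]
    intro b hb
    have h2 : b ∈ CA := hCAeq ▸ hb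
    rw [hCAdef] at h2
    exact (Subgroup.mem_centralizer_iff.mp (Subgroup.mem_inf.mp h2).2 e' rfl).symm
  refine hB e heE r k hr hrp hk hr1 ?_ he'C heC
  intro Y hYA heY
  have hYd : Nat.card Y ∣ p ^ 2 := hA2 ▸ Subgroup.card_dvd_of_le hYA
  obtain ⟨i, hi, hYi⟩ := (Nat.dvd_prime_pow hpp).mp hYd
  interval_cases i
  · left
    exact Subgroup.card_eq_one.mp (by rw [hYi, pow_zero])
  · exfalso
    exact hline Y hYA (by rw [hYi, pow_one]) heY
  · right
    exact Subgroup.eq_of_le_of_card_ge hYA (by rw [hA2, hYi])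

end Cfsg.Agent.Lib.helper97
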