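import Mathlib
import Cfsg.Agent.Lib.helper43.BG8FF
import Cfsg.Agent.Lib.helper71.BGThirteenEight
import Cfsg.Agent.Lib.helper97.BGEight4

/-!
# S1421, part 5: the invariant line (piece PAR-B, steps (7)-(9))

`bg8_no_bad_elt_tau2` : in the abelian Sylow context, with `M* ≥ N_G(A)` maximal and an
`r`-element `e ∈ E` acting irreducibly on `A`, the prime `r` is not in `τ₂(M*)` when `M` has
`r`-rank at most one.
-/

set_option autoImplicit false

namespace Cfsg.Agent.Lib.helper97

open Cfsg Cfsg.Agent.Lib.helper8 Cfsg.Agent.Lib.helper13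

variable {G : Type*} [Group G]

/-- An `r`-element is conjugate into any given Sylow `r`-subgroup. -/
theorem bg8_exists_conj_mem_sylow {H : Type*} [Group H] [Finite H] {r : ℕ} [Fact r.Prime]
    (P : Sylow r H) (x : H) (n : ℕ) (hx : x ^ r ^ n = 1) :
    ∃ g : H, g * x * g⁻¹ ∈ (P : Subgroup H) := by
  have hxp : IsPGroup r (Subgroup.zpowers x) := by
    obtain ⟨j, -, hj⟩ := (Nat.dvd_prime_pow Fact.out).mp (orderOf_dvd_of_pow_eq_one hx)
    exact IsPGroup.of_card (n := j) (by rw [Nat.card_zpowers, hj])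
  obtain ⟨Q, hQ⟩ := hxp.exists_le_sylow
  obtain ⟨g, hg⟩ := MulAction.exists_smul_eq H Q P
  refine ⟨g, ?_⟩
  rw [← hg, Sylow.smul_def, Sylow.pointwise_smul_def]
  exact (Subgroup.mem_smul_pointwise_iff_exists _ _ _).mpr
    ⟨x, hQ (Subgroup.mem_zpowers x), by simp [MulAut.smul_def]⟩

/-- For `r ∈ τ₂(M*)` and an `r`-element `e` of `M*` there is an elementary abelian subgroup of
order `r ^ 2` of `M*` centralized by `e`. -/
theorem bg8_exists_elemAb_comm [Finite G] (hG : IsMinSimpleOddOrder G) (Mstar : Subgroup G)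
    (hMstar : IsCoatom Mstar) (r : ℕ) [Fact r.Prime] (hr2 : r ∈ tau2 Mstar) (e : G)
    (heM : e ∈ Mstar) (k : ℕ) (hek : e ^ r ^ k = 1) :
    ∃ B : Subgroup G, B ≤ Mstar ∧ IsElementaryAbelian r B ∧ Nat.card B = r ^ 2 ∧
      ∀ z ∈ B, z * e = e * z := by
  obtain ⟨B0, hB0M, hB0e, hB0c⟩ := bg_exists_elemAb_sq Mstar r hr2.2.2.1 hr2.2.2.2
  have hB0p : IsPGroup r (B0.subgroupOf Mstar) := (IsPGroup.of_card hB0c).comap_subtype
  obtain ⟨P, hP⟩ := hB0p.exists_le_sylow
  have hPc := ((bg8_h17 hG Mstar hMstar r hr2 B0 ⟨hB0M, hB0e, hB0c⟩).2.1 P).1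
  rw [isMulCommutative_iff] at hPc
  obtain ⟨g, hg⟩ := bg8_exists_conj_mem_sylow P (⟨e, heM⟩ : Mstar) k (Subtype.ext (by simpa using hek))
  refine ⟨B0.map (MulAut.conj (g : G)⁻¹).toMonoidHom, ?_,
    Cfsg.Agent.Lib.helper12.isElementaryAbelian_map_conj hB0e _, ?_, ?_⟩
  · rintro _ ⟨b, hb, rfl⟩
    have : (MulAut.conj (g : G)⁻¹).toMonoidHom b = (g : G)⁻¹ * b * (g : G) := by simp
    rw [this]
    exact Mstar.mul_mem (Mstar.mul_mem (Mstar.inv_mem g.2) (hB0M hb)) g.2
  · rw [Subgroup.card_map_of_injective (MulAut.conj (g : G)⁻¹).injective, hB0c]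
  · rintro _ ⟨b, hb, rfl⟩
    have h1 : (MulAut.conj (g : G)⁻¹).toMonoidHom b = (g : G)⁻¹ * b * (g : G) := by simp
    rw [h1]
    have hbP : (⟨b, hB0M hb⟩ : Mstar) ∈ (P : Subgroup Mstar) :=
      hP (Subgroup.mem_subgroupOf.mpr hb)
    have h2 := hPc ⟨_, hbP⟩ ⟨_, hg⟩
    have h3 : b * ((g : G) * e * (g : G)⁻¹) = (g : G) * e * (g : G)⁻¹ * b :=
      congrArg (fun z : ↥(P : Subgroup Mstar) => ((z : Mstar) : G)) h2
    calc (g : G)⁻¹ * b * (g : G) * e = (g : G)⁻¹ * (b * ((g : G) * e * (g : G)⁻¹)) * (g : G) := by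
          group
      _ = (g : G)⁻¹ * ((g : G) * e * (g : G)⁻¹ * b) * (g : G) := by rw [h3]
      _ = e * ((g : G)⁻¹ * b * (g : G)) := by group

/-- If `N_G(A) ≤ M*` and `M*_σ` is nilpotent, then `M*` normalizes `A`. -/
theorem bg8_mstar_normalizes [Finite G] (hG : IsMinSimpleOddOrder G) {M E A : Subgroup G} {p : ℕ}
    [Fact p.Prime] {S : Sylow p G} (c : BG8Ctx M E A p S) (hSE : (S : Subgroup G) ≤ E)
    (Mstar : Subgroup G) (hMstar : IsCoatom Mstar)
    (hNM : Subgroup.normalizer (A : Set G) ≤ Mstar)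
    (hnil : Group.IsNilpotent (sigmaCore Mstar)) :
    Mstar ≤ Subgroup.normalizer (A : Set G) := by
  have hpp : p.Prime := Fact.out
  obtain ⟨hAE, hAe, hA2⟩ := c.hA
  have hM := c.hM
  have hE := c.hE
  have hp := c.hp
  obtain ⟨⟨hEA, -⟩, -, -⟩ := bg8_h18 hG M hM E hE p hp A c.hA
  have hSMs : (S : Subgroup G) ≤ Mstar := hSE.trans (hEA.trans hNM)
  have hpσ : p ∈ sigma Mstar :=
    bg7_mem_sigma_of_normalizer_le hG (bg8_h17 hG) Mstar hMstar p A hAe hA2 hNM
  have hSσ : (S : Subgroup G) ≤ sigmaCore Mstar :=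
    bg_pgroup_le_sigmaCore hG (bgx_uniq hG) (bgx_fus hG) Mstar hMstar hpσ S hSMs S.isPGroup'
  have hσS : sigmaCore Mstar ≤ Subgroup.normalizer ((S : Subgroup G) : Set G) := by
    have hn : ((S.subtype hSσ : Sylow p ↥(sigmaCore Mstar)) :
        Subgroup ↥(sigmaCore Mstar)).Normal := inferInstance
    intro g hg
    apply mem_normalizer_of_forall_conj_mem
    intro s hs
    have h1 : (⟨s, hSσ hs⟩ : ↥(sigmaCore Mstar)) ∈
        ((S.subtype hSσ : Sylow p ↥(sigmaCore Mstar)) : Subgroup ↥(sigmaCore Mstar)) := by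
      rw [Sylow.coe_subtype, Subgroup.mem_subgroupOf]
      exact hs
    have h2 := hn.conj_mem _ h1 ⟨g, hg⟩
    rw [Sylow.coe_subtype, Subgroup.mem_subgroupOf] at h2
    exact h2
  have hMsσ : Mstar ≤ Subgroup.normalizer ((sigmaCore Mstar : Subgroup G) : Set G) :=
    Cfsg.Agent.Lib.helper71.BGA.le_normalizer_sigmaCore Mstar
  have hMsS : ∀ m ∈ Mstar, ∀ s ∈ (S : Subgroup G), m * s * m⁻¹ ∈ (S : Subgroup G) := by
    intro m hm s hs
    have h1 : m * s * m⁻¹ ∈ sigmaCore Mstar :=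
      (Subgroup.mem_normalizer_iff.mp (hMsσ hm) s).mp (hSσ hs)
    obtain ⟨k, hk⟩ := S.isPGroup' ⟨s, hs⟩
    have hk' : s ^ p ^ k = 1 := by
      have := congrArg Subtype.val hk
      simpa using this
    exact bg8_mem_sylow hσS (m * s * m⁻¹) h1 k (by rw [conj_pow, hk', mul_one, mul_inv_cancel])
  have hF2 : ∀ x ∈ (S : Subgroup G), x ^ p = 1 → x ∈ A := by
    have hSM : (S : Subgroup G) ≤ M := hSE.trans hE.1
    obtain ⟨-, h2, -⟩ := bg8_h17 hG M hM p hp A ⟨hAE.trans hE.1, hAe, hA2⟩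
    have h3 := (h2 (S.subtype hSM)).2 (by
      intro a ha
      exact ⟨⟨a, hSM (c.hAS ha)⟩, by
        rw [Sylow.coe_subtype, SetLike.mem_coe, Subgroup.mem_subgroupOf]
        exact c.hAS ha, rfl⟩)
    intro x hx hxp
    exact (h3.1 x ⟨⟨x, hSM hx⟩, by
      rw [Sylow.coe_subtype, SetLike.mem_coe, Subgroup.mem_subgroupOf]
      exact hx, rfl⟩).mp hxp
  intro m hm
  apply mem_normalizer_of_forall_conj_mem
  intro a ha
  apply hF2 _ (hMsS m hm a (c.hAS ha))
  rw [conj_pow, hAe.2 a ha, mul_one, mul_inv_cancel]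

/-- PAR-B, steps (7)-(9): no bad element when `r ∈ τ₂(M*)`. -/
theorem bg8_no_bad_elt_tau2 [Finite G] (hG : IsMinSimpleOddOrder G) {M E A : Subgroup G} {p : ℕ}
    [Fact p.Prime] {S : Sylow p G} (c : BG8Ctx M E A p S) (hSE : (S : Subgroup G) ≤ E)
    (Mstar : Subgroup G) (hMstar : IsCoatom Mstar)
    (hNM : Subgroup.normalizer (A : Set G) ≤ Mstar) (e : G) (heE : e ∈ E) (r k : ℕ) (hr : r.Prime)
    (hrp : r ≠ p) (hek : orderOf e = r ^ k) (hr1 : PRankLE r 1 M)
    (heline : ∀ Y : Subgroup G, Y ≤ A → e ∈ Subgroup.normalizer (Y : Set G) → Y = ⊥ ∨ Y = A)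
    (heC : e ∉ Subgroup.centralizer (A : Set G)) (hr2 : r ∈ tau2 Mstar) : False := by
  have hpp : p.Prime := Fact.out
  have : Fact r.Prime := ⟨hr⟩
  obtain ⟨hAE, hAe, hA2⟩ := c.hA
  have hM := c.hM
  have hE := c.hE
  have hp := c.hp
  obtain ⟨⟨hEA, -⟩, ⟨hCA, hMN, -⟩, -⟩ := bg8_h18 hG M hM E hE p hp A c.hA
  have hCE : Subgroup.centralizer (A : Set G) ≤ E := hMN ▸ hCA
  have heMs : e ∈ Mstar := hNM (hEA heE)
  have hekp : e ^ r ^ k = 1 := by
    rw [← hek]
    exact pow_orderOf_eq_one e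
  have hAab : ∀ a ∈ A, ∀ b ∈ A, a * b = b * a := by
    intro a ha b hb
    have h1 := hAe.1
    rw [isMulCommutative_iff] at h1
    exact congrArg Subtype.val (h1 ⟨a, ha⟩ ⟨b, hb⟩)
  obtain ⟨B, hBM, hBe, hB2, hBcomm⟩ :=
    bg8_exists_elemAb_comm hG Mstar hMstar r hr2 e heMs k hekp
  have hnil : Group.IsNilpotent (sigmaCore Mstar) :=
    (bg8_h17 hG Mstar hMstar r hr2 B ⟨hBM, hBe, hB2⟩).1
  have hMsA := bg8_mstar_normalizes hG c hSE Mstar hMstar hNM hnil
  -- for `x ∈ N_G(A)` commuting with `e`: `C_A(x) = 1` or `x ∈ C_G(A)`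
  have key : ∀ x ∈ Subgroup.normalizer (A : Set G), x * e = e * x →
      (∀ a ∈ A, x * a = a * x → a = 1) ∨ x ∈ Subgroup.centralizer (A : Set G) := by
    intro x hxN hxe
    have hnorm : e ∈ Subgroup.normalizer
        ((A ⊓ Subgroup.centralizer ({x} : Set G) : Subgroup G) : Set G) := by
      apply mem_normalizer_of_forall_conj_mem
      intro b hb
      obtain ⟨hbA, hbc⟩ := Subgroup.mem_inf.mp hb
      refine Subgroup.mem_inf.mpr ⟨(Subgroup.mem_normalizer_iff.mp (hEA heE) b).mp hbA, ?_⟩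
      rw [Subgroup.mem_centralizer_iff]
      intro y hy
      rw [Set.mem_singleton_iff] at hy
      subst hy
      have hc2 : Commute y b := Subgroup.mem_centralizer_iff.mp hbc y rfl
      have hc1 : Commute y e := hxe
      exact ((hc1.mul_right hc2).mul_right hc1.inv_right).eq
    rcases heline _ inf_le_left hnorm with h | h
    · left
      intro a ha hxa
      have h2 : a ∈ A ⊓ Subgroup.centralizer ({x} : Set G) := Subgroup.mem_inf.mpr ⟨ha, by
        rw [Subgroup.mem_centralizer_iff]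
        intro y hy
        rw [Set.mem_singleton_iff] at hy
        subst hy
        exact hxa⟩
      rw [h, Subgroup.mem_bot] at h2
      exact h2
    · right
      rw [Subgroup.mem_centralizer_iff]
      intro a ha
      have h2 : a ∈ A ⊓ Subgroup.centralizer ({x} : Set G) := h.symm ▸ ha
      exact (Subgroup.mem_centralizer_iff.mp (Subgroup.mem_inf.mp h2).2 x rfl).symm
  have hrA : ∀ a ∈ A, a ^ r = 1 → a = 1 := by
    intro a ha har
    have h1 : orderOf a ∣ r := orderOf_dvd_of_pow_eq_one har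
    have h2 : orderOf a ∣ p := orderOf_dvd_of_pow_eq_one (hAe.2 a ha)
    have h3 : orderOf a ∣ Nat.gcd r p := Nat.dvd_gcd h1 h2
    rw [(Nat.coprime_primes hr hpp).mpr hrp] at h3
    exact orderOf_eq_one_iff.mp (Nat.dvd_one.mp h3)
  -- the least `m` with `e ^ r ^ m ∈ C_G(A)`
  have hex : ∃ m : ℕ, e ^ r ^ m ∈ Subgroup.centralizer (A : Set G) :=
    ⟨k, by rw [hekp]; exact Subgroup.one_mem _⟩
  classical
  obtain ⟨m0, hm0def⟩ : ∃ m0 : ℕ, m0 = Nat.find hex := ⟨_, rfl⟩
  have hm0s : e ^ r ^ m0 ∈ Subgroup.centralizer (A : Set G) := by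
    rw [hm0def]
    exact Nat.find_spec hex
  have hm0pos : m0 ≠ 0 := by
    intro h0
    rw [h0, pow_zero, pow_one] at hm0s
    exact heC hm0s
  obtain ⟨u, hudef⟩ : ∃ u : G, u = e ^ r ^ (m0 - 1) := ⟨_, rfl⟩
  have huC : u ∉ Subgroup.centralizer (A : Set G) := by
    rw [hudef]
    exact Nat.find_min hex (by rw [← hm0def]; omega)
  have hur : u ^ r ∈ Subgroup.centralizer (A : Set G) := by
    have h1 : u ^ r = e ^ r ^ m0 := by
      rw [hudef, ← pow_mul, ← pow_succ]
      congr 2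
      omega
    rw [h1]
    exact hm0s
  have huE : u ∈ E := by
    rw [hudef]
    exact E.pow_mem heE _
  have hue : Commute u e := by
    rw [hudef]
    exact (Commute.refl e).pow_left _
  -- `B ≤ E`
  have hBE : B ≤ E := by
    intro z hz
    have hzN : z ∈ Subgroup.normalizer (A : Set G) := hMsA (hBM hz)
    have hze : z * e = e * z := hBcomm z hz
    rcases key z hzN hze with hz0 | hzC
    · by_contra hzE
      have hzr : z ^ r = 1 := hBe.2 z hz
      have huz : u * z = z * u := by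
        rw [hudef]
        exact ((show Commute e z from hze.symm).pow_left _).eq
      have hAbot := Cfsg.Agent.Lib.helper43.bg8_norm_lemma A hAab r hr hrA u z huz (hEA huE) hzN
        hur hzr hz0 (by
          intro j a ha hcomm
          have hx : u * z ^ j ∈ Subgroup.normalizer (A : Set G) :=
            Subgroup.mul_mem _ (hEA huE) (Subgroup.pow_mem _ hzN j)
          have hxe : (u * z ^ j) * e = e * (u * z ^ j) :=
            (hue.mul_left ((show Commute z e from hze).pow_left j)).eq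
          rcases key _ hx hxe with h0 | hC
          · exact h0 a ha hcomm
          · exfalso
            have hzjE : z ^ j ∈ E := by
              have h1 : u * z ^ j ∈ E := hCE hC
              have h2 := E.mul_mem (E.inv_mem huE) h1
              rwa [inv_mul_cancel_left] at h2
            have hzj1 : z ^ j ≠ 1 := by
              intro h1
              rw [h1, mul_one] at hC
              exact huC hC
            have hz1 : z ≠ 1 := by
              rintro rfl
              exact hzj1 (one_pow j)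
            have hzo : orderOf z = r := orderOf_eq_prime hzr hz1
            have hzjz : z ^ j ∈ Subgroup.zpowers z :=
              Subgroup.pow_mem _ (Subgroup.mem_zpowers z) j
            have ho : orderOf (z ^ j) = r := by
              have h1 : orderOf (z ^ j) ∣ r := hzo ▸ orderOf_dvd_of_mem_zpowers hzjz
              rcases (Nat.dvd_prime hr).mp h1 with h2 | h2
              · exact absurd (orderOf_eq_one_iff.mp h2) hzj1
              · exact h2
            have hzz : Subgroup.zpowers (z ^ j) = Subgroup.zpowers z :=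
              Subgroup.eq_of_le_of_card_ge ((Subgroup.zpowers_le).mpr hzjz)
                (by rw [Nat.card_zpowers, Nat.card_zpowers, ho, hzo])
            have h3 : z ∈ Subgroup.zpowers (z ^ j) := hzz ▸ Subgroup.mem_zpowers z
            exact hzE ((Subgroup.zpowers_le.mpr hzjE) h3))
      have h4 : Nat.card A = 1 := by
        rw [hAbot]
        exact Subgroup.card_bot
      rw [hA2] at h4
      have h5 : 1 < p ^ 2 := Nat.one_lt_pow two_ne_zero hpp.one_lt
      omega
    · exact hCE hzC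
  have h1 := Cfsg.Agent.Lib.helper71.BG13.card_le_of_prankLE hr1 (hBE.trans hE.1) hBe
  rw [hB2, pow_one] at h1
  have h2 := hr.one_lt
  nlinarith

end Cfsg.Agent.Lib.helper97
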