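import Mathlib
import Cfsg.Agent.S1429
import Cfsg.Agent.Lib.helper97.BGFitA

/-!
# S1355 (B-G Theorem 15.2, first part): the case `M_σ` not nilpotent

`bgf_relIndex_of_compl` : for a complement `A` of `B` in `M`, `|M : A| = |B|`.
`bgf_caseB_setup` : if `M_σ` is not nilpotent then every prime of `|M|` outside `σ(M)` lies in
  `κ(M)`, and the complements `K` of `M_σ` in `M` are nontrivial Hall `κ(M)`-subgroups.
`bgf_comm_le_of_compl` : if a complement of `M_σ` in `M` is commutative then `M' ≤ M_σ`.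
`bgf_sigmaDecomp_bot` : `(K, 1)` is a standard factorisation when `K` is a cyclic Hall
  `κ(M)`-subgroup complementing `M_σ`.
`bgf_caseB` : the conclusion of S1355 in this case from the cyclicity of Hall `κ(M)`-subgroups,
  the primality of `|K*|`, and a normal Sylow subgroup `S` of `M` in `M_σ` with `M_σ / S` nilpotent.
-/

set_option autoImplicit false

universe u

namespace Cfsg.Agent.Lib.helper97

open Cfsg
open scoped commutatorElement

variable {G : Type u} [Group G]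

theorem bgf_relIndex_of_compl [Finite G] {A B M : Subgroup G} (h : IsComplIn A B M) :
    A.relIndex M = Nat.card B := by
  have h1 := Cfsg.Agent.Lib.helper29.IsComplIn.card_mul h
  have h2 : Nat.card A * A.relIndex M = Nat.card M := by
    rw [Subgroup.relIndex]
    have h3 := Subgroup.card_mul_index (A.subgroupOf M)
    rw [Nat.card_congr (Subgroup.subgroupOfEquivOfLe h.1).toEquiv] at h3
    exact h3
  have hpos : 0 < Nat.card A := Nat.card_pos
  exact Nat.eq_of_mul_eq_mul_left hpos (h2.trans h1.symm)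

/-- If `M_σ` is not nilpotent, then `M` is of type `P₁`: every prime of `|M|` outside `σ(M)` is in
`κ(M)`, and every complement of `M_σ` is a nontrivial Hall `κ(M)`-subgroup. -/
theorem bgf_caseB_setup [Finite G] (hG : IsMinSimpleOddOrder G) (M : Subgroup G) (hM : IsCoatom M)
    (hnn : ¬ Group.IsNilpotent (sigmaCore M)) :
    (∀ q : ℕ, q.Prime → q ∣ Nat.card M → q ∉ sigma M → q ∈ kappa M) ∧
      ∀ K : Subgroup G, IsComplIn K (sigmaCore M) M → IsPiHallOf (kappa M) K M ∧ K ≠ ⊥ := by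
  have hP1 : ∀ q : ℕ, q.Prime → q ∣ Nat.card M → q ∉ sigma M → q ∈ kappa M := by
    by_contra hcon
    have hcon' := hcon
    push Not at hcon'
    obtain ⟨q, hq, hqM, hσ, hκ⟩ := hcon'
    have : Fact q.Prime := ⟨hq⟩
    obtain ⟨S⟩ : Nonempty (Sylow q ↥M) := inferInstance
    have hnot : q ∉ sigma M ∪ kappa M := by
      intro h
      rcases h with h | h
      · exact hσ h
      · exact hκ h
    exact hnn (Cfsg.Agent.S1429.result hG M hM hcon q hqM hnot S).2.2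
  refine ⟨hP1, ?_⟩
  intro K hK
  have hHall := (Cfsg.Agent.S1350.result hG M hM).1
  refine ⟨⟨hK.1, ?_, ?_⟩, ?_⟩
  · intro p hp hpK
    exact hP1 p hp (hpK.trans (Subgroup.card_dvd_of_le hK.1)) (bg8_not_sigma hG M hM K hK p hp hpK)
  · intro p hp hpκ hdvd
    rw [bgf_relIndex_of_compl hK] at hdvd
    exact hpκ.2.2.1 (hHall.2.1 p hp hdvd)
  · intro h
    have h1 := (Cfsg.Agent.S1426.result hG M hM K hK).2.1
    rw [h, Subgroup.commutator_bot_right] at h1
    exact Cfsg.Agent.Lib.helper54.sigmaCore_ne_bot hG M hM h1.symm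

/-- If a complement of `M_σ` in `M` is commutative then `M' ≤ M_σ`. -/
theorem bgf_comm_le_of_compl (M K : Subgroup G) (hK : IsComplIn K (sigmaCore M) M)
    (hab : ∀ a ∈ K, ∀ b ∈ K, a * b = b * a) : ⁅M, M⁆ ≤ sigmaCore M := by
  rw [Subgroup.commutator_le]
  intro a ha b hb
  obtain ⟨k1, hk1, s1, hs1, rfl⟩ := hK.2.2.2 a ha
  obtain ⟨k2, hk2, s2, hs2, rfl⟩ := hK.2.2.2 b hb
  have hmem : ∀ s (hs : s ∈ sigmaCore M), (⟨s, hK.2.1 hs⟩ : ↥M) ∈ piCore (sigma M) ↥M := by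
    intro s hs
    obtain ⟨y, hy, hys⟩ := hs
    have : y = ⟨s, hK.2.1 ⟨y, hy, hys⟩⟩ := Subtype.ext hys
    rw [← this]
    exact hy
  have h1 : QuotientGroup.mk' (piCore (sigma M) ↥M) ⟨k1, hK.1 hk1⟩ =
      QuotientGroup.mk' (piCore (sigma M) ↥M) ⟨k1 * s1, ha⟩ := by
    rw [QuotientGroup.mk'_eq_mk']
    exact ⟨⟨s1, hK.2.1 hs1⟩, hmem s1 hs1, rfl⟩
  have h2 : QuotientGroup.mk' (piCore (sigma M) ↥M) ⟨k2, hK.1 hk2⟩ =
      QuotientGroup.mk' (piCore (sigma M) ↥M) ⟨k2 * s2, hb⟩ := by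
    rw [QuotientGroup.mk'_eq_mk']
    exact ⟨⟨s2, hK.2.1 hs2⟩, hmem s2 hs2, rfl⟩
  have h3 : QuotientGroup.mk' (piCore (sigma M) ↥M)
      ⁅(⟨k1 * s1, ha⟩ : ↥M), (⟨k2 * s2, hb⟩ : ↥M)⁆ = 1 := by
    rw [map_commutatorElement, ← h1, ← h2, ← map_commutatorElement]
    have h4 : ⁅(⟨k1, hK.1 hk1⟩ : ↥M), (⟨k2, hK.1 hk2⟩ : ↥M)⁆ = 1 := by
      rw [commutatorElement_eq_one_iff_commute]
      exact Subtype.ext (hab k1 hk1 k2 hk2)
    rw [h4, map_one]
  have h5 : ⁅(⟨k1 * s1, ha⟩ : ↥M), (⟨k2 * s2, hb⟩ : ↥M)⁆ ∈ piCore (sigma M) ↥M := by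
    rw [QuotientGroup.mk'_apply, QuotientGroup.eq_one_iff] at h3
    exact h3
  exact ⟨_, h5, rfl⟩

/-- `(K, 1)` is a standard factorisation when `K` is a cyclic Hall `κ(M)`-subgroup complementing
`M_σ`. -/
theorem bgf_sigmaDecomp_bot (M K : Subgroup G) (hK : IsComplIn K (sigmaCore M) M)
    (hKc : IsCyclic K) (hKH : IsPiHallOf (kappa M) K M) : IsSigmaDecomposition M K ⊥ := by
  refine ⟨hKc, hKH, ⟨bot_le, sup_le hK.1 hK.2.1, bot_inf_eq _, ?_⟩, ?_⟩
  · intro m hm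
    obtain ⟨k, hk, s, hs, rfl⟩ := hK.2.2.2 m hm
    exact ⟨1, Subgroup.mem_bot.mpr rfl, k * s, Subgroup.mul_mem_sup hk hs, (one_mul _).symm⟩
  · rw [Subgroup.normalizer_eq_top]
    exact le_top

/-- The case `M_σ` not nilpotent, from: cyclic Hall `κ(M)`-subgroups (S1351), `|K*|` prime when
`U = 1` (S1373), and a normal Sylow subgroup `S` of `M` inside `M_σ` with `M_σ / S` nilpotent
(the structure theorem for the prime action of `K` on `M_σ`). -/
theorem bgf_caseB [Finite G] (hG : IsMinSimpleOddOrder G) (M : Subgroup G) (hM : IsCoatom M)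
    (hnn : ¬ Group.IsNilpotent (sigmaCore M))
    (h51 : ∀ K : Subgroup G, IsPiHallOf (kappa M) K M → IsCyclic K)
    (h73 : ∀ K U : Subgroup G, IsSigmaDecomposition M K U → K ≠ ⊥ → U = ⊥ →
      (Nat.card ↥(sigmaCore M ⊓ Subgroup.centralizer (K : Set G))).Prime)
    (hN : ∀ K : Subgroup G, IsComplIn K (sigmaCore M) M → IsPiHallOf (kappa M) K M → K ≠ ⊥ →
      IsCyclic K → (Nat.card ↥(sigmaCore M ⊓ Subgroup.centralizer (K : Set G))).Prime →
      ∃ (S : Subgroup G) (q : ℕ), q.Prime ∧ S ≠ ⊥ ∧ S ≤ sigmaCore M ∧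
        M ≤ Subgroup.normalizer (S : Set G) ∧ IsPGroup q S ∧ ¬ q ∣ S.relIndex M ∧
        ∃ (H : Type u) (_ : Group H) (_ : Group.IsNilpotent H) (f : ↥(sigmaCore M) →* H),
          f.ker ≤ S.subgroupOf (sigmaCore M)) :
    fittingHallOf M ≠ ⊥ ∧
      Group.IsNilpotent ↥((commutator ↥M).map (QuotientGroup.mk' (fittingHall ↥M))) := by
  obtain ⟨-, hsetup⟩ := bgf_caseB_setup hG M hM hnn
  obtain ⟨K, hK⟩ := Cfsg.Agent.Lib.helper60.BGSylU.exists_compl_sigmaCore hG M hM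
  obtain ⟨hKH, hK1⟩ := hsetup K hK
  have hKc : IsCyclic K := h51 K hKH
  have hq := h73 K ⊥ (bgf_sigmaDecomp_bot M K hK hKc hKH) hK1 rfl
  obtain ⟨S, q, hqp, hS1, hSσ, hSn, hSq, hSyl, hnilq⟩ := hN K hK hKH hK1 hKc hq
  have : Fact q.Prime := ⟨hqp⟩
  have hcomm : ⁅M, M⁆ ≤ sigmaCore M := by
    apply bgf_comm_le_of_compl M K hK
    intro a ha b hb
    obtain ⟨g, hg⟩ := hKc
    obtain ⟨i, hi⟩ := Subgroup.mem_zpowers_iff.mp (hg ⟨a, ha⟩)
    obtain ⟨j, hj⟩ := Subgroup.mem_zpowers_iff.mp (hg ⟨b, hb⟩)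
    have hi' : (g : G) ^ i = a := by
      have := congrArg (Subtype.val) hi
      simpa using this
    have hj' : (g : G) ^ j = b := by
      have := congrArg (Subtype.val) hj
      simpa using this
    rw [← hi', ← hj', ← zpow_add, ← zpow_add, add_comm]
  exact bgf_caseB_core M S hS1 hSσ hSn q hSq hSyl hcomm hnilq

end Cfsg.Agent.Lib.helper97
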