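import Mathlib
import Cfsg.Agent.S1430
import Cfsg.Agent.Lib.helper1.Coprime
import Cfsg.Agent.Lib.helper12.FrobTools
import Cfsg.Agent.Lib.helper97.BGFitB

/-!
# S1355, the case `M_σ` not nilpotent, second route

`bgf_quot_nilpotent` (pure): if `F ≤ V` are normal subgroups of a finite group `X` and `k` is an
element of prime order, of order coprime to `|F|`, with `C_V(k) ≤ F`, then `V F / F` is nilpotent
(coprime fixed points of cosets + Thompson's theorem on fixed-point-free automorphisms of prime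
order).

`bgf_caseB'` : the conclusion of S1355 when `M_σ` is not nilpotent, from the cyclicity of the Hall
`κ(M)`-subgroups (S1351) and `1 ≠ K* ≤ M_F` (S1364).
-/

set_option autoImplicit false

universe u

namespace Cfsg.Agent.Lib.helper97

open Cfsg
open scoped commutatorElement

/-- `V F / F` is nilpotent when an element `k` of prime order (coprime to `|F|`) has all its fixed
points on `V` inside `F`. -/
theorem bgf_quot_nilpotent {X : Type*} [Group X] [Finite X] (V F : Subgroup X) [V.Normal]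
    [F.Normal] (hFV : F ≤ V) (k : X) (r : ℕ) (hr : r.Prime) (hk : k ^ r = 1)
    (hcop : (Nat.card (Subgroup.zpowers k)).Coprime (Nat.card F))
    (hfix : ∀ v ∈ V, k * v = v * k → v ∈ F) :
    Group.IsNilpotent ↥(V.map (QuotientGroup.mk' F)) := by
  have hn : (V.map (QuotientGroup.mk' F)).Normal :=
    Subgroup.Normal.map inferInstance _ (QuotientGroup.mk'_surjective F)
  apply Cfsg.Agent.Lib.helper12.isNilpotent_of_fpf_conj (V.map (QuotientGroup.mk' F))
    (QuotientGroup.mk' F k) r hr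
  · rw [← map_pow, hk, map_one]
  · rintro _ ⟨v, hv, rfl⟩ hcomm
    have h1 : ∀ a ∈ Subgroup.zpowers k, a * v * a⁻¹ * v⁻¹ ∈ F := by
      intro a ha
      obtain ⟨i, rfl⟩ := Subgroup.mem_zpowers_iff.mp ha
      have h2 : Commute (QuotientGroup.mk' F k) (QuotientGroup.mk' F v) := hcomm
      have h3 : Commute ((QuotientGroup.mk' F k) ^ i) (QuotientGroup.mk' F v) := h2.zpow_left i
      have h4 : QuotientGroup.mk' F (k ^ i * v * (k ^ i)⁻¹ * v⁻¹) = 1 := by
        rw [map_mul, map_mul, map_mul, map_inv, map_inv, map_zpow, h3.eq]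
        group
      rw [QuotientGroup.mk'_apply, QuotientGroup.eq_one_iff] at h4
      exact h4
    have hsolv : Group.IsSolvable ↥(Subgroup.zpowers k) := by
      apply Group.isSolvable_of_comm
      rintro ⟨a, ha⟩ ⟨b, hb⟩
      obtain ⟨i, rfl⟩ := Subgroup.mem_zpowers_iff.mp ha
      obtain ⟨j, rfl⟩ := Subgroup.mem_zpowers_iff.mp hb
      apply Subtype.ext
      show k ^ i * k ^ j = k ^ j * k ^ i
      rw [← zpow_add, ← zpow_add, add_comm]
    obtain ⟨c, hc, hcv⟩ := Cfsg.Agent.Lib.helper1.coset_fixed (Subgroup.zpowers k) F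
      (by rw [Subgroup.normalizer_eq_top]; exact le_top) hcop (Or.inl hsolv) v h1
    have hcV : c ∈ V := by
      have : c = (c * v⁻¹) * v := by group
      rw [this]; exact V.mul_mem (hFV hcv) hv
    have hcF : c ∈ F :=
      hfix c hcV (Subgroup.mem_centralizer_iff.mp hc k (Subgroup.mem_zpowers k))
    have hvF : v ∈ F := by
      have : v = (c * v⁻¹)⁻¹ * c := by group
      rw [this]; exact F.mul_mem (F.inv_mem hcv) hcF
    rw [QuotientGroup.mk'_apply, QuotientGroup.eq_one_iff]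
    exact hvF

variable {G : Type u} [Group G]

/-- The case `M_σ` not nilpotent, from: cyclic Hall `κ(M)`-subgroups (S1351) and
`1 ≠ K* ≤ M_F` for the standard factorisations with `K ≠ 1` (S1364). -/
theorem bgf_caseB' [Finite G] (hG : IsMinSimpleOddOrder G) (M : Subgroup G) (hM : IsCoatom M)
    (hnn : ¬ Group.IsNilpotent (sigmaCore M))
    (h51 : ∀ K : Subgroup G, IsPiHallOf (kappa M) K M → IsCyclic K)
    (h64 : ∀ K U : Subgroup G, IsSigmaDecomposition M K U → K ≠ ⊥ →
      sigmaCore M ⊓ Subgroup.centralizer (K : Set G) ≠ ⊥ ∧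
      sigmaCore M ⊓ Subgroup.centralizer (K : Set G) ≤ fittingHallOf M) :
    fittingHallOf M ≠ ⊥ ∧
      Group.IsNilpotent ↥((commutator ↥M).map (QuotientGroup.mk' (fittingHall ↥M))) := by
  obtain ⟨-, hsetup⟩ := bgf_caseB_setup hG M hM hnn
  obtain ⟨K, hK⟩ := Cfsg.Agent.Lib.helper60.BGSylU.exists_compl_sigmaCore hG M hM
  obtain ⟨hKH, hK1⟩ := hsetup K hK
  have hKc : IsCyclic K := h51 K hKH
  obtain ⟨hKs1, hKsF⟩ := h64 K ⊥ (bgf_sigmaDecomp_bot M K hK hKc hKH) hK1
  refine ⟨fun h => hKs1 (le_bot_iff.mp (h ▸ hKsF)), ?_⟩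
  have hcomm : ⁅M, M⁆ ≤ sigmaCore M := by
    apply bgf_comm_le_of_compl M K hK
    intro a ha b hb
    obtain ⟨g, hg⟩ := hKc
    obtain ⟨i, hi⟩ := Subgroup.mem_zpowers_iff.mp (hg ⟨a, ha⟩)
    obtain ⟨j, hj⟩ := Subgroup.mem_zpowers_iff.mp (hg ⟨b, hb⟩)
    have hi' : (g : G) ^ i = a := by
      have := congrArg (Subtype.val) hi
      simpa using this
    have hj' : (g : G) ^ j = b := by
      have := congrArg (Subtype.val) hj
      simpa using this
    rw [← hi', ← hj', ← zpow_add, ← zpow_add, add_comm]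
  -- an element `k0` of prime order `r` of `K`
  have hcard : Nat.card K ≠ 1 := fun h => hK1 (Subgroup.card_eq_one.mp h)
  have hr : (Nat.card K).minFac.Prime := Nat.minFac_prime hcard
  have : Fact (Nat.card K).minFac.Prime := ⟨hr⟩
  obtain ⟨x, hx⟩ := exists_prime_orderOf_dvd_card' (G := ↥K) (Nat.card K).minFac
    (Nat.minFac_dvd _)
  set r := (Nat.card K).minFac with hrdef
  have hx1 : (x : G) ≠ 1 := by
    intro h
    have : x = 1 := Subtype.ext h
    rw [this, orderOf_one] at hx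
    exact hr.one_lt.ne hx
  have hxr : (x : G) ^ r = 1 := by
    have h1 : x ^ r = 1 := by rw [← hx]; exact pow_orderOf_eq_one x
    have := congrArg Subtype.val h1
    simpa using this
  have hxM : (x : G) ∈ M := hK.1 x.2
  -- `r ∈ κ(M)` does not divide `|M_σ|`
  have hrκ : r ∈ kappa M := hKH.2.1 r hr (by rw [← hx]; exact orderOf_dvd_natCard x)
  have hHall := (Cfsg.Agent.S1350.result hG M hM).1
  have hrσ : ¬ r ∣ Nat.card (sigmaCore M) := fun h => hrκ.2.2.1 (hHall.2.1 r hr h)
  have hFV := bgf_fitHall_le hG M hM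
  have hcardF : Nat.card (fittingHall ↥M) ∣ Nat.card (sigmaCore M) := by
    have h1 : Nat.card (sigmaCore M) = Nat.card (piCore (sigma M) ↥M) :=
      Subgroup.card_map_of_injective M.subtype_injective
    rw [h1]
    exact Subgroup.card_dvd_of_le hFV
  have hprime := (Cfsg.Agent.S1430.result hG M hM K hKH hK1).1 (x : G) x.2 hx1
  have hnil : Group.IsNilpotent
      ↥((piCore (sigma M) ↥M).map (QuotientGroup.mk' (fittingHall ↥M))) := by
    apply bgf_quot_nilpotent (piCore (sigma M) ↥M) (fittingHall ↥M) hFV ⟨(x : G), hxM⟩ r hr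
    · exact Subtype.ext hxr
    · rw [Nat.card_zpowers]
      have ho : orderOf (⟨(x : G), hxM⟩ : ↥M) = r := by
        apply orderOf_eq_prime
        · exact Subtype.ext hxr
        · intro h
          exact hx1 (congrArg Subtype.val h)
      rw [ho, Nat.Prime.coprime_iff_not_dvd hr]
      exact fun h => hrσ (h.trans hcardF)
    · intro v hv hvk
      have hvσ : (v : G) ∈ sigmaCore M := ⟨v, hv, rfl⟩
      have hvc : (v : G) ∈ Subgroup.centralizer ({(x : G)} : Set G) := by
        rw [Subgroup.mem_centralizer_iff]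
        intro h hh
        rw [Set.mem_singleton_iff] at hh
        rw [hh]
        exact congrArg Subtype.val hvk
      have h1 : (v : G) ∈ sigmaCore M ⊓ Subgroup.centralizer ({(x : G)} : Set G) :=
        Subgroup.mem_inf.mpr ⟨hvσ, hvc⟩
      rw [hprime] at h1
      have h2 := hKsF h1
      rw [Cfsg.Agent.Lib.helper29.mem_fittingHallOf_iff M v.2] at h2
      exact h2
  refine bgf_nilpotent_of_le (Subgroup.map_mono ?_) hnil
  intro c hc
  have hc1 : (c : G) ∈ ⁅M, M⁆ := by
    rw [← bgf_map_commutator M]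
    exact ⟨c, hc, rfl⟩
  obtain ⟨y, hy, hyc⟩ := hcomm hc1
  have : y = c := Subtype.ext hyc
  rw [← this]
  exact hy

/-- **S1355** from the cyclicity of the Hall `κ(M)`-subgroups (S1351) and `1 ≠ K* ≤ M_F`
(S1364). -/
theorem bgf_s1355 [Finite G] (hG : IsMinSimpleOddOrder G) (M : Subgroup G) (hM : IsCoatom M)
    (h51 : ∀ K : Subgroup G, IsPiHallOf (kappa M) K M → IsCyclic K)
    (h64 : ∀ K U : Subgroup G, IsSigmaDecomposition M K U → K ≠ ⊥ →
      sigmaCore M ⊓ Subgroup.centralizer (K : Set G) ≠ ⊥ ∧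
      sigmaCore M ⊓ Subgroup.centralizer (K : Set G) ≤ fittingHallOf M) :
    fittingHallOf M ≠ ⊥ ∧ fittingHallOf M ≤ sigmaCore M ∧ sigmaCore M ≤ ⁅M, M⁆ ∧ ⁅M, M⁆ < M ∧
      Group.IsNilpotent ↥((commutator ↥M).map (QuotientGroup.mk' (fittingHall ↥M))) := by
  have h : fittingHallOf M ≠ ⊥ ∧
      Group.IsNilpotent ↥((commutator ↥M).map (QuotientGroup.mk' (fittingHall ↥M))) := by
    by_cases hnil : Group.IsNilpotent (sigmaCore M)
    · exact bgf_caseA hG M hM hnil
    · exact bgf_caseB' hG M hM hnil h51 h64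
  exact ⟨h.1, bgf_fitHallOf_le hG M hM, bgf_sigmaCore_le_comm hG M hM, bgf_comm_lt hG M hM, h.2⟩

/-- **S1355** from the cyclicity of the Hall `κ(M)`-subgroups (S1351), the primality of `|K*|` when
`U = 1` (S1373) and a normal Sylow subgroup of `M` inside `M_σ` with nilpotent quotient. -/
theorem bgf_s1355_N [Finite G] (hG : IsMinSimpleOddOrder G) (M : Subgroup G) (hM : IsCoatom M)
    (h51 : ∀ K : Subgroup G, IsPiHallOf (kappa M) K M → IsCyclic K)
    (h73 : ∀ K U : Subgroup G, IsSigmaDecomposition M K U → K ≠ ⊥ → U = ⊥ →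
      (Nat.card ↥(sigmaCore M ⊓ Subgroup.centralizer (K : Set G))).Prime)
    (hN : ∀ K : Subgroup G, IsComplIn K (sigmaCore M) M → IsPiHallOf (kappa M) K M → K ≠ ⊥ →
      IsCyclic K → (Nat.card ↥(sigmaCore M ⊓ Subgroup.centralizer (K : Set G))).Prime →
      ∃ (S : Subgroup G) (q : ℕ), q.Prime ∧ S ≠ ⊥ ∧ S ≤ sigmaCore M ∧
        M ≤ Subgroup.normalizer (S : Set G) ∧ IsPGroup q S ∧ ¬ q ∣ S.relIndex M ∧
        ∃ (H : Type u) (_ : Group H) (_ : Group.IsNilpotent H) (f : ↥(sigmaCore M) →* H),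
          f.ker ≤ S.subgroupOf (sigmaCore M)) :
    fittingHallOf M ≠ ⊥ ∧ fittingHallOf M ≤ sigmaCore M ∧ sigmaCore M ≤ ⁅M, M⁆ ∧ ⁅M, M⁆ < M ∧
      Group.IsNilpotent ↥((commutator ↥M).map (QuotientGroup.mk' (fittingHall ↥M))) := by
  have h : fittingHallOf M ≠ ⊥ ∧
      Group.IsNilpotent ↥((commutator ↥M).map (QuotientGroup.mk' (fittingHall ↥M))) := by
    by_cases hnil : Group.IsNilpotent (sigmaCore M)
    · exact bgf_caseA hG M hM hnil
    · exact bgf_caseB hG M hM hnil h51 h73 hN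
  exact ⟨h.1, bgf_fitHallOf_le hG M hM, bgf_sigmaCore_le_comm hG M hM, bgf_comm_lt hG M hM, h.2⟩

end Cfsg.Agent.Lib.helper97
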