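import Mathlib
import Cfsg.Agent.Lib.helper2.BGDefs

set_option autoImplicit false

open Cfsg

namespace Cfsg.Agent.Lib.helper2.BG

universe u

open scoped Pointwise

/-- Two distinct Sylow `p`-subgroups of order `p` meet trivially. -/
theorem helper97_sylow_inf_bot {G : Type u} [Group G] [Finite G] (p : ℕ) [Fact p.Prime]
    (Q Q' : Sylow p G) (hQ : Nat.card Q = p) (hne : Q ≠ Q') :
    (Q : Subgroup G) ⊓ (Q' : Subgroup G) = ⊥ := by
  have hp : p.Prime := Fact.out
  by_contra hbot
  have hdvd : Nat.card ((Q : Subgroup G) ⊓ (Q' : Subgroup G) : Subgroup G) ∣ p := by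
    have h0 : Nat.card ((Q : Subgroup G) ⊓ (Q' : Subgroup G) : Subgroup G) ∣
        Nat.card (Q : Subgroup G) := Subgroup.card_dvd_of_le inf_le_left
    rwa [hQ] at h0
  rcases (Nat.dvd_prime hp).mp hdvd with h1 | h1
  · exact hbot (Subgroup.card_eq_one.mp h1)
  · have heq : (Q : Subgroup G) ⊓ (Q' : Subgroup G) = (Q : Subgroup G) :=
      Subgroup.eq_of_le_of_card_ge inf_le_left (by rw [h1]; exact hQ.le)
    have hle : (Q : Subgroup G) ≤ (Q' : Subgroup G) := inf_eq_left.mp heq
    exact hne (Sylow.ext (Q.is_maximal' Q'.isPGroup' hle).symm)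

/-- With `p + 1` Sylow `p`-subgroups of order `p`, a `p`-regular element centralizing one of them
normalizes all of them. -/
theorem helper97_fix_all {G : Type u} [Group G] [Finite G] (p : ℕ) [Fact p.Prime]
    (P : Sylow p G) (hP : Nat.card P = p) (hn : Nat.card (Sylow p G) = p + 1)
    (k : G) (hk : k ∈ Subgroup.centralizer ((P : Subgroup G) : Set G)) (hkp : ¬ p ∣ orderOf k)
    (Q : Sylow p G) : k • Q = Q := by
  have hp : p.Prime := Fact.out
  have hkP : k • P = P :=
    Sylow.smul_eq_iff_mem_normalizer.mpr (Subgroup.centralizer_le_normalizer _ hk)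
  by_cases hQP : Q = P
  · rw [hQP]; exact hkP
  have hPQ : (P : Subgroup G) ⊓ (Q : Subgroup G) = ⊥ :=
    helper97_sylow_inf_bot p P Q hP (Ne.symm hQP)
  have hstab : ∀ y : G, y ∈ (P : Subgroup G) → y • Q = Q → y = 1 := by
    intro y hy hyQ
    have h1 : y ∈ (P : Subgroup G) ⊓ Subgroup.normalizer Q :=
      ⟨hy, Sylow.smul_eq_iff_mem_normalizer.mp hyQ⟩
    rw [P.isPGroup'.inf_normalizer_sylow Q, hPQ] at h1
    exact Subgroup.mem_bot.mp h1
  have hnotP : ∀ y : G, y ∈ (P : Subgroup G) → y • Q ≠ P := by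
    intro y hy h
    apply hQP
    have h2 : y⁻¹ • P = P :=
      Sylow.smul_eq_iff_mem_normalizer.mpr (Subgroup.le_normalizer (inv_mem hy))
    rw [← h2, ← h, inv_smul_smul]
  let _ : Fintype (Sylow p G) := Fintype.ofFinite _
  let _ : Fintype ↥(P : Subgroup G) := Fintype.ofFinite _
  classical
  let f : ↥(P : Subgroup G) → Sylow p G := fun y => (y : G) • Q
  have hf : Function.Injective f := by
    intro y y' h
    have h2 : ((y : G)⁻¹ * (y' : G)) • Q = Q := by
      rw [mul_smul, ← (show (y : G) • Q = (y' : G) • Q from h), inv_smul_smul]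
    have h3 := hstab _ (mul_mem (inv_mem y.2) y'.2) h2
    exact Subtype.ext (inv_mul_eq_one.mp h3)
  have himg : Finset.univ.image f = Finset.univ.erase P := by
    apply Finset.eq_of_subset_of_card_le
    · intro Q' hQ'
      obtain ⟨y, -, rfl⟩ := Finset.mem_image.mp hQ'
      exact Finset.mem_erase.mpr ⟨hnotP y y.2, Finset.mem_univ _⟩
    · rw [Finset.card_image_of_injective _ hf, Finset.card_erase_of_mem (Finset.mem_univ _),
        Finset.card_univ, Finset.card_univ, ← Nat.card_eq_fintype_card,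
        ← Nat.card_eq_fintype_card, hn, hP]
      simp
  have hkQ : k • Q ∈ Finset.univ.erase P := by
    refine Finset.mem_erase.mpr ⟨?_, Finset.mem_univ _⟩
    intro h
    apply hQP
    have h2 : k⁻¹ • P = P := by rw [inv_smul_eq_iff, hkP]
    rw [← h2, ← h, inv_smul_smul]
  rw [← himg] at hkQ
  obtain ⟨y, -, hy⟩ := Finset.mem_image.mp hkQ
  have hcomm : Commute (y : G)⁻¹ k := by
    have h2 : (y : G) * k = k * (y : G) := (Subgroup.mem_centralizer_iff.mp hk) (y : G) y.2
    exact Commute.inv_left h2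
  have hg : ((y : G)⁻¹ * k) • Q = Q := by
    rw [mul_smul, ← (show (y : G) • Q = k • Q from hy), inv_smul_smul]
  have hgm : (((y : G)⁻¹ * k) ^ orderOf k) • Q = Q := by
    have h2 : (y : G)⁻¹ * k ∈ MulAction.stabilizer G Q := hg
    exact pow_mem h2 _
  rw [hcomm.mul_pow, pow_orderOf_eq_one, mul_one] at hgm
  have hy1 : ((y : G)⁻¹) ^ orderOf k = 1 := hstab _ (pow_mem (inv_mem y.2) _) hgm
  have hyo : orderOf (y : G)⁻¹ ∣ orderOf k := orderOf_dvd_of_pow_eq_one hy1
  have hyp : orderOf (y : G)⁻¹ ∣ p := by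
    rw [orderOf_inv, Subgroup.orderOf_coe]
    have h0 := orderOf_dvd_natCard y
    rwa [hP] at h0
  have hcop : Nat.Coprime p (orderOf k) := (Nat.Prime.coprime_iff_not_dvd hp).mpr hkp
  have h1 : orderOf (y : G)⁻¹ = 1 := Nat.dvd_one.mp (hcop ▸ Nat.dvd_gcd hyp hyo)
  have h2 : (y : G)⁻¹ = 1 := orderOf_eq_one_iff.mp h1
  rw [h2, one_mul] at hg
  exact hg

/-- R8 (V5), racing copy of `R_cent_central` (verbatim statement, prefixed name). -/
theorem helper97_R_cent_central {G : Type u} [Group G] [Finite G] (p : ℕ) [Fact p.Prime]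
    (hnn : ∀ H : Subgroup G, H.Normal → Nat.card H ≠ p) (P : Sylow p G)
    (hP : Nat.card P = p) (hn : Nat.card (Sylow p G) = p + 1) (x : G)
    (hx : x ∈ (P : Subgroup G)) (hx1 : x ≠ 1)
    (hcent : Subgroup.centralizer ((Subgroup.normalClosure ({x} : Set G) : Subgroup G) : Set G) ≤
      Subgroup.center G) :
    ∀ k ∈ Subgroup.centralizer ((P : Subgroup G) : Set G), ¬ p ∣ orderOf k →
      k ∈ Subgroup.center G := by
  intro k hk hkp
  apply hcent
  have hp : p.Prime := Fact.out
  have hfix := helper97_fix_all p P hP hn k hk hkp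
  have hfix' : ∀ Q : Sylow p G, k⁻¹ • Q = Q := fun Q => by rw [inv_smul_eq_iff, hfix]
  have hcardQ : ∀ Q : Sylow p G, Nat.card Q = p := fun Q => by
    have h1 := Sylow.card_eq_multiplicity Q
    have h2 := Sylow.card_eq_multiplicity P
    rw [h1, ← h2, hP]
  have key : ∀ (Q : Sylow p G) (q : G), q ∈ (Q : Subgroup G) → k * q = q * k := by
    intro Q q hq
    have : Nontrivial (Sylow p G) := by
      apply (Finite.one_lt_card_iff_nontrivial).mp
      rw [hn]
      have := hp.two_le
      omega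
    obtain ⟨Q', hQ'⟩ := exists_ne Q
    have hbot := helper97_sylow_inf_bot p Q Q' (hcardQ Q) (Ne.symm hQ')
    have hcQ : k * q * k⁻¹ * q⁻¹ ∈ (Q : Subgroup G) := by
      have h0 : k * q * k⁻¹ ∈ (Q : Subgroup G) := by
        have h1 : k * q * k⁻¹ ∈ ((k • Q : Sylow p G) : Subgroup G) := by
          rw [Sylow.coe_subgroup_smul]
          exact ⟨q, hq, rfl⟩
        rwa [hfix Q] at h1
      exact mul_mem h0 (inv_mem hq)
    have hcQ' : (k * q * k⁻¹ * q⁻¹) • Q' = Q' := by
      rw [mul_smul, mul_smul, mul_smul, hfix', smul_inv_smul, hfix]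
    have hmem : k * q * k⁻¹ * q⁻¹ ∈ (Q : Subgroup G) ⊓ (Q' : Subgroup G) := by
      rw [← Q.isPGroup'.inf_normalizer_sylow Q']
      exact ⟨hcQ, Sylow.smul_eq_iff_mem_normalizer.mp hcQ'⟩
    rw [hbot, Subgroup.mem_bot] at hmem
    have h2 : k * q * k⁻¹ = q := mul_inv_eq_one.mp hmem
    calc k * q = (k * q * k⁻¹) * k := by group
      _ = q * k := by rw [h2]
  rw [Subgroup.mem_centralizer_iff]
  intro h hh
  have hle : Subgroup.normalClosure ({x} : Set G) ≤ Subgroup.centralizer ({k} : Set G) := by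
    unfold Subgroup.normalClosure
    rw [Subgroup.closure_le]
    intro a ha
    rw [Group.mem_conjugatesOfSet_iff] at ha
    obtain ⟨b, hb, hba⟩ := ha
    rw [Set.mem_singleton_iff] at hb
    subst hb
    obtain ⟨g, hg⟩ := isConj_iff.mp hba
    have ha : a ∈ ((g • P : Sylow p G) : Subgroup G) := by
      rw [Sylow.coe_subgroup_smul, ← hg]
      exact ⟨b, hx, rfl⟩
    rw [SetLike.mem_coe, Subgroup.mem_centralizer_iff]
    intro k' hk'
    rw [Set.mem_singleton_iff] at hk'
    subst hk'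
    exact key _ a ha
  have h3 := hle hh
  rw [Subgroup.mem_centralizer_iff] at h3
  exact (h3 k (Set.mem_singleton k)).symm

end Cfsg.Agent.Lib.helper2.BG
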