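import Mathlib
import Cfsg.Agent.Lib.helper69.SubgroupCount

/-!
Counting subgroups of index `p` in `p`-groups (owner: helper97).

* `card_subgroups_below` : transport of counts of subgroups of `↥H` to subgroups of `G` below `H`.
* `card_index_ge_normal` : correspondence theorem for subgroups of a given index.
* `card_index_p_elemAb` : an elementary abelian group of order `p^(d+2)` has `≡ 1 + p (mod p^2)`
  subgroups of index `p`.
* `card_index_p_noncyclic` : a noncyclic group of order `p^m` has `≡ 1 + p (mod p^2)` subgroups of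
  index `p`.
* `card_index_p_ge_modEq_one` : in a `p`-group the number of subgroups of index `p` containing a
  given proper subgroup is `≡ 1 (mod p)`.
-/

set_option autoImplicit false

universe u

namespace Cfsg.Agent.Lib.helper97

open Cfsg.Agent.Lib.helper69

/-- Transport of counts of subgroups of `↥H` to subgroups of `G` below `H`. -/
theorem card_subgroups_below {G : Type*} [Group G] (H : Subgroup G)
    (Φ' : Subgroup H → Prop) (Φ : Subgroup G → Prop)
    (h : ∀ T : Subgroup H, Φ' T ↔ Φ (T.map H.subtype)) :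
    Nat.card {T : Subgroup H // Φ' T} = Nat.card {T : Subgroup G // T ≤ H ∧ Φ T} := by
  apply Nat.card_congr
  refine ⟨fun T => ⟨T.1.map H.subtype, Subgroup.map_subtype_le _, (h T.1).mp T.2⟩,
    fun T => ⟨T.1.subgroupOf H, (h _).mpr ?_⟩, ?_, ?_⟩
  · rw [Subgroup.map_subgroupOf_eq_of_le T.2.1]
    exact T.2.2
  · intro T
    apply Subtype.ext
    exact Subgroup.comap_map_eq_self_of_injective H.subtype_injective T.1
  · intro T
    apply Subtype.ext
    exact Subgroup.map_subgroupOf_eq_of_le T.2.1

theorem card_subgroups_below_card {G : Type*} [Group G] (H : Subgroup G) (n : ℕ) :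
    Nat.card {T : Subgroup H // Nat.card T = n} =
      Nat.card {T : Subgroup G // T ≤ H ∧ Nat.card T = n} :=
  card_subgroups_below H _ _ (fun T => by
    rw [Subgroup.card_map_of_injective H.subtype_injective])

theorem card_subgroups_below_cyclic {G : Type*} [Group G] (H : Subgroup G) (n : ℕ) :
    Nat.card {T : Subgroup H // IsCyclic T ∧ Nat.card T = n} =
      Nat.card {T : Subgroup G // T ≤ H ∧ IsCyclic T ∧ Nat.card T = n} :=
  card_subgroups_below H _ _ (fun T => by
    rw [Subgroup.card_map_of_injective H.subtype_injective]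
    have e : T ≃* T.map H.subtype := T.equivMapOfInjective H.subtype H.subtype_injective
    rw [e.isCyclic])

/-- Correspondence theorem for subgroups of a given index. -/
theorem card_index_ge_normal {P : Type*} [Group P] (N : Subgroup P) [N.Normal] (k : ℕ) :
    Nat.card {M : Subgroup P // N ≤ M ∧ M.index = k} =
      Nat.card {M : Subgroup (P ⧸ N) // M.index = k} := by
  apply Nat.card_congr
  refine ⟨fun M => ⟨M.1.map (QuotientGroup.mk' N), ?_⟩,
    fun M => ⟨M.1.comap (QuotientGroup.mk' N), QuotientGroup.le_comap_mk' N _, ?_⟩, ?_, ?_⟩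
  · refine (Subgroup.index_map_eq _ (QuotientGroup.mk'_surjective N) ?_).trans M.2.2
    rw [QuotientGroup.ker_mk']
    exact M.2.1
  · exact (Subgroup.index_comap_of_surjective _ (QuotientGroup.mk'_surjective N)).trans M.2
  · intro M
    apply Subtype.ext
    show (M.1.map (QuotientGroup.mk' N)).comap (QuotientGroup.mk' N) = M.1
    rw [QuotientGroup.comap_map_mk']
    exact sup_eq_right.mpr M.2.1
  · intro M
    apply Subtype.ext
    exact Subgroup.map_comap_eq_self_of_surjective (QuotientGroup.mk'_surjective N) M.1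

/-- Sum of terms all congruent to `c`. -/
theorem sum_modEq_card_mul {ι : Type*} (s : Finset ι) (g : ι → ℕ) (c n : ℕ)
    (h : ∀ x ∈ s, g x ≡ c [MOD n]) : ∑ x ∈ s, g x ≡ s.card * c [MOD n] := by
  classical
  induction s using Finset.induction_on with
  | empty => simp [Nat.ModEq]
  | insert a s ha ih =>
    rw [Finset.sum_insert ha, Finset.card_insert_of_notMem ha, add_mul, one_mul, add_comm (s.card * c)]
    exact Nat.ModEq.add (h a (Finset.mem_insert_self a s))
      (ih (fun x hx => h x (Finset.mem_insert_of_mem hx)))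

/-- Double counting of pairs (nonidentity element, subgroup of index `p` containing it). -/
theorem index_p_double_count {Q : Type*} [Group Q] [Fintype Q] [DecidableEq Q] (p k : ℕ)
    (hk : Nat.card Q = p * k) (hp0 : 0 < p) :
    Nat.card {M : Subgroup Q // M.index = p} * k =
      Nat.card {M : Subgroup Q // M.index = p} +
        ∑ x ∈ (Finset.univ : Finset Q).erase 1,
          Nat.card {M : Subgroup Q // x ∈ M ∧ M.index = p} := by
  classical
  have : Fintype (Subgroup Q) := Fintype.ofFinite _
  let F : Finset (Subgroup Q) := Finset.univ.filter (fun M => M.index = p)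
  let E : Finset Q := (Finset.univ : Finset Q).erase 1
  have hF : Nat.card {M : Subgroup Q // M.index = p} = F.card := by
    rw [Nat.card_eq_fintype_card, Fintype.card_subtype]
  have hdc := Finset.sum_card_bipartiteAbove_eq_sum_card_bipartiteBelow (s := F) (t := E)
    (r := fun (M : Subgroup Q) (x : Q) => x ∈ M)
  have hleft : ∀ M ∈ F, (E.bipartiteAbove (fun (M : Subgroup Q) (x : Q) => x ∈ M) M).card + 1 = k := by
    intro M hM
    have hMi : M.index = p := (Finset.mem_filter.mp hM).2
    have hMc : Nat.card M = k := by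
      have h1 := Subgroup.card_mul_index M
      rw [hMi, hk, mul_comm] at h1
      exact Nat.eq_of_mul_eq_mul_left hp0 h1
    have h2 : (Finset.univ.filter (fun x : Q => x ∈ M)).card = k := by
      rw [← hMc, Nat.card_eq_fintype_card, Fintype.card_subtype]
    have h3 : Finset.univ.filter (fun x : Q => x ∈ M) =
        insert 1 (E.bipartiteAbove (fun (M : Subgroup Q) (x : Q) => x ∈ M) M) := by
      ext x
      simp only [Finset.bipartiteAbove, Finset.mem_filter, Finset.mem_univ, true_and, and_true,
        Finset.mem_insert, E, Finset.mem_erase]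
      constructor
      · intro hx
        by_cases h1 : x = 1
        · exact Or.inl h1
        · exact Or.inr ⟨h1, hx⟩
      · rintro (rfl | ⟨_, hx⟩)
        · exact M.one_mem
        · exact hx
    rw [← h2, h3, Finset.card_insert_of_notMem]
    simp [Finset.bipartiteAbove, E]
  have hright : ∀ x ∈ E, (F.bipartiteBelow (fun (M : Subgroup Q) (x : Q) => x ∈ M) x).card =
      Nat.card {M : Subgroup Q // x ∈ M ∧ M.index = p} := by
    intro x _
    rw [Nat.card_eq_fintype_card, Fintype.card_subtype]
    congr 1
    ext M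
    simp only [Finset.bipartiteBelow, Finset.mem_filter, Finset.mem_univ, true_and, F]
    exact and_comm
  have hsum : ∑ M ∈ F, ((E.bipartiteAbove (fun (M : Subgroup Q) (x : Q) => x ∈ M) M).card + 1) =
      F.card * k := by
    rw [Finset.sum_congr rfl hleft, Finset.sum_const, smul_eq_mul]
  rw [Finset.sum_add_distrib, hdc, Finset.sum_const, smul_eq_mul, mul_one,
    Finset.sum_congr rfl hright] at hsum
  rw [hF, ← hsum, add_comm]

/-- The quotient of an elementary abelian group by a subgroup of order `p`. -/
theorem elemAb_quotient_zpowers (p : ℕ) [hp : Fact p.Prime] {Q : Type u} [Group Q] [Finite Q]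
    (hcomm : ∀ a b : Q, a * b = b * a) (hexp : ∀ x : Q, x ^ p = 1) (e : ℕ)
    (hcard : Nat.card Q = p ^ (e + 1)) (x : Q) (hx : x ≠ 1) [(Subgroup.zpowers x).Normal] :
    (∀ a b : Q ⧸ Subgroup.zpowers x, a * b = b * a) ∧ (∀ a : Q ⧸ Subgroup.zpowers x, a ^ p = 1) ∧
      Nat.card (Q ⧸ Subgroup.zpowers x) = p ^ e := by
  refine ⟨?_, ?_, ?_⟩
  · intro a b
    obtain ⟨a', rfl⟩ := QuotientGroup.mk_surjective a
    obtain ⟨b', rfl⟩ := QuotientGroup.mk_surjective b
    rw [← QuotientGroup.mk_mul, ← QuotientGroup.mk_mul, hcomm]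
  · intro a
    obtain ⟨a', rfl⟩ := QuotientGroup.mk_surjective a
    rw [← QuotientGroup.mk_pow, hexp, QuotientGroup.mk_one]
  · have h1 := Subgroup.card_eq_card_quotient_mul_card_subgroup (Subgroup.zpowers x)
    rw [Nat.card_zpowers, orderOf_eq_prime (hexp x) hx, hcard, pow_succ] at h1
    exact (Nat.eq_of_mul_eq_mul_right hp.out.pos h1).symm

/-- A group of order `p` has exactly one subgroup of index `p`. -/
theorem card_index_p_of_card_eq (p : ℕ) [hp : Fact p.Prime] {Q : Type*} [Group Q] [Finite Q]
    (hcard : Nat.card Q = p) : Nat.card {M : Subgroup Q // M.index = p} = 1 := by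
  rw [Nat.card_eq_one_iff_unique]
  constructor
  · constructor
    intro a b
    have key : ∀ M : Subgroup Q, M.index = p → M = ⊥ := by
      intro M hM
      have h1 := Subgroup.card_mul_index M
      rw [hM, hcard] at h1
      have h2 : Nat.card M = 1 := by
        have h3 : Nat.card M * p = 1 * p := by rw [h1, one_mul]
        exact Nat.eq_of_mul_eq_mul_right hp.out.pos h3
      exact Subgroup.card_eq_one.mp h2
    exact Subtype.ext ((key a.1 a.2).trans (key b.1 b.2).symm)
  · exact ⟨⟨⊥, by rw [Subgroup.index_bot, hcard]⟩⟩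

/-- An elementary abelian group of order `p^(d+2)` has `≡ 1 + p (mod p^2)` subgroups of index `p`. -/
theorem card_index_p_elemAb (p : ℕ) [hp : Fact p.Prime] :
    ∀ (d : ℕ) (Q : Type u) [Group Q] [Finite Q], (∀ a b : Q, a * b = b * a) → (∀ x : Q, x ^ p = 1) →
      Nat.card Q = p ^ (d + 2) → Nat.card {M : Subgroup Q // M.index = p} ≡ 1 + p [MOD p ^ 2] := by
  intro d
  induction d with
  | zero =>
    intro Q _ _ hcomm hexp hcard
    classical
    have : Fintype Q := Fintype.ofFinite Q
    have hdc := index_p_double_count (Q := Q) p p (by rw [hcard]; ring) hp.out.pos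
    have hterm : ∀ x ∈ (Finset.univ : Finset Q).erase 1,
        Nat.card {M : Subgroup Q // x ∈ M ∧ M.index = p} = 1 := by
      intro x hx
      have hx1 : x ≠ 1 := (Finset.mem_erase.mp hx).1
      have : (Subgroup.zpowers x).Normal :=
        ⟨fun n hn g => by rw [hcomm g n, mul_inv_cancel_right]; exact hn⟩
      obtain ⟨_, _, h3⟩ := elemAb_quotient_zpowers p hcomm hexp 1 (by rw [hcard]) x hx1
      have h4 : Nat.card {M : Subgroup Q // x ∈ M ∧ M.index = p} =
          Nat.card {M : Subgroup Q // Subgroup.zpowers x ≤ M ∧ M.index = p} := by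
        apply Nat.card_congr
        exact Equiv.subtypeEquivRight (fun M => by rw [Subgroup.zpowers_le])
      rw [h4, card_index_ge_normal]
      exact card_index_p_of_card_eq p (by rw [h3, pow_one])
    rw [Finset.sum_congr rfl hterm, Finset.sum_const, smul_eq_mul, mul_one,
      Finset.card_erase_of_mem (Finset.mem_univ _), Finset.card_univ, ← Nat.card_eq_fintype_card,
      hcard] at hdc
    have hp2 : 2 ≤ p := hp.out.two_le
    have hf : Nat.card {M : Subgroup Q // M.index = p} = p + 1 := by
      generalize Nat.card {M : Subgroup Q // M.index = p} = f at hdc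
      have h1 : 1 ≤ p ^ 2 := Nat.one_le_pow _ _ hp.out.pos
      have h2 : (f : ℤ) * p = f + (p ^ 2 - 1) := by
        have := congrArg (fun n : ℕ => (n : ℤ)) hdc
        simp only [Nat.cast_mul, Nat.cast_add] at this
        rw [this, Nat.cast_sub h1]
        push_cast
        ring
      have h3 : ((f : ℤ) - (p + 1)) * ((p : ℤ) - 1) = 0 := by
        have : ((f : ℤ) - (p + 1)) * ((p : ℤ) - 1) = (f : ℤ) * p - f - (p ^ 2 - 1) := by ring
        rw [this, h2]
        ring
      have h4 : ((p : ℤ) - 1) ≠ 0 := by
        have : (2 : ℤ) ≤ p := by exact_mod_cast hp2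
        linarith
      have h5 : (f : ℤ) - (p + 1) = 0 := by
        rcases mul_eq_zero.mp h3 with h | h
        · exact h
        · exact absurd h h4
      have h6 : (f : ℤ) = ((p + 1 : ℕ) : ℤ) := by
        push_cast
        linarith
      exact_mod_cast h6
    rw [hf, add_comm]
  | succ d ih =>
    intro Q _ _ hcomm hexp hcard0
    have hcard : Nat.card Q = p ^ (d + 3) := hcard0
    classical
    have : Fintype Q := Fintype.ofFinite Q
    have hdc := index_p_double_count (Q := Q) p (p ^ (d + 2)) (by rw [hcard]; ring) hp.out.pos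
    have hterm : ∀ x ∈ (Finset.univ : Finset Q).erase 1,
        Nat.card {M : Subgroup Q // x ∈ M ∧ M.index = p} ≡ 1 + p [MOD p ^ 2] := by
      intro x hx
      have hx1 : x ≠ 1 := (Finset.mem_erase.mp hx).1
      have : (Subgroup.zpowers x).Normal :=
        ⟨fun n hn g => by rw [hcomm g n, mul_inv_cancel_right]; exact hn⟩
      obtain ⟨h1, h2, h3⟩ := elemAb_quotient_zpowers p hcomm hexp (d + 2) (by rw [hcard]) x hx1
      have h4 : Nat.card {M : Subgroup Q // x ∈ M ∧ M.index = p} =
          Nat.card {M : Subgroup Q // Subgroup.zpowers x ≤ M ∧ M.index = p} := by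
        apply Nat.card_congr
        exact Equiv.subtypeEquivRight (fun M => by rw [Subgroup.zpowers_le])
      rw [h4, card_index_ge_normal]
      exact ih (Q ⧸ Subgroup.zpowers x) h1 h2 h3
    have hS := sum_modEq_card_mul _ _ _ _ hterm
    have hE : ((Finset.univ : Finset Q).erase 1).card + 1 = p ^ (d + 3) := by
      rw [Finset.card_erase_of_mem (Finset.mem_univ _), Finset.card_univ, ← Nat.card_eq_fintype_card,
        hcard]
      have : 1 ≤ p ^ (d + 3) := Nat.one_le_pow _ _ hp.out.pos
      omega
    generalize Nat.card {M : Subgroup Q // M.index = p} = f at hdc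
    generalize (∑ x ∈ (Finset.univ : Finset Q).erase 1,
          Nat.card {M : Subgroup Q // x ∈ M ∧ M.index = p}) = S at hdc hS
    generalize ((Finset.univ : Finset Q).erase 1).card = c at hS hE
    have h1 : f + S ≡ 0 [MOD p ^ 2] := by
      rw [← hdc]
      apply (Nat.modEq_zero_iff_dvd).mpr
      exact Dvd.dvd.mul_left (pow_dvd_pow p (by omega)) f
    have h2 : (1 + p) + c * (1 + p) ≡ 0 [MOD p ^ 2] := by
      have : (1 + p) + c * (1 + p) = p ^ (d + 3) * (1 + p) := by
        rw [← hE]; ring
      rw [this]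
      apply (Nat.modEq_zero_iff_dvd).mpr
      exact Dvd.dvd.mul_right (pow_dvd_pow p (by omega)) _
    have h3 : f + S ≡ (1 + p) + S [MOD p ^ 2] := by
      have h4 : (1 + p) + S ≡ (1 + p) + c * (1 + p) [MOD p ^ 2] := Nat.ModEq.add_left _ hS
      exact h1.trans (h4.trans h2).symm
    exact Nat.ModEq.add_right_cancel' S h3

/-- A noncyclic group of order `p^m` has `≡ 1 + p (mod p^2)` subgroups of index `p`. -/
theorem card_index_p_noncyclic (p : ℕ) [hp : Fact p.Prime] {P : Type u} [Group P] [Finite P] (m : ℕ)
    (hP : Nat.card P = p ^ m) (hnc : ¬ IsCyclic P) :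
    Nat.card {M : Subgroup P // M.index = p} ≡ 1 + p [MOD p ^ 2] := by
  classical
  have hm : m ≠ 0 := by
    rintro rfl
    rw [pow_zero] at hP
    have : Subsingleton P := (Nat.card_eq_one_iff_unique.mp hP).1
    exact hnc inferInstance
  have hminFac : (Nat.card P).minFac = p := by
    rw [hP, Nat.pow_minFac hm, Nat.Prime.minFac_eq hp.out]
  have hnormal : ∀ M : Subgroup P, M.index = p → M.Normal := fun M hM =>
    Subgroup.normal_of_index_eq_minFac_card (by rw [hM, hminFac])
  let 𝓜 : Set (Subgroup P) := {M | M.index = p}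
  let N : Subgroup P := sInf 𝓜
  have hNle : ∀ M : Subgroup P, M.index = p → N ≤ M := fun M hM => sInf_le hM
  have hNn : N.Normal := by
    constructor
    intro n hn g
    rw [Subgroup.mem_sInf]
    intro M hM
    have := hnormal M hM
    exact Subgroup.Normal.conj_mem inferInstance n (hNle M hM hn) g
  -- elements whose image in every quotient of order `p` is trivial lie in `N`
  have hmemN : ∀ z : P, (∀ M : Subgroup P, M.index = p → z ∈ M) → z ∈ N := by
    intro z hz
    rw [Subgroup.mem_sInf]
    exact fun M hM => hz M hM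
  have hcomm : ∀ a b : P ⧸ N, a * b = b * a := by
    intro a b
    obtain ⟨a', rfl⟩ := QuotientGroup.mk_surjective a
    obtain ⟨b', rfl⟩ := QuotientGroup.mk_surjective b
    rw [← QuotientGroup.mk_mul, ← QuotientGroup.mk_mul, QuotientGroup.eq]
    apply hmemN
    intro M hM
    have := hnormal M hM
    have hc : Nat.card (P ⧸ M) = p := by rw [← Subgroup.index_eq_card, hM]
    have : IsCyclic (P ⧸ M) := isCyclic_of_prime_card hc
    have hcM : ∀ u v : P ⧸ M, u * v = v * u := fun u v =>
      (IsCyclic.commGroup (α := P ⧸ M)).mul_comm u v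
    have h1 : ((a' * b' : P) : P ⧸ M) = ((b' * a' : P) : P ⧸ M) := by
      rw [QuotientGroup.mk_mul, QuotientGroup.mk_mul, hcM]
    exact QuotientGroup.eq.mp h1
  have hexp : ∀ a : P ⧸ N, a ^ p = 1 := by
    intro a
    obtain ⟨a', rfl⟩ := QuotientGroup.mk_surjective a
    rw [← QuotientGroup.mk_pow, QuotientGroup.eq_one_iff]
    apply hmemN
    intro M hM
    have := hnormal M hM
    have hc : Nat.card (P ⧸ M) = p := by rw [← Subgroup.index_eq_card, hM]
    have h1 : ((a' : P) : P ⧸ M) ^ p = 1 := by
      rw [← hc]; exact pow_card_eq_one'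
    rw [← QuotientGroup.mk_pow] at h1
    exact (QuotientGroup.eq_one_iff _).mp h1
  -- existence of subgroups of index `p`
  have hexM : ∀ K : Subgroup P, K ≠ ⊤ → ∃ M : Subgroup P, M.index = p ∧ K ≤ M := by
    intro K hK
    have hKd : Nat.card K ∣ p ^ m := hP ▸ Subgroup.card_subgroup_dvd_card K
    obtain ⟨n, hn, hKc⟩ := (Nat.dvd_prime_pow hp.out).mp hKd
    have hnm : n ≤ m - 1 := by
      rcases Nat.lt_or_ge n m with h | h
      · omega
      · exfalso
        have hnm' : n = m := le_antisymm hn h
        apply hK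
        apply Subgroup.eq_top_of_card_eq
        rw [hKc, hnm', hP]
    obtain ⟨M, hMc, hKM⟩ := Sylow.exists_subgroup_card_pow_prime_le p
      (by rw [hP]; exact pow_dvd_pow p (Nat.sub_le m 1)) K hKc hnm
    refine ⟨M, ?_, hKM⟩
    have h1 := Subgroup.card_mul_index M
    rw [hMc, hP] at h1
    have h2 : p ^ m = p ^ (m - 1) * p := by
      rw [← pow_succ]; congr 1; omega
    rw [h2] at h1
    exact Nat.eq_of_mul_eq_mul_left (pow_pos hp.out.pos _) h1
  have hNtop : N ≠ ⊤ := by
    intro h
    obtain ⟨M, hM, _⟩ := hexM ⊥ (by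
      intro hbt
      have h1 : Nat.card P = 1 := by rw [← Subgroup.card_top, ← hbt, Subgroup.card_bot]
      rw [hP] at h1
      exact hm ((Nat.pow_eq_one.mp h1).resolve_left hp.out.one_lt.ne'))
    have h1 : M = ⊤ := top_le_iff.mp (h ▸ hNle M hM)
    rw [h1, Subgroup.index_top] at hM
    exact hp.out.one_lt.ne hM
  have hQd : Nat.card (P ⧸ N) ∣ p ^ m := hP ▸ Subgroup.card_quotient_dvd_card N
  obtain ⟨e, he, hQc⟩ := (Nat.dvd_prime_pow hp.out).mp hQd
  have he0 : e ≠ 0 := by
    rintro rfl
    rw [pow_zero, ← Subgroup.index_eq_card, Subgroup.index_eq_one] at hQc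
    exact hNtop hQc
  have he1 : e ≠ 1 := by
    rintro rfl
    rw [pow_one, ← Subgroup.index_eq_card] at hQc
    -- `N` is the unique subgroup of index `p`
    have huniq : ∀ M : Subgroup P, M.index = p → M = N := by
      intro M hM
      have h1 : N ≤ M := hNle M hM
      have h2 : Nat.card M = Nat.card N := by
        have hM' := Subgroup.card_mul_index M
        have hN' := Subgroup.card_mul_index N
        rw [hM] at hM'
        rw [hQc] at hN'
        exact Nat.eq_of_mul_eq_mul_right hp.out.pos (hM'.trans hN'.symm)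
      exact (Subgroup.eq_of_le_of_card_ge h1 (le_of_eq h2)).symm
    obtain ⟨x, hx⟩ : ∃ x : P, x ∉ N := by
      by_contra hcon
      push Not at hcon
      exact hNtop (top_le_iff.mp (fun x _ => hcon x))
    apply hnc
    by_cases hz : Subgroup.zpowers x = ⊤
    · exact isCyclic_iff_exists_zpowers_eq_top.mpr ⟨x, hz⟩
    · exfalso
      obtain ⟨M, hM, hxM⟩ := hexM _ hz
      rw [huniq M hM] at hxM
      exact hx (hxM (Subgroup.mem_zpowers x))
  have hcount : Nat.card {M : Subgroup P // M.index = p} =
      Nat.card {M : Subgroup P // N ≤ M ∧ M.index = p} := by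
    apply Nat.card_congr
    exact Equiv.subtypeEquivRight (fun M => ⟨fun h => ⟨hNle M h, h⟩, fun h => h.2⟩)
  rw [hcount, card_index_ge_normal]
  obtain ⟨d, rfl⟩ : ∃ d, e = d + 2 := ⟨e - 2, by omega⟩
  exact card_index_p_elemAb p d (P ⧸ N) hcomm hexp hQc

/-- In a `p`-group the number of subgroups of index `p` containing a given proper subgroup is
`≡ 1 (mod p)`. -/
theorem card_index_p_ge_modEq_one (p : ℕ) [hp : Fact p.Prime] {P : Type u} [Group P] [Finite P]
    (m : ℕ) (hP : Nat.card P = p ^ m) (K : Subgroup P) (hK : K ≠ ⊤) :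
    Nat.card {M : Subgroup P // K ≤ M ∧ M.index = p} ≡ 1 [MOD p] := by
  classical
  have hm : m ≠ 0 := by
    rintro rfl
    rw [pow_zero] at hP
    have : Subsingleton P := (Nat.card_eq_one_iff_unique.mp hP).1
    exact hK (Subsingleton.elim _ _)
  have hminFac : (Nat.card P).minFac = p := by
    rw [hP, Nat.pow_minFac hm, Nat.Prime.minFac_eq hp.out]
  have hnormal : ∀ M : Subgroup P, M.index = p → M.Normal := fun M hM =>
    Subgroup.normal_of_index_eq_minFac_card (by rw [hM, hminFac])
  let N : Subgroup P := Subgroup.normalClosure (K : Set P)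
  have hKN : K ≤ N := Subgroup.le_normalClosure
  have hNle : ∀ M : Subgroup P, K ≤ M → M.index = p → N ≤ M := by
    intro M hKM hM
    have := hnormal M hM
    exact Subgroup.normalClosure_le_normal hKM
  -- existence
  obtain ⟨M₀, hM₀, hKM₀⟩ : ∃ M : Subgroup P, M.index = p ∧ K ≤ M := by
    have hKd : Nat.card K ∣ p ^ m := hP ▸ Subgroup.card_subgroup_dvd_card K
    obtain ⟨n, hn, hKc⟩ := (Nat.dvd_prime_pow hp.out).mp hKd
    have hnm : n ≤ m - 1 := by
      rcases Nat.lt_or_ge n m with h | h
      · omega
      · exfalso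
        have hnm' : n = m := le_antisymm hn h
        apply hK
        apply Subgroup.eq_top_of_card_eq
        rw [hKc, hnm', hP]
    obtain ⟨M, hMc, hKM⟩ := Sylow.exists_subgroup_card_pow_prime_le p
      (by rw [hP]; exact pow_dvd_pow p (Nat.sub_le m 1)) K hKc hnm
    refine ⟨M, ?_, hKM⟩
    have h1 := Subgroup.card_mul_index M
    rw [hMc, hP] at h1
    have h2 : p ^ m = p ^ (m - 1) * p := by
      rw [← pow_succ]; congr 1; omega
    rw [h2] at h1
    exact Nat.eq_of_mul_eq_mul_left (pow_pos hp.out.pos _) h1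
  have hNtop : N ≠ ⊤ := by
    intro h
    have h1 : M₀ = ⊤ := top_le_iff.mp (h ▸ hNle M₀ hKM₀ hM₀)
    rw [h1, Subgroup.index_top] at hM₀
    exact hp.out.one_lt.ne hM₀
  have hQd : Nat.card (P ⧸ N) ∣ p ^ m := hP ▸ Subgroup.card_quotient_dvd_card N
  obtain ⟨e, he, hQc⟩ := (Nat.dvd_prime_pow hp.out).mp hQd
  have he0 : e ≠ 0 := by
    rintro rfl
    rw [pow_zero, ← Subgroup.index_eq_card, Subgroup.index_eq_one] at hQc
    exact hNtop hQc
  have hcount : Nat.card {M : Subgroup P // K ≤ M ∧ M.index = p} =
      Nat.card {M : Subgroup P // N ≤ M ∧ M.index = p} := by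
    apply Nat.card_congr
    exact Equiv.subtypeEquivRight (fun M =>
      ⟨fun h => ⟨hNle M h.1 h.2, h.2⟩, fun h => ⟨hKN.trans h.1, h.2⟩⟩)
  rw [hcount, card_index_ge_normal]
  have hcount2 : Nat.card {M : Subgroup (P ⧸ N) // M.index = p} =
      Nat.card {M : Subgroup (P ⧸ N) // Nat.card M = p ^ (e - 1)} := by
    apply Nat.card_congr
    refine Equiv.subtypeEquivRight (fun M => ?_)
    have h1 := Subgroup.card_mul_index M
    rw [hQc] at h1
    have h2 : p ^ e = p ^ (e - 1) * p := by
      rw [← pow_succ]; congr 1; omega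
    constructor
    · intro h
      rw [h, h2] at h1
      exact Nat.eq_of_mul_eq_mul_right hp.out.pos h1
    · intro h
      rw [h, h2] at h1
      exact Nat.eq_of_mul_eq_mul_left (pow_pos hp.out.pos _) h1
  rw [hcount2]
  exact card_subgroups_prime_pow_modEq_one p (e - 1) hp.out
    (by rw [hQc]; exact pow_dvd_pow p (Nat.sub_le e 1))

end Cfsg.Agent.Lib.helper97
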