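import Mathlib
import Cfsg.Agent.Lib.helper97.IdxP

/-!
Cyclic subgroups of index `p` in noncyclic `p`-groups, `p` odd (owner: helper97).

* `modEq_one_of_pow_prime_modEq_one` : `k^p ≡ 1 (mod p^n)` implies `k ≡ 1 (mod p^(n-1))` for odd `p`.
* `mul_pow_of_comm_central` : `(ab)^n = a^n b^n w^(n(n-1)/2)` when `ba = abw` with `w` central.
* `card_cyclic_index_p_dvd` : in a noncyclic group of order `p^m` (`p` odd, `m ≥ 3`) the number of
  cyclic subgroups of index `p` is divisible by `p` (it is `0` or `p`).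
-/

set_option autoImplicit false

universe u

namespace Cfsg.Agent.Lib.helper97

theorem modEq_one_of_pow_prime_modEq_one (p : ℕ) [hp : Fact p.Prime] (hp1 : Odd p) (n k : ℕ)
    (hn : 1 ≤ n) (h : k ^ p ≡ 1 [MOD p ^ n]) : k ≡ 1 [MOD p ^ (n - 1)] := by
  have hk1 : k ≡ 1 [MOD p] := by
    have h1 : k ^ p ≡ 1 [MOD p] := h.of_dvd (dvd_pow_self p (by omega))
    have h2 : k ^ p ≡ k [MOD p] := by
      rw [← ZMod.natCast_eq_natCast_iff]
      push_cast
      exact ZMod.pow_card _
    exact h2.symm.trans h1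
  rcases Nat.lt_or_ge 1 k with hk | hk
  · have hdvd : p ∣ k - 1 := (Nat.modEq_iff_dvd' hk.le).mp hk1.symm
    have hpk : ¬ p ∣ k := by
      intro hpk
      have h3 : p ∣ k - (k - 1) := Nat.dvd_sub hpk hdvd
      have h4 : k - (k - 1) = 1 := by omega
      rw [h4] at h3
      exact hp.out.one_lt.ne' (Nat.dvd_one.mp h3)
    have hval := padicValNat.pow_sub_pow hp1 hk hdvd hpk (n := p) hp.out.ne_zero
    rw [one_pow, padicValNat_self] at hval
    have hpn : p ^ n ∣ k ^ p - 1 :=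
      (Nat.modEq_iff_dvd' (Nat.one_le_pow _ _ (by omega))).mp h.symm
    have hkp : k ^ p - 1 ≠ 0 := by
      have : 1 < k ^ p := Nat.one_lt_pow hp.out.ne_zero hk
      omega
    have hle : n ≤ padicValNat p (k ^ p - 1) := (padicValNat_dvd_iff_le hkp).mp hpn
    have hle2 : n - 1 ≤ padicValNat p (k - 1) := by omega
    have hdvd2 : p ^ (n - 1) ∣ k - 1 := (padicValNat_dvd_iff_le (by omega)).mpr hle2
    exact ((Nat.modEq_iff_dvd' hk.le).mpr hdvd2).symm
  · interval_cases k
    · exfalso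
      have h3 : p ∣ 1 := by
        have := (Nat.modEq_iff_dvd' (Nat.zero_le 1)).mp hk1
        simpa using this
      exact hp.out.one_lt.ne' (Nat.dvd_one.mp h3)
    · exact Nat.ModEq.refl 1

theorem mul_pow_of_comm_central {G : Type*} [Group G] (a b w : G) (hw : ∀ g : G, g * w = w * g)
    (h : b * a = a * b * w) (n : ℕ) : (a * b) ^ n = a ^ n * b ^ n * w ^ (n * (n - 1) / 2) := by
  have hwp : ∀ (j : ℕ) (g : G), g * w ^ j = w ^ j * g := by
    intro j g
    induction j with
    | zero => simp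
    | succ j ih => rw [pow_succ, ← mul_assoc, ih, mul_assoc, hw, mul_assoc]
  have hb : ∀ j : ℕ, b ^ j * a = a * b ^ j * w ^ j := by
    intro j
    induction j with
    | zero => simp
    | succ j ih =>
      calc b ^ (j + 1) * a = b ^ j * (b * a) := by rw [pow_succ, mul_assoc]
        _ = b ^ j * (a * b * w) := by rw [h]
        _ = (b ^ j * a) * b * w := by simp only [mul_assoc]
        _ = a * b ^ j * w ^ j * b * w := by rw [ih]
        _ = a * b ^ j * (w ^ j * b) * w := by simp only [mul_assoc]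
        _ = a * b ^ j * (b * w ^ j) * w := by rw [hwp j b]
        _ = a * b ^ (j + 1) * w ^ (j + 1) := by rw [pow_succ, pow_succ]; simp only [mul_assoc]
  induction n with
  | zero => simp
  | succ n ih =>
    rw [Nat.triangle_succ]
    calc (a * b) ^ (n + 1) = (a * b) ^ n * (a * b) := pow_succ _ _
      _ = a ^ n * b ^ n * w ^ (n * (n - 1) / 2) * (a * b) := by rw [ih]
      _ = a ^ n * b ^ n * ((a * b) * w ^ (n * (n - 1) / 2)) := by
        rw [hwp _ (a * b)]; simp only [mul_assoc]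
      _ = a ^ n * (b ^ n * a) * b * w ^ (n * (n - 1) / 2) := by simp only [mul_assoc]
      _ = a ^ n * (a * b ^ n * w ^ n) * b * w ^ (n * (n - 1) / 2) := by rw [hb n]
      _ = a ^ n * a * b ^ n * (w ^ n * b) * w ^ (n * (n - 1) / 2) := by simp only [mul_assoc]
      _ = a ^ n * a * b ^ n * (b * w ^ n) * w ^ (n * (n - 1) / 2) := by rw [hwp n b]
      _ = a ^ (n + 1) * b ^ (n + 1) * (w ^ n * w ^ (n * (n - 1) / 2)) := by
        rw [pow_succ, pow_succ]; simp only [mul_assoc]
      _ = a ^ (n + 1) * b ^ (n + 1) * w ^ (n * (n - 1) / 2 + n) := by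
        rw [← pow_add]
        congr 2
        exact Nat.add_comm _ _

/-- In a noncyclic group of order `p^m` (`p` odd, `m ≥ 3`) the number of cyclic subgroups of
index `p` is divisible by `p`. -/
theorem card_cyclic_index_p_dvd (p : ℕ) [hp : Fact p.Prime] (hp2 : p ≠ 2) {P : Type u} [Group P]
    [Finite P] (m : ℕ) (hm : 3 ≤ m) (hP : Nat.card P = p ^ m) (hnc : ¬ IsCyclic P) :
    p ∣ Nat.card {M : Subgroup P // IsCyclic M ∧ Nat.card M = p ^ (m - 1)} := by
  classical
  by_cases hex : ∃ M : Subgroup P, IsCyclic M ∧ Nat.card M = p ^ (m - 1)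
  swap
  · have : IsEmpty {M : Subgroup P // IsCyclic M ∧ Nat.card M = p ^ (m - 1)} :=
      ⟨fun M => hex ⟨M.1, M.2⟩⟩
    rw [Nat.card_of_isEmpty]
    exact dvd_zero p
  obtain ⟨A, hAc, hAcard⟩ := hex
  have hpodd : Odd p := hp.out.odd_of_ne_two hp2
  have hppos : 0 < p := hp.out.pos
  obtain ⟨x₀, hx₀⟩ := IsCyclic.exists_ofOrder_eq_natCard (α := A)
  obtain ⟨x, hxA, hxo⟩ : ∃ x : P, x ∈ A ∧ orderOf x = p ^ (m - 1) :=
    ⟨(x₀ : P), x₀.2, by rw [Subgroup.orderOf_coe, hx₀, hAcard]⟩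
  have hAz : Subgroup.zpowers x = A := by
    apply Subgroup.eq_of_le_of_card_ge ((Subgroup.zpowers_le).mpr hxA)
    rw [Nat.card_zpowers, hxo, hAcard]
  have hmemA : ∀ u : P, u ∈ A → ∃ i : ℕ, x ^ i = u := by
    intro u hu
    rw [← hAz, ← mem_powers_iff_mem_zpowers] at hu
    obtain ⟨i, hi⟩ := hu
    exact ⟨i, hi⟩
  have hpm : p ^ m = p ^ (m - 1) * p := by
    rw [← pow_succ]; congr 1; omega
  have hpm1 : p ^ (m - 1) = p ^ (m - 2) * p := by
    rw [← pow_succ]; congr 1; omega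
  have hpm2 : p ^ (m - 2) = p ^ (m - 3) * p := by
    rw [← pow_succ]; congr 1; omega
  have hAidx : A.index = p := by
    have h1 := Subgroup.card_mul_index A
    rw [hAcard, hP, hpm] at h1
    exact Nat.eq_of_mul_eq_mul_left (pow_pos hppos _) h1
  have hm0 : m ≠ 0 := by omega
  have hAn : A.Normal := Subgroup.normal_of_index_eq_minFac_card (by
    rw [hAidx, hP, Nat.pow_minFac hm0, Nat.Prime.minFac_eq hp.out])
  -- `g ^ p ∈ A`
  have hpowA : ∀ g : P, g ^ p ∈ A := by
    intro g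
    have hc : Nat.card (P ⧸ A) = p := by rw [← Subgroup.index_eq_card, hAidx]
    have h1 : ((g : P) : P ⧸ A) ^ p = 1 := by
      rw [← hc]; exact pow_card_eq_one'
    rw [← QuotientGroup.mk_pow] at h1
    exact (QuotientGroup.eq_one_iff _).mp h1
  -- exponent of `P` divides `p^(m-1)`
  have hexpP : ∀ g : P, g ^ p ^ (m - 1) = 1 := by
    intro g
    have h1 : orderOf g ∣ p ^ m := hP ▸ orderOf_dvd_natCard g
    obtain ⟨t, ht, hto⟩ := (Nat.dvd_prime_pow hp.out).mp h1
    have htm : t ≠ m := by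
      rintro rfl
      exact hnc (isCyclic_of_orderOf_eq_card g (by rw [hto, hP]))
    apply orderOf_dvd_iff_pow_eq_one.mp
    rw [hto]
    exact pow_dvd_pow p (by omega)
  -- conjugation acts on `x` with `(g x g⁻¹)^p = x^p`
  have hconjp : ∀ g : P, (g * x * g⁻¹) ^ p = x ^ p := by
    intro g
    obtain ⟨k, hk⟩ := hmemA (g * x * g⁻¹) (hAn.conj_mem x hxA g)
    have hiter : ∀ i : ℕ, g ^ i * x * (g ^ i)⁻¹ = x ^ k ^ i := by
      intro i
      induction i with
      | zero => simp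
      | succ i ih =>
        have h1 : g ^ (i + 1) * x * (g ^ (i + 1))⁻¹ = g * (g ^ i * x * (g ^ i)⁻¹) * g⁻¹ := by
          rw [pow_succ']; group
        rw [h1, ih]
        have h2 : g * x ^ k ^ i * g⁻¹ = (g * x * g⁻¹) ^ k ^ i := (conj_pow).symm
        rw [h2, ← hk, ← pow_mul, pow_succ']
    obtain ⟨j, hj⟩ := hmemA (g ^ p) (hpowA g)
    have h3 : g ^ p * x * (g ^ p)⁻¹ = x := by
      rw [← hj]
      have : Commute (x ^ j) x := (Commute.refl x).pow_left j
      rw [this.eq, mul_inv_cancel_right]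
    have h4 : x ^ k ^ p = x ^ 1 := by rw [← hiter p, h3, pow_one]
    have h5 : k ^ p ≡ 1 [MOD p ^ (m - 1)] := by
      rw [← hxo]; exact pow_eq_pow_iff_modEq.mp h4
    have h6 : k ≡ 1 [MOD p ^ (m - 1 - 1)] :=
      modEq_one_of_pow_prime_modEq_one p hpodd (m - 1) k (by omega) h5
    have h7 : k * p ≡ 1 * p [MOD p ^ (m - 1)] := by
      have h8 : k * p ≡ 1 * p [MOD p ^ (m - 1 - 1) * p] := Nat.ModEq.mul_right' p h6
      have h9 : p ^ (m - 1 - 1) * p = p ^ (m - 1) := by
        rw [← pow_succ]; congr 1; omega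
      rwa [h9] at h8
    rw [← hk, ← pow_mul]
    have h10 : x ^ (k * p) = x ^ (1 * p) := by
      rw [pow_eq_pow_iff_modEq, hxo]; exact h7
    rw [h10, one_mul]
  -- `x ^ p` is central
  have hxp_central : ∀ g : P, g * x ^ p = x ^ p * g := by
    intro g
    have h1 : g * x ^ p * g⁻¹ = x ^ p := by rw [← conj_pow, hconjp]
    calc g * x ^ p = g * x ^ p * g⁻¹ * g := by group
      _ = x ^ p * g := by rw [h1]
  -- the element `z₀ = x ^ (p ^ (m - 2))` of order `p` is central
  obtain ⟨z₀, hz₀⟩ : ∃ z₀ : P, z₀ = x ^ p ^ (m - 2) := ⟨_, rfl⟩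
  have hz₀' : z₀ = (x ^ p) ^ p ^ (m - 3) := by
    rw [hz₀, ← pow_mul, hpm2, mul_comm]
  have hz₀c : ∀ g : P, g * z₀ = z₀ * g := by
    intro g
    rw [hz₀']
    have : Commute g (x ^ p) := hxp_central g
    exact (this.pow_right _).eq
  have hz₀p : z₀ ^ p = 1 := by
    rw [hz₀, ← pow_mul, ← hpm1, ← hxo, pow_orderOf_eq_one]
  have hz₀1 : z₀ ≠ 1 := by
    rw [hz₀]
    apply pow_ne_one_of_lt_orderOf (pow_pos hppos _).ne'
    rw [hxo]
    exact Nat.pow_lt_pow_right hp.out.one_lt (by omega)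
  have hz₀o : orderOf z₀ = p := orderOf_eq_prime hz₀p hz₀1
  -- the subgroup `A₁ = ⟨z₀⟩`
  obtain ⟨A₁, hA₁⟩ : ∃ A₁ : Subgroup P, A₁ = Subgroup.zpowers z₀ := ⟨_, rfl⟩
  have hA₁c : ∀ w ∈ A₁, ∀ g : P, g * w = w * g := by
    intro w hw g
    rw [hA₁, Subgroup.mem_zpowers_iff] at hw
    obtain ⟨i, rfl⟩ := hw
    have : Commute g z₀ := hz₀c g
    exact (this.zpow_right i).eq
  have hA₁p : ∀ w ∈ A₁, w ^ p = 1 := by
    intro w hw
    rw [hA₁, Subgroup.mem_zpowers_iff] at hw
    obtain ⟨i, rfl⟩ := hw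
    rw [← zpow_natCast, ← zpow_mul, mul_comm, zpow_mul, zpow_natCast, hz₀p, one_zpow]
  have hA₁card : Nat.card A₁ = p := by rw [hA₁, Nat.card_zpowers, hz₀o]
  have hA₁n : A₁.Normal := by
    constructor
    intro w hw g
    rw [hA₁c w hw g, mul_inv_cancel_right]
    exact hw
  -- elements of `A` of order dividing `p` lie in `A₁`
  have hA₁mem : ∀ u : P, u ∈ A → u ^ p = 1 → u ∈ A₁ := by
    intro u hu hup
    obtain ⟨i, rfl⟩ := hmemA u hu
    rw [← pow_mul] at hup
    have h1 : p ^ (m - 1) ∣ i * p := by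
      rw [← hxo]; exact orderOf_dvd_of_pow_eq_one hup
    rw [hpm1] at h1
    have h2 : p ^ (m - 2) ∣ i := Nat.dvd_of_mul_dvd_mul_right hppos h1
    obtain ⟨l, rfl⟩ := h2
    rw [hA₁, pow_mul, ← hz₀]
    exact Subgroup.pow_mem _ (Subgroup.mem_zpowers z₀) l
  have hA₁A : A₁ ≤ A := by
    rw [hA₁, Subgroup.zpowers_le, hz₀]
    exact A.pow_mem hxA _
  -- commutators with elements of `A` lie in `A₁`
  have hcommA : ∀ (g u : P), u ∈ A → g * u * g⁻¹ * u⁻¹ ∈ A₁ := by
    intro g u hu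
    obtain ⟨i, rfl⟩ := hmemA u hu
    have hzg : g * x * g⁻¹ * x⁻¹ ∈ A₁ := by
      apply hA₁mem
      · exact A.mul_mem (hAn.conj_mem x hxA g) (A.inv_mem hxA)
      · have hc : Commute (g * x * g⁻¹) x⁻¹ := by
          obtain ⟨k, hk⟩ := hmemA (g * x * g⁻¹) (hAn.conj_mem x hxA g)
          rw [← hk]
          exact ((Commute.refl x).pow_left k).inv_right
        rw [hc.mul_pow, hconjp, inv_pow, mul_inv_cancel]
    obtain ⟨w, hw⟩ : ∃ w : P, w = g * x * g⁻¹ * x⁻¹ := ⟨_, rfl⟩
    rw [← hw] at hzg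
    have h1 : g * x * g⁻¹ = w * x := by rw [hw]; group
    have h2 : g * x ^ i * g⁻¹ = w ^ i * x ^ i := by
      rw [← conj_pow, h1]
      have hc : Commute w x := (hA₁c w hzg x).symm
      exact hc.mul_pow i
    rw [h2, mul_inv_cancel_right]
    exact A₁.pow_mem hzg i
  -- the quotient by `A₁` is commutative
  have hQcomm : ∀ a b : P ⧸ A₁, a * b = b * a := by
    have hc : Nat.card (P ⧸ A) = p := by rw [← Subgroup.index_eq_card, hAidx]
    have hcyc : IsCyclic (P ⧸ A) := isCyclic_of_prime_card hc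
    let f : P ⧸ A₁ →* P ⧸ A := QuotientGroup.map A₁ A (MonoidHom.id P) hA₁A
    have hmc : IsMulCommutative (P ⧸ A₁) := by
      apply MonoidHom.isMulCommutative_of_isCyclic_of_ker_le_center f
      intro q hq
      obtain ⟨u, rfl⟩ := QuotientGroup.mk_surjective q
      have hu : u ∈ A := by
        have h1 : f (QuotientGroup.mk u) = 1 := hq
        have h2 : f (QuotientGroup.mk u) = (QuotientGroup.mk u : P ⧸ A) := rfl
        rw [h2] at h1
        exact (QuotientGroup.eq_one_iff u).mp h1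
      rw [Subgroup.mem_center_iff]
      intro q'
      obtain ⟨g, rfl⟩ := QuotientGroup.mk_surjective q'
      rw [← QuotientGroup.mk_mul, ← QuotientGroup.mk_mul, QuotientGroup.eq]
      have h3 := hcommA g⁻¹ u hu
      rw [inv_inv] at h3
      have h4 : (g * u)⁻¹ * (u * g) = u⁻¹ * (g⁻¹ * u * g * u⁻¹) * u := by group
      rw [h4]
      have h5 := hA₁c _ h3 u⁻¹
      rw [h5, inv_mul_cancel_right]
      exact h3
    exact isMulCommutative_iff.mp hmc
  -- the `p`-th power map is multiplicative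
  have hpp : ∀ a b : P, (a * b) ^ p = a ^ p * b ^ p := by
    intro a b
    obtain ⟨w, hw⟩ : ∃ w : P, w = (a * b)⁻¹ * (b * a) := ⟨_, rfl⟩
    have hwA : w ∈ A₁ := by
      rw [hw]
      have h1 : ((a * b : P) : P ⧸ A₁) = ((b * a : P) : P ⧸ A₁) := by
        rw [QuotientGroup.mk_mul, QuotientGroup.mk_mul, hQcomm]
      exact QuotientGroup.eq.mp h1
    have hba : b * a = a * b * w := by rw [hw]; group
    rw [mul_pow_of_comm_central a b w (hA₁c w hwA) hba p]
    obtain ⟨t, ht⟩ := hpodd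
    have h2 : p * (p - 1) / 2 = p * t := by
      have : p - 1 = 2 * t := by omega
      rw [this, ← mul_assoc, mul_comm p 2, mul_assoc, Nat.mul_div_cancel_left _ (by norm_num)]
    rw [h2, pow_mul, hA₁p w hwA, one_pow, mul_one]
  have hpj : ∀ (j : ℕ) (a b : P), (a * b) ^ p ^ j = a ^ p ^ j * b ^ p ^ j := by
    intro j
    induction j with
    | zero => intro a b; simp
    | succ j ih =>
      intro a b
      rw [pow_succ, pow_mul, pow_mul, pow_mul, ih, hpp]
  let φ : P →* P := MonoidHom.mk' (fun g => g ^ p ^ (m - 2)) (hpj (m - 2))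
  have hφ : ∀ g : P, φ g = g ^ p ^ (m - 2) := fun g => rfl
  -- the image of `φ` is `A₁`
  have hφA₁ : ∀ g : P, φ g ∈ A₁ := by
    intro g
    obtain ⟨i, hi⟩ := hmemA (g ^ p) (hpowA g)
    have h1 : x ^ (i * p ^ (m - 2)) = 1 := by
      rw [pow_mul, hi, ← pow_mul, ← pow_succ']
      have : m - 2 + 1 = m - 1 := by omega
      rw [this]
      exact hexpP g
    have h2 : p ^ (m - 1) ∣ i * p ^ (m - 2) := by
      rw [← hxo]; exact orderOf_dvd_of_pow_eq_one h1
    rw [hpm1, mul_comm i] at h2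
    have h3 : p ∣ i := Nat.dvd_of_mul_dvd_mul_left (pow_pos hppos _) h2
    obtain ⟨l, rfl⟩ := h3
    rw [hφ, hpm2, mul_comm, pow_mul, ← hi, ← pow_mul, hA₁]
    have h4 : x ^ (p * l * p ^ (m - 3)) = z₀ ^ l := by
      rw [hz₀, ← pow_mul, hpm2]
      congr 1
      ring
    rw [h4]
    exact Subgroup.pow_mem _ (Subgroup.mem_zpowers z₀) l
  have hrange : Nat.card φ.range = p := by
    have hle : φ.range ≤ A₁ := by
      rintro _ ⟨g, rfl⟩
      exact hφA₁ g
    have hd : Nat.card φ.range ∣ p := hA₁card ▸ Subgroup.card_dvd_of_le hle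
    rcases (Nat.dvd_prime hp.out).mp hd with h | h
    · exfalso
      have hbot : φ.range = ⊥ := Subgroup.card_eq_one.mp h
      have hz : z₀ ∈ φ.range := ⟨x, by rw [hφ, hz₀]⟩
      rw [hbot, Subgroup.mem_bot] at hz
      exact hz₀1 hz
    · exact h
  have hker : Nat.card φ.ker = p ^ (m - 1) := by
    have h1 := Subgroup.card_mul_index φ.ker
    rw [Subgroup.index_ker, hrange, hP, hpm] at h1
    exact Nat.eq_of_mul_eq_mul_right hppos h1
  -- elements of order `p^(m-1)` are exactly those outside the kernel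
  have hord : ∀ g : P, orderOf g = p ^ (m - 1) ↔ g ∉ φ.ker := by
    intro g
    rw [MonoidHom.mem_ker, hφ]
    constructor
    · intro h
      apply pow_ne_one_of_lt_orderOf (pow_pos hppos _).ne'
      rw [h]
      exact Nat.pow_lt_pow_right hp.out.one_lt (by omega)
    · intro h
      have h1 : g ^ p ^ (m - 2 + 1) = 1 := by
        have : m - 2 + 1 = m - 1 := by omega
        rw [this]
        exact hexpP g
      have h2 := orderOf_eq_prime_pow h h1
      rw [h2]
      congr 1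
      omega
  have hΓ : Nat.card {g : P // orderOf g = p ^ (m - 1)} + p ^ (m - 1) = p ^ m := by
    have e1 : {g : P // orderOf g = p ^ (m - 1)} ≃ {g : P // ¬ g ∈ φ.ker} :=
      Equiv.subtypeEquivRight hord
    have e2 : ({g : P // g ∈ φ.ker} ⊕ {g : P // ¬ g ∈ φ.ker}) ≃ P := Equiv.sumCompl _
    have h1 := Nat.card_congr e2
    rw [Nat.card_sum, ← Nat.card_congr e1, hP] at h1
    have h2 : Nat.card {g : P // g ∈ φ.ker} = p ^ (m - 1) := hker
    rw [h2] at h1
    rw [← h1, add_comm]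
  -- fibre counting
  have : Fintype P := Fintype.ofFinite P
  have : Fintype (Subgroup P) := Fintype.ofFinite _
  let Γf : Finset P := Finset.univ.filter (fun g => orderOf g = p ^ (m - 1))
  let 𝒜f : Finset (Subgroup P) :=
    Finset.univ.filter (fun M => IsCyclic M ∧ Nat.card M = p ^ (m - 1))
  have hΓf : Nat.card {g : P // orderOf g = p ^ (m - 1)} = Γf.card := by
    rw [Nat.card_eq_fintype_card, Fintype.card_subtype]
  have h𝒜f : Nat.card {M : Subgroup P // IsCyclic M ∧ Nat.card M = p ^ (m - 1)} = 𝒜f.card := by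
    rw [Nat.card_eq_fintype_card, Fintype.card_subtype]
  have hmaps : ∀ g ∈ Γf, Subgroup.zpowers g ∈ 𝒜f := by
    intro g hg
    have hgo : orderOf g = p ^ (m - 1) := (Finset.mem_filter.mp hg).2
    apply Finset.mem_filter.mpr
    refine ⟨Finset.mem_univ _, inferInstance, ?_⟩
    rw [Nat.card_zpowers, hgo]
  have hfib := Finset.card_eq_sum_card_fiberwise hmaps
  have hfibre : ∀ M ∈ 𝒜f, (Γf.filter (fun g => Subgroup.zpowers g = M)).card =
      p ^ (m - 2) * (p - 1) := by
    intro M hM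
    obtain ⟨_, hMc, hMcard⟩ := Finset.mem_filter.mp hM
    have : Fintype M := Fintype.ofFinite M
    have hd : p ^ (m - 1) ∣ Fintype.card M := by
      rw [← Nat.card_eq_fintype_card, hMcard]
    have htot := IsCyclic.card_orderOf_eq_totient (α := M) hd
    have h1 : (Finset.univ.filter (fun a : M => orderOf a = p ^ (m - 1))).image Subtype.val =
        Γf.filter (fun g => Subgroup.zpowers g = M) := by
      ext g
      simp only [Finset.mem_image, Finset.mem_filter, Finset.mem_univ, true_and, Γf]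
      constructor
      · rintro ⟨a, ha, rfl⟩
        have hao : orderOf (a : P) = p ^ (m - 1) := by rw [Subgroup.orderOf_coe, ha]
        refine ⟨hao, ?_⟩
        apply Subgroup.eq_of_le_of_card_ge ((Subgroup.zpowers_le).mpr a.2)
        rw [Nat.card_zpowers, hao, hMcard]
      · rintro ⟨hgo, hgM⟩
        have hgmem : g ∈ M := hgM ▸ Subgroup.mem_zpowers g
        exact ⟨⟨g, hgmem⟩, by rw [Subgroup.orderOf_mk, hgo], rfl⟩
    rw [← h1, Finset.card_image_of_injective _ Subtype.val_injective, htot]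
    have h2 : m - 1 = (m - 2) + 1 := by omega
    rw [h2, Nat.totient_prime_pow_succ hp.out]
  rw [Finset.sum_congr rfl hfibre, Finset.sum_const, smul_eq_mul] at hfib
  rw [h𝒜f]
  have h3 : Γf.card + p ^ (m - 1) = p ^ m := by rw [← hΓf]; exact hΓ
  rw [hfib, hpm, hpm1] at h3
  have hp1 : 1 ≤ p := hppos
  have h4 : 𝒜f.card * (p ^ (m - 2) * (p - 1)) = p * (p ^ (m - 2) * (p - 1)) := by
    have h5 : p ^ (m - 2) * p * p = p * (p ^ (m - 2) * (p - 1)) + p ^ (m - 2) * p := by
      have : p = (p - 1) + 1 := by omega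
      calc p ^ (m - 2) * p * p = p ^ (m - 2) * p * ((p - 1) + 1) := by rw [← this]
        _ = p * (p ^ (m - 2) * (p - 1)) + p ^ (m - 2) * p := by ring
    rw [h5] at h3
    exact Nat.add_right_cancel h3
  have h6 : 0 < p ^ (m - 2) * (p - 1) :=
    Nat.mul_pos (pow_pos hppos _) (by have := hp.out.two_le; omega)
  rw [Nat.eq_of_mul_eq_mul_right h6 h4]

end Cfsg.Agent.Lib.helper97
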