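import Mathlib

set_option autoImplicit false

/-!
# Linear algebra of eigenspaces: counting lemmas

Dimension bounds for families of eigenspaces inside a fixed subspace, and the decomposition of an
invariant subspace under an endomorphism of finite order `r` in the presence of a primitive
`r`-th root of unity.
-/

namespace Cfsg.Agent.Lib.helper97

open Module Polynomial

section EigLA
variable {K V : Type*} [Field K] [AddCommGroup V] [Module K V] [FiniteDimensional K V]

/-- Dimension of an intersection. -/
theorem finrank_inf_ge (A B : Submodule K V) :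
    finrank K A + finrank K B ≤ finrank K V + finrank K (A ⊓ B : Submodule K V) := by
  have h := Submodule.finrank_sup_add_finrank_inf_eq A B
  have h2 : finrank K (A ⊔ B : Submodule K V) ≤ finrank K V := Submodule.finrank_le _
  omega

/-- An injective (on `A`) linear map sending `A` into `B`. -/
theorem finrank_le_of_mapsTo (f : V →ₗ[K] V) (A B : Submodule K V)
    (hf : ∀ v ∈ A, f v ∈ B) (hinj : ∀ v ∈ A, f v = 0 → v = 0) :
    finrank K A ≤ finrank K B := by
  refine LinearMap.finrank_le_finrank_of_injective (f := f.restrict hf) ?_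
  rw [injective_iff_map_eq_zero]
  intro a ha
  have h1 : f (a : V) = 0 := by
    have := congrArg Subtype.val ha
    simpa using this
  exact Subtype.ext (hinj a a.2 h1)

theorem finrank_biSup_le {ι : Type*} (s : Finset ι) (A : ι → Submodule K V) :
    finrank K (⨆ i ∈ s, A i : Submodule K V) ≤ ∑ i ∈ s, finrank K (A i) := by
  classical
  induction s using Finset.induction_on with
  | empty => simp
  | insert a s ha ih =>
    rw [Finset.sum_insert ha, Finset.iSup_insert]
    exact le_trans (Submodule.finrank_add_le_finrank_add_finrank _ _) (Nat.add_le_add_left ih _)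

/-- Eigenspaces for distinct eigenvalues, cut down to a subspace, have total dimension at most
that of the subspace. -/
theorem sum_finrank_eigenspace_inf_le (f : End K V) (Vi : Submodule K V) (s : Finset K) :
    ∑ μ ∈ s, finrank K (f.eigenspace μ ⊓ Vi : Submodule K V) ≤ finrank K Vi := by
  classical
  have hind : iSupIndep (fun μ : K => (f.eigenspace μ ⊓ Vi : Submodule K V)) :=
    (Module.End.eigenspaces_iSupIndep f).mono (fun μ => inf_le_left)
  have key : finrank K (⨆ μ ∈ s, (f.eigenspace μ ⊓ Vi : Submodule K V) : Submodule K V) =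
      ∑ μ ∈ s, finrank K (f.eigenspace μ ⊓ Vi : Submodule K V) := by
    induction s using Finset.induction_on with
    | empty => simp
    | insert a s ha ih =>
      rw [Finset.sum_insert ha, Finset.iSup_insert, ← ih]
      have hd : Disjoint (f.eigenspace a ⊓ Vi : Submodule K V)
          (⨆ μ ∈ s, (f.eigenspace μ ⊓ Vi : Submodule K V)) :=
        hind.disjoint_biSup (y := (s : Set K)) (by simpa using ha)
      have h1 := Submodule.finrank_sup_add_finrank_inf_eq (f.eigenspace a ⊓ Vi : Submodule K V)
        (⨆ μ ∈ s, (f.eigenspace μ ⊓ Vi : Submodule K V))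
      rw [disjoint_iff.1 hd, finrank_bot, add_zero] at h1
      exact h1
  rw [← key]
  apply Submodule.finrank_mono
  exact iSup₂_le fun μ _ => inf_le_right

/-- Version with an indexing function whose fibres have at most `m` elements. -/
theorem sum_finrank_eigenspace_inf_le_mul {ι : Type*} (f : End K V) (Vi : Submodule K V)
    (J : Finset ι) (e : ι → K) (m : ℕ)
    (hm : ∀ μ : K, ∀ s : Finset ι, s ⊆ J → (∀ j ∈ s, e j = μ) → s.card ≤ m) :
    ∑ j ∈ J, finrank K (f.eigenspace (e j) ⊓ Vi : Submodule K V) ≤ m * finrank K Vi := by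
  classical
  rw [Finset.sum_comp (fun μ => finrank K (f.eigenspace μ ⊓ Vi : Submodule K V)) e]
  calc ∑ μ ∈ J.image e, (J.filter (fun j => e j = μ)).card •
        finrank K (f.eigenspace μ ⊓ Vi : Submodule K V)
      ≤ ∑ μ ∈ J.image e, m * finrank K (f.eigenspace μ ⊓ Vi : Submodule K V) := by
        apply Finset.sum_le_sum
        intro μ _
        rw [smul_eq_mul]
        exact Nat.mul_le_mul_right _ (hm μ _ (Finset.filter_subset _ _)
          (fun j hj => (Finset.mem_filter.mp hj).2))
    _ = m * ∑ μ ∈ J.image e, finrank K (f.eigenspace μ ⊓ Vi : Submodule K V) := by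
        rw [Finset.mul_sum]
    _ ≤ m * finrank K Vi := Nat.mul_le_mul_left _ (sum_finrank_eigenspace_inf_le f Vi _)

omit [FiniteDimensional K V] in
/-- Polynomials in `t` preserve `t`-invariant subspaces. -/
theorem aeval_mem_of_invariant (t : End K V) (W : Submodule K V) (hW : ∀ w ∈ W, t w ∈ W)
    (p : K[X]) : ∀ w ∈ W, aeval t p w ∈ W := by
  refine p.induction_on ?_ ?_ ?_
  · intro a w hw
    simpa [Module.algebraMap_end_apply] using W.smul_mem a hw
  · intro p q hp hq w hw
    simpa using W.add_mem (hp w hw) (hq w hw)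
  · intro n a ih w hw
    have h1 : aeval t (C a * X ^ (n + 1)) w = t (aeval t (C a * X ^ n) w) := by
      rw [pow_succ, ← mul_assoc, mul_comm, map_mul, aeval_X, Module.End.mul_apply]
    rw [h1]
    exact hW _ (ih w hw)

omit [FiniteDimensional K V] in
/-- If a product of distinct linear factors in `t` kills `w ∈ W` (`W` invariant), then `w` is a
sum of eigenvectors lying in `W`. -/
theorem mem_biSup_eigenspace_of_prod {ι : Type*} (t : End K V) (W : Submodule K V)
    (hW : ∀ w ∈ W, t w ∈ W) (e : ι → K) (s : Finset ι) :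
    (∀ i ∈ s, ∀ j ∈ s, e i = e j → i = j) →
    ∀ w ∈ W, aeval t (∏ i ∈ s, (X - C (e i))) w = 0 →
      w ∈ (⨆ i ∈ s, (W ⊓ t.eigenspace (e i) : Submodule K V) : Submodule K V) := by
  classical
  induction s using Finset.induction_on with
  | empty =>
    intro _ w _ h
    have : w = 0 := by simpa using h
    rw [this]
    exact Submodule.zero_mem _
  | insert a s ha ih =>
    intro hinj w hw h
    have hinj' : ∀ i ∈ s, ∀ j ∈ s, e i = e j → i = j := fun i hi j hj =>
      hinj i (Finset.mem_insert_of_mem hi) j (Finset.mem_insert_of_mem hj)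
    rw [Finset.prod_insert ha, map_mul, Module.End.mul_apply] at h
    obtain ⟨u, hu⟩ : ∃ u, u = aeval t (∏ i ∈ s, (X - C (e i))) w := ⟨_, rfl⟩
    rw [← hu] at h
    have huW : u ∈ W := by rw [hu]; exact aeval_mem_of_invariant t W hW _ w hw
    have hue : t u = e a • u := by
      have : t u - e a • u = 0 := by
        simpa [Module.algebraMap_end_apply] using h
      exact sub_eq_zero.mp this
    have hκ : (∏ i ∈ s, (X - C (e i))).eval (e a) ≠ 0 := by
      rw [eval_prod]
      apply Finset.prod_ne_zero_iff.mpr
      intro i hi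
      simp only [eval_sub, eval_X, eval_C]
      intro h0
      have : a = i := hinj a (Finset.mem_insert_self a s) i (Finset.mem_insert_of_mem hi)
        (sub_eq_zero.mp h0)
      exact ha (this ▸ hi)
    obtain ⟨κ, hκdef⟩ : ∃ κ, κ = (∏ i ∈ s, (X - C (e i))).eval (e a) := ⟨_, rfl⟩
    rw [← hκdef] at hκ
    have hQu : aeval t (∏ i ∈ s, (X - C (e i))) u = κ • u := by
      rw [hκdef]
      exact Module.End.aeval_apply_of_mem_apply_eq_smul hue
    have hw' : w - κ⁻¹ • u ∈ W := W.sub_mem hw (W.smul_mem _ huW)
    have hQw' : aeval t (∏ i ∈ s, (X - C (e i))) (w - κ⁻¹ • u) = 0 := by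
      rw [map_sub, map_smul, hQu, ← hu, smul_smul, inv_mul_cancel₀ hκ, one_smul, sub_self]
    have h1 := ih hinj' (w - κ⁻¹ • u) hw' hQw'
    have h2 : κ⁻¹ • u ∈ (W ⊓ t.eigenspace (e a) : Submodule K V) := by
      refine Submodule.smul_mem _ _ ⟨huW, ?_⟩
      exact Module.End.mem_eigenspace_iff.mpr hue
    rw [Finset.iSup_insert]
    have h3 : w = κ⁻¹ • u + (w - κ⁻¹ • u) := by abel
    rw [h3]
    exact Submodule.add_mem _ (Submodule.mem_sup_left h2) (Submodule.mem_sup_right h1)

/-- Decomposition of an invariant subspace under an endomorphism with `t ^ r = 1`. -/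
theorem finrank_le_sum_eigenspace_inf (t : End K V) (r : ℕ) (hr : 0 < r) (ht : t ^ r = 1)
    (ζ : K) (hζ : IsPrimitiveRoot ζ r) (W : Submodule K V) (hW : ∀ w ∈ W, t w ∈ W) :
    finrank K W ≤
      ∑ i ∈ Finset.range r, finrank K (W ⊓ t.eigenspace (ζ ^ i) : Submodule K V) := by
  classical
  have hinj : ∀ i ∈ Finset.range r, ∀ j ∈ Finset.range r, ζ ^ i = ζ ^ j → i = j :=
    fun i hi j hj h => hζ.pow_inj (Finset.mem_range.mp hi) (Finset.mem_range.mp hj) h
  have himg : nthRootsFinset r (1 : K) = (Finset.range r).image (fun i => ζ ^ i) := by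
    ext μ
    rw [mem_nthRootsFinset hr, Finset.mem_image]
    constructor
    · intro h
      have : NeZero r := ⟨hr.ne'⟩
      obtain ⟨i, hi, rfl⟩ := hζ.eq_pow_of_pow_eq_one h
      exact ⟨i, Finset.mem_range.mpr hi, rfl⟩
    · rintro ⟨i, -, rfl⟩
      rw [← pow_mul, mul_comm, pow_mul, hζ.pow_eq_one, one_pow]
  have hprod : (X ^ r - 1 : K[X]) = ∏ i ∈ Finset.range r, (X - C (ζ ^ i)) := by
    rw [X_pow_sub_one_eq_prod hr hζ, himg, Finset.prod_image]
    intro i hi j hj h
    exact hinj i hi j hj h
  have hann : aeval t (∏ i ∈ Finset.range r, (X - C (ζ ^ i))) = 0 := by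
    rw [← hprod]
    simp [ht]
  have hle : W ≤ (⨆ i ∈ Finset.range r, (W ⊓ t.eigenspace (ζ ^ i) : Submodule K V) :
      Submodule K V) := by
    intro w hw
    refine mem_biSup_eigenspace_of_prod t W hW (fun i => ζ ^ i) (Finset.range r) hinj w hw ?_
    rw [hann]
    rfl
  exact le_trans (Submodule.finrank_mono hle) (finrank_biSup_le _ _)

end EigLA

end Cfsg.Agent.Lib.helper97
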