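import Cfsg.Agent.Lib.helper97.EigLA

set_option autoImplicit false

/-!
# Eigenspaces of elements normalising an irreducible group with scalar commutators

Abstract setting: a group `Γ` acting linearly (via `T : Γ →* End K V`) with subgroups `R ≤ N ≥ Z`
where `Z` acts by scalars, commutators of `N` lie in `Z` and have order dividing a prime `r`, and
the centraliser of `R` is `Z`.  We bound eigenspaces of elements `g` normalising `N`.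
-/

namespace Cfsg.Agent.Lib.helper97

open Module
open scoped commutatorElement

section Comm
variable {Γ : Type*} [Group Γ]

/-- Commutators are multiplicative in the first variable when they are central. -/
theorem cm_mul_left (a b d : Γ) (hz : ∀ w : Γ, ⁅b, d⁆ * w = w * ⁅b, d⁆) :
    ⁅a * b, d⁆ = ⁅a, d⁆ * ⁅b, d⁆ := by
  have h1 : ⁅a * b, d⁆ = a * ⁅b, d⁆ * (d * a⁻¹ * d⁻¹) := by
    simp only [commutatorElement_def]; group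
  rw [h1, ← hz a, mul_assoc, hz]
  simp only [commutatorElement_def]; group

variable (Z N : Subgroup Γ)

theorem cm_mul_left' (hZc : ∀ s ∈ Z, ∀ a : Γ, s * a = a * s)
    (hcomm : ∀ a ∈ N, ∀ b ∈ N, ⁅a, b⁆ ∈ Z) (a b d : Γ) (hb : b ∈ N) (hd : d ∈ N) :
    ⁅a * b, d⁆ = ⁅a, d⁆ * ⁅b, d⁆ :=
  cm_mul_left a b d (hZc _ (hcomm b hb d hd))

theorem cm_mul_right' (hZc : ∀ s ∈ Z, ∀ a : Γ, s * a = a * s)
    (hcomm : ∀ a ∈ N, ∀ b ∈ N, ⁅a, b⁆ ∈ Z) (a b d : Γ) (ha : a ∈ N) (hd : d ∈ N) :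
    ⁅a, b * d⁆ = ⁅a, b⁆ * ⁅a, d⁆ := by
  have h1 : ⁅a, b * d⁆ = ⁅b * d, a⁆⁻¹ := (commutatorElement_inv _ _).symm
  rw [h1, cm_mul_left' Z N hZc hcomm b d a hd ha, mul_inv_rev, commutatorElement_inv,
    commutatorElement_inv]
  exact hZc _ (hcomm a ha d hd) _

theorem cm_inv_left' (hZc : ∀ s ∈ Z, ∀ a : Γ, s * a = a * s)
    (hcomm : ∀ a ∈ N, ∀ b ∈ N, ⁅a, b⁆ ∈ Z) (a d : Γ) (ha : a ∈ N) (hd : d ∈ N) :
    ⁅a⁻¹, d⁆ = ⁅a, d⁆⁻¹ := by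
  have h1 := cm_mul_left' Z N hZc hcomm a⁻¹ a d ha hd
  rw [inv_mul_cancel, commutatorElement_one_left] at h1
  exact eq_inv_of_mul_eq_one_left h1.symm

theorem cm_inv_right' (hZc : ∀ s ∈ Z, ∀ a : Γ, s * a = a * s)
    (hcomm : ∀ a ∈ N, ∀ b ∈ N, ⁅a, b⁆ ∈ Z) (a d : Γ) (ha : a ∈ N) (hd : d ∈ N) :
    ⁅a, d⁻¹⁆ = ⁅a, d⁆⁻¹ := by
  rw [← commutatorElement_inv d⁻¹ a, cm_inv_left' Z N hZc hcomm d a hd ha, inv_inv,
    commutatorElement_inv]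

theorem cm_conj' (hZc : ∀ s ∈ Z, ∀ a : Γ, s * a = a * s)
    (hcomm : ∀ a ∈ N, ∀ b ∈ N, ⁅a, b⁆ ∈ Z) (g a b : Γ) (ha : a ∈ N) (hb : b ∈ N) :
    ⁅g⁻¹ * a * g, g⁻¹ * b * g⁆ = ⁅a, b⁆ := by
  have h1 := conjugate_commutatorElement a b g⁻¹
  rw [inv_inv] at h1
  rw [← h1, mul_assoc, hZc _ (hcomm a ha b hb) g, inv_mul_cancel_left]

theorem conj_pow_mem (g : Γ) (hg : ∀ a ∈ N, g⁻¹ * a * g ∈ N) (a : Γ) (ha : a ∈ N) (j : ℕ) :
    g⁻¹ ^ j * a * g ^ j ∈ N := by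
  induction j with
  | zero => simpa using ha
  | succ j ih =>
    have h1 : g⁻¹ ^ (j + 1) * a * g ^ (j + 1) = g⁻¹ * (g⁻¹ ^ j * a * g ^ j) * g := by
      rw [pow_succ', pow_succ]; group
    rw [h1]
    exact hg _ ih

/-- The group-theoretic core of the semisimple case: if for every `x ∈ R` the elements
`g⁻ʲ x gʲ x⁻¹` commute with `g⁻¹ x g x⁻¹`, `g` has odd order prime to `r`, then `g` centralises
`R` modulo `Z`. -/
theorem central_of_commute (R : Subgroup Γ) (hZc : ∀ s ∈ Z, ∀ a : Γ, s * a = a * s)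
    (hRN : R ≤ N) (hcomm : ∀ a ∈ N, ∀ b ∈ N, ⁅a, b⁆ ∈ Z)
    (hirr : ∀ a : Γ, (∀ ρ ∈ R, a * ρ = ρ * a) → a ∈ Z) (r : ℕ)
    (hcpow : ∀ a ∈ N, ∀ b ∈ N, ⁅a, b⁆ ^ r = 1) (g : Γ)
    (hg : ∀ a ∈ N, g⁻¹ * a * g ∈ N) (hg' : ∀ a ∈ N, g * a * g⁻¹ ∈ N) (ϖ : ℕ)
    (hgϖ : g ^ ϖ = 1) (hcop : Nat.Coprime ϖ r) (hodd : Odd ϖ)
    (hC : ∀ x ∈ R, ∀ j : ℕ, Commute (g⁻¹ * x * g * x⁻¹) (g⁻¹ ^ j * x * g ^ j * x⁻¹)) :
    ∀ x ∈ R, g⁻¹ * x * g * x⁻¹ ∈ Z := by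
  have L1 := cm_mul_left' Z N hZc hcomm
  have L2 := cm_mul_right' Z N hZc hcomm
  have L3 := cm_inv_left' Z N hZc hcomm
  have L4 := cm_inv_right' Z N hZc hcomm
  have L5 := cm_conj' Z N hZc hcomm
  have hpowN := conj_pow_mem N g hg
  -- Step 1: `x` commutes with `g⁻¹ x g`.
  have step1 : ∀ x ∈ R, ⁅x, g⁻¹ * x * g⁆ = 1 := by
    intro x hxR
    have hx : x ∈ N := hRN hxR
    have hxi : x⁻¹ ∈ N := N.inv_mem hx
    have hx1 : g⁻¹ * x * g ∈ N := hg x hx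
    have hrec : ∀ j : ℕ, ⁅x, g⁻¹ ^ (j + 1) * x * g ^ (j + 1)⁆ =
        ⁅x, g⁻¹ ^ j * x * g ^ j⁆ * ⁅x, g⁻¹ * x * g⁆ := by
      intro j
      have hxj : g⁻¹ ^ j * x * g ^ j ∈ N := hpowN x hx j
      have hxj1 : g⁻¹ ^ (j + 1) * x * g ^ (j + 1) ∈ N := hpowN x hx (j + 1)
      have h0 := (commutatorElement_eq_one_iff_commute).mpr (hC x hxR (j + 1))
      rw [L1 _ _ _ hxi (N.mul_mem hxj1 hxi), L2 _ _ _ hx1 hxi, L2 _ _ _ hxi hxi,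
        commutatorElement_self, mul_one, L4 _ _ hx1 hx, commutatorElement_inv,
        L3 _ _ hx hxj1] at h0
      have h1 : g⁻¹ ^ (j + 1) * x * g ^ (j + 1) = g⁻¹ * (g⁻¹ ^ j * x * g ^ j) * g := by
        rw [pow_succ', pow_succ]; group
      have h2 : ⁅g⁻¹ * x * g, g⁻¹ ^ (j + 1) * x * g ^ (j + 1)⁆ = ⁅x, g⁻¹ ^ j * x * g ^ j⁆ := by
        rw [h1]; exact L5 g x _ hx hxj
      rw [h2] at h0
      exact (eq_of_mul_inv_eq_one h0).symm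
    have hpow : ∀ j : ℕ, ⁅x, g⁻¹ ^ j * x * g ^ j⁆ = ⁅x, g⁻¹ * x * g⁆ ^ j := by
      intro j
      induction j with
      | zero => simp
      | succ j ih => rw [hrec, ih, pow_succ]
    have hϖ : ⁅x, g⁻¹ * x * g⁆ ^ ϖ = 1 := by
      rw [← hpow, inv_pow, hgϖ]; simp
    have hr : ⁅x, g⁻¹ * x * g⁆ ^ r = 1 := hcpow x hx _ hx1
    have h3 := pow_gcd_eq_one.mpr ⟨hϖ, hr⟩
    rwa [Nat.Coprime.gcd_eq_one hcop, pow_one] at h3
  -- Step 2: polarisation.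
  have step2 : ∀ x ∈ R, ∀ y ∈ R, ⁅x, g⁻¹ * y * g⁆ * ⁅y, g⁻¹ * x * g⁆ = 1 := by
    intro x hxR y hyR
    have hx : x ∈ N := hRN hxR
    have hy : y ∈ N := hRN hyR
    have hx1 : g⁻¹ * x * g ∈ N := hg x hx
    have hy1 : g⁻¹ * y * g ∈ N := hg y hy
    have h0 := step1 (x * y) (R.mul_mem hxR hyR)
    have h1 : g⁻¹ * (x * y) * g = (g⁻¹ * x * g) * (g⁻¹ * y * g) := by group
    rw [h1, L1 _ _ _ hy (N.mul_mem hx1 hy1), L2 _ _ _ hx hy1, L2 _ _ _ hy hy1,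
      step1 x hxR, step1 y hyR, one_mul, mul_one] at h0
    exact h0
  -- Step 3: `g⁻¹ y g (g y g⁻¹)⁻¹` is central.
  have step3 : ∀ y ∈ R, g⁻¹ * y * g * (g * y * g⁻¹)⁻¹ ∈ Z := by
    intro y hyR
    have hy : y ∈ N := hRN hyR
    have hy1 : g⁻¹ * y * g ∈ N := hg y hy
    have hy2 : g * y * g⁻¹ ∈ N := hg' y hy
    apply hirr
    intro x hxR
    have hx : x ∈ N := hRN hxR
    have h0 := step2 x hxR y hyR
    have h1 : ⁅g⁻¹ * x * g, y⁆ = ⁅x, g * y * g⁻¹⁆ := by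
      have := L5 g x (g * y * g⁻¹) hx hy2
      rw [← this]
      congr 1
      group
    have h2 : ⁅x, g⁻¹ * y * g * (g * y * g⁻¹)⁻¹⁆ = 1 := by
      rw [L2 _ _ _ hx (N.inv_mem hy2), L4 _ _ hx hy2, ← h1, commutatorElement_inv]
      exact h0
    exact ((commutatorElement_eq_one_iff_commute).mp h2).eq.symm
  -- Step 4: `g⁻² y g² y⁻¹` is central.
  have step4 : ∀ y ∈ R, (g * g)⁻¹ * y * (g * g) * y⁻¹ ∈ Z := by
    intro y hyR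
    have h0 := step3 y hyR
    have h1 : (g * g)⁻¹ * y * (g * g) * y⁻¹ = g⁻¹ * (g⁻¹ * y * g * (g * y * g⁻¹)⁻¹) * g := by
      group
    rw [h1, mul_assoc, hZc _ h0 g, inv_mul_cancel_left]
    exact h0
  -- Step 5: iterate.
  have step5 : ∀ k : ℕ, ∀ y ∈ R, (g * g)⁻¹ ^ k * y * (g * g) ^ k * y⁻¹ ∈ Z := by
    intro k
    induction k with
    | zero => intro y _; simp
    | succ k ih =>
      intro y hyR
      have hz := ih y hyR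
      have h1 : (g * g)⁻¹ ^ (k + 1) * y * (g * g) ^ (k + 1) * y⁻¹ =
          (g * g)⁻¹ * ((g * g)⁻¹ ^ k * y * (g * g) ^ k * y⁻¹) * y * (g * g) * y⁻¹ := by
        rw [pow_succ', pow_succ]; group
      rw [h1]
      obtain ⟨z, hzdef⟩ : ∃ z, z = (g * g)⁻¹ ^ k * y * (g * g) ^ k * y⁻¹ := ⟨_, rfl⟩
      rw [← hzdef] at hz ⊢
      have h2 : (g * g)⁻¹ * z * y * (g * g) * y⁻¹ = z * ((g * g)⁻¹ * y * (g * g) * y⁻¹) := by
        rw [← hZc z hz ((g * g)⁻¹)]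
        simp only [mul_assoc]
      rw [h2]
      exact Z.mul_mem hz (step4 y hyR)
  intro y hyR
  obtain ⟨k, hk⟩ := hodd
  have h1 := step5 (k + 1) y hyR
  have h2 : (g * g) ^ (k + 1) = g := by
    rw [← pow_two, ← pow_mul]
    have : 2 * (k + 1) = ϖ + 1 := by omega
    rw [this, pow_succ, hgϖ, one_mul]
  have h3 : (g * g)⁻¹ ^ (k + 1) = g⁻¹ := by
    rw [inv_pow, h2]
  rwa [h2, h3] at h1

end Comm

end Cfsg.Agent.Lib.helper97
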