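import Cfsg.Agent.Lib.helper97.ExtraNorm

set_option autoImplicit false

/-!
# Eigenspace bounds: generic bound and the semisimple case
-/

namespace Cfsg.Agent.Lib.helper97

open Module
open scoped commutatorElement

section ExtraNorm2
variable {Γ K V : Type*} [Group Γ] [Field K] [AddCommGroup V] [Module K V]

/-- Abstract data: `Z` acts by scalars, commutators of `N` lie in `Z` and have order dividing `r`,
and the centraliser of `R ≤ N` is `Z`. -/
structure ENData (T : Γ →* Module.End K V) (R Z N : Subgroup Γ) (r : ℕ) : Prop where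
  inj : Function.Injective T
  scal : ∀ s ∈ Z, ∃ c : K, T s = c • (1 : Module.End K V)
  RN : R ≤ N
  ZN : Z ≤ N
  comm : ∀ a ∈ N, ∀ b ∈ N, ⁅a, b⁆ ∈ Z
  irr : ∀ a : Γ, (∀ ρ ∈ R, a * ρ = ρ * a) → a ∈ Z
  cpow : ∀ a ∈ N, ∀ b ∈ N, ⁅a, b⁆ ^ r = 1

variable {T : Γ →* Module.End K V} {R Z N : Subgroup Γ} {r : ℕ}

theorem T_mul_apply (T : Γ →* Module.End K V) (a b : Γ) (v : V) : T (a * b) v = T a (T b v) := by
  rw [map_mul, Module.End.mul_apply]

theorem T_inv_apply (T : Γ →* Module.End K V) (a : Γ) (v : V) : T a⁻¹ (T a v) = v := by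
  rw [← T_mul_apply, inv_mul_cancel, map_one, Module.End.one_apply]

theorem T_apply_inv (T : Γ →* Module.End K V) (a : Γ) (v : V) : T a (T a⁻¹ v) = v := by
  rw [← T_mul_apply, mul_inv_cancel, map_one, Module.End.one_apply]

theorem T_eq_zero (T : Γ →* Module.End K V) (a : Γ) (v : V) (h : T a v = 0) : v = 0 := by
  have := T_inv_apply T a v
  rw [h, map_zero] at this
  exact this.symm

theorem T_pow_apply (T : Γ →* Module.End K V) (a : Γ) (c : K) (v : V) (h : T a v = c • v)
    (j : ℕ) : T (a ^ j) v = c ^ j • v := by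
  induction j with
  | zero => simp
  | succ j ih => rw [pow_succ, T_mul_apply, h, map_smul, ih, smul_smul, pow_succ, mul_comm]

theorem ENData.central (D : ENData T R Z N r) : ∀ s ∈ Z, ∀ a : Γ, s * a = a * s := by
  intro s hs a
  obtain ⟨c, hc⟩ := D.scal s hs
  apply D.inj
  rw [map_mul, map_mul, hc, smul_mul_assoc, one_mul, mul_smul_comm, mul_one]

theorem ENData.eq_one_of_fix (D : ENData T R Z N r) (s : Γ) (hs : s ∈ Z) (v : V) (hv : v ≠ 0)
    (h : T s v = v) : s = 1 := by
  obtain ⟨c, hc⟩ := D.scal s hs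
  rw [hc] at h
  have h1 : (c - 1) • v = 0 := by
    rw [sub_smul, one_smul]
    simpa using sub_eq_zero.mpr h
  have h2 : c = 1 := by
    rcases smul_eq_zero.mp h1 with h3 | h3
    · exact sub_eq_zero.mp h3
    · exact absurd h3 hv
  apply D.inj
  rw [hc, h2, one_smul, map_one]

/-- A nontrivial element of `Z` of order `r` acts as a primitive `r`-th root of unity. -/
theorem ENData.exists_root (D : ENData T R Z N r) (hr : r.Prime) (s : Γ) (hs : s ∈ Z)
    (hs1 : s ≠ 1) (hsr : s ^ r = 1) (v : V) (hv : v ≠ 0) :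
    ∃ ξ : K, T s = ξ • (1 : Module.End K V) ∧ IsPrimitiveRoot ξ r := by
  obtain ⟨ξ, hξ⟩ := D.scal s hs
  refine ⟨ξ, hξ, ?_⟩
  have h1 : ξ ^ r = 1 := by
    have h2 : T (s ^ r) v = ξ ^ r • v := by
      apply T_pow_apply
      rw [hξ]; simp
    rw [hsr, map_one, Module.End.one_apply] at h2
    have h3 : (ξ ^ r - 1) • v = 0 := by
      rw [sub_smul, one_smul, ← h2, sub_self]
    rcases smul_eq_zero.mp h3 with h4 | h4
    · exact sub_eq_zero.mp h4
    · exact absurd h4 hv
  have h2 : ξ ≠ 1 := by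
    intro h
    apply hs1
    apply D.inj
    rw [hξ, h, one_smul, map_one]
  have : Fact r.Prime := ⟨hr⟩
  have h3 : orderOf ξ = r := orderOf_eq_prime h1 h2
  exact IsPrimitiveRoot.iff_orderOf.mpr h3

/-- An element `h⁻¹ x h x⁻¹` fixes the vectors `v = x w` with `v, w` in a common eigenspace of
`h`. -/
theorem fix_of_translate (T : Γ →* Module.End K V) (h x : Γ) (c : K) (v w : V)
    (hv : T h v = c • v) (hw : T h w = c • w) (hvw : T x w = v) :
    T (h⁻¹ * x * h * x⁻¹) v = v := by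
  rw [T_mul_apply, T_mul_apply, T_mul_apply, ← hvw, T_inv_apply, hw, map_smul, hvw, ← hv,
    T_inv_apply]

theorem fix_of_mem_translate (T : Γ →* Module.End K V) (g x : Γ) (c : K) (j : ℕ) (u : V)
    (hu : u ∈ (Module.End.eigenspace (T g) c ⊓ (Module.End.eigenspace (T g) c).map (T x) :
      Submodule K V)) :
    T (g⁻¹ ^ j * x * g ^ j * x⁻¹) u = u := by
  obtain ⟨hu1, hu2⟩ := hu
  obtain ⟨w, hw, hwu⟩ := Submodule.mem_map.mp hu2
  have hw' : T g w = c • w := Module.End.mem_eigenspace_iff.mp hw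
  have hu1' : T g u = c • u := Module.End.mem_eigenspace_iff.mp hu1
  rw [inv_pow]
  exact fix_of_translate T (g ^ j) x (c ^ j) u w (T_pow_apply T g c u hu1' j)
    (T_pow_apply T g c w hw' j) hwu

variable [FiniteDimensional K V]

/-- Eigenspaces of a non-scalar element of `N` have dimension at most `dim V / r`. -/
theorem ENData.finrank_eig_le (D : ENData T R Z N r) (hr : r.Prime) (y : Γ) (hy : y ∈ N)
    (hyZ : y ∉ Z) (μ : K) :
    r * finrank K (Module.End.eigenspace (T y) μ) ≤ finrank K V := by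
  by_cases hV : finrank K V = 0
  · have := Submodule.finrank_le (Module.End.eigenspace (T y) μ)
    rw [hV] at this
    rw [Nat.le_zero.mp this]; simp
  obtain ⟨v0, hv0⟩ := Module.finrank_pos_iff_exists_ne_zero.mp (Nat.pos_of_ne_zero hV)
  have hex : ∃ ρ ∈ R, y * ρ ≠ ρ * y := by
    by_contra h
    push Not at h
    exact hyZ (D.irr y h)
  obtain ⟨ρ, hρ, hne⟩ := hex
  have hsZ : ⁅y, ρ⁆ ∈ Z := D.comm y hy ρ (D.RN hρ)
  have hs1 : ⁅y, ρ⁆ ≠ 1 := by
    intro h
    exact hne ((commutatorElement_eq_one_iff_commute).mp h).eq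
  obtain ⟨ξ, hξ, hprim⟩ := D.exists_root hr _ hsZ hs1 (D.cpow y hy ρ (D.RN hρ)) v0 hv0
  have hrel : y * ρ = ⁅y, ρ⁆ * (ρ * y) := by
    rw [commutatorElement_def]; group
  have hstep : ∀ (μ : K) (v : V), v ∈ Module.End.eigenspace (T y) μ →
      T ρ v ∈ Module.End.eigenspace (T y) (ξ * μ) := by
    intro μ v hv
    rw [Module.End.mem_eigenspace_iff] at hv ⊢
    rw [← T_mul_apply, hrel, T_mul_apply, T_mul_apply, hv, hξ]
    simp [smul_smul, mul_comm]
  have hiter : ∀ (k : ℕ) (μ : K), finrank K (Module.End.eigenspace (T y) μ) ≤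
      finrank K (Module.End.eigenspace (T y) (ξ ^ k * μ)) := by
    intro k
    induction k with
    | zero =>
      intro μ
      have h0 : ξ ^ 0 * μ = μ := by simp
      rw [h0]
    | succ k ih =>
      intro μ
      refine le_trans (ih μ) ?_
      have : ξ ^ (k + 1) * μ = ξ * (ξ ^ k * μ) := by ring
      rw [this]
      exact finrank_le_of_mapsTo (T ρ) _ _ (hstep _) (fun v _ h => T_eq_zero T ρ v h)
  by_cases hμ : μ = 0
  · have : Module.End.eigenspace (T y) μ = ⊥ := by
      rw [eq_bot_iff]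
      intro v hv
      rw [Module.End.mem_eigenspace_iff, hμ, zero_smul] at hv
      exact (Submodule.mem_bot K).mpr (T_eq_zero T y v hv)
    rw [this]; simp
  have hsum := sum_finrank_eigenspace_inf_le_mul (T y) (⊤ : Submodule K V) (Finset.range r)
    (fun k => ξ ^ k * μ) 1 (by
      intro μ' s hs hs'
      rw [Finset.card_le_one]
      intro a ha b hb
      have h1 : ξ ^ a * μ = ξ ^ b * μ := by rw [hs' a ha, hs' b hb]
      exact hprim.pow_inj (Finset.mem_range.mp (hs ha)) (Finset.mem_range.mp (hs hb))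
        (mul_right_cancel₀ hμ h1))
  rw [one_mul, finrank_top] at hsum
  calc r * finrank K (Module.End.eigenspace (T y) μ)
      = ∑ _k ∈ Finset.range r, finrank K (Module.End.eigenspace (T y) μ) := by
        rw [Finset.sum_const, Finset.card_range, smul_eq_mul]
    _ ≤ ∑ k ∈ Finset.range r,
          finrank K (Module.End.eigenspace (T y) (ξ ^ k * μ) ⊓ ⊤ : Submodule K V) := by
        apply Finset.sum_le_sum
        intro k _
        rw [inf_top_eq]
        exact hiter k μ
    _ ≤ finrank K V := hsum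

/-- Two translates of a subspace of dimension `d` meet in dimension at least `2d - n`. -/
theorem finrank_translate_inf (T : Γ →* Module.End K V) (x : Γ) (W : Submodule K V) :
    2 * finrank K W ≤ finrank K V + finrank K (W ⊓ W.map (T x) : Submodule K V) := by
  have h1 : finrank K W ≤ finrank K (W.map (T x)) :=
    finrank_le_of_mapsTo (T x) W (W.map (T x)) (fun v hv => Submodule.mem_map_of_mem hv)
      (fun v _ h => T_eq_zero T x v h)
  have h2 := finrank_inf_ge W (W.map (T x))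
  omega

/-- The generic bound coming from one translate. -/
theorem ENData.gen_bound (D : ENData T R Z N r) (hr : r.Prime) (g : Γ) (c : K) (x : Γ)
    (hy : g⁻¹ * x * g * x⁻¹ ∈ N) :
    (g⁻¹ * x * g * x⁻¹ ∉ Z → 2 * r * finrank K (Module.End.eigenspace (T g) c) ≤
        (r + 1) * finrank K V) ∧
    (g⁻¹ * x * g * x⁻¹ ∈ Z → g⁻¹ * x * g * x⁻¹ ≠ 1 →
        2 * finrank K (Module.End.eigenspace (T g) c) ≤ finrank K V) := by
  have hfix : ∀ u ∈ (Module.End.eigenspace (T g) c ⊓ (Module.End.eigenspace (T g) c).map (T x) :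
      Submodule K V), T (g⁻¹ * x * g * x⁻¹) u = u := by
    intro u hu
    have := fix_of_mem_translate T g x c 1 u hu
    simpa using this
  have hdim := finrank_translate_inf T x (Module.End.eigenspace (T g) c)
  constructor
  · intro hyZ
    have h1 := D.finrank_eig_le hr _ hy hyZ 1
    have h2 : finrank K (Module.End.eigenspace (T g) c ⊓
        (Module.End.eigenspace (T g) c).map (T x) : Submodule K V) ≤
        finrank K (Module.End.eigenspace (T (g⁻¹ * x * g * x⁻¹)) 1) := by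
      apply Submodule.finrank_mono
      intro u hu
      rw [Module.End.mem_eigenspace_iff, one_smul]
      exact hfix u hu
    have h3 := Nat.mul_le_mul_left r h2
    have h4 := Nat.mul_le_mul_left r hdim
    nlinarith
  · intro hyZ hy1
    have h2 : (Module.End.eigenspace (T g) c ⊓
        (Module.End.eigenspace (T g) c).map (T x) : Submodule K V) = ⊥ := by
      rw [eq_bot_iff]
      intro u hu
      by_contra hu0
      exact hy1 (D.eq_one_of_fix _ hyZ u (fun h => hu0 ((Submodule.mem_bot K).mpr h)) (hfix u hu))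
    rw [h2, finrank_bot] at hdim
    omega

/-- Case A: `g` centralises `R` modulo `Z` (and is not in `Z`). -/
theorem ENData.caseA (D : ENData T R Z N r) (hr : r.Prime) (g : Γ) (hgZ : g ∉ Z)
    (hA : ∀ x ∈ R, g⁻¹ * x * g * x⁻¹ ∈ Z) (c : K) :
    2 * finrank K (Module.End.eigenspace (T g) c) ≤ finrank K V := by
  have hex : ∃ x ∈ R, g⁻¹ * x * g * x⁻¹ ≠ 1 := by
    by_contra h
    push Not at h
    apply hgZ
    apply D.irr
    intro ρ hρ
    have h1 := h ρ hρ
    have h2 : g⁻¹ * ρ * g = ρ := by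
      rw [mul_inv_eq_one] at h1; exact h1
    calc g * ρ = g * (g⁻¹ * ρ * g) := by rw [h2]
      _ = ρ * g := by group
  obtain ⟨x, hx, hx1⟩ := hex
  exact (D.gen_bound hr g c x (D.ZN (hA x hx))).2 (hA x hx) hx1

/-- The generic bound `2 r d ≤ (r + 1) n`. -/
theorem ENData.bound_all (D : ENData T R Z N r) (hr : r.Prime) (g : Γ)
    (hg : ∀ a ∈ N, g⁻¹ * a * g ∈ N) (hgZ : g ∉ Z) (c : K) :
    2 * r * finrank K (Module.End.eigenspace (T g) c) ≤ (r + 1) * finrank K V := by
  by_cases hA : ∀ x ∈ R, g⁻¹ * x * g * x⁻¹ ∈ Z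
  · have := D.caseA hr g hgZ hA c
    nlinarith
  · push Not at hA
    obtain ⟨x, hx, hxZ⟩ := hA
    have hxN : g⁻¹ * x * g * x⁻¹ ∈ N := N.mul_mem (hg x (D.RN hx)) (N.inv_mem (D.RN hx))
    exact (D.gen_bound hr g c x hxN).1 hxZ

/-- The semisimple case: `g` of odd order prime to `r`. -/
theorem ENData.semisimple_bound (D : ENData T R Z N r) (hr : r.Prime) (g : Γ)
    (hg : ∀ a ∈ N, g⁻¹ * a * g ∈ N) (hg' : ∀ a ∈ N, g * a * g⁻¹ ∈ N) (hgZ : g ∉ Z) (ϖ : ℕ)
    (hgϖ : g ^ ϖ = 1) (hcop : Nat.Coprime ϖ r) (hodd : Odd ϖ) (c : K) :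
    2 * finrank K (Module.End.eigenspace (T g) c) ≤ finrank K V := by
  by_contra hlt
  push Not at hlt
  have hC : ∀ x ∈ R, ∀ j : ℕ, Commute (g⁻¹ * x * g * x⁻¹) (g⁻¹ ^ j * x * g ^ j * x⁻¹) := by
    intro x hx j
    have hxN : x ∈ N := D.RN hx
    have haN : g⁻¹ * x * g * x⁻¹ ∈ N := N.mul_mem (hg x hxN) (N.inv_mem hxN)
    have hbN : g⁻¹ ^ j * x * g ^ j * x⁻¹ ∈ N :=
      N.mul_mem (conj_pow_mem N g hg x hxN j) (N.inv_mem hxN)
    have hdim := finrank_translate_inf T x (Module.End.eigenspace (T g) c)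
    have hpos : 0 < finrank K (Module.End.eigenspace (T g) c ⊓
        (Module.End.eigenspace (T g) c).map (T x) : Submodule K V) := by omega
    obtain ⟨⟨u, huU⟩, hu0⟩ := Module.finrank_pos_iff_exists_ne_zero.mp hpos
    have hu0' : u ≠ 0 := fun h => hu0 (Subtype.ext h)
    have ha : T (g⁻¹ * x * g * x⁻¹) u = u := by
      have := fix_of_mem_translate T g x c 1 u huU
      simpa using this
    have hb : T (g⁻¹ ^ j * x * g ^ j * x⁻¹) u = u := fix_of_mem_translate T g x c j u huU
    have hai : T (g⁻¹ * x * g * x⁻¹)⁻¹ u = u := by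
      have := T_inv_apply T (g⁻¹ * x * g * x⁻¹) u
      rwa [ha] at this
    have hbi : T (g⁻¹ ^ j * x * g ^ j * x⁻¹)⁻¹ u = u := by
      have := T_inv_apply T (g⁻¹ ^ j * x * g ^ j * x⁻¹) u
      rwa [hb] at this
    have hcm : T ⁅g⁻¹ * x * g * x⁻¹, g⁻¹ ^ j * x * g ^ j * x⁻¹⁆ u = u := by
      rw [commutatorElement_def, T_mul_apply, T_mul_apply, T_mul_apply, hbi, hai, hb, ha]
    have h1 := D.eq_one_of_fix _ (D.comm _ haN _ hbN) u hu0' hcm
    exact (commutatorElement_eq_one_iff_commute).mp h1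
  have hA := central_of_commute Z N R D.central D.RN D.comm D.irr r D.cpow g hg hg' ϖ hgϖ hcop
    hodd hC
  have := D.caseA hr g hgZ hA c
  omega

end ExtraNorm2

end Cfsg.Agent.Lib.helper97
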