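import Cfsg.Agent.Lib.helper97.ExtraNorm2

set_option autoImplicit false

/-!
# Eigenspace bounds: the unipotent case (`g` of order `r ≥ 5`), linear algebra part
-/

namespace Cfsg.Agent.Lib.helper97

open Module
open scoped commutatorElement

/-- Triangular numbers. -/
def tri (j : ℕ) : ℕ := ∑ k ∈ Finset.range j, k

theorem tri_succ (j : ℕ) : tri (j + 1) = tri j + j := by
  unfold tri; rw [Finset.sum_range_succ]

theorem tri_two_mul (j : ℕ) : 2 * tri j + j = j * j := by
  induction j with
  | zero => simp [tri]
  | succ j ih => rw [tri_succ]; nlinarith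

section Shift
variable {K V : Type*} [Field K] [AddCommGroup V] [Module K V]

theorem eig_shift_step (G Tt X : Module.End K V) (β : K) (hGX : G * X = X * G * Tt)
    (hTX : Tt * X = β • (X * Tt)) (e μ : K) (v : V)
    (hv : v ∈ (Module.End.eigenspace G e ⊓ Module.End.eigenspace Tt μ : Submodule K V)) :
    X v ∈ (Module.End.eigenspace G (e * μ) ⊓ Module.End.eigenspace Tt (β * μ) :
      Submodule K V) := by
  obtain ⟨h1, h2⟩ := hv
  have h1' : G v = e • v := Module.End.mem_eigenspace_iff.mp h1
  have h2' : Tt v = μ • v := Module.End.mem_eigenspace_iff.mp h2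
  refine ⟨Module.End.mem_eigenspace_iff.mpr ?_, Module.End.mem_eigenspace_iff.mpr ?_⟩
  · have : G (X v) = (X * G * Tt) v := by rw [← hGX]; rfl
    rw [this, Module.End.mul_apply, Module.End.mul_apply, h2', map_smul, h1', map_smul, map_smul,
      smul_smul, mul_comm]
  · have : Tt (X v) = (β • (X * Tt)) v := by rw [← hTX]; rfl
    rw [this, LinearMap.smul_apply, Module.End.mul_apply, h2', map_smul, smul_smul]

theorem eig_shift_iter (G Tt X : Module.End K V) (β : K) (hGX : G * X = X * G * Tt)
    (hTX : Tt * X = β • (X * Tt)) (c μ : K) (j : ℕ) (v : V)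
    (hv : v ∈ (Module.End.eigenspace G c ⊓ Module.End.eigenspace Tt μ : Submodule K V)) :
    (X ^ j) v ∈ (Module.End.eigenspace G (c * μ ^ j * β ^ tri j) ⊓
      Module.End.eigenspace Tt (β ^ j * μ) : Submodule K V) := by
  induction j with
  | zero => simpa [tri] using hv
  | succ j ih =>
    have h1 := eig_shift_step G Tt X β hGX hTX _ _ _ ih
    have h2 : (X ^ (j + 1)) v = X ((X ^ j) v) := by rw [pow_succ']; rfl
    have h3 : c * μ ^ j * β ^ tri j * (β ^ j * μ) = c * μ ^ (j + 1) * β ^ tri (j + 1) := by
      rw [tri_succ, pow_add, pow_succ]; ring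
    have h4 : β * (β ^ j * μ) = β ^ (j + 1) * μ := by rw [pow_succ]; ring
    rw [h2, ← h3, ← h4]
    exact h1

variable [FiniteDimensional K V]

theorem eig_shift_finrank (G Tt X : Module.End K V) (β : K) (hGX : G * X = X * G * Tt)
    (hTX : Tt * X = β • (X * Tt)) (hX : ∀ v, X v = 0 → v = 0) (c μ : K) (j : ℕ) :
    finrank K (Module.End.eigenspace G c ⊓ Module.End.eigenspace Tt μ : Submodule K V) ≤
      finrank K (Module.End.eigenspace G (c * μ ^ j * β ^ tri j) ⊓
        Module.End.eigenspace Tt (β ^ j * μ) : Submodule K V) := by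
  refine finrank_le_of_mapsTo (X ^ j) _ _ (fun v hv => eig_shift_iter G Tt X β hGX hTX c μ j v hv)
    ?_
  intro v _ hv
  have hinj : Function.Injective X := (injective_iff_map_eq_zero X).mpr hX
  have h1 : (X ^ j) v = X^[j] v := Module.End.pow_apply X j v
  have h2 : (X ^ j) (0 : V) = X^[j] 0 := Module.End.pow_apply X j 0
  apply hinj.iterate j
  rw [← h1, ← h2, hv, map_zero]

end Shift

section Count
variable {K V : Type*} [Field K] [AddCommGroup V] [Module K V] [FiniteDimensional K V]

theorem tri_cast_zmod (r : ℕ) [Fact r.Prime] (i : ℕ) :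
    (2 : ZMod r) * ((i * ((r - 1) * i) + tri ((r - 1) * i) : ℕ) : ZMod r) =
      (i : ZMod r) - i * i := by
  have h1 : ((r - 1 : ℕ) : ZMod r) = -1 := by
    rw [Nat.cast_sub (Fact.out : r.Prime).one_le]; simp
  have h2 : (2 : ZMod r) * (tri ((r - 1) * i) : ZMod r) + (((r - 1) * i : ℕ) : ZMod r) =
      (((r - 1) * i : ℕ) : ZMod r) * (((r - 1) * i : ℕ) : ZMod r) := by
    exact_mod_cast congrArg (Nat.cast : ℕ → ZMod r) (tri_two_mul ((r - 1) * i))
  rw [Nat.cast_mul, h1] at h2
  rw [Nat.cast_add, Nat.cast_mul, Nat.cast_mul, h1]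
  linear_combination h2

theorem natCast_zmod_inj (r : ℕ) (x y : ℕ) (hx : x < r) (hy : y < r)
    (h : (x : ZMod r) = (y : ZMod r)) : x = y := by
  have := (ZMod.natCast_eq_natCast_iff' x y r).mp h
  rwa [Nat.mod_eq_of_lt hx, Nat.mod_eq_of_lt hy] at this

/-- The counting argument for the unipotent case. -/
theorem count_bound (G Tt : Module.End K V) (r : ℕ) (hr : r.Prime) (h5 : 5 ≤ r)
    (hTr : Tt ^ r = 1) (c : K) (hc : c ≠ 0)
    (hinv : ∀ w ∈ Module.End.eigenspace G c, Tt w ∈ Module.End.eigenspace G c)
    (ζ : K) (hζ : IsPrimitiveRoot ζ r) (β : K) (hβ : β ^ r = 1)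
    (hstar : ∀ (j : ℕ) (μ : K),
      finrank K (Module.End.eigenspace G c ⊓ Module.End.eigenspace Tt μ : Submodule K V) ≤
      finrank K (Module.End.eigenspace G (c * μ ^ j * β ^ tri j) ⊓
        Module.End.eigenspace Tt (β ^ j * μ) : Submodule K V))
    (hF2 : ∀ μ : K, r * finrank K (Module.End.eigenspace Tt μ) ≤ finrank K V) :
    2 * finrank K (Module.End.eigenspace G c) ≤ finrank K V := by
  by_contra hlt
  push Not at hlt
  have hfact : Fact r.Prime := ⟨hr⟩
  by_cases hβ1 : β = 1
  · have hdec := finrank_le_sum_eigenspace_inf Tt r hr.pos hTr ζ hζ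
      (Module.End.eigenspace G c) hinv
    have hi : ∀ i ∈ Finset.range r, i ≠ 0 →
        r * finrank K (Module.End.eigenspace G c ⊓ Module.End.eigenspace Tt (ζ ^ i) :
          Submodule K V) ≤ finrank K (Module.End.eigenspace Tt (ζ ^ i)) := by
      intro i hi hi0
      have hprim : IsPrimitiveRoot (ζ ^ i) r :=
        hζ.pow_of_coprime i ((Nat.Prime.coprime_iff_not_dvd hr).mpr
          (Nat.not_dvd_of_pos_of_lt (Nat.pos_of_ne_zero hi0) (Finset.mem_range.mp hi))).symm
      have hsum := sum_finrank_eigenspace_inf_le_mul G (Module.End.eigenspace Tt (ζ ^ i))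
        (Finset.range r) (fun j => c * (ζ ^ i) ^ j) 1 (by
          intro μ' s hs hs'
          rw [Finset.card_le_one]
          intro a ha b hb
          have h1 : c * (ζ ^ i) ^ a = c * (ζ ^ i) ^ b := by rw [hs' a ha, hs' b hb]
          exact hprim.pow_inj (Finset.mem_range.mp (hs ha)) (Finset.mem_range.mp (hs hb))
            (mul_left_cancel₀ hc h1))
      calc r * finrank K (Module.End.eigenspace G c ⊓ Module.End.eigenspace Tt (ζ ^ i) :
            Submodule K V)
          = ∑ _j ∈ Finset.range r, finrank K (Module.End.eigenspace G c ⊓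
              Module.End.eigenspace Tt (ζ ^ i) : Submodule K V) := by
            rw [Finset.sum_const, Finset.card_range, smul_eq_mul]
        _ ≤ ∑ j ∈ Finset.range r, finrank K (Module.End.eigenspace G (c * (ζ ^ i) ^ j) ⊓
              Module.End.eigenspace Tt (ζ ^ i) : Submodule K V) := by
            apply Finset.sum_le_sum
            intro j _
            have h := hstar j (ζ ^ i)
            have e1 : c * (ζ ^ i) ^ j * β ^ tri j = c * (ζ ^ i) ^ j := by
              rw [hβ1, one_pow, mul_one]
            have e2 : β ^ j * ζ ^ i = ζ ^ i := by rw [hβ1, one_pow, one_mul]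
            rw [e1, e2] at h
            exact h
        _ ≤ 1 * finrank K (Module.End.eigenspace Tt (ζ ^ i)) := hsum
        _ = finrank K (Module.End.eigenspace Tt (ζ ^ i)) := one_mul _
    obtain ⟨m, hm⟩ : ∃ m, r = m + 1 := ⟨r - 1, by omega⟩
    have hdec' : finrank K (Module.End.eigenspace G c) ≤
        ∑ i ∈ Finset.range m, finrank K (Module.End.eigenspace G c ⊓
          Module.End.eigenspace Tt (ζ ^ (i + 1)) : Submodule K V) +
        finrank K (Module.End.eigenspace G c ⊓ Module.End.eigenspace Tt (ζ ^ 0) :
          Submodule K V) := by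
      have := hdec
      rw [hm, Finset.sum_range_succ'] at this
      exact this
    have h0 : r * (r * finrank K (Module.End.eigenspace G c ⊓ Module.End.eigenspace Tt (ζ ^ 0) :
          Submodule K V)) ≤ r * finrank K V := by
      apply Nat.mul_le_mul_left
      refine le_trans (Nat.mul_le_mul_left r (Submodule.finrank_mono inf_le_right)) (hF2 _)
    have h1 : r * (r * ∑ i ∈ Finset.range m, finrank K (Module.End.eigenspace G c ⊓
          Module.End.eigenspace Tt (ζ ^ (i + 1)) : Submodule K V)) ≤ m * finrank K V := by
      rw [Finset.mul_sum, Finset.mul_sum]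
      calc ∑ i ∈ Finset.range m, r * (r * finrank K (Module.End.eigenspace G c ⊓
            Module.End.eigenspace Tt (ζ ^ (i + 1)) : Submodule K V))
          ≤ ∑ _i ∈ Finset.range m, finrank K V := by
            apply Finset.sum_le_sum
            intro i hi'
            have hlt' : i + 1 < r := by
              have := Finset.mem_range.mp hi'; omega
            exact le_trans (Nat.mul_le_mul_left r (hi (i + 1) (Finset.mem_range.mpr hlt')
              (Nat.succ_ne_zero i))) (hF2 _)
        _ = m * finrank K V := by rw [Finset.sum_const, Finset.card_range, smul_eq_mul]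
    have h2 : r * (r * finrank K (Module.End.eigenspace G c)) ≤
        m * finrank K V + r * finrank K V := by
      calc r * (r * finrank K (Module.End.eigenspace G c))
          ≤ r * (r * (∑ i ∈ Finset.range m, finrank K (Module.End.eigenspace G c ⊓
              Module.End.eigenspace Tt (ζ ^ (i + 1)) : Submodule K V) +
            finrank K (Module.End.eigenspace G c ⊓ Module.End.eigenspace Tt (ζ ^ 0) :
              Submodule K V))) :=
            Nat.mul_le_mul_left r (Nat.mul_le_mul_left r hdec')
        _ = r * (r * ∑ i ∈ Finset.range m, finrank K (Module.End.eigenspace G c ⊓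
              Module.End.eigenspace Tt (ζ ^ (i + 1)) : Submodule K V)) +
            r * (r * finrank K (Module.End.eigenspace G c ⊓ Module.End.eigenspace Tt (ζ ^ 0) :
              Submodule K V)) := by ring
        _ ≤ m * finrank K V + r * finrank K V := Nat.add_le_add h1 h0
    obtain ⟨d, hd⟩ : ∃ d, d = finrank K (Module.End.eigenspace G c) := ⟨_, rfl⟩
    obtain ⟨n, hn⟩ : ∃ n, n = finrank K V := ⟨_, rfl⟩
    rw [← hd, ← hn] at h2 hlt
    have hm' : m = r - 1 := by omega
    have h3 : (m + r) * n < (m + r) * (2 * d) := by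
      apply Nat.mul_lt_mul_of_pos_left hlt; omega
    have h4 : 4 * r ≤ r * r := by nlinarith
    have h5' : (4 * r) * d ≤ (r * r) * d := Nat.mul_le_mul_right d h4
    have h6 : r * (r * d) < (m + r) * (2 * d) := by
      calc r * (r * d) ≤ m * n + r * n := h2
        _ = (m + r) * n := by ring
        _ < (m + r) * (2 * d) := h3
    have h7 : (m + r) * (2 * d) ≤ (4 * r) * d := by
      have : m + r ≤ 2 * r := by omega
      calc (m + r) * (2 * d) ≤ (2 * r) * (2 * d) := Nat.mul_le_mul_right _ this
        _ = (4 * r) * d := by ring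
    have h8 : r * (r * d) = (r * r) * d := by ring
    omega
  · have hβprim : IsPrimitiveRoot β r :=
      IsPrimitiveRoot.iff_orderOf.mpr (orderOf_eq_prime hβ hβ1)
    have hdec := finrank_le_sum_eigenspace_inf Tt r hr.pos hTr β hβprim
      (Module.End.eigenspace G c) hinv
    have hterm : ∀ i ∈ Finset.range r,
        finrank K (Module.End.eigenspace G c ⊓ Module.End.eigenspace Tt (β ^ i) :
          Submodule K V) ≤
        finrank K (Module.End.eigenspace G (c * β ^ (i * ((r - 1) * i) + tri ((r - 1) * i))) ⊓
          Module.End.eigenspace Tt 1 : Submodule K V) := by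
      intro i _
      have h := hstar ((r - 1) * i) (β ^ i)
      have e1 : c * (β ^ i) ^ ((r - 1) * i) * β ^ tri ((r - 1) * i) =
          c * β ^ (i * ((r - 1) * i) + tri ((r - 1) * i)) := by
        rw [← pow_mul, pow_add, mul_assoc]
      have e2 : β ^ ((r - 1) * i) * β ^ i = 1 := by
        rw [← pow_add]
        have : (r - 1) * i + i = r * i := by
          obtain ⟨m, rfl⟩ : ∃ m, r = m + 1 := ⟨r - 1, by omega⟩
          simp only [Nat.add_sub_cancel]; ring
        rw [this, pow_mul, hβ, one_pow]
      rw [e1, e2] at h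
      exact h
    have hsum := sum_finrank_eigenspace_inf_le_mul G (Module.End.eigenspace Tt 1)
      (Finset.range r) (fun i => c * β ^ (i * ((r - 1) * i) + tri ((r - 1) * i))) 2 (by
        intro μ' s hs hs'
        by_contra hcard
        push Not at hcard
        obtain ⟨a, ha, b, hb, c', hc', hab, hac, hbc⟩ := Finset.two_lt_card.mp hcard
        have key : ∀ x ∈ s, ∀ y ∈ s, x ≠ y → (x : ZMod r) + y = 1 := by
          intro x hx y hy hxy
          have h1 : c * β ^ (x * ((r - 1) * x) + tri ((r - 1) * x)) =
              c * β ^ (y * ((r - 1) * y) + tri ((r - 1) * y)) := by rw [hs' x hx, hs' y hy]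
          have h2 := mul_left_cancel₀ hc h1
          have h3 : x * ((r - 1) * x) + tri ((r - 1) * x) ≡
              y * ((r - 1) * y) + tri ((r - 1) * y) [MOD r] := by
            have hord : orderOf β = r := hβprim.eq_orderOf.symm
            have e1 := pow_mod_orderOf β (x * ((r - 1) * x) + tri ((r - 1) * x))
            have e2 := pow_mod_orderOf β (y * ((r - 1) * y) + tri ((r - 1) * y))
            rw [hord] at e1 e2
            rw [← e1, ← e2] at h2
            exact hβprim.pow_inj (Nat.mod_lt _ hr.pos) (Nat.mod_lt _ hr.pos) h2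
          have h4 := (ZMod.natCast_eq_natCast_iff _ _ _).mpr h3
          have h5 := tri_cast_zmod r x
          have h6 := tri_cast_zmod r y
          rw [h4] at h5
          have h7 : (x : ZMod r) - x * x = y - y * y := h5.symm.trans h6
          have h8 : ((x : ZMod r) - y) * (1 - x - y) = 0 := by linear_combination h7
          rcases mul_eq_zero.mp h8 with h9 | h9
          · exfalso
            exact hxy (natCast_zmod_inj r x y (Finset.mem_range.mp (hs hx))
              (Finset.mem_range.mp (hs hy)) (sub_eq_zero.mp h9))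
          · linear_combination -h9
        have h1 := key a ha b hb hab
        have h2 := key a ha c' hc' hac
        have h3 : (b : ZMod r) = c' := by linear_combination h1 - h2
        exact hbc (natCast_zmod_inj r b c' (Finset.mem_range.mp (hs hb))
          (Finset.mem_range.mp (hs hc')) h3))
    have h1 : finrank K (Module.End.eigenspace G c) ≤
        2 * finrank K (Module.End.eigenspace Tt 1) :=
      le_trans hdec (le_trans (Finset.sum_le_sum hterm) hsum)
    have h2 := hF2 1
    nlinarith

end Count

end Cfsg.Agent.Lib.helper97
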