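import Cfsg.Agent.Lib.helper97.ExtraNorm3

set_option autoImplicit false

/-!
# Eigenspace bounds: the unipotent case (`g` of order `r ≥ 5`), group part
-/

namespace Cfsg.Agent.Lib.helper97

open Module
open scoped commutatorElement

section Grp
variable {Γ : Type*} [Group Γ]

/-- The subgroup `{g⁻¹ y g y⁻¹ : y ∈ Y}` for an abelian `g`-invariant subgroup `Y`. -/
def nuSub (g : Γ) (Y : Subgroup Γ) (hab : ∀ a ∈ Y, ∀ b ∈ Y, a * b = b * a)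
    (hgY : ∀ y ∈ Y, g⁻¹ * y * g ∈ Y) : Subgroup Γ where
  carrier := {p | ∃ y ∈ Y, p = g⁻¹ * y * g * y⁻¹}
  mul_mem' := by
    rintro p q ⟨a, ha, rfl⟩ ⟨b, hb, rfl⟩
    refine ⟨a * b, Y.mul_mem ha hb, ?_⟩
    have h1 := hab a⁻¹ (Y.inv_mem ha) (g⁻¹ * b * g * b⁻¹) (Y.mul_mem (hgY b hb) (Y.inv_mem hb))
    calc g⁻¹ * a * g * a⁻¹ * (g⁻¹ * b * g * b⁻¹)
        = g⁻¹ * a * g * (a⁻¹ * (g⁻¹ * b * g * b⁻¹)) := by group
      _ = g⁻¹ * a * g * ((g⁻¹ * b * g * b⁻¹) * a⁻¹) := by rw [h1]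
      _ = g⁻¹ * (a * b) * g * (a * b)⁻¹ := by group
  one_mem' := ⟨1, Y.one_mem, by group⟩
  inv_mem' := by
    rintro p ⟨a, ha, rfl⟩
    refine ⟨a⁻¹, Y.inv_mem ha, ?_⟩
    have h1 := hab a ha (g⁻¹ * a⁻¹ * g) (hgY _ (Y.inv_mem ha))
    calc (g⁻¹ * a * g * a⁻¹)⁻¹ = a * (g⁻¹ * a⁻¹ * g) := by group
      _ = (g⁻¹ * a⁻¹ * g) * a := h1
      _ = g⁻¹ * a⁻¹ * g * a⁻¹⁻¹ := by group

theorem mem_nuSub (g : Γ) (Y : Subgroup Γ) (hab : ∀ a ∈ Y, ∀ b ∈ Y, a * b = b * a)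
    (hgY : ∀ y ∈ Y, g⁻¹ * y * g ∈ Y) (p : Γ) :
    p ∈ nuSub g Y hab hgY ↔ ∃ y ∈ Y, p = g⁻¹ * y * g * y⁻¹ := Iff.rfl

/-- An automorphism of order `r` of a nontrivial abelian group of exponent `r` fixes a nontrivial
element of the image of `y ↦ g⁻¹ y g y⁻¹`. -/
theorem exists_fixed_nu [Finite Γ] (r : ℕ) (hr : r.Prime) (g : Γ) (hgr : g ^ r = 1)
    (Y : Subgroup Γ) (hab : ∀ a ∈ Y, ∀ b ∈ Y, a * b = b * a)
    (hgY : ∀ y ∈ Y, g⁻¹ * y * g ∈ Y) (hYr : ∀ y ∈ Y, y ^ r = 1) (y₁ : Γ) (hy₁ : y₁ ∈ Y)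
    (hne : g⁻¹ * y₁ * g ≠ y₁) :
    ∃ y ∈ Y, g⁻¹ * y * g * y⁻¹ ≠ 1 ∧
      g⁻¹ * (g⁻¹ * y * g * y⁻¹) * g = g⁻¹ * y * g * y⁻¹ := by
  classical
  have hfact : Fact r.Prime := ⟨hr⟩
  have hPY : ∀ p ∈ nuSub g Y hab hgY, p ∈ Y := by
    rintro p ⟨y, hy, rfl⟩
    exact Y.mul_mem (hgY y hy) (Y.inv_mem hy)
  have hPg : ∀ p ∈ nuSub g Y hab hgY, g⁻¹ * p * g ∈ nuSub g Y hab hgY := by
    rintro p ⟨y, hy, rfl⟩
    exact ⟨g⁻¹ * y * g, hgY y hy, by group⟩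
  have hPp : IsPGroup r ↥(nuSub g Y hab hgY) := by
    intro p
    refine ⟨1, Subtype.ext ?_⟩
    simpa using hYr p.1 (hPY p.1 p.2)
  have hdvd : r ∣ Nat.card ↥(nuSub g Y hab hgY) := by
    rcases hPp.card_eq_or_dvd with h | h
    · exfalso
      have hsub : Subsingleton ↥(nuSub g Y hab hgY) := (Nat.card_eq_one_iff_unique.mp h).1
      have h1 : (⟨g⁻¹ * y₁ * g * y₁⁻¹, ⟨y₁, hy₁, rfl⟩⟩ : ↥(nuSub g Y hab hgY)) = 1 :=
        Subsingleton.elim _ _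
      have h2 : g⁻¹ * y₁ * g * y₁⁻¹ = 1 := congrArg Subtype.val h1
      exact hne (mul_inv_eq_one.mp h2)
    · exact h
  let f : Function.End ↥(nuSub g Y hab hgY) := fun p => ⟨g⁻¹ * p.1 * g, hPg p.1 p.2⟩
  have hfk : ∀ (k : ℕ) (p : ↥(nuSub g Y hab hgY)), ((f ^ k) p).1 = g⁻¹ ^ k * p.1 * g ^ k := by
    intro k
    induction k with
    | zero => intro p; rw [pow_zero, pow_zero, pow_zero, one_mul, mul_one]; rfl
    | succ k ih =>
      intro p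
      have h1 : (f ^ (k + 1)) p = (f ^ k) (f p) := by rw [pow_succ]; rfl
      rw [h1, ih (f p)]
      show g⁻¹ ^ k * (g⁻¹ * p.1 * g) * g ^ k = g⁻¹ ^ (k + 1) * p.1 * g ^ (k + 1)
      rw [pow_succ, pow_succ']; group
  have hf : f ^ r ^ 1 = 1 := by
    funext p
    apply Subtype.ext
    rw [pow_one, hfk r p, inv_pow, hgr, inv_one, one_mul, mul_one]
    rfl
  let _ : Fintype ↥(nuSub g Y hab hgY) := Fintype.ofFinite _
  have hmod := Equiv.Perm.card_fixedPoints_modEq (p := r) (n := 1) hf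
  rw [Fintype.card_eq_nat_card, Fintype.card_eq_nat_card] at hmod
  have hdvd2 : r ∣ Nat.card ↥(Function.fixedPoints f) := (Nat.ModEq.dvd_iff hmod dvd_rfl).mp hdvd
  have h1fix : (1 : ↥(nuSub g Y hab hgY)) ∈ Function.fixedPoints f := by
    show f 1 = 1
    apply Subtype.ext
    show g⁻¹ * (1 : Γ) * g = 1
    group
  have hpos : 0 < Nat.card ↥(Function.fixedPoints f) :=
    Nat.card_pos_iff.mpr ⟨⟨⟨1, h1fix⟩⟩, inferInstance⟩
  have hlt : 1 < Nat.card ↥(Function.fixedPoints f) :=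
    lt_of_lt_of_le hr.one_lt (Nat.le_of_dvd hpos hdvd2)
  have hnt : Nontrivial ↥(Function.fixedPoints f) := Finite.one_lt_card_iff_nontrivial.mp hlt
  obtain ⟨q, hq⟩ := exists_ne (⟨1, h1fix⟩ : ↥(Function.fixedPoints f))
  obtain ⟨y, hy, hyq⟩ := q.1.2
  have hq1 : q.1.1 ≠ 1 := by
    intro h
    apply hq
    apply Subtype.ext
    apply Subtype.ext
    exact h
  have hq2 : g⁻¹ * q.1.1 * g = q.1.1 := congrArg Subtype.val q.2
  refine ⟨y, hy, ?_, ?_⟩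
  · rw [← hyq]; exact hq1
  · rw [← hyq]; exact hq2

end Grp

section Uni
variable {Γ K V : Type*} [Group Γ] [Field K] [AddCommGroup V] [Module K V]

/-- Elements of `N` fixing `U` pointwise. -/
def fixSub (T : Γ →* Module.End K V) (N : Subgroup Γ) (U : Submodule K V) : Subgroup Γ where
  carrier := {y | y ∈ N ∧ ∀ u ∈ U, T y u = u}
  mul_mem' := by
    rintro a b ⟨ha, ha'⟩ ⟨hb, hb'⟩
    refine ⟨N.mul_mem ha hb, fun u hu => ?_⟩
    rw [T_mul_apply, hb' u hu, ha' u hu]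
  one_mem' := ⟨N.one_mem, fun u _ => by simp⟩
  inv_mem' := by
    rintro a ⟨ha, ha'⟩
    refine ⟨N.inv_mem ha, fun u hu => ?_⟩
    have := T_inv_apply T a u
    rwa [ha' u hu] at this

theorem mem_fixSub (T : Γ →* Module.End K V) (N : Subgroup Γ) (U : Submodule K V) (y : Γ) :
    y ∈ fixSub T N U ↔ y ∈ N ∧ ∀ u ∈ U, T y u = u := Iff.rfl

variable {T : Γ →* Module.End K V} {R Z N : Subgroup Γ} {r : ℕ}

theorem ENData.scal_pow_eq_one (D : ENData T R Z N r) (s : Γ) (hsr : s ^ r = 1)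
    (β : K) (hβ : T s = β • (1 : Module.End K V)) (v : V) (hv : v ≠ 0) : β ^ r = 1 := by
  have h2 : T (s ^ r) v = β ^ r • v := by
    apply T_pow_apply
    rw [hβ]; simp
  rw [hsr, map_one, Module.End.one_apply] at h2
  have h3 : (β ^ r - 1) • v = 0 := by
    rw [sub_smul, one_smul, ← h2, sub_self]
  rcases smul_eq_zero.mp h3 with h4 | h4
  · exact sub_eq_zero.mp h4
  · exact absurd h4 hv

theorem ENData.exists_primitive_root (D : ENData T R Z N r) (hr : r.Prime) (y : Γ) (hy : y ∈ N)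
    (hyZ : y ∉ Z) (v : V) (hv : v ≠ 0) : ∃ ζ : K, IsPrimitiveRoot ζ r := by
  have hex : ∃ ρ ∈ R, y * ρ ≠ ρ * y := by
    by_contra h
    push Not at h
    exact hyZ (D.irr y h)
  obtain ⟨ρ, hρ, hne⟩ := hex
  have hsZ : ⁅y, ρ⁆ ∈ Z := D.comm y hy ρ (D.RN hρ)
  have hs1 : ⁅y, ρ⁆ ≠ 1 := by
    intro h
    exact hne ((commutatorElement_eq_one_iff_commute).mp h).eq
  obtain ⟨ξ, -, hprim⟩ := D.exists_root hr _ hsZ hs1 (D.cpow y hy ρ (D.RN hρ)) v hv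
  exact ⟨ξ, hprim⟩

variable [FiniteDimensional K V]

/-- The unipotent case: `g` of order `r ≥ 5`. -/
theorem ENData.unipotent_bound [Finite Γ] (D : ENData T R Z N r) (hr : r.Prime) (h5 : 5 ≤ r)
    (hnpow : ∀ a ∈ N, a ^ r ∈ Z) (g : Γ) (hg : ∀ a ∈ N, g⁻¹ * a * g ∈ N) (hgZ : g ∉ Z)
    (hgr : g ^ r = 1) (c : K) :
    2 * finrank K (Module.End.eigenspace (T g) c) ≤ finrank K V := by
  by_contra hlt
  push Not at hlt
  have hnA : ¬ ∀ x ∈ R, g⁻¹ * x * g * x⁻¹ ∈ Z := by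
    intro hA
    have := D.caseA hr g hgZ hA c
    omega
  push Not at hnA
  obtain ⟨x₀, hx₀, hy₀Z⟩ := hnA
  have hx₀N : x₀ ∈ N := D.RN hx₀
  have hy₀N : g⁻¹ * x₀ * g * x₀⁻¹ ∈ N := N.mul_mem (hg x₀ hx₀N) (N.inv_mem hx₀N)
  have hdim := finrank_translate_inf T x₀ (Module.End.eigenspace (T g) c)
  obtain ⟨U, hU⟩ : ∃ U : Submodule K V, U = (Module.End.eigenspace (T g) c ⊓
      (Module.End.eigenspace (T g) c).map (T x₀) : Submodule K V) := ⟨_, rfl⟩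
  rw [← hU] at hdim
  have hpos : 0 < finrank K U := by omega
  obtain ⟨⟨u₀, hu₀U⟩, hu₀⟩ := Module.finrank_pos_iff_exists_ne_zero.mp hpos
  have hu₀' : u₀ ≠ 0 := fun h => hu₀ (Subtype.ext h)
  have hUW : ∀ u ∈ U, T g u = c • u := by
    intro u hu
    rw [hU] at hu
    exact Module.End.mem_eigenspace_iff.mp hu.1
  have hc : c ≠ 0 := by
    intro hc0
    have := hUW u₀ hu₀U
    rw [hc0, zero_smul] at this
    exact hu₀' (T_eq_zero T g u₀ this)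
  -- the subgroup `Y₀`
  have hY1 : ∀ a ∈ fixSub T N U, ∀ b ∈ fixSub T N U, a * b = b * a := by
    intro a ha b hb
    have hai : T a⁻¹ u₀ = u₀ := by
      have := T_inv_apply T a u₀
      rwa [ha.2 u₀ hu₀U] at this
    have hbi : T b⁻¹ u₀ = u₀ := by
      have := T_inv_apply T b u₀
      rwa [hb.2 u₀ hu₀U] at this
    have hcm : T ⁅a, b⁆ u₀ = u₀ := by
      rw [commutatorElement_def, T_mul_apply, T_mul_apply, T_mul_apply, hbi, hai, hb.2 u₀ hu₀U,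
        ha.2 u₀ hu₀U]
    have h1 := D.eq_one_of_fix _ (D.comm a ha.1 b hb.1) u₀ hu₀' hcm
    exact ((commutatorElement_eq_one_iff_commute).mp h1).eq
  have hY2 : ∀ y ∈ fixSub T N U, y ^ r = 1 := by
    intro y hy
    refine D.eq_one_of_fix _ (hnpow y hy.1) u₀ hu₀' ?_
    have := T_pow_apply T y 1 u₀ (by rw [hy.2 u₀ hu₀U, one_smul]) r
    rwa [one_pow, one_smul] at this
  have hY3 : ∀ y ∈ fixSub T N U, g⁻¹ * y * g ∈ fixSub T N U := by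
    intro y hy
    refine ⟨hg y hy.1, fun u hu => ?_⟩
    have h1 := hUW u hu
    rw [T_mul_apply, T_mul_apply, h1, map_smul, hy.2 u hu, ← h1, T_inv_apply]
  have hY4 : g⁻¹ * x₀ * g * x₀⁻¹ ∈ fixSub T N U := by
    refine ⟨hy₀N, fun u hu => ?_⟩
    rw [hU] at hu
    have := fix_of_mem_translate T g x₀ c 1 u hu
    simpa using this
  have hY5 : ∀ y ∈ fixSub T N U, y ∈ Z → y = 1 := fun y hy hyZ =>
    D.eq_one_of_fix y hyZ u₀ hu₀' (hy.2 u₀ hu₀U)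
  -- the pair `(x', t)`
  have hex : ∃ x' ∈ N, g⁻¹ * x' * g * x'⁻¹ ≠ 1 ∧
      g⁻¹ * (g⁻¹ * x' * g * x'⁻¹) * g = g⁻¹ * x' * g * x'⁻¹ ∧
      g⁻¹ * x' * g * x'⁻¹ ∈ fixSub T N U := by
    by_cases hall : ∀ y ∈ fixSub T N U, g⁻¹ * y * g = y
    · exact ⟨x₀, hx₀N, fun h => hy₀Z (h ▸ Z.one_mem), hall _ hY4, hY4⟩
    · push Not at hall
      obtain ⟨y₁, hy₁, hne⟩ := hall
      obtain ⟨y, hy, h1, h2⟩ := exists_fixed_nu r hr g hgr (fixSub T N U) hY1 hY3 hY2 y₁ hy₁ hne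
      exact ⟨y, hy.1, h1, h2, (fixSub T N U).mul_mem (hY3 y hy) ((fixSub T N U).inv_mem hy)⟩
  obtain ⟨x', hx'N, ht1, htg, htY⟩ := hex
  obtain ⟨t, ht⟩ : ∃ t, t = g⁻¹ * x' * g * x'⁻¹ := ⟨_, rfl⟩
  rw [← ht] at ht1 htg htY
  have htN : t ∈ N := htY.1
  have htZ : t ∉ Z := fun h => ht1 (hY5 t htY h)
  have htr : t ^ r = 1 := hY2 t htY
  have hgt : g * t = t * g := by
    calc g * t = g * (g⁻¹ * t * g) := by rw [htg]
      _ = t * g := by group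
  have hx'iN : x'⁻¹ ∈ N := N.inv_mem hx'N
  obtain ⟨β, hβ⟩ := D.scal _ (D.comm t htN x'⁻¹ hx'iN)
  have hβr : β ^ r = 1 := D.scal_pow_eq_one _ (D.cpow t htN x'⁻¹ hx'iN) β hβ u₀ hu₀'
  obtain ⟨ζ, hζ⟩ := D.exists_primitive_root hr t htN htZ u₀ hu₀'
  have hGX : T g * T x'⁻¹ = T x'⁻¹ * T g * T t := by
    rw [← map_mul, ← map_mul, ← map_mul]
    congr 1
    rw [ht]; group
  have hTX : T t * T x'⁻¹ = β • (T x'⁻¹ * T t) := by
    have h1 : t * x'⁻¹ = ⁅t, x'⁻¹⁆ * (x'⁻¹ * t) := by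
      rw [commutatorElement_def]; group
    rw [← map_mul, h1, map_mul, hβ, map_mul, smul_mul_assoc, one_mul]
  have hinv : ∀ w ∈ Module.End.eigenspace (T g) c, T t w ∈ Module.End.eigenspace (T g) c := by
    intro w hw
    rw [Module.End.mem_eigenspace_iff] at hw ⊢
    rw [← T_mul_apply, hgt, T_mul_apply, hw, map_smul]
  have hTr : T t ^ r = 1 := by rw [← map_pow, htr, map_one]
  have := count_bound (T g) (T t) r hr h5 hTr c hc hinv ζ hζ β hβr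
    (fun j μ => eig_shift_finrank (T g) (T t) (T x'⁻¹) β hGX hTX
      (fun v h => T_eq_zero T x'⁻¹ v h) c μ j)
    (fun μ => D.finrank_eig_le hr t htN htZ μ)
  omega

end Uni

end Cfsg.Agent.Lib.helper97
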