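import Cfsg.Agent.Lib.helper97.ExtraNorm4

set_option autoImplicit false

/-!
# Eigenspace bounds: divisibility of the dimension and the assembled statement
-/

namespace Cfsg.Agent.Lib.helper97

open Module
open scoped commutatorElement

section Main
variable {Γ K V : Type*} [Group Γ] [Field K] [AddCommGroup V] [Module K V]
  [FiniteDimensional K V]
variable {T : Γ →* Module.End K V} {R Z N : Subgroup Γ} {r : ℕ}

/-- If `N` contains a non-scalar element of order dividing `r`, then `r` divides `dim V`. -/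
theorem ENData.dvd_finrank (D : ENData T R Z N r) (hr : r.Prime) (y : Γ) (hy : y ∈ N)
    (hyZ : y ∉ Z) (hyr : y ^ r = 1) : r ∣ finrank K V := by
  by_cases hV : finrank K V = 0
  · rw [hV]; exact dvd_zero r
  obtain ⟨v0, hv0⟩ := Module.finrank_pos_iff_exists_ne_zero.mp (Nat.pos_of_ne_zero hV)
  have hex : ∃ ρ ∈ R, y * ρ ≠ ρ * y := by
    by_contra h
    push Not at h
    exact hyZ (D.irr y h)
  obtain ⟨ρ, hρ, hne⟩ := hex
  have hsZ : ⁅y, ρ⁆ ∈ Z := D.comm y hy ρ (D.RN hρ)
  have hs1 : ⁅y, ρ⁆ ≠ 1 := by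
    intro h
    exact hne ((commutatorElement_eq_one_iff_commute).mp h).eq
  obtain ⟨ξ, hξ, hprim⟩ := D.exists_root hr _ hsZ hs1 (D.cpow y hy ρ (D.RN hρ)) v0 hv0
  have hrel : y * ρ = ⁅y, ρ⁆ * (ρ * y) := by
    rw [commutatorElement_def]; group
  have hstep : ∀ (μ : K) (v : V), v ∈ Module.End.eigenspace (T y) μ →
      T ρ v ∈ Module.End.eigenspace (T y) (ξ * μ) := by
    intro μ v hv
    rw [Module.End.mem_eigenspace_iff] at hv ⊢
    rw [← T_mul_apply, hrel, T_mul_apply, T_mul_apply, hv, hξ]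
    simp [smul_smul, mul_comm]
  have hiter : ∀ (k : ℕ) (μ : K), finrank K (Module.End.eigenspace (T y) μ) ≤
      finrank K (Module.End.eigenspace (T y) (ξ ^ k * μ)) := by
    intro k
    induction k with
    | zero =>
      intro μ
      have h0 : ξ ^ 0 * μ = μ := by simp
      rw [h0]
    | succ k ih =>
      intro μ
      refine le_trans (ih μ) ?_
      have : ξ ^ (k + 1) * μ = ξ * (ξ ^ k * μ) := by ring
      rw [this]
      exact finrank_le_of_mapsTo (T ρ) _ _ (hstep _) (fun v _ h => T_eq_zero T ρ v h)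
  have hle : ∀ i ∈ Finset.range r, finrank K ((⊤ : Submodule K V) ⊓
      Module.End.eigenspace (T y) (ξ ^ i) : Submodule K V) ≤
      finrank K (Module.End.eigenspace (T y) 1) := by
    intro i hi
    rw [top_inf_eq]
    have h1 := hiter (r - i) (ξ ^ i)
    have h2 : ξ ^ (r - i) * ξ ^ i = 1 := by
      rw [← pow_add, Nat.sub_add_cancel (Finset.mem_range.mp hi).le, hprim.pow_eq_one]
    rwa [h2] at h1
  have hTr : T y ^ r = 1 := by rw [← map_pow, hyr, map_one]
  have hdec := finrank_le_sum_eigenspace_inf (T y) r hr.pos hTr ξ hprim (⊤ : Submodule K V)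
    (fun w _ => Submodule.mem_top)
  rw [finrank_top] at hdec
  have h1 : finrank K V ≤ r * finrank K (Module.End.eigenspace (T y) 1) := by
    refine le_trans hdec (le_trans (Finset.sum_le_sum hle) ?_)
    rw [Finset.sum_const, Finset.card_range, smul_eq_mul]
  have h2 := D.finrank_eig_le hr y hy hyZ 1
  exact ⟨_, le_antisymm h1 h2⟩

/-- The assembled eigenspace bounds. -/
theorem ENData.main [Finite Γ] (D : ENData T R Z N r) (hr : r.Prime)
    (hnpow : 5 ≤ r → ∀ a ∈ N, a ^ r ∈ Z) (h3 : r = 3 → 3 ∣ finrank K V) (g : Γ)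
    (hg : ∀ a ∈ N, g⁻¹ * a * g ∈ N) (hg' : ∀ a ∈ N, g * a * g⁻¹ ∈ N) (hgZ : g ∉ Z) (ϖ : ℕ)
    (hϖ : ϖ.Prime) (hgϖ : g ^ ϖ = 1) (c : K) :
    (ϖ = 2 → 4 * finrank K (Module.End.eigenspace (T g) c) ≤ 3 * finrank K V) ∧
    (ϖ = 3 → 3 * finrank K (Module.End.eigenspace (T g) c) ≤ 2 * finrank K V) ∧
    (3 < ϖ → 2 * finrank K (Module.End.eigenspace (T g) c) ≤ finrank K V) ∧
    (ϖ = 3 → ¬ 3 ∣ finrank K V → 2 * finrank K (Module.End.eigenspace (T g) c) ≤ finrank K V) := by
  have hgen := D.bound_all hr g hg hgZ c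
  have hr2 := hr.two_le
  obtain ⟨d, hd⟩ : ∃ d, d = finrank K (Module.End.eigenspace (T g) c) := ⟨_, rfl⟩
  obtain ⟨n, hn⟩ : ∃ n, n = finrank K V := ⟨_, rfl⟩
  have hss : Odd ϖ → ϖ ≠ r → 2 * d ≤ n := by
    intro hodd hne
    rw [hd, hn]
    exact D.semisimple_bound hr g hg hg' hgZ ϖ hgϖ ((Nat.coprime_primes hϖ hr).mpr hne) hodd c
  rw [← hd, ← hn] at hgen ⊢
  refine ⟨?_, ?_, ?_, ?_⟩
  · intro _
    have h1 : r * (4 * d) ≤ r * (3 * n) := by nlinarith
    exact Nat.le_of_mul_le_mul_left h1 hr.pos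
  · intro h
    by_cases hr2' : r = 2
    · have := hss (by rw [h]; decide) (by omega)
      omega
    · have hr3 : 3 ≤ r := by omega
      have h1 : r * (3 * d) ≤ r * (2 * n) := by nlinarith
      exact Nat.le_of_mul_le_mul_left h1 hr.pos
  · intro h
    by_cases hne : ϖ = r
    · have h5 : 5 ≤ r := by
        rcases Nat.lt_or_ge r 5 with h4 | h4
        · exfalso
          have : r = 4 := by omega
          rw [this] at hr
          exact absurd hr (by decide)
        · exact h4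
      rw [hd, hn]
      exact D.unipotent_bound hr h5 (hnpow h5) g hg hgZ (hne ▸ hgϖ) c
    · exact hss (hϖ.odd_of_ne_two (by omega)) hne
  · intro h h3'
    have hne : ϖ ≠ r := by
      intro h'
      exact h3' (hn ▸ h3 (by omega))
    exact hss (by rw [h]; decide) hne

end Main

end Cfsg.Agent.Lib.helper97
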