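import Cfsg.Prelude.Def_GeometricClasses
import Cfsg.Agent.Lib.helper97.ExtraNorm5

set_option autoImplicit false

/-!
# Eigenspace bounds for normalisers of absolutely irreducible extraspecial groups: the matrix
setting
-/

namespace Cfsg.Agent.Lib.helper97

open Module
open scoped commutatorElement

section GLSec
variable {F : Type*} [Field F] {n : ℕ}

/-- The action of `GL_n(F)` on column vectors. -/
noncomputable def glT (n : ℕ) (F : Type*) [Field F] :
    Matrix.GeneralLinearGroup (Fin n) F →* Module.End F (Fin n → F) where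
  toFun a := Matrix.toLin' (a : Matrix (Fin n) (Fin n) F)
  map_one' := by
    rw [Units.val_one, Matrix.toLin'_one]; rfl
  map_mul' a b := by
    rw [Units.val_mul, Matrix.toLin'_mul]; rfl

theorem glT_apply (a : Matrix.GeneralLinearGroup (Fin n) F) :
    glT n F a = Matrix.toLin' (a : Matrix (Fin n) (Fin n) F) := rfl

theorem glT_injective : Function.Injective (glT n F) := by
  intro a b h
  apply Units.ext
  exact Matrix.toLin'.injective h

theorem glT_scalar (s : Matrix.GeneralLinearGroup (Fin n) F)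
    (hs : s ∈ Cfsg.Geo.scalars (Fin n) F) :
    ∃ c : F, glT n F s = c • (1 : Module.End F (Fin n → F)) := by
  obtain ⟨c, hc⟩ := (Cfsg.Geo.mem_scalars_iff s).mp hs
  refine ⟨(c : F), ?_⟩
  rw [glT_apply, hc, map_smul, Matrix.toLin'_one]; rfl

theorem scalars_central (s : Matrix.GeneralLinearGroup (Fin n) F)
    (hs : s ∈ Cfsg.Geo.scalars (Fin n) F) (a : Matrix.GeneralLinearGroup (Fin n) F) :
    s * a = a * s := by
  obtain ⟨c, hc⟩ := (Cfsg.Geo.mem_scalars_iff s).mp hs
  apply Units.ext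
  rw [Units.val_mul, Units.val_mul, hc, Matrix.smul_mul, Matrix.mul_smul, Matrix.one_mul,
    Matrix.mul_one]

/-- The abstract data for an absolutely irreducible group `R` whose derived subgroup is its
centre of prime order `r`. -/
theorem enData_of_extraspecial {r : ℕ} (R : Subgroup (Matrix.GeneralLinearGroup (Fin n) F))
    (hr : r.Prime) (hZ : Nat.card (Subgroup.center R) = r)
    (hext : commutator R = Subgroup.center R)
    (hirr : Cfsg.Geo.ActsAbsolutelyIrreducibly (Cfsg.Geo.matrixSet R)) :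
    ENData (glT n F) R (Cfsg.Geo.scalars (Fin n) F) (R ⊔ Cfsg.Geo.scalars (Fin n) F) r := by
  have hn : 0 < n := by
    rcases Nat.eq_zero_or_pos n with h0 | h0
    · exfalso
      subst h0
      have hsub : Subsingleton (Matrix.GeneralLinearGroup (Fin 0) F) :=
        ⟨fun a b => Units.ext (Subsingleton.elim _ _)⟩
      have hsub2 : Subsingleton ↥(Subgroup.center R) :=
        ⟨fun a b => Subtype.ext (Subtype.ext (Subsingleton.elim _ _))⟩
      have : Nat.card ↥(Subgroup.center R) = 1 := Nat.card_unique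
      rw [hZ] at this
      exact hr.one_lt.ne' this
    · exact h0
  have hne : Nonempty (Fin n) := ⟨⟨0, hn⟩⟩
  have hirr' : ∀ a : Matrix.GeneralLinearGroup (Fin n) F, (∀ ρ ∈ R, a * ρ = ρ * a) →
      a ∈ Cfsg.Geo.scalars (Fin n) F := by
    intro a ha
    obtain ⟨c, hc⟩ := hirr.2 (a : Matrix (Fin n) (Fin n) F) (by
      rintro s ⟨ρ, hρ, rfl⟩
      have := congrArg Units.val (ha ρ hρ)
      simpa using this)
    have hc0 : c ≠ 0 := by
      intro h0
      rw [h0, zero_smul] at hc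
      exact a.ne_zero hc
    exact (Cfsg.Geo.mem_scalars_iff a).mpr ⟨Units.mk0 c hc0, hc⟩
  have hcen : ∀ z : ↥R, z ∈ Subgroup.center R →
      (z : Matrix.GeneralLinearGroup (Fin n) F) ∈ Cfsg.Geo.scalars (Fin n) F := by
    intro z hz
    apply hirr'
    intro ρ hρ
    have := (Subgroup.mem_center_iff.mp hz) ⟨ρ, hρ⟩
    have h2 := congrArg Subtype.val this
    simpa using h2.symm
  have hcm : ∀ a ∈ R ⊔ Cfsg.Geo.scalars (Fin n) F, ∀ b ∈ R ⊔ Cfsg.Geo.scalars (Fin n) F,
      ∃ z : ↥R, z ∈ Subgroup.center R ∧ ⁅a, b⁆ = (z : Matrix.GeneralLinearGroup (Fin n) F) := by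
    intro a ha b hb
    obtain ⟨ρa, hρa, sa, hsa, rfl⟩ := Subgroup.mem_sup_of_normal_right.mp ha
    obtain ⟨ρb, hρb, sb, hsb, rfl⟩ := Subgroup.mem_sup_of_normal_right.mp hb
    refine ⟨⁅(⟨ρa, hρa⟩ : ↥R), ⟨ρb, hρb⟩⁆, ?_, ?_⟩
    · rw [← hext, commutator_def]
      exact Subgroup.commutator_mem_commutator (Subgroup.mem_top _) (Subgroup.mem_top _)
    · have h1 := scalars_central sa hsa
      have h2 := scalars_central sb hsb
      have h3 : ⁅ρa * sa, ρb * sb⁆ = ⁅ρa, ρb⁆ := by
        rw [commutatorElement_def, commutatorElement_def, mul_inv_rev, mul_inv_rev]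
        have e1 : ρa * sa * (ρb * sb) * (sa⁻¹ * ρa⁻¹) * (sb⁻¹ * ρb⁻¹) =
            ρa * (sa * (ρb * sb * sa⁻¹)) * ρa⁻¹ * sb⁻¹ * ρb⁻¹ := by group
        rw [e1, h1 (ρb * sb * sa⁻¹)]
        have e2 : ρa * (ρb * sb * sa⁻¹ * sa) * ρa⁻¹ * sb⁻¹ * ρb⁻¹ =
            ρa * ρb * (sb * (ρa⁻¹ * sb⁻¹)) * ρb⁻¹ := by group
        rw [e2, h2 (ρa⁻¹ * sb⁻¹)]
        group
      rw [h3]
      rfl
  refine ⟨glT_injective, glT_scalar, le_sup_left, le_sup_right, ?_, hirr', ?_⟩
  · intro a ha b hb
    obtain ⟨z, hz, hzab⟩ := hcm a ha b hb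
    rw [hzab]
    exact hcen z hz
  · intro a ha b hb
    obtain ⟨z, hz, hzab⟩ := hcm a ha b hb
    rw [hzab]
    have h1 : (⟨z, hz⟩ : ↥(Subgroup.center R)) ^ r = 1 := by
      rw [← hZ]; exact pow_card_eq_one'
    have h2 : z ^ r = 1 := by
      have := congrArg Subtype.val h1
      simpa using this
    have h3 := congrArg Subtype.val h2
    simpa using h3

/-- In an `r`-group (`r` odd) of exponent `r` or `4`, all `r`-th powers are trivial. -/
theorem pow_prime_eq_one_of_exponent {r : ℕ} (R : Subgroup (Matrix.GeneralLinearGroup (Fin n) F))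
    (hr : r.Prime) (hR : IsPGroup r R) (hexp : Monoid.exponent R = r ∨ Monoid.exponent R = 4)
    (hodd : r ≠ 2) : ∀ ρ ∈ R, ρ ^ r = 1 := by
  intro ρ hρ
  have key : (⟨ρ, hρ⟩ : ↥R) ^ r = 1 := by
    rcases hexp with h | h
    · rw [← h]; exact Monoid.pow_exponent_eq_one _
    · have h4 : (⟨ρ, hρ⟩ : ↥R) ^ 4 = 1 := by rw [← h]; exact Monoid.pow_exponent_eq_one _
      obtain ⟨k, hk⟩ := hR ⟨ρ, hρ⟩
      have hcop : Nat.Coprime 4 (r ^ k) := by
        apply Nat.Coprime.pow_right
        have : Nat.Coprime (2 ^ 2) r :=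
          Nat.Coprime.pow_left 2 ((Nat.coprime_primes Nat.prime_two hr).mpr (Ne.symm hodd))
        simpa using this
      have h1 := pow_gcd_eq_one.mpr ⟨h4, hk⟩
      rw [Nat.Coprime.gcd_eq_one hcop, pow_one] at h1
      rw [h1, one_pow]
  have := congrArg Subtype.val key
  simpa using this

/-- Eigenspaces of elements of prime order normalising an absolutely irreducible extraspecial
group (times scalars). -/
theorem extraspecial_normalizer_eig [Fintype F] {r ϖ : ℕ}
    (R : Subgroup (Matrix.GeneralLinearGroup (Fin n) F)) (hr : r.Prime) (hR : IsPGroup r R)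
    (hZ : Nat.card (Subgroup.center R) = r) (hext : commutator R = Subgroup.center R)
    (hexp : Monoid.exponent R = r ∨ Monoid.exponent R = 4)
    (hirr : Cfsg.Geo.ActsAbsolutelyIrreducibly (Cfsg.Geo.matrixSet R))
    (g : Matrix.GeneralLinearGroup (Fin n) F)
    (hg : g ∈ Cfsg.Geo.subgroupNormalizer (R ⊔ Cfsg.Geo.scalars (Fin n) F)) (hϖ : ϖ.Prime)
    (hord : orderOf g = ϖ) (hns : g ∉ Cfsg.Geo.scalars (Fin n) F) (c : F) :
    (ϖ = 2 → 4 * Module.finrank F (Module.End.eigenspace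
        (Matrix.toLin' (g : Matrix (Fin n) (Fin n) F)) c) ≤ 3 * n) ∧
    (ϖ = 3 → 3 * Module.finrank F (Module.End.eigenspace
        (Matrix.toLin' (g : Matrix (Fin n) (Fin n) F)) c) ≤ 2 * n) ∧
    (3 < ϖ → 2 * Module.finrank F (Module.End.eigenspace
        (Matrix.toLin' (g : Matrix (Fin n) (Fin n) F)) c) ≤ n) ∧
    (ϖ = 3 → ¬ 3 ∣ n → 2 * Module.finrank F (Module.End.eigenspace
        (Matrix.toLin' (g : Matrix (Fin n) (Fin n) F)) c) ≤ n) := by
  have D := enData_of_extraspecial R hr hZ hext hirr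
  have hgn : ∀ a ∈ R ⊔ Cfsg.Geo.scalars (Fin n) F, g⁻¹ * a * g ∈ R ⊔ Cfsg.Geo.scalars (Fin n) F :=
    fun a ha => (Subgroup.mem_normalizer_iff''.mp hg a).mp ha
  have hgn' : ∀ a ∈ R ⊔ Cfsg.Geo.scalars (Fin n) F, g * a * g⁻¹ ∈ R ⊔ Cfsg.Geo.scalars (Fin n) F :=
    fun a ha => (Subgroup.mem_normalizer_iff.mp hg a).mp ha
  have hgϖ : g ^ ϖ = 1 := by rw [← hord]; exact pow_orderOf_eq_one g
  have hnpow : 5 ≤ r → ∀ a ∈ R ⊔ Cfsg.Geo.scalars (Fin n) F,
      a ^ r ∈ Cfsg.Geo.scalars (Fin n) F := by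
    intro h5 a ha
    obtain ⟨ρ, hρ, s, hs, rfl⟩ := Subgroup.mem_sup_of_normal_right.mp ha
    have hcomm : Commute ρ s := (scalars_central s hs ρ).symm
    rw [hcomm.mul_pow, pow_prime_eq_one_of_exponent R hr hR hexp (by omega) ρ hρ, one_mul]
    exact Subgroup.pow_mem _ hs r
  have h3 : r = 3 → 3 ∣ Module.finrank F (Fin n → F) := by
    intro hr3
    have hex : ∃ y ∈ R, y ∉ Cfsg.Geo.scalars (Fin n) F := by
      by_contra hall
      push Not at hall
      have hcen : Subgroup.center R = ⊤ := by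
        rw [Subgroup.eq_top_iff']
        intro x
        rw [Subgroup.mem_center_iff]
        intro y
        apply Subtype.ext
        exact (scalars_central x.1 (hall x.1 x.2) y.1).symm
      have hbot : commutator R = ⊥ := (commutator_eq_bot_iff_center_eq_top _).mpr hcen
      rw [hext, hcen] at hbot
      have hsub : Subsingleton ↥R := by
        refine ⟨fun a b => ?_⟩
        have ha : a ∈ (⊤ : Subgroup ↥R) := Subgroup.mem_top a
        have hb : b ∈ (⊤ : Subgroup ↥R) := Subgroup.mem_top b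
        rw [hbot, Subgroup.mem_bot] at ha hb
        rw [ha, hb]
      have hsub2 : Subsingleton ↥(Subgroup.center R) :=
        ⟨fun a b => Subtype.ext (Subsingleton.elim _ _)⟩
      have : Nat.card ↥(Subgroup.center R) = 1 := Nat.card_unique
      rw [hZ] at this
      exact hr.one_lt.ne' this
    obtain ⟨y, hy, hyZ⟩ := hex
    have hy3 : y ^ r = 1 := pow_prime_eq_one_of_exponent R hr hR hexp (by omega) y hy
    have := D.dvd_finrank hr y (le_sup_left (a := R) hy) hyZ hy3
    rwa [hr3] at this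
  have hmain := D.main hr hnpow h3 g hgn hgn' hns ϖ hϖ hgϖ c
  rw [Module.finrank_fin_fun] at hmain
  exact hmain

end GLSec

end Cfsg.Agent.Lib.helper97
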