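import Mathlib

/-!
# Fusion of the central involution into a symplectic-type `F*` (abstract core)

`SympQ z Q`: `z` an involution, `Q ≤ C_G(z)` normalised by `C_G(z)`, self-centralising in `C_G(z)`,
with squares and commutators of `Q` in `{1, z}` and `z` the only central involution of `Q`.
-/

set_option autoImplicit false
set_option linter.unusedSimpArgs false

namespace Cfsg.Agent.Lib.helper97

variable {G : Type*} [Group G]

/-- The hypotheses on `(z, Q)`. -/
structure SympQ (z : G) (Q : Subgroup G) : Prop where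
  zsq : z * z = 1
  zne : z ≠ 1
  comm : ∀ q ∈ Q, q * z = z * q
  norm : ∀ h : G, h * z = z * h → ∀ q ∈ Q, h * q * h⁻¹ ∈ Q
  cent : ∀ h : G, h * z = z * h → (∀ q ∈ Q, h * q = q * h) → h ∈ Q
  sq : ∀ q ∈ Q, q * q = 1 ∨ q * q = z
  cm : ∀ q ∈ Q, ∀ q' ∈ Q, q * q' * q⁻¹ * q'⁻¹ = 1 ∨ q * q' * q⁻¹ * q'⁻¹ = z
  cinv : ∀ r ∈ Q, (∀ q ∈ Q, r * q = q * r) → r * r = 1 → r = 1 ∨ r = z

theorem sq_inv_self {x : G} (h : x * x = 1) : x⁻¹ = x :=
  inv_eq_of_mul_eq_one_left h

theorem SympQ.z_mem {z : G} {Q : Subgroup G} (hS : SympQ z Q) : z ∈ Q :=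
  hS.cent z rfl (fun q hq => (hS.comm q hq).symm)

theorem SympQ.map {z : G} {Q : Subgroup G} (hS : SympQ z Q) (φ : G ≃* G) :
    SympQ (φ z) (Q.map φ.toMonoidHom) := by
  have hsymm : ∀ k : G, k * φ z = φ z * k → φ.symm k * z = z * φ.symm k := by
    intro k hk
    have := congrArg φ.symm hk
    simpa using this
  refine ⟨?_, ?_, ?_, ?_, ?_, ?_, ?_, ?_⟩
  · rw [← map_mul, hS.zsq, map_one]
  · intro h
    apply hS.zne
    have := congrArg φ.symm h
    simpa using this
  · rintro _ ⟨q, hq, rfl⟩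
    simp only [MulEquiv.coe_toMonoidHom]
    rw [← map_mul, hS.comm q hq, map_mul]
  · rintro k hk _ ⟨q, hq, rfl⟩
    refine ⟨φ.symm k * q * (φ.symm k)⁻¹, hS.norm _ (hsymm k hk) q hq, ?_⟩
    simp
  · intro k hk hc
    refine ⟨φ.symm k, hS.cent _ (hsymm k hk) ?_, by simp⟩
    intro q hq
    have h1 := hc (φ q) ⟨q, hq, rfl⟩
    have := congrArg φ.symm h1
    simpa using this
  · rintro _ ⟨q, hq, rfl⟩
    simp only [MulEquiv.coe_toMonoidHom]
    rcases hS.sq q hq with h | h
    · left; rw [← map_mul, h, map_one]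
    · right; rw [← map_mul, h]
  · rintro _ ⟨q, hq, rfl⟩ _ ⟨q', hq', rfl⟩
    simp only [MulEquiv.coe_toMonoidHom]
    rcases hS.cm q hq q' hq' with h | h
    · left; rw [← map_inv, ← map_inv, ← map_mul, ← map_mul, ← map_mul, h, map_one]
    · right; rw [← map_inv, ← map_inv, ← map_mul, ← map_mul, ← map_mul, h]
  · rintro _ ⟨r, hr, rfl⟩ hc h2
    simp only [MulEquiv.coe_toMonoidHom] at hc h2 ⊢
    have hc' : ∀ q ∈ Q, r * q = q * r := by
      intro q hq
      have h1 := hc (φ q) ⟨q, hq, rfl⟩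
      rw [← map_mul, ← map_mul] at h1
      exact φ.injective h1
    have h2' : r * r = 1 := by
      rw [← map_mul] at h2
      have := congrArg φ.symm h2
      simpa using this
    rcases hS.cinv r hr hc' h2' with h | h
    · left; rw [h, map_one]
    · right; rw [h]

theorem mem_map_conj_iff (Q : Subgroup G) (g x : G) :
    x ∈ Q.map (MulAut.conj g).toMonoidHom ↔ g⁻¹ * x * g ∈ Q := by
  constructor
  · rintro ⟨q, hq, rfl⟩
    simp only [MulEquiv.coe_toMonoidHom, MulAut.conj_apply]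
    have : g⁻¹ * (g * q * g⁻¹) * g = q := by group
    rw [this]; exact hq
  · intro h
    refine ⟨g⁻¹ * x * g, h, ?_⟩
    simp only [MulEquiv.coe_toMonoidHom, MulAut.conj_apply]
    group


/-! ### Twisting lemmas -/

theorem tw_swap {z u q : G} (hz : z * z = 1) (h : q * u = z * u * q) : u * q = z * (q * u) := by
  rw [h, ← mul_assoc, ← mul_assoc, hz, one_mul]

theorem tw_inv {z u q : G} (hz : z * z = 1) (hqz : q * z = z * q) (h : q * u = z * u * q) :
    q⁻¹ * u = z * u * q⁻¹ := by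
  have h1 : u * q = z * (q * u) := tw_swap hz h
  have h2 : q⁻¹ * z = z * q⁻¹ := by
    have hc : Commute q z := hqz
    exact hc.inv_left.eq
  calc q⁻¹ * u = q⁻¹ * (u * q) * q⁻¹ := by group
    _ = q⁻¹ * (z * (q * u)) * q⁻¹ := by rw [h1]
    _ = (q⁻¹ * z) * q * u * q⁻¹ := by simp only [mul_assoc]
    _ = (z * q⁻¹) * q * u * q⁻¹ := by rw [h2]
    _ = z * u * q⁻¹ := by group

theorem tw_mul {z u q q' : G} (hz : z * z = 1) (hqz : q * z = z * q) (h : q * u = z * u * q)
    (h' : q' * u = z * u * q') : (q * q') * u = u * (q * q') := by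
  calc q * q' * u = q * (q' * u) := mul_assoc _ _ _
    _ = q * (z * u * q') := by rw [h']
    _ = (q * z) * u * q' := by simp only [mul_assoc]
    _ = (z * q) * u * q' := by rw [hqz]
    _ = z * (q * u) * q' := by simp only [mul_assoc]
    _ = z * (z * u * q) * q' := by rw [h]
    _ = (z * z) * u * q * q' := by simp only [mul_assoc]
    _ = u * (q * q') := by rw [hz, one_mul, mul_assoc]

theorem SympQ.comm_or {z : G} {Q : Subgroup G} (hS : SympQ z Q) {q q' : G} (hq : q ∈ Q)
    (hq' : q' ∈ Q) : q * q' = q' * q ∨ q * q' = z * q' * q := by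
  rcases hS.cm q hq q' hq' with h | h
  · left
    rw [mul_inv_eq_one, mul_inv_eq_iff_eq_mul] at h
    exact h
  · right
    rw [mul_inv_eq_iff_eq_mul, mul_inv_eq_iff_eq_mul] at h
    exact h

theorem SympQ.zconj {z : G} {Q : Subgroup G} (hS : SympQ z Q) {d : G} (hd : d ∈ Q) :
    z * d * z = d := by
  rw [mul_assoc, hS.comm d hd, ← mul_assoc, hS.zsq, one_mul]

/-- Elements of `Q` commuting with `C_Q(a)` are central or become central after multiplying by
`a`. -/
theorem SympQ.centralizer_centralizer {z a : G} {Q : Subgroup G} (hS : SympQ z Q) (haQ : a ∈ Q)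
    {d : G} (hd : d ∈ Q) (hX : ∀ x ∈ Q, x * a = a * x → x * d = d * x) :
    (∀ q ∈ Q, d * q = q * d) ∨ (∀ q ∈ Q, (d * a) * q = q * (d * a)) := by
  by_cases hc : ∀ q ∈ Q, d * q = q * d
  · exact Or.inl hc
  · right
    intro q hq
    by_cases hqa : q * a = a * q
    · have h1 := hX q hq hqa
      calc d * a * q = d * (a * q) := mul_assoc _ _ _
        _ = d * (q * a) := by rw [hqa]
        _ = (d * q) * a := (mul_assoc _ _ _).symm
        _ = (q * d) * a := by rw [h1]
        _ = q * (d * a) := mul_assoc _ _ _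
    · have h1 : q * a = z * a * q := (hS.comm_or hq haQ).resolve_left hqa
      have h2 : q * d = z * d * q := by
        rcases hS.comm_or hq hd with h | h
        · exfalso
          apply hc
          intro q' hq'
          by_cases hq'a : q' * a = a * q'
          · exact (hX q' hq' hq'a).symm
          · have h3 : q' * a = z * a * q' := (hS.comm_or hq' haQ).resolve_left hq'a
            have hqz : q⁻¹ * z = z * q⁻¹ := hS.comm _ (Q.inv_mem hq)
            have h4 : (q⁻¹ * q') * a = a * (q⁻¹ * q') :=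
              tw_mul hS.zsq hqz (tw_inv hS.zsq (hS.comm q hq) h1) h3
            have h5 : Commute (q⁻¹ * q') d := hX _ (Q.mul_mem (Q.inv_mem hq) hq') h4
            have h6 : Commute q d := h
            have h7 := h6.mul_left h5
            rw [mul_inv_cancel_left] at h7
            exact h7.eq.symm
        · exact h
      symm
      calc q * (d * a) = (q * d) * a := (mul_assoc _ _ _).symm
        _ = (z * d * q) * a := by rw [h2]
        _ = z * d * (q * a) := by simp only [mul_assoc]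
        _ = z * d * (z * a * q) := by rw [h1]
        _ = (z * d * z) * a * q := by simp only [mul_assoc]
        _ = d * a * q := by rw [hS.zconj hd]


/-! ### The main case -/

theorem SympQ.inter_subset {z a : G} {Q P : Subgroup G} (hS : SympQ z Q) (hP : SympQ a P)
    (haQ : a ∈ Q) (hzP : z ∉ P) : ∀ d ∈ Q, d ∈ P → d = 1 ∨ d = a := by
  have haP : a ∈ P := hP.z_mem
  have key1 : ∀ x ∈ Q, x * a = a * x → ∀ d ∈ Q, d ∈ P → x * d = d * x := by
    intro x hx hxa d hdQ hdP
    rcases hS.comm_or hx hdQ with h | h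
    · exact h
    · exfalso
      apply hzP
      have h1 : x * d * x⁻¹ * d⁻¹ = z := by rw [h]; group
      rw [← h1]
      exact P.mul_mem (hP.norm x hxa d hdP) (P.inv_mem hdP)
  have central_case : ∀ d ∈ Q, d ∈ P → (∀ q ∈ Q, d * q = q * d) → d = 1 := by
    intro d hdQ hdP hc
    rcases hS.sq d hdQ with h | h
    · rcases hS.cinv d hdQ hc h with h1 | h1
      · exact h1
      · exfalso; rw [h1] at hdP; exact hzP hdP
    · exfalso; apply hzP; rw [← h]; exact P.mul_mem hdP hdP
  intro d hdQ hdP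
  rcases hS.centralizer_centralizer haQ hdQ (fun x hx hxa => key1 x hx hxa d hdQ hdP) with h | h
  · left; exact central_case d hdQ hdP h
  · right
    have h1 := central_case (d * a) (Q.mul_mem hdQ haQ) (P.mul_mem hdP haP) h
    have h2 : d = a⁻¹ := eq_inv_of_mul_eq_one_left h1
    rw [h2, sq_inv_self hP.zsq]

theorem SympQ.comm_XY {z a : G} {Q P : Subgroup G} (hS : SympQ z Q) (hP : SympQ a P)
    (haQ : a ∈ Q) (hzP : z ∉ P) {x y : G} (hx : x ∈ Q) (hxa : x * a = a * x) (hy : y ∈ P)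
    (hyz : y * z = z * y) : x * y * x⁻¹ * y⁻¹ = 1 ∨ x * y * x⁻¹ * y⁻¹ = a := by
  apply hS.inter_subset hP haQ hzP
  · have : x * y * x⁻¹ * y⁻¹ = x * (y * x⁻¹ * y⁻¹) := by group
    rw [this]
    exact Q.mul_mem hx (hS.norm y hyz x⁻¹ (Q.inv_mem hx))
  · exact P.mul_mem (hP.norm x hxa y hy) (P.inv_mem hy)

theorem SympQ.main_case {z a : G} {Q P : Subgroup G} (hS : SympQ z Q) (hP : SympQ a P)
    (haQ : a ∈ Q) (hzP : z ∉ P) (hD : ∀ y ∈ P, y * z * y⁻¹ ≠ a * z)
    {x : G} (hx : x ∈ Q) (hxa : x * a = a * x) (hx2 : x * x = z) : False := by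
  have hz2 := hS.zsq
  have ha2 := hP.zsq
  have haz : a * z = z * a := hS.comm a haQ
  have hzinv : z⁻¹ = z := sq_inv_self hz2
  have hzn : ∀ y ∈ P, z * y * z ∈ P := by
    intro y hy
    have := hP.norm z haz.symm y hy
    rwa [hzinv] at this
  have hD' : ∀ y ∈ P, (y⁻¹ * (z * y * z) = 1 ∨ y⁻¹ * (z * y * z) = a) → y * z = z * y := by
    intro y hy h
    rcases h with h | h
    · rw [inv_mul_eq_one] at h
      calc y * z = (z * y * z) * z := by rw [← h]
        _ = z * y * (z * z) := by simp only [mul_assoc]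
        _ = z * y := by rw [hz2, mul_one]
    · exfalso
      apply hD y⁻¹ (P.inv_mem hy)
      rw [inv_inv]
      calc y⁻¹ * z * y = y⁻¹ * z * y * (z * z) := by rw [hz2, mul_one]
        _ = y⁻¹ * (z * y * z) * z := by simp only [mul_assoc]
        _ = a * z := by rw [h]
  have hE : ∀ y ∈ P, (y⁻¹ * (z * y * z)) * z = z * (y⁻¹ * (z * y * z)) := by
    intro y hy
    have hc : y⁻¹ * (z * y * z) ∈ P := P.mul_mem (P.inv_mem hy) (hzn y hy)
    apply hD' _ hc
    have h1 : z * (y⁻¹ * (z⁻¹ * y * z)) * z⁻¹ = (y⁻¹ * (z * y * z⁻¹))⁻¹ := by group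
    rw [hzinv] at h1
    rw [h1]
    exact hP.sq _ (P.inv_mem hc)
  have hν : ∀ y ∈ P, y⁻¹ * (x * y * x⁻¹) ∈ P := fun y hy =>
    P.mul_mem (P.inv_mem hy) (hP.norm x hxa y hy)
  have hxinv2 : x⁻¹ * x⁻¹ = z := by
    rw [← mul_inv_rev, hx2, hzinv]
  have hii : ∀ y ∈ P, ∀ d : G, d = y⁻¹ * (x * y * x⁻¹) → ∃ e : G, (e = 1 ∨ e = a) ∧
      d⁻¹ * (x * d * x⁻¹) = e * (y⁻¹ * (z * y * z)) := by
    intro y hy d hd
    have hu : x * y⁻¹ * x⁻¹ ∈ P := hP.norm x hxa _ (P.inv_mem hy)
    refine ⟨(x * y⁻¹ * x⁻¹ * y) * (x * y⁻¹ * x⁻¹ * y), hP.sq _ (P.mul_mem hu hy), ?_⟩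
    have h1 : (y⁻¹ * (x * y * x⁻¹))⁻¹ * (x * (y⁻¹ * (x * y * x⁻¹)) * x⁻¹)
        = (x * y⁻¹ * x⁻¹ * y) * (x * y⁻¹ * x⁻¹) * ((x * x) * y * (x⁻¹ * x⁻¹)) := by group
    rw [hd, h1, hx2, hxinv2]
    group
  have hiii : ∀ y ∈ P, y * z = z * y →
      (y⁻¹ * (x * y * x⁻¹) = 1 ∨ y⁻¹ * (x * y * x⁻¹) = a) := by
    intro y hy hyz
    have h1 : y⁻¹ * (x * y * x⁻¹) = y⁻¹ * (x * y * x⁻¹ * y⁻¹) * y := by group
    rcases hS.comm_XY hP haQ hzP hx hxa hy hyz with h | h
    · left; rw [h1, h]; group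
    · right; rw [h1, h]
      have := hP.comm y hy
      rw [mul_assoc, ← this, ← mul_assoc, inv_mul_cancel, one_mul]
  have hcancel : ∀ e c : G, (e = 1 ∨ e = a) → (e * c = 1 ∨ e * c = a) → (c = 1 ∨ c = a) := by
    rintro e c (rfl | rfl) h
    · simpa using h
    · rcases h with h | h
      · right
        have := eq_inv_of_mul_eq_one_right h
        rw [this, sq_inv_self ha2]
      · left
        have h' : e * c = e * 1 := by rw [h, mul_one]
        exact mul_left_cancel h'
  have hez : ∀ e : G, (e = 1 ∨ e = a) → e * z = z * e := by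
    rintro e (rfl | rfl)
    · simp
    · exact haz
  have hall : ∀ y ∈ P, y * z = z * y := by
    intro y hy
    obtain ⟨d, hd⟩ : ∃ d, d = y⁻¹ * (x * y * x⁻¹) := ⟨_, rfl⟩
    have hdP : d ∈ P := by rw [hd]; exact hν y hy
    obtain ⟨e', he'⟩ : ∃ e', e' = d⁻¹ * (x * d * x⁻¹) := ⟨_, rfl⟩
    have he'P : e' ∈ P := by rw [he']; exact hν d hdP
    obtain ⟨e₁, he₁, h1⟩ := hii y hy d hd
    obtain ⟨e₂, he₂, h2⟩ := hii d hdP e' he'
    rw [← he'] at h1
    have hcomm : e' * z = z * e' := by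
      rw [h1, mul_assoc, hE y hy, ← mul_assoc, hez e₁ he₁, mul_assoc]
    have h3 := hiii e' he'P hcomm
    have h4 := hcancel e₂ _ he₂ (by rw [← h2]; exact h3)
    have hdz := hD' d hdP h4
    have h5 := hiii d hdP hdz
    rw [← he', h1] at h5
    have h6 := hcancel e₁ _ he₁ h5
    exact hD' y hy h6
  exact hzP (hP.cent z haz.symm (fun y hy => (hall y hy).symm))


/-! ### Existence of a twisting element, and the conjugation step -/

theorem SympQ.exists_twist {z a : G} {Q : Subgroup G} (hS : SympQ z Q) (haQ : a ∈ Q)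
    (ha2 : a * a = 1) (ha1 : a ≠ 1) (hne : a ≠ z) : ∃ t ∈ Q, t * a = z * a * t := by
  by_contra hno
  push Not at hno
  have hc : ∀ q ∈ Q, a * q = q * a := by
    intro q hq
    rcases hS.comm_or hq haQ with h | h
    · exact h.symm
    · exact absurd h (hno q hq)
  rcases hS.cinv a haQ hc ha2 with h | h
  · exact ha1 h
  · exact hne h

theorem SympQ.stepD {z : G} {Q : Subgroup G} (hS : SympQ z Q) (g : G) {a : G}
    (ha : a = g * z * g⁻¹) (haQ : a ∈ Q) {t : G} (ht : t ∈ Q) (hta : t * a = z * a * t)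
    {y : G} (hya : y * a = a * y) (hyz : y * z * y⁻¹ = a * z) : g⁻¹ * z * g ∈ Q := by
  have hz2 := hS.zsq
  have haz : a * z = z * a := hS.comm a haQ
  have htz : t * z = z * t := hS.comm t ht
  have h1 : t⁻¹ * a * t = z * a := by
    rw [tw_inv hz2 htz hta]; group
  have h2 : t⁻¹ * (a * z) * t = a := by
    calc t⁻¹ * (a * z) * t = t⁻¹ * a * (z * t) := by simp only [mul_assoc]
      _ = t⁻¹ * a * (t * z) := by rw [htz]
      _ = (t⁻¹ * a * t) * z := by simp only [mul_assoc]
      _ = z * a * z := by rw [h1]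
      _ = z * (z * a) := by rw [mul_assoc, haz]
      _ = a := by rw [← mul_assoc, hz2, one_mul]
  have hga : g⁻¹ * a * g = z := by rw [ha]; group
  have hh : (g⁻¹ * t⁻¹ * y) * z = z * (g⁻¹ * t⁻¹ * y) := by
    have e1 : (g⁻¹ * t⁻¹ * y) * z * (g⁻¹ * t⁻¹ * y)⁻¹ = g⁻¹ * (t⁻¹ * (y * z * y⁻¹) * t) * g := by
      group
    rw [hyz, h2, hga] at e1
    exact mul_inv_eq_iff_eq_mul.mp e1
  have h3 := hS.norm _ hh a haQ
  have e2 : (g⁻¹ * t⁻¹ * y) * a * (g⁻¹ * t⁻¹ * y)⁻¹ = g⁻¹ * (t⁻¹ * (y * a * y⁻¹) * t) * g := by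
    group
  have hyay : y * a * y⁻¹ = a := by rw [hya]; group
  rw [e2, hyay, h1] at h3
  have e3 : g⁻¹ * (z * a) * g = (g⁻¹ * z * g) * (g⁻¹ * a * g) := by group
  rw [e3, hga] at h3
  have := Q.mul_mem h3 (Q.inv_mem hS.z_mem)
  rwa [mul_inv_cancel_right] at this

/-! ### The small case: `C_Q(a)` of exponent two -/

theorem commute_of_sq_of_odd {u v : G} {m : ℕ} (hm : Odd m) (hu : u ^ m = 1)
    (h : (u * u) * v = v * (u * u)) : u * v = v * u := by
  obtain ⟨j, rfl⟩ := hm
  have h1 : u = (u * u) ^ (j + 1) := by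
    rw [← pow_two, ← pow_mul]
    have : 2 * (j + 1) = (2 * j + 1) + 1 := by ring
    rw [this, pow_succ, hu, one_mul]
  have hc : Commute (u * u) v := h
  have := (hc.pow_left (j + 1)).eq
  rw [← h1] at this
  exact this

theorem SympQ.small_X {z a : G} {Q : Subgroup G} (hS : SympQ z Q) (haQ : a ∈ Q)
    (ha2 : a * a = 1) (hX2 : ∀ x ∈ Q, x * a = a * x → x * x = 1) :
    ∀ x ∈ Q, x * a = a * x → x = 1 ∨ x = z ∨ x = a ∨ x = a * z := by
  intro x hx hxa
  have hab : ∀ x' ∈ Q, x' * a = a * x' → x' * x = x * x' := by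
    intro x' hx' hx'a
    have h1 : (x' * x) * a = a * (x' * x) := by
      rw [mul_assoc, hxa, ← mul_assoc, hx'a, mul_assoc]
    have h2 := hX2 _ (Q.mul_mem hx' hx) h1
    have h3 := hX2 x hx hxa
    have h4 := hX2 x' hx' hx'a
    have h5 : x' * x = (x' * x)⁻¹ := (sq_inv_self h2).symm
    rw [h5, mul_inv_rev, sq_inv_self h3, sq_inv_self h4]
  rcases hS.centralizer_centralizer haQ hx hab with h | h
  · rcases hS.cinv x hx h (hX2 x hx hxa) with h1 | h1
    · exact Or.inl h1
    · exact Or.inr (Or.inl h1)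
  · have h1 : (x * a) * (x * a) = 1 := by
      calc x * a * (x * a) = x * (a * x) * a := by simp only [mul_assoc]
        _ = x * (x * a) * a := by rw [hxa]
        _ = (x * x) * (a * a) := by simp only [mul_assoc]
        _ = 1 := by rw [hX2 x hx hxa, ha2, one_mul]
    rcases hS.cinv (x * a) (Q.mul_mem hx haQ) h h1 with h2 | h2
    · right; right; left
      have := eq_inv_of_mul_eq_one_left h2
      rw [this, sq_inv_self ha2]
    · right; right; right
      have : x = z * a⁻¹ := eq_mul_inv_of_mul_eq h2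
      rw [this, sq_inv_self ha2, hS.comm a haQ]

theorem SympQ.coset_of_twist {z a : G} {Q : Subgroup G} (hS : SympQ z Q) (haQ : a ∈ Q)
    {t : G} (ht : t ∈ Q) (hta : t * a = z * a * t) :
    ∀ q ∈ Q, q * a = a * q ∨ (t⁻¹ * q) * a = a * (t⁻¹ * q) := by
  intro q hq
  by_cases hqa : q * a = a * q
  · exact Or.inl hqa
  · right
    have h1 : q * a = z * a * q := (hS.comm_or hq haQ).resolve_left hqa
    exact tw_mul hS.zsq (hS.comm _ (Q.inv_mem ht)) (tw_inv hS.zsq (hS.comm t ht) hta) h1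

/-- In the small case `C_G(z)` has exponent dividing `16`. -/
theorem SympQ.small_case {z a : G} {Q : Subgroup G} (hS : SympQ z Q) (haQ : a ∈ Q)
    (ha2 : a * a = 1) (ha1 : a ≠ 1) (hne : a ≠ z)
    (hX2 : ∀ x ∈ Q, x * a = a * x → x * x = 1) :
    ∀ h : G, h * z = z * h → h ^ 16 = 1 := by
  have hz2 := hS.zsq
  have haz : a * z = z * a := hS.comm a haQ
  obtain ⟨t, ht, hta⟩ := hS.exists_twist haQ ha2 ha1 hne
  obtain ⟨c, hc, hca, hc2⟩ : ∃ c ∈ Q, c * a = z * a * c ∧ c * c = z := by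
    rcases hS.sq t ht with h | h
    · have hat : a * t = z * (t * a) := tw_swap hz2 hta
      have htz : t * z = z * t := hS.comm t ht
      refine ⟨t * a, Q.mul_mem ht haQ, ?_, ?_⟩
      · have e1 : t * a * a = t := by rw [mul_assoc, ha2, mul_one]
        have e2 : z * a * (t * a) = t := by
          calc z * a * (t * a) = z * (a * t) * a := by simp only [mul_assoc]
            _ = z * (z * (t * a)) * a := by rw [hat]
            _ = (z * z) * t * (a * a) := by simp only [mul_assoc]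
            _ = t := by rw [hz2, ha2, one_mul, mul_one]
        rw [e1, e2]
      · calc t * a * (t * a) = t * (a * t) * a := by simp only [mul_assoc]
          _ = t * (z * (t * a)) * a := by rw [hat]
          _ = (t * z) * t * (a * a) := by simp only [mul_assoc]
          _ = z * (t * t) := by rw [htz, ha2, mul_one, mul_assoc]
          _ = z := by rw [h, mul_one]
    · exact ⟨t, ht, hta, h⟩
  have hcz : c * z = z * c := hS.comm c hc
  have hac : a * c = z * (c * a) := tw_swap hz2 hca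
  have r1 : ∀ w : G, z * (z * w) = w := fun w => by rw [← mul_assoc, hz2, one_mul]
  have r2 : ∀ w : G, a * (a * w) = w := fun w => by rw [← mul_assoc, ha2, one_mul]
  have r3 : ∀ w : G, c * (c * w) = z * w := fun w => by rw [← mul_assoc, hc2]
  have r4 : ∀ w : G, a * (z * w) = z * (a * w) := fun w => by
    rw [← mul_assoc, haz, mul_assoc]
  have r5 : ∀ w : G, c * (z * w) = z * (c * w) := fun w => by
    rw [← mul_assoc, hcz, mul_assoc]
  have r6 : ∀ w : G, a * (c * w) = z * (c * (a * w)) := fun w => by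
    rw [← mul_assoc, hac, mul_assoc, mul_assoc]
  have hlist : ∀ q ∈ Q, (q * q = 1 ∧ (q = 1 ∨ q = z ∨ q = a ∨ q = a * z ∨ q = c * a ∨
      q = c * (a * z))) ∨ (q * q = z ∧ (q = c ∨ q = c * z)) := by
    intro q hq
    rcases hS.coset_of_twist haQ hc hca q hq with h | h
    · left
      refine ⟨hX2 q hq h, ?_⟩
      rcases hS.small_X haQ ha2 hX2 q hq h with e | e | e | e
      · exact Or.inl e
      · exact Or.inr (Or.inl e)
      · exact Or.inr (Or.inr (Or.inl e))
      · exact Or.inr (Or.inr (Or.inr (Or.inl e)))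
    · have hq' : q = c * (c⁻¹ * q) := by group
      rcases hS.small_X haQ ha2 hX2 (c⁻¹ * q) (Q.mul_mem (Q.inv_mem hc) hq) h with e | e | e | e
      · right
        rw [e, mul_one] at hq'
        exact ⟨by rw [hq', hc2], Or.inl hq'⟩
      · right
        rw [e] at hq'
        refine ⟨?_, Or.inr hq'⟩
        rw [hq']
        simp only [mul_assoc, mul_one, one_mul, hz2, ha2, hc2, haz, hcz, hac, r1, r2, r3, r4,
          r5, r6]
      · left
        rw [e] at hq'
        refine ⟨?_, Or.inr (Or.inr (Or.inr (Or.inr (Or.inl hq'))))⟩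
        rw [hq']
        simp only [mul_assoc, mul_one, one_mul, hz2, ha2, hc2, haz, hcz, hac, r1, r2, r3, r4,
          r5, r6]
      · left
        rw [e] at hq'
        refine ⟨?_, Or.inr (Or.inr (Or.inr (Or.inr (Or.inr hq'))))⟩
        rw [hq']
        simp only [mul_assoc, mul_one, one_mul, hz2, ha2, hc2, haz, hcz, hac, r1, r2, r3, r4,
          r5, r6]
  intro h hhz
  have hφz : h * z * h⁻¹ = z := by rw [hhz]; group
  have hφmul : ∀ x y : G, h * (x * y) * h⁻¹ = (h * x * h⁻¹) * (h * y * h⁻¹) := by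
    intro x y; group
  have hc' : h * c * h⁻¹ = c ∨ h * c * h⁻¹ = c * z := by
    have hsq : (h * c * h⁻¹) * (h * c * h⁻¹) = z := by rw [← hφmul, hc2, hφz]
    rcases hlist _ (hS.norm h hhz c hc) with ⟨e, -⟩ | ⟨-, e⟩
    · rw [e] at hsq
      exact absurd hsq.symm hS.zne
    · exact e
  have hb : h * a * h⁻¹ = a ∨ h * a * h⁻¹ = a * z ∨ h * a * h⁻¹ = c * a ∨
      h * a * h⁻¹ = c * (a * z) := by
    have hsq : (h * a * h⁻¹) * (h * a * h⁻¹) = 1 := by
      rw [← hφmul, ha2]; group
    have hback : a = h⁻¹ * (h * a * h⁻¹) * h := by group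
    rcases hlist _ (hS.norm h hhz a haQ) with ⟨-, e⟩ | ⟨e, -⟩
    · rcases e with e | e | e | e | e | e
      · exfalso
        rw [e] at hback
        apply ha1
        rw [hback]; group
      · exfalso
        rw [e] at hback
        apply hne
        rw [hback, mul_assoc, ← hhz, ← mul_assoc, inv_mul_cancel, one_mul]
      · exact Or.inl e
      · exact Or.inr (Or.inl e)
      · exact Or.inr (Or.inr (Or.inl e))
      · exact Or.inr (Or.inr (Or.inr e))
    · rw [e] at hsq
      exact absurd hsq hS.zne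
  have hka : (h * h) * a * (h * h)⁻¹ = a ∨ (h * h) * a * (h * h)⁻¹ = z * a := by
    have e0 : (h * h) * a * (h * h)⁻¹ = h * (h * a * h⁻¹) * h⁻¹ := by group
    rcases hb with e | e | e | e
    · left; rw [e0, e, e]
    · left; rw [e0, e, hφmul, e, hφz]
      simp only [mul_assoc, mul_one, one_mul, hz2, ha2, hc2, haz, hcz, hac, r1, r2, r3, r4,
        r5, r6]
    · rw [e0, e, hφmul, e]
      rcases hc' with e' | e'
      · right; rw [e']
        simp only [mul_assoc, mul_one, one_mul, hz2, ha2, hc2, haz, hcz, hac, r1, r2, r3, r4,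
          r5, r6]
      · left; rw [e']
        simp only [mul_assoc, mul_one, one_mul, hz2, ha2, hc2, haz, hcz, hac, r1, r2, r3, r4,
          r5, r6]
    · rw [e0, e, hφmul, hφmul, e, hφz]
      rcases hc' with e' | e'
      · right; rw [e']
        simp only [mul_assoc, mul_one, one_mul, hz2, ha2, hc2, haz, hcz, hac, r1, r2, r3, r4,
          r5, r6]
      · left; rw [e']
        simp only [mul_assoc, mul_one, one_mul, hz2, ha2, hc2, haz, hcz, hac, r1, r2, r3, r4,
          r5, r6]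
  have hkc : (h * h) * c * (h * h)⁻¹ = c := by
    have e0 : (h * h) * c * (h * h)⁻¹ = h * (h * c * h⁻¹) * h⁻¹ := by group
    rcases hc' with e | e
    · rw [e0, e, e]
    · rw [e0, e, hφmul, e, hφz]
      simp only [mul_assoc, mul_one, one_mul, hz2, ha2, hc2, haz, hcz, hac, r1, r2, r3, r4,
        r5, r6]
  have hkz : Commute (h * h) z := by
    have h1 : Commute h z := hhz
    exact h1.mul_left h1
  have hkc' : Commute (h * h) c := mul_inv_eq_iff_eq_mul.mp hkc
  have hKz : Commute ((h * h) * (h * h)) z := hkz.mul_left hkz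
  have hKc : Commute ((h * h) * (h * h)) c := hkc'.mul_left hkc'
  have hKa : Commute ((h * h) * (h * h)) a := by
    rcases hka with e | e
    · have h1 : Commute (h * h) a := mul_inv_eq_iff_eq_mul.mp e
      exact h1.mul_left h1
    · have h1 : (h * h) * a = z * a * (h * h) := mul_inv_eq_iff_eq_mul.mp e
      exact tw_mul hz2 hkz.eq h1 h1
  have hKQ : ∀ q ∈ Q, ((h * h) * (h * h)) * q = q * ((h * h) * (h * h)) := by
    intro q hq
    have goal : Commute ((h * h) * (h * h)) q := by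
      rcases hlist q hq with ⟨-, e⟩ | ⟨-, e⟩
      · rcases e with e | e | e | e | e | e
        · rw [e]; exact Commute.one_right _
        · rw [e]; exact hKz
        · rw [e]; exact hKa
        · rw [e]; exact hKa.mul_right hKz
        · rw [e]; exact hKc.mul_right hKa
        · rw [e]; exact hKc.mul_right (hKa.mul_right hKz)
      · rcases e with e | e
        · rw [e]; exact hKc
        · rw [e]; exact hKc.mul_right hKz
    exact goal.eq
  have hKmem : (h * h) * (h * h) ∈ Q := hS.cent _ hKz.eq hKQ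
  have e4 : h ^ 4 = (h * h) * (h * h) := by rw [← pow_two, ← pow_two, ← pow_mul]
  have e16 : h ^ 16 = (h ^ 4 * h ^ 4) * (h ^ 4 * h ^ 4) := by rw [← pow_add, ← pow_add]
  rw [e16, e4]
  rcases hS.sq _ hKmem with e | e
  · rw [e, one_mul]
  · rw [e, hz2]

/-- The central involution lies in the conjugate of `Q`. -/
theorem SympQ.z_mem_conj {z : G} {Q : Subgroup G} (hS : SympQ z Q) (g : G)
    (hne : g * z * g⁻¹ ≠ z) (hin : g * z * g⁻¹ ∈ Q)
    (h5 : (∀ h : G, h * z = z * h → h ^ 16 = 1) → ∀ h : G, h * z = z * h → h ∈ Q) :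
    z ∈ Q.map (MulAut.conj g).toMonoidHom := by
  by_contra hzP
  obtain ⟨a, ha⟩ : ∃ a, a = g * z * g⁻¹ := ⟨_, rfl⟩
  rw [← ha] at hne hin
  have hP : SympQ a (Q.map (MulAut.conj g).toMonoidHom) := by
    have := hS.map (MulAut.conj g)
    rwa [MulAut.conj_apply, ← ha] at this
  have hz2 := hS.zsq
  have ha2 : a * a = 1 := hP.zsq
  have ha1 : a ≠ 1 := hP.zne
  have haz : a * z = z * a := hS.comm a hin
  obtain ⟨t, ht, hta⟩ := hS.exists_twist hin ha2 ha1 hne
  have hgQ : g⁻¹ * z * g ∉ Q := by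
    intro h
    apply hzP
    rw [mem_map_conj_iff]; exact h
  have hD : ∀ y ∈ Q.map (MulAut.conj g).toMonoidHom, y * z * y⁻¹ ≠ a * z := by
    intro y hy hyz
    exact hgQ (hS.stepD g ha hin ht hta (hP.comm y hy) hyz)
  by_cases hex : ∃ x ∈ Q, x * a = a * x ∧ x * x = z
  · obtain ⟨x, hx, hxa, hx2⟩ := hex
    exact hS.main_case hP hin hzP hD hx hxa hx2
  · have hX2 : ∀ x ∈ Q, x * a = a * x → x * x = 1 := by
      intro x hx hxa
      rcases hS.sq x hx with h | h
      · exact h
      · exact absurd ⟨x, hx, hxa, h⟩ hex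
    have h16 := hS.small_case hin ha2 ha1 hne hX2
    apply hgQ
    apply h5 h16
    have h1 : g⁻¹ * (a * z) * g = g⁻¹ * (z * a) * g := by rw [haz]
    rw [ha] at h1
    have e1 : g⁻¹ * (g * z * g⁻¹ * z) * g = z * (g⁻¹ * z * g) := by group
    have e2 : g⁻¹ * (z * (g * z * g⁻¹)) * g = (g⁻¹ * z * g) * z := by group
    rw [e1, e2] at h1
    exact h1.symm

/-- `Q` and its conjugate induce the full automorphism group of the four-group `⟨z, a⟩`. -/
theorem SympQ.fuse_all {z a : G} {Q P : Subgroup G} (hS : SympQ z Q) (hP : SympQ a P)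
    (haQ : a ∈ Q) (hzP : z ∈ P) (hne : a ≠ z) :
    ∀ u ∈ Subgroup.closure ({z, a} : Set G), ∀ v ∈ Subgroup.closure ({z, a} : Set G),
      u ≠ 1 → v ≠ 1 → u ≠ v → ∃ x ∈ Q ⊔ P, x * z * x⁻¹ = u ∧ x * a * x⁻¹ = v := by
  have hz2 := hS.zsq
  have ha2 := hP.zsq
  have haz : a * z = z * a := hS.comm a haQ
  obtain ⟨t, ht, hta⟩ := hS.exists_twist haQ ha2 hP.zne hne
  obtain ⟨s, hs, hsz⟩ := hP.exists_twist hzP hz2 hS.zne (Ne.symm hne)
  have htz : t * z = z * t := hS.comm t ht
  have hsa : s * a = a * s := hP.comm s hs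
  have ct_z : t * z * t⁻¹ = z := by rw [htz]; group
  have ct_a : t * a * t⁻¹ = z * a := by rw [hta]; group
  have cs_a : s * a * s⁻¹ = a := by rw [hsa]; group
  have cs_z : s * z * s⁻¹ = a * z := by rw [hsz]; group
  have r1 : ∀ w : G, z * (z * w) = w := fun w => by rw [← mul_assoc, hz2, one_mul]
  have r2 : ∀ w : G, a * (a * w) = w := fun w => by rw [← mul_assoc, ha2, one_mul]
  have r4 : ∀ w : G, a * (z * w) = z * (a * w) := fun w => by
    rw [← mul_assoc, haz, mul_assoc]
  have hzinv : z⁻¹ = z := sq_inv_self hz2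
  have hainv : a⁻¹ = a := sq_inv_self ha2
  have hlist : ∀ u ∈ Subgroup.closure ({z, a} : Set G), u = 1 ∨ u = z ∨ u = a ∨ u = z * a := by
    intro u hu
    induction hu using Subgroup.closure_induction with
    | mem x hx =>
      rcases hx with rfl | hx
      · exact Or.inr (Or.inl rfl)
      · rw [Set.mem_singleton_iff] at hx
        exact Or.inr (Or.inr (Or.inl hx))
    | one => exact Or.inl rfl
    | mul x y _ _ hx hy =>
      rcases hx with e | e | e | e <;> rcases hy with e' | e' | e' | e' <;> rw [e, e'] <;>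
        simp only [mul_assoc, mul_one, one_mul, hz2, ha2, haz, r1, r2, r4, true_or, or_true]
    | inv x _ hx =>
      rcases hx with e | e | e | e <;> rw [e] <;>
        simp only [mul_inv_rev, hzinv, hainv, inv_one, mul_assoc, mul_one, one_mul, hz2, ha2,
          haz, r1, r2, r4, true_or, or_true]
  have htQP : t ∈ Q ⊔ P := Subgroup.mem_sup_left ht
  have hsQP : s ∈ Q ⊔ P := Subgroup.mem_sup_right hs
  have hcm : ∀ x y w : G, (x * y) * w * (x * y)⁻¹ = x * (y * w * y⁻¹) * x⁻¹ := by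
    intro x y w; group
  have hmm : ∀ x w w' : G, x * (w * w') * x⁻¹ = (x * w * x⁻¹) * (x * w' * x⁻¹) := by
    intro x w w'; group
  have e1 : z * a * z = a := by rw [mul_assoc, haz, ← mul_assoc, hz2, one_mul]
  have e2 : a * z * a = z := by rw [haz, mul_assoc, ha2, mul_one]
  intro u hu v hv hu1 hv1 huv
  rcases hlist u hu with eu | eu | eu | eu
  · exact absurd eu hu1
  · rcases hlist v hv with ev | ev | ev | ev
    · exact absurd ev hv1
    · exact absurd (eu.trans ev.symm) huv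
    · refine ⟨1, Subgroup.one_mem _, ?_, ?_⟩
      · rw [eu]; group
      · rw [ev]; group
    · refine ⟨t, htQP, ?_, ?_⟩
      · rw [eu]; exact ct_z
      · rw [ev]; exact ct_a
  · rcases hlist v hv with ev | ev | ev | ev
    · exact absurd ev hv1
    · refine ⟨s * t * s, Subgroup.mul_mem _ (Subgroup.mul_mem _ hsQP htQP) hsQP, ?_, ?_⟩
      · rw [eu, hcm (s * t) s, cs_z, hcm s t, hmm t, ct_a, ct_z, e1, cs_a]
      · rw [ev, hcm (s * t) s, cs_a, hcm s t, ct_a, hmm s, cs_z, cs_a, e2]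
    · exact absurd (eu.trans ev.symm) huv
    · refine ⟨t * s, Subgroup.mul_mem _ htQP hsQP, ?_, ?_⟩
      · rw [eu, hcm t s, cs_z, hmm t, ct_a, ct_z, e1]
      · rw [ev, hcm t s, cs_a, ct_a]
  · rcases hlist v hv with ev | ev | ev | ev
    · exact absurd ev hv1
    · refine ⟨s * t, Subgroup.mul_mem _ hsQP htQP, ?_, ?_⟩
      · rw [eu, hcm s t, ct_z, cs_z, haz]
      · rw [ev, hcm s t, ct_a, hmm s, cs_z, cs_a, e2]
    · refine ⟨s, hsQP, ?_, ?_⟩
      · rw [eu, cs_z, haz]
      · rw [ev, cs_a]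
    · exact absurd (eu.trans ev.symm) huv

end Cfsg.Agent.Lib.helper97
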