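import Mathlib
import Cfsg.Agent.Lib.helper97.SympFus

/-!
# Elementwise lemmas for extraspecial `2`-groups (in the language of `SympQ`)

`SympQ z Q` together with `CenterTwo z Q` (the centre of `Q` is `{1, z}`) is what an extraspecial
`O_2(C_G(z))` with `C_G(Q) ≤ Q` satisfies.

* `SympQ.subset_eight` / `SympQ.card_le_eight` : a noncentral element with abelian centraliser forces
  `|Q| ≤ 8`.
* `SympQ.exists_comm_eq_z` : if `|Q| > 8`, the centraliser in `Q` of a noncentral element contains
  `a, b` with `[a, b] = z`.
* `SympQ.exists_involution_not_mem` : if `|Q| > 8`, a subgroup `M ∋ z` of "index two" not containing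
  `Q` misses an involution of `Q`.
* `SympQ.eq_of_centralizes_centralizer` : an element of `C_G(z)` centralising `C_Q(u)`, `u` a
  noncentral involution of `Q`, is one of `1, z, u, u z`.
-/

set_option autoImplicit false
set_option linter.unusedSimpArgs false

namespace Cfsg.Agent.Lib.helper97

variable {G : Type*} [Group G]

/-- The centre of `Q` is `{1, z}`. -/
def CenterTwo (z : G) (Q : Subgroup G) : Prop :=
  ∀ r ∈ Q, (∀ q ∈ Q, r * q = q * r) → r = 1 ∨ r = z

theorem SympQ.subset_eight {z : G} {Q : Subgroup G} (hS : SympQ z Q) (hZ : CenterTwo z Q)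
    {a x : G} (ha : a ∈ Q) (hx : x ∈ Q) (hxa : x * a = z * a * x)
    (hab : ∀ c ∈ Q, ∀ c' ∈ Q, c * a = a * c → c' * a = a * c' → c * c' = c' * c) :
    ∀ q ∈ Q, q = 1 ∨ q = z ∨ q = a ∨ q = a * z ∨ q = x ∨ q = x * z ∨ q = x * a ∨
      q = x * (a * z) := by
  have hz2 := hS.zsq
  have haz : a * z = z * a := hS.comm a ha
  have hxz : x * z = z * x := hS.comm x hx
  have hax : a * x = z * x * a := by
    rw [tw_swap hz2 hxa, mul_assoc]
  -- elements of `C_Q(a)` commuting with `x` are central
  have hc1 : ∀ c ∈ Q, c * a = a * c → c * x = x * c → c = 1 ∨ c = z := by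
    intro c hc hca hcx
    apply hZ c hc
    intro q hq
    rcases hS.coset_of_twist ha hx hxa q hq with h | h
    · exact hab c hc q hq hca h
    · have h1 := hab c hc _ (Q.mul_mem (Q.inv_mem hx) hq) hca h
      have h2 : Commute c (x⁻¹ * q) := h1
      have h3 : Commute c x := hcx
      have h4 := h3.mul_right h2
      rw [mul_inv_cancel_left] at h4
      exact h4.eq
  have hC : ∀ c ∈ Q, c * a = a * c → c = 1 ∨ c = z ∨ c = a ∨ c = a * z := by
    intro c hc hca
    rcases hS.comm_or hc hx with h | h
    · rcases hc1 c hc hca h with h1 | h1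
      · exact Or.inl h1
      · exact Or.inr (Or.inl h1)
    · have h1 : (a⁻¹ * c) * x = x * (a⁻¹ * c) :=
        tw_mul hz2 (hS.comm _ (Q.inv_mem ha)) (tw_inv hz2 haz hax) h
      have h2 : (a⁻¹ * c) * a = a * (a⁻¹ * c) := by
        rw [mul_assoc, hca, ← mul_assoc, inv_mul_cancel, one_mul, mul_inv_cancel_left]
      rcases hc1 _ (Q.mul_mem (Q.inv_mem ha) hc) h2 h1 with h3 | h3
      · right; right; left
        rw [inv_mul_eq_one] at h3
        exact h3.symm
      · right; right; right
        rw [inv_mul_eq_iff_eq_mul] at h3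
        exact h3
  intro q hq
  rcases hS.coset_of_twist ha hx hxa q hq with h | h
  · rcases hC q hq h with e | e | e | e
    · exact Or.inl e
    · exact Or.inr (Or.inl e)
    · exact Or.inr (Or.inr (Or.inl e))
    · exact Or.inr (Or.inr (Or.inr (Or.inl e)))
  · have hq' : q = x * (x⁻¹ * q) := by group
    rcases hC _ (Q.mul_mem (Q.inv_mem hx) hq) h with e | e | e | e
    · rw [e, mul_one] at hq'
      exact Or.inr (Or.inr (Or.inr (Or.inr (Or.inl hq'))))
    · rw [e] at hq'
      exact Or.inr (Or.inr (Or.inr (Or.inr (Or.inr (Or.inl hq')))))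
    · rw [e] at hq'
      exact Or.inr (Or.inr (Or.inr (Or.inr (Or.inr (Or.inr (Or.inl hq'))))))
    · rw [e] at hq'
      exact Or.inr (Or.inr (Or.inr (Or.inr (Or.inr (Or.inr (Or.inr hq'))))))

theorem SympQ.card_le_eight {z : G} {Q : Subgroup G} (hS : SympQ z Q) (hZ : CenterTwo z Q)
    {a x : G} (ha : a ∈ Q) (hx : x ∈ Q) (hxa : x * a = z * a * x)
    (hab : ∀ c ∈ Q, ∀ c' ∈ Q, c * a = a * c → c' * a = a * c' → c * c' = c' * c) :
    Nat.card Q ≤ 8 := by
  classical
  have hsub : (Q : Set G) ⊆
      ↑([1, z, a, a * z, x, x * z, x * a, x * (a * z)].toFinset : Finset G) := by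
    intro q hq
    have := hS.subset_eight hZ ha hx hxa hab q hq
    simp only [Finset.mem_coe, List.mem_toFinset, List.mem_cons, List.not_mem_nil, or_false]
    exact this
  have h1 : Nat.card Q = (Q : Set G).ncard := rfl
  rw [h1]
  calc (Q : Set G).ncard ≤ (↑([1, z, a, a * z, x, x * z, x * a, x * (a * z)].toFinset :
        Finset G) : Set G).ncard := Set.ncard_le_ncard hsub (Finset.finite_toSet _)
    _ = ([1, z, a, a * z, x, x * z, x * a, x * (a * z)].toFinset : Finset G).card :=
        Set.ncard_coe_finset _
    _ ≤ [1, z, a, a * z, x, x * z, x * a, x * (a * z)].length := List.toFinset_card_le _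
    _ = 8 := rfl

/-- Noncentral elements are twisted by some element. -/
theorem SympQ.exists_twist_of_ne {z : G} {Q : Subgroup G} (hS : SympQ z Q) (hZ : CenterTwo z Q)
    {a : G} (ha : a ∈ Q) (ha1 : a ≠ 1) (haz : a ≠ z) : ∃ t ∈ Q, t * a = z * a * t := by
  by_contra hno
  push Not at hno
  have hc : ∀ q ∈ Q, a * q = q * a := by
    intro q hq
    rcases hS.comm_or hq ha with h | h
    · exact h.symm
    · exact absurd h (hno q hq)
  rcases hZ a ha hc with h | h
  · exact ha1 h
  · exact haz h

theorem SympQ.exists_comm_eq_z {z : G} {Q : Subgroup G} (hS : SympQ z Q) (hZ : CenterTwo z Q)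
    (hcard : 8 < Nat.card Q) {u t : G} (hu : u ∈ Q) (ht : t ∈ Q) (htu : t * u = z * u * t) :
    ∃ a ∈ Q, ∃ b ∈ Q, a * u = u * a ∧ b * u = u * b ∧ a * b * a⁻¹ * b⁻¹ = z := by
  by_contra hno
  push Not at hno
  have hab : ∀ c ∈ Q, ∀ c' ∈ Q, c * u = u * c → c' * u = u * c' → c * c' = c' * c := by
    intro c hc c' hc' hcu hc'u
    rcases hS.cm c hc c' hc' with h | h
    · rw [mul_inv_eq_one, mul_inv_eq_iff_eq_mul] at h
      exact h
    · exact absurd h (hno c hc c' hc' hcu hc'u)
  have := hS.card_le_eight hZ hu ht htu hab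
  omega

theorem SympQ.exists_involution_not_mem {z : G} {Q : Subgroup G} (hS : SympQ z Q)
    (hZ : CenterTwo z Q) (hcard : 8 < Nat.card Q) (M : Subgroup G) (hzM : z ∈ M)
    (hM : ∀ x ∈ Q, ∀ y ∈ Q, x ∉ M → y ∉ M → x⁻¹ * y ∈ M) {a : G} (ha : a ∈ Q) (haM : a ∉ M) :
    ∃ u ∈ Q, u * u = 1 ∧ u ∉ M := by
  by_contra hno
  push Not at hno
  have hz2 := hS.zsq
  have haz : a * z = z * a := hS.comm a ha
  have ha2 : a * a = z := by
    rcases hS.sq a ha with h | h
    · exact absurd haM (not_not.mpr (hno a ha h))
    · exact h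
  have ha1 : a ≠ 1 := fun h => haM (h ▸ M.one_mem)
  have hane : a ≠ z := fun h => haM (h ▸ hzM)
  obtain ⟨x, hx, hxa⟩ := hS.exists_twist_of_ne hZ ha ha1 hane
  -- elements of `C_Q(a) ∩ M` are involutions
  have hB : ∀ b ∈ Q, b ∈ M → b * a = a * b → b * b = 1 := by
    intro b hb hbM hba
    rcases hS.sq b hb with h | h
    · exact h
    · exfalso
      have h1 : (a * b) * (a * b) = 1 := by
        calc a * b * (a * b) = a * (b * a) * b := by simp only [mul_assoc]
          _ = a * (a * b) * b := by rw [hba]
          _ = (a * a) * (b * b) := by simp only [mul_assoc]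
          _ = 1 := by rw [ha2, h, hz2]
      have h2 := hno (a * b) (Q.mul_mem ha hb) h1
      apply haM
      have := M.mul_mem h2 (M.inv_mem hbM)
      rwa [mul_inv_cancel_right] at this
  have hBB : ∀ b ∈ Q, b ∈ M → b * a = a * b → ∀ b' ∈ Q, b' ∈ M → b' * a = a * b' →
      b * b' = b' * b := by
    intro b hb hbM hba b' hb' hb'M hb'a
    have h1 := hB b hb hbM hba
    have h2 := hB b' hb' hb'M hb'a
    have h3 : (b * b') * a = a * (b * b') := by
      rw [mul_assoc, hb'a, ← mul_assoc, hba, mul_assoc]
    have h4 := hB _ (Q.mul_mem hb hb') (M.mul_mem hbM hb'M) h3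
    have h5 : b * b' = (b * b')⁻¹ := (sq_inv_self h4).symm
    rw [h5, mul_inv_rev, sq_inv_self h1, sq_inv_self h2]
  -- every element of `C_Q(a)` is `b` or `a * b` with `b ∈ C_Q(a) ∩ M`
  have hdec : ∀ c ∈ Q, c * a = a * c → c ∈ M ∨ (a⁻¹ * c ∈ M ∧ (a⁻¹ * c) * a = a * (a⁻¹ * c)) := by
    intro c hc hca
    by_cases hcM : c ∈ M
    · exact Or.inl hcM
    · right
      refine ⟨hM a ha c hc haM hcM, ?_⟩
      rw [mul_assoc, hca, ← mul_assoc, inv_mul_cancel, one_mul, mul_inv_cancel_left]
  have hCB : ∀ c ∈ Q, c * a = a * c → ∀ b ∈ Q, b ∈ M → b * a = a * b → c * b = b * c := by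
    intro c hc hca b hb hbM hba
    rcases hdec c hc hca with h | ⟨h1, h2⟩
    · exact hBB c hc h hca b hb hbM hba
    · have h3 := hBB _ (Q.mul_mem (Q.inv_mem ha) hc) h1 h2 b hb hbM hba
      have h4 : Commute (a⁻¹ * c) b := h3
      have h5 : Commute a b := hba.symm
      have h6 := h5.mul_left h4
      rw [mul_inv_cancel_left] at h6
      exact h6.eq
  have hab : ∀ c ∈ Q, ∀ c' ∈ Q, c * a = a * c → c' * a = a * c' → c * c' = c' * c := by
    intro c hc c' hc' hca hc'a
    rcases hdec c' hc' hc'a with h | ⟨h1, h2⟩
    · exact hCB c hc hca c' hc' h hc'a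
    · have h3 := hCB c hc hca _ (Q.mul_mem (Q.inv_mem ha) hc') h1 h2
      have h4 : Commute c (a⁻¹ * c') := h3
      have h5 : Commute c a := hca
      have h6 := h5.mul_right h4
      rw [mul_inv_cancel_left] at h6
      exact h6.eq
  have := hS.card_le_eight hZ ha hx hxa hab
  omega

/-- An element of `C_G(z)` centralising `C_Q(u)`, for a noncentral involution `u` of `Q`, is one of
`1, z, u, u z`. -/
theorem SympQ.eq_of_centralizes_centralizer {z : G} {Q : Subgroup G} (hS : SympQ z Q)
    (hZ : CenterTwo z Q) {u t : G} (hu : u ∈ Q) (hu2 : u * u = 1) (ht : t ∈ Q)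
    (htu : t * u = z * u * t) {w : G} (hwz : w * z = z * w)
    (hw : ∀ y ∈ Q, y * u = u * y → w * y = y * w) :
    w = 1 ∨ w = z ∨ w = u ∨ w = u * z := by
  have hz2 := hS.zsq
  have hzne := hS.zne
  have huz : u * z = z * u := hS.comm u hu
  have htz : t * z = z * t := hS.comm t ht
  have hut : u * t = z * (t * u) := tw_swap hz2 htu
  obtain ⟨c, hc⟩ : ∃ c, c = t⁻¹ * (w * t * w⁻¹) := ⟨_, rfl⟩
  have hcQ : c ∈ Q := by rw [hc]; exact Q.mul_mem (Q.inv_mem ht) (hS.norm w hwz t ht)
  have hwt : w * t = t * c * w := by rw [hc]; group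
  have hcz : c * z = z * c := hS.comm c hcQ
  have hzcancel : ∀ v : G, v = z * v → False := by
    intro v hv
    apply hzne
    have : 1 * v = z * v := by rw [one_mul]; exact hv
    exact (mul_right_cancel this).symm
  have r1 : ∀ v : G, z * (z * v) = v := fun v => by rw [← mul_assoc, hz2, one_mul]
  have rt : ∀ v : G, t * (z * v) = z * (t * v) := fun v => by
    rw [← mul_assoc, htz, mul_assoc]
  have ru : ∀ v : G, u * (z * v) = z * (u * v) := fun v => by
    rw [← mul_assoc, huz, mul_assoc]
  have rut : ∀ v : G, u * (t * v) = z * (t * (u * v)) := fun v => by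
    rw [← mul_assoc, hut, mul_assoc, mul_assoc]
  have ruu : ∀ v : G, u * (u * v) = v := fun v => by rw [← mul_assoc, hu2, one_mul]
  -- `c` commutes with `C_Q(u)`
  have hcX : ∀ y ∈ Q, y * u = u * y → y * c = c * y := by
    intro y hy hyu
    have hwy := hw y hy hyu
    have hyz : y * z = z * y := hS.comm y hy
    rcases hS.comm_or hcQ hy with h | h
    · exact h.symm
    · exfalso
      rcases hS.comm_or ht hy with h' | h'
      · -- t y = y t
        have e1 : w * (t * y) = (t * c * w) * y := by rw [← mul_assoc, hwt]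
        have e2 : w * (y * t) = y * (t * c * w) := by
          rw [← mul_assoc, hwy, mul_assoc, hwt]
        rw [h', e2] at e1
        -- y * (t * c * w) = t * c * w * y
        have e3 : t * c * w * y = z * (y * (t * c * w)) := by
          calc t * c * w * y = t * c * (w * y) := by simp only [mul_assoc]
            _ = t * c * (y * w) := by rw [hwy]
            _ = t * (c * y) * w := by simp only [mul_assoc]
            _ = t * (z * y * c) * w := by rw [h]
            _ = (t * z) * y * c * w := by simp only [mul_assoc]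
            _ = z * (t * y) * c * w := by rw [htz]; simp only [mul_assoc]
            _ = z * (y * t) * c * w := by rw [h']
            _ = z * (y * (t * c * w)) := by simp only [mul_assoc]
        rw [e3] at e1
        exact hzcancel _ e1
      · -- t y = z y t
        have e1 : w * (t * y) = (t * c * w) * y := by rw [← mul_assoc, hwt]
        have e2 : w * (z * y * t) = z * (y * (t * c * w)) := by
          calc w * (z * y * t) = (w * z) * y * t := by simp only [mul_assoc]
            _ = z * (w * y) * t := by rw [hwz]; simp only [mul_assoc]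
            _ = z * (y * w) * t := by rw [hwy]
            _ = z * y * (w * t) := by simp only [mul_assoc]
            _ = z * (y * (t * c * w)) := by rw [hwt]; simp only [mul_assoc]
        rw [h', e2] at e1
        have e3 : t * c * w * y = y * (t * c * w) := by
          calc t * c * w * y = t * c * (w * y) := by simp only [mul_assoc]
            _ = t * c * (y * w) := by rw [hwy]
            _ = t * (c * y) * w := by simp only [mul_assoc]
            _ = t * (z * y * c) * w := by rw [h]
            _ = (t * z) * y * c * w := by simp only [mul_assoc]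
            _ = z * (t * y) * c * w := by rw [htz]; simp only [mul_assoc]
            _ = z * (z * y * t) * c * w := by rw [h']
            _ = (z * z) * y * t * c * w := by simp only [mul_assoc]
            _ = y * (t * c * w) := by rw [hz2, one_mul]; simp only [mul_assoc]
        rw [e3] at e1
        exact hzcancel _ e1.symm
  -- `w` centralising `t` and `C_Q(u)` is central in `Q`
  have hcentral : ∀ v : G, v * z = z * v → v * t = t * v →
      (∀ y ∈ Q, y * u = u * y → v * y = y * v) → v = 1 ∨ v = z := by
    intro v hvz hvt hvy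
    have hvQ : ∀ q ∈ Q, v * q = q * v := by
      intro q hq
      rcases hS.coset_of_twist hu ht htu q hq with h | h
      · exact hvy q hq h
      · have h1 : Commute v (t⁻¹ * q) := hvy _ (Q.mul_mem (Q.inv_mem ht) hq) h
        have h2 : Commute v t := hvt
        have h3 := h2.mul_right h1
        rw [mul_inv_cancel_left] at h3
        exact h3.eq
    exact hZ v (hS.cent v hvz hvQ) hvQ
  -- the square computation excluding `c ∈ {u, z u}`
  have hsqw : (t * c) * (t * c) = t * t := by
    have e1 : t * c = w * t * w⁻¹ := by rw [hwt]; group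
    have e2 : w * t * w⁻¹ * (w * t * w⁻¹) = w * (t * t) * w⁻¹ := by group
    rw [e1, e2]
    rcases hS.sq t ht with h | h
    · rw [h]; group
    · rw [h, hwz]; group
  rcases hS.centralizer_centralizer hu hcQ hcX with h | h
  · rcases hZ c hcQ h with h1 | h1
    · -- c = 1
      rw [h1, mul_one] at hwt
      rcases hcentral w hwz hwt hw with h2 | h2
      · exact Or.inl h2
      · exact Or.inr (Or.inl h2)
    · -- c = z
      rw [h1] at hwt
      have hv : (u * w) * t = t * (u * w) := by
        calc u * w * t = u * (w * t) := mul_assoc _ _ _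
          _ = u * (t * z * w) := by rw [hwt]
          _ = (u * t) * z * w := by simp only [mul_assoc]
          _ = z * (t * u) * z * w := by rw [hut]
          _ = t * (u * w) := by
              simp only [mul_assoc, mul_one, one_mul, hz2, hu2, htz, huz, hut, r1, rt, ru, rut,
                ruu]
      have hvz : (u * w) * z = z * (u * w) := by
        rw [mul_assoc, hwz, ← mul_assoc, huz, mul_assoc]
      have hvy : ∀ y ∈ Q, y * u = u * y → (u * w) * y = y * (u * w) := by
        intro y hy hyu
        rw [mul_assoc, hw y hy hyu, ← mul_assoc, ← hyu, mul_assoc]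
      rcases hcentral (u * w) hvz hv hvy with h2 | h2
      · right; right; left
        have := eq_inv_of_mul_eq_one_right h2
        rw [this, sq_inv_self hu2]
      · right; right; right
        have h3 : w = u⁻¹ * z := eq_inv_mul_of_mul_eq h2
        rw [h3, sq_inv_self hu2]
  · exfalso
    have hcu : c = u ∨ c = z * u := by
      rcases hZ _ (Q.mul_mem hcQ hu) h with h1 | h1
      · left
        have := eq_inv_of_mul_eq_one_left h1
        rw [this, sq_inv_self hu2]
      · right
        have : c = z * u⁻¹ := eq_mul_inv_of_mul_eq h1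
        rw [this, sq_inv_self hu2]
    have hkey : (t * c) * (t * c) = z * (t * t) := by
      rcases hcu with e | e
      · rw [e]
        simp only [mul_assoc, mul_one, one_mul, hz2, hu2, htz, huz, hut, r1, rt, ru, rut, ruu]
      · rw [e]
        simp only [mul_assoc, mul_one, one_mul, hz2, hu2, htz, huz, hut, r1, rt, ru, rut, ruu]
    rw [hsqw] at hkey
    exact hzcancel _ hkey

end Cfsg.Agent.Lib.helper97
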