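import Mathlib

/-!
# Transfer evaluated on an involution: fixed cosets and pairing by a centralising `2`-group

* `cv ϕ` : a homomorphism `ϕ : H →* A` extended by `1` outside `H`.
* `transfer_eq_prod_cv` : `transfer ϕ g = ∏ q, cv ϕ (q.out⁻¹ * g * (g⁻¹ • q).out)`.
* `transfer_involution_eq_prod` : for `u * u = 1` only the cosets fixed by `u` contribute.
* `prod_eq_prod_fixed` : a product of a `P`-invariant function with values of square one over a
  finite `P`-set (`P` a `2`-group) equals the product over the fixed points.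
* `transfer_involution_eq` : if `u ∈ H` is an involution, `P ≤ H` a `2`-group centralising `u`, and
  every coset `gH ≠ H` fixed by `u` and `P` has `ϕ (g⁻¹ u g) = 1`, then `transfer ϕ u = ϕ u`.
-/

set_option autoImplicit false

namespace Cfsg.Agent.Lib.helper97

open MulAction Subgroup Subgroup.leftTransversals

variable {G : Type*} [Group G] {H : Subgroup G} {A : Type*} [CommGroup A]

open Classical in
/-- `ϕ` extended by `1` outside `H`. -/
noncomputable def cv (ϕ : H →* A) (x : G) : A :=
  if h : x ∈ H then ϕ ⟨x, h⟩ else 1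

theorem cv_of_mem (ϕ : H →* A) {x : G} (h : x ∈ H) : cv ϕ x = ϕ ⟨x, h⟩ := by
  unfold cv
  rw [dif_pos h]

theorem cv_of_not_mem (ϕ : H →* A) {x : G} (h : x ∉ H) : cv ϕ x = 1 := by
  unfold cv
  rw [dif_neg h]

theorem cv_mul (ϕ : H →* A) {x y : G} (hx : x ∈ H) (hy : y ∈ H) :
    cv ϕ (x * y) = cv ϕ x * cv ϕ y := by
  rw [cv_of_mem ϕ hx, cv_of_mem ϕ hy, cv_of_mem ϕ (H.mul_mem hx hy), ← map_mul]
  rfl

theorem cv_one (ϕ : H →* A) : cv ϕ (1 : G) = 1 := by
  rw [cv_of_mem ϕ H.one_mem]
  exact map_one ϕ

theorem cv_conj (ϕ : H →* A) (x : G) {h : G} (hh : h ∈ H) : cv ϕ (h⁻¹ * x * h) = cv ϕ x := by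
  by_cases hx : x ∈ H
  · rw [cv_mul ϕ (H.mul_mem (H.inv_mem hh) hx) hh, cv_mul ϕ (H.inv_mem hh) hx,
      mul_comm (cv ϕ h⁻¹), mul_assoc, ← cv_mul ϕ (H.inv_mem hh) hh, inv_mul_cancel, cv_one,
      mul_one]
  · have h' : h⁻¹ * x * h ∉ H := by
      intro h'
      apply hx
      have := H.mul_mem (H.mul_mem hh h') (H.inv_mem hh)
      have e : h * (h⁻¹ * x * h) * h⁻¹ = x := by group
      rwa [e] at this
    rw [cv_of_not_mem ϕ hx, cv_of_not_mem ϕ h']

/-- The transfer as a product over cosets, with the transversal `Quotient.out`. -/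
theorem transfer_eq_prod_cv [H.FiniteIndex] [Fintype (G ⧸ H)] (ϕ : H →* A) (g : G) :
    MonoidHom.transfer ϕ g = ∏ q : G ⧸ H, cv ϕ (q.out⁻¹ * g * (g⁻¹ • q).out) := by
  classical
  have hinst : ‹Fintype (G ⧸ H)› = H.fintypeQuotientOfFiniteIndex := Subsingleton.elim _ _
  subst hinst
  let T : H.LeftTransversal :=
    ⟨Set.range (Quotient.out : G ⧸ H → G), isComplement_range_left QuotientGroup.out_eq'⟩
  have key : ∀ q : G ⧸ H, ((T.2.leftQuotientEquiv q : G)) = q.out := fun q =>
    IsComplement.leftQuotientEquiv_apply (f := (Quotient.out : G ⧸ H → G)) QuotientGroup.out_eq' q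
  rw [MonoidHom.transfer_def ϕ T g]
  unfold Subgroup.leftTransversals.diff
  refine Finset.prod_congr rfl (fun q _ => ?_)
  have e : ((T.2.leftQuotientEquiv q : G))⁻¹ * ((g • T).2.leftQuotientEquiv q : G)
      = q.out⁻¹ * g * (g⁻¹ • q).out := by
    rw [smul_apply_eq_smul_apply_inv_smul, key, key, smul_eq_mul, mul_assoc]
  have hmem : ((T.2.leftQuotientEquiv q : G))⁻¹ * ((g • T).2.leftQuotientEquiv q : G) ∈ H :=
    QuotientGroup.leftRel_apply.mp <| Quotient.exact'
      ((T.2.leftQuotientEquiv.symm_apply_apply q).trans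
        ((g • T).2.leftQuotientEquiv.symm_apply_apply q).symm)
  have hmem' : q.out⁻¹ * g * (g⁻¹ • q).out ∈ H := e ▸ hmem
  rw [cv_of_mem ϕ hmem']
  exact congrArg ϕ (Subtype.ext e)

theorem smul_eq_iff_conj_mem (u g : G) : u • (g : G ⧸ H) = (g : G ⧸ H) ↔ g⁻¹ * u * g ∈ H := by
  rw [MulAction.Quotient.smul_mk, eq_comm, QuotientGroup.eq, smul_eq_mul, ← mul_assoc]

theorem out_inv_mul_mem (q : G ⧸ H) (g : G) (h : (g : G ⧸ H) = q) : q.out⁻¹ * g ∈ H := by
  rw [← QuotientGroup.eq, QuotientGroup.out_eq', h]

/-- For an involution `u`, only the cosets fixed by `u` contribute to the transfer. -/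
theorem transfer_involution_eq_prod [H.FiniteIndex] [Fintype (G ⧸ H)] [DecidableEq (G ⧸ H)]
    (ϕ : H →* A) (u : G) (hu : u * u = 1) :
    MonoidHom.transfer ϕ u =
      ∏ q ∈ Finset.univ.filter (fun q : G ⧸ H => u • q = q), cv ϕ (q.out⁻¹ * u * q.out) := by
  have huinv : u⁻¹ = u := inv_eq_of_mul_eq_one_left hu
  have huu : ∀ q : G ⧸ H, u • (u • q) = q := by
    intro q
    rw [← mul_smul, hu, one_smul]
  rw [transfer_eq_prod_cv, huinv, ← Finset.prod_filter_mul_prod_filter_not Finset.univ
    (fun q : G ⧸ H => u • q = q)]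
  have h2 : ∏ q ∈ Finset.univ.filter (fun q : G ⧸ H => ¬ u • q = q),
      cv ϕ (q.out⁻¹ * u * (u • q).out) = 1 := by
    refine Finset.prod_involution (fun q _ => u • q) ?_ ?_ ?_ ?_
    · intro q _
      rw [huu]
      have m1 : q.out⁻¹ * u * (u • q).out ∈ H := by
        have := out_inv_mul_mem (H := H) q (u * (u • q).out) (by
          rw [← smul_eq_mul, ← MulAction.Quotient.smul_mk, QuotientGroup.out_eq', huu])
        rwa [← mul_assoc] at this
      have m2 : (u • q).out⁻¹ * u * q.out ∈ H := by
        have := out_inv_mul_mem (H := H) (u • q) (u * q.out) (by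
          rw [← smul_eq_mul, ← MulAction.Quotient.smul_mk, QuotientGroup.out_eq'])
        rwa [← mul_assoc] at this
      rw [← cv_mul ϕ m1 m2]
      have e : q.out⁻¹ * u * (u • q).out * ((u • q).out⁻¹ * u * q.out)
          = q.out⁻¹ * (u * u) * q.out := by group
      rw [e, hu, mul_one, inv_mul_cancel, cv_one]
    · intro q hq _
      exact (Finset.mem_filter.mp hq).2
    · intro q hq
      rw [Finset.mem_filter] at hq ⊢
      refine ⟨Finset.mem_univ _, ?_⟩
      rw [huu]
      exact fun h => hq.2 h.symm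
    · intro q _
      exact huu q
  rw [h2, mul_one]
  refine Finset.prod_congr rfl (fun q hq => ?_)
  rw [(Finset.mem_filter.mp hq).2]

/-- A product of a `P`-invariant function with values of square one over a finite `P`-set, `P` a
`2`-group, equals the product over the fixed points. -/
theorem prod_eq_prod_fixed {P α B : Type*} [Group P] [MulAction P α] [Fintype α]
    [DecidableEq α] [CommGroup B] (hP : IsPGroup 2 P) (f : α → B)
    (hf : ∀ (p : P) (x : α), f (p • x) = f x) (hsq : ∀ x, f x ^ 2 = 1)
    [DecidablePred fun x : α => ∀ p : P, p • x = x] :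
    ∏ x, f x = ∏ x ∈ Finset.univ.filter (fun x : α => ∀ p : P, p • x = x), f x := by
  classical
  have key : ∀ a : B, (Finset.univ.filter (fun x : α => f x = a)).card % 2 =
      ((Finset.univ.filter (fun x : α => ∀ p : P, p • x = x)).filter (fun x => f x = a)).card % 2 := by
    intro a
    let S : SubMulAction P α :=
      { carrier := {x | f x = a}
        smul_mem' := fun p x hx => by
          show f (p • x) = a
          rw [hf]; exact hx }
    have h1 : Nat.card S ≡ Nat.card (MulAction.fixedPoints P S) [MOD 2] :=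
      hP.card_modEq_card_fixedPoints S
    have h2 : Nat.card S = (Finset.univ.filter (fun x : α => f x = a)).card := by
      rw [← Fintype.card_subtype, ← Nat.card_eq_fintype_card]
      rfl
    have h3 : Nat.card (MulAction.fixedPoints P S) =
        ((Finset.univ.filter (fun x : α => ∀ p : P, p • x = x)).filter (fun x => f x = a)).card := by
      rw [Finset.filter_filter, ← Fintype.card_subtype, ← Nat.card_eq_fintype_card]
      apply Nat.card_congr
      exact
        { toFun := fun y => ⟨y.1.1, fun p => congrArg Subtype.val (y.2 p), y.1.2⟩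
          invFun := fun x => ⟨⟨x.1, x.2.2⟩, fun p => Subtype.ext (x.2.1 p)⟩
          left_inv := fun y => rfl
          right_inv := fun x => rfl }
    rw [h2, h3] at h1
    exact h1
  have e1 := Finset.prod_comp (s := (Finset.univ : Finset α)) (fun b : B => b) f
  have e2 := Finset.prod_comp (s := Finset.univ.filter (fun x : α => ∀ p : P, p • x = x))
    (fun b : B => b) f
  rw [e1, e2]
  have hsub : Finset.image f (Finset.univ.filter (fun x : α => ∀ p : P, p • x = x)) ⊆
      Finset.image f Finset.univ := Finset.image_subset_image (Finset.filter_subset _ _)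
  rw [Finset.prod_subset hsub]
  · refine Finset.prod_congr rfl (fun b hb => ?_)
    obtain ⟨x, -, rfl⟩ := Finset.mem_image.mp hb
    rw [pow_eq_pow_mod _ (hsq x), key, ← pow_eq_pow_mod _ (hsq x)]
  · intro b _ hb
    have h0 : ((Finset.univ.filter (fun x : α => ∀ p : P, p • x = x)).filter
        (fun x => f x = b)) = ∅ := by
      rw [Finset.filter_eq_empty_iff]
      intro x hx hfx
      exact hb (Finset.mem_image.mpr ⟨x, hx, hfx⟩)
    rw [h0, Finset.card_empty, pow_zero]

/-- **Transfer of an involution.** Let `u ∈ H` be an involution and `P ≤ H` a `2`-group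
centralising `u`. If `ϕ (g⁻¹ u g) = 1` for every `g ∉ H` such that the coset `gH` is fixed by `u`
and by `P`, then the transfer of `ϕ` takes the value `ϕ u` at `u`. -/
theorem transfer_involution_eq [Finite G] (ϕ : H →* A) (u : G) (hu : u * u = 1) (huH : u ∈ H)
    (P : Subgroup G) (hP2 : IsPGroup 2 P) (hPu : ∀ p ∈ P, p * u = u * p) (hPH : P ≤ H)
    (hval : ∀ g : G, g ∉ H → g⁻¹ * u * g ∈ H → (∀ p ∈ P, g⁻¹ * p * g ∈ H) →
      cv ϕ (g⁻¹ * u * g) = 1) :
    MonoidHom.transfer ϕ u = ϕ ⟨u, huH⟩ := by
  classical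
  have : Fintype (G ⧸ H) := Fintype.ofFinite _
  rw [transfer_involution_eq_prod ϕ u hu, Finset.prod_filter]
  have hfix : ∀ (p : P) (q : G ⧸ H), u • (p • q) = p • (u • q) := by
    intro p q
    show u • ((p : G) • q) = (p : G) • (u • q)
    rw [← mul_smul, ← mul_smul, hPu p p.2]
  have huu : ∀ q : G ⧸ H, u • q = q → q.out⁻¹ * u * q.out ∈ H := by
    intro q hq
    rw [← smul_eq_iff_conj_mem, QuotientGroup.out_eq']
    exact hq
  rw [prod_eq_prod_fixed (P := P) hP2]
  · rw [Finset.prod_eq_single (((1 : G) : G ⧸ H))]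
    · have h1 : u • (((1 : G) : G ⧸ H)) = ((1 : G) : G ⧸ H) := by
        rw [smul_eq_iff_conj_mem]
        simpa using huH
      rw [if_pos h1]
      have h2 : (((1 : G) : G ⧸ H)).out ∈ H := by
        have := out_inv_mul_mem (H := H) ((1 : G) : G ⧸ H) 1 rfl
        rw [mul_one] at this
        simpa using H.inv_mem this
      rw [cv_conj ϕ u h2, cv_of_mem ϕ huH]
    · intro q hq hne
      rw [Finset.mem_filter] at hq
      by_cases hq' : u • q = q
      · rw [if_pos hq']
        apply hval
        · intro hmem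
          apply hne
          rw [← QuotientGroup.out_eq' q, QuotientGroup.eq]
          simpa using H.inv_mem hmem
        · exact huu q hq'
        · intro p hp
          have := hq.2 ⟨p, hp⟩
          rw [← smul_eq_iff_conj_mem, QuotientGroup.out_eq']
          exact this
      · rw [if_neg hq']
    · intro h1
      exfalso
      apply h1
      rw [Finset.mem_filter]
      refine ⟨Finset.mem_univ _, fun p => ?_⟩
      show (p : G) • (((1 : G) : G ⧸ H)) = ((1 : G) : G ⧸ H)
      rw [smul_eq_iff_conj_mem]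
      simpa using hPH p.2
  · intro p q
    by_cases hq : u • q = q
    · have hpq : u • (p • q) = p • q := by rw [hfix, hq]
      rw [if_pos hq, if_pos hpq]
      have hmem : (p • q).out⁻¹ * ((p : G) * q.out) ∈ H := by
        apply out_inv_mul_mem
        rw [← smul_eq_mul, ← MulAction.Quotient.smul_mk, QuotientGroup.out_eq']
        rfl
      have e : (p • q).out⁻¹ * u * (p • q).out =
          ((p • q).out⁻¹ * ((p : G) * q.out)) * (q.out⁻¹ * u * q.out) *
            ((p • q).out⁻¹ * ((p : G) * q.out))⁻¹ := by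
        have h3 : (p : G) * u = u * (p : G) := hPu p p.2
        have e1 : ((p • q).out⁻¹ * ((p : G) * q.out)) * (q.out⁻¹ * u * q.out) *
            ((p • q).out⁻¹ * ((p : G) * q.out))⁻¹
            = (p • q).out⁻¹ * ((p : G) * u) * (p : G)⁻¹ * (p • q).out := by group
        rw [e1, h3]
        group
      rw [e]
      have := cv_conj ϕ (q.out⁻¹ * u * q.out) (H.inv_mem hmem)
      rw [inv_inv] at this
      exact this
    · have hpq : ¬ u • (p • q) = p • q := by
        intro h
        apply hq
        rw [hfix] at h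
        exact smul_left_cancel p h
      rw [if_neg hq, if_neg hpq]
  · intro q
    by_cases hq : u • q = q
    · rw [if_pos hq]
      have hm := huu q hq
      rw [pow_two, ← cv_mul ϕ hm hm]
      have e : q.out⁻¹ * u * q.out * (q.out⁻¹ * u * q.out) = q.out⁻¹ * (u * u) * q.out := by
        group
      rw [e, hu, mul_one, inv_mul_cancel, cv_one]
    · rw [if_neg hq, one_pow]

end Cfsg.Agent.Lib.helper97
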