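import Mathlib
import Cfsg.Prelude.Def_Transfer
import Cfsg.Prelude.Def_Solvable
import Cfsg.Agent.Lib.helper26.PResidual
import Cfsg.Agent.Lib.helper97.ExtraSp
import Cfsg.Agent.Lib.helper97.TransferInv2

/-!
# Large extraspecial `O_2(C_G(z))`: transfer kills `E`

* `sympQ_of_extraspecial` : `E = O_2(C_G(z))` extraspecial with `C_G(E) ≤ E` satisfies
  `SympQ z E` and `CenterTwo z E`.
* `SympQ.exists_two_involutions` : for `|Q| > 8`, an element of order `4` of `Q` is a product of two
  involutions of `Q`.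
* `extraspecial_le_ker` : if `O^2(G) = G` and `|E| > 8`, every homomorphism from `C_G(z)` to an
  abelian `2`-group is trivial on `E`.
-/

set_option autoImplicit false

namespace Cfsg.Agent.Lib.helper97

open Cfsg

theorem mem_centralizer_singleton_iff' {G : Type*} [Group G] (z h : G) :
    h ∈ Subgroup.centralizer ({z} : Set G) ↔ h * z = z * h := by
  rw [Subgroup.mem_centralizer_iff]
  constructor
  · intro hh; exact (hh z rfl).symm
  · intro hh y hy
    rw [Set.mem_singleton_iff] at hy
    rw [hy]; exact hh.symm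

theorem sympQ_of_extraspecial {G : Type*} [Group G] [Finite G] (z : G) (hz : orderOf z = 2)
    (E : Subgroup G)
    (hE : E = (Cfsg.pCore 2 ↥(Subgroup.centralizer ({z} : Set G))).map
      (Subgroup.centralizer ({z} : Set G)).subtype)
    (hext : Cfsg.IsExtraspecial 2 ↥E) (hcent : Subgroup.centralizer (E : Set G) ≤ E) :
    SympQ z E ∧ CenterTwo z E := by
  classical
  have hz2 : z * z = 1 := by rw [← pow_two, ← hz]; exact pow_orderOf_eq_one z
  have hz1 : z ≠ 1 := by
    rintro rfl
    rw [orderOf_one] at hz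
    omega
  have hmemH := mem_centralizer_singleton_iff' z
  have hEH : ∀ q ∈ E, q * z = z * q := by
    intro q hq
    rw [hE] at hq
    obtain ⟨f, -, rfl⟩ := hq
    exact (hmemH _).mp f.2
  have hnorm : ∀ h : G, h * z = z * h → ∀ q ∈ E, h * q * h⁻¹ ∈ E := by
    intro h hh q hq
    rw [hE] at hq ⊢
    obtain ⟨f, hf, rfl⟩ := hq
    have hn : (pCore 2 ↥(Subgroup.centralizer ({z} : Set G))).Normal :=
      Subgroup.sSup_normal _ (fun _ h => h.1)
    exact ⟨⟨h, (hmemH h).mpr hh⟩ * f * ⟨h, (hmemH h).mpr hh⟩⁻¹, hn.conj_mem f hf _, rfl⟩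
  have hzE : z ∈ E := by
    rw [hE]
    refine ⟨⟨z, (hmemH z).mpr rfl⟩, ?_, rfl⟩
    have hN : (Subgroup.zpowers
        (⟨z, (hmemH z).mpr rfl⟩ : Subgroup.centralizer ({z} : Set G))).Normal := by
      constructor
      intro x hx g
      obtain ⟨k, rfl⟩ := Subgroup.mem_zpowers_iff.mp hx
      have h0 : Commute g (⟨z, (hmemH z).mpr rfl⟩ : Subgroup.centralizer ({z} : Set G)) :=
        Subtype.ext ((hmemH _).mp g.2)
      have h1 := (h0.zpow_right k).eq
      rw [h1, mul_inv_cancel_right]
      exact hx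
    have hp : IsPGroup 2 (Subgroup.zpowers
        (⟨z, (hmemH z).mpr rfl⟩ : Subgroup.centralizer ({z} : Set G))) := by
      apply IsPGroup.of_card (n := 1)
      rw [Nat.card_zpowers, ← Subgroup.orderOf_coe, pow_one]
      exact hz
    exact (le_sSup ⟨hN, hp⟩ : Subgroup.zpowers _ ≤ pCore 2 _) (Subgroup.mem_zpowers _)
  have hZ : CenterTwo z E := by
    intro r hr hrc
    by_contra hcon
    push Not at hcon
    have := Fintype.ofFinite (Subgroup.center ↥E)
    have mz : (⟨z, hzE⟩ : E) ∈ Subgroup.center ↥E := by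
      rw [Subgroup.mem_center_iff]
      intro g
      apply Subtype.ext
      exact hEH g g.2
    have mr : (⟨r, hr⟩ : E) ∈ Subgroup.center ↥E := by
      rw [Subgroup.mem_center_iff]
      intro g
      apply Subtype.ext
      exact (hrc g g.2).symm
    have h3 : ({1, ⟨⟨z, hzE⟩, mz⟩, ⟨⟨r, hr⟩, mr⟩} : Finset (Subgroup.center ↥E)).card = 3 := by
      rw [Finset.card_insert_of_notMem, Finset.card_insert_of_notMem, Finset.card_singleton]
      · rw [Finset.mem_singleton]
        intro h
        exact hcon.2 (congrArg (fun w : Subgroup.center ↥E => ((w : E) : G)) h).symm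
      · simp only [Finset.mem_insert, Finset.mem_singleton]
        rintro (h | h)
        · exact hz1 (congrArg (fun w : Subgroup.center ↥E => ((w : E) : G)) h).symm
        · exact hcon.1 (congrArg (fun w : Subgroup.center ↥E => ((w : E) : G)) h).symm
    have h4 := Finset.card_le_univ
      ({1, ⟨⟨z, hzE⟩, mz⟩, ⟨⟨r, hr⟩, mr⟩} : Finset (Subgroup.center ↥E))
    rw [h3, ← Nat.card_eq_fintype_card, hext.2] at h4
    omega
  have hcm : ∀ q ∈ E, ∀ q' ∈ E, q * q' * q⁻¹ * q'⁻¹ = 1 ∨ q * q' * q⁻¹ * q'⁻¹ = z := by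
    intro q hq q' hq'
    have hmem : (⟨q, hq⟩ : E) * ⟨q', hq'⟩ * (⟨q, hq⟩ : E)⁻¹ * (⟨q', hq'⟩ : E)⁻¹ ∈
        Subgroup.center ↥E := by
      rw [← hext.1.2.2]
      exact Subgroup.commutator_mem_commutator (Subgroup.mem_top _) (Subgroup.mem_top _)
    apply hZ _ (E.mul_mem (E.mul_mem (E.mul_mem hq hq') (E.inv_mem hq)) (E.inv_mem hq'))
    intro x hx
    have := Subgroup.mem_center_iff.mp hmem ⟨x, hx⟩
    exact (congrArg Subtype.val this).symm
  have hsq : ∀ q ∈ E, q * q = 1 ∨ q * q = z := by
    intro q hq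
    apply hZ _ (E.mul_mem hq hq)
    intro x hx
    rcases hcm q hq x hx with h | h
    · rw [mul_inv_eq_one, mul_inv_eq_iff_eq_mul] at h
      have h1 : Commute q x := h
      exact (h1.mul_left h1).eq
    · rw [mul_inv_eq_iff_eq_mul, mul_inv_eq_iff_eq_mul] at h
      exact tw_mul hz2 (hEH q hq) h h
  refine ⟨⟨hz2, hz1, hEH, hnorm, ?_, hsq, hcm, fun r hr hc _ => hZ r hr hc⟩, hZ⟩
  intro h _ hc
  apply hcent
  rw [Subgroup.mem_centralizer_iff]
  intro q hq
  exact (hc q hq).symm

/-- For `|Q| > 8`, an element of order `4` of `Q` is a product of two involutions of `Q`. -/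
theorem SympQ.exists_two_involutions {G : Type*} [Group G] {z : G} {Q : Subgroup G}
    (hS : SympQ z Q) (hZ : CenterTwo z Q) (hcard : 8 < Nat.card Q) {a : G} (ha : a ∈ Q)
    (ha2 : a * a = z) : ∃ t ∈ Q, t * t = 1 ∧ (t * a) * (t * a) = 1 := by
  have hz2 := hS.zsq
  have ha1 : a ≠ 1 := by
    rintro rfl
    rw [mul_one] at ha2
    exact hS.zne ha2.symm
  have hane : a ≠ z := by
    rintro rfl
    rw [hz2] at ha2
    exact hS.zne ha2.symm
  obtain ⟨x, hx, hxa⟩ := hS.exists_twist_of_ne hZ ha ha1 hane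
  have hxM : x ∉ Subgroup.centralizer ({a} : Set G) := by
    rw [mem_centralizer_singleton_iff']
    intro h
    rw [h] at hxa
    apply hS.zne
    have : 1 * (a * x) = z * (a * x) := by rw [one_mul, ← mul_assoc]; exact hxa
    exact (mul_right_cancel this).symm
  have hzM : z ∈ Subgroup.centralizer ({a} : Set G) := by
    rw [mem_centralizer_singleton_iff']
    exact (hS.comm a ha).symm
  have hM : ∀ p ∈ Q, ∀ y ∈ Q, p ∉ Subgroup.centralizer ({a} : Set G) →
      y ∉ Subgroup.centralizer ({a} : Set G) → p⁻¹ * y ∈ Subgroup.centralizer ({a} : Set G) := by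
    intro p hp y hy hpM hyM
    rw [mem_centralizer_singleton_iff'] at hpM hyM ⊢
    have h1 : p * a = z * a * p := (hS.comm_or hp ha).resolve_left hpM
    have h2 : y * a = z * a * y := (hS.comm_or hy ha).resolve_left hyM
    exact tw_mul hz2 (hS.comm _ (Q.inv_mem hp)) (tw_inv hz2 (hS.comm p hp) h1) h2
  obtain ⟨t, ht, ht2, htM⟩ := hS.exists_involution_not_mem hZ hcard _ hzM hM hx hxM
  rw [mem_centralizer_singleton_iff'] at htM
  have hta : t * a = z * a * t := (hS.comm_or ht ha).resolve_left htM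
  have hat : a * t = z * (t * a) := tw_swap hz2 hta
  refine ⟨t, ht, ht2, ?_⟩
  calc t * a * (t * a) = t * (a * t) * a := by simp only [mul_assoc]
    _ = t * (z * (t * a)) * a := by rw [hat]
    _ = (t * z) * t * (a * a) := by simp only [mul_assoc]
    _ = z * (t * t) * (a * a) := by rw [hS.comm t ht, mul_assoc z t t]
    _ = 1 := by rw [ht2, ha2, mul_one, hz2]

theorem cv_commutator {G : Type*} [Group G] {H : Subgroup G} {A : Type*} [CommGroup A]
    (ϕ : H →* A) {x y : G} (hx : x ∈ H) (hy : y ∈ H) : cv ϕ (x * y * x⁻¹ * y⁻¹) = 1 := by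
  rw [cv_mul ϕ (H.mul_mem (H.mul_mem hx hy) (H.inv_mem hx)) (H.inv_mem hy),
    cv_mul ϕ (H.mul_mem hx hy) (H.inv_mem hx), cv_mul ϕ hx hy, mul_comm (cv ϕ x), mul_assoc,
    mul_assoc, ← mul_assoc (cv ϕ x), ← cv_mul ϕ hx (H.inv_mem hx), mul_inv_cancel, cv_one,
    one_mul, ← cv_mul ϕ hy (H.inv_mem hy), mul_inv_cancel, cv_one]

/-- **Transfer kills a large extraspecial `O_2(C_G(z))`.** If `O^2(G) = G`, `E = O_2(C_G(z))` is
extraspecial of order greater than `8` and `C_G(E) ≤ E`, then every homomorphism from `C_G(z)` to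
an abelian `2`-group is trivial on `E`. -/
theorem extraspecial_le_ker {G : Type*} [Group G] [Finite G] (hres : Cfsg.pResidual 2 G = ⊤)
    (z : G) (hz : orderOf z = 2) (E : Subgroup G)
    (hE : E = (Cfsg.pCore 2 ↥(Subgroup.centralizer ({z} : Set G))).map
      (Subgroup.centralizer ({z} : Set G)).subtype)
    (hext : Cfsg.IsExtraspecial 2 ↥E) (hcent : Subgroup.centralizer (E : Set G) ≤ E)
    (hcard : 8 < Nat.card ↥E) {A : Type*} [CommGroup A] (hA : IsPGroup 2 A)
    (ϕ : ↥(Subgroup.centralizer ({z} : Set G)) →* A) :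
    ∀ e ∈ E, cv ϕ e = 1 := by
  obtain ⟨hS, hZ⟩ := sympQ_of_extraspecial z hz E hE hext hcent
  have hz2 := hS.zsq
  have hmemH := mem_centralizer_singleton_iff' z
  have hEH : ∀ e ∈ E, e ∈ Subgroup.centralizer ({z} : Set G) := fun e he =>
    (hmemH e).mpr (hS.comm e he)
  have htr : ∀ g : G, MonoidHom.transfer ϕ g = 1 := by
    intro g
    have h1 := Cfsg.Agent.Lib.helper26.pResidual_le_ker hA (MonoidHom.transfer ϕ)
    rw [hres] at h1
    exact h1 (Subgroup.mem_top g)
  -- involutions
  have hinv : ∀ u ∈ E, u * u = 1 → cv ϕ u = 1 := by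
    intro u hu hu2
    by_cases hu1 : u = 1
    · rw [hu1]; exact cv_one ϕ
    by_cases huz : u = z
    · -- z is a commutator
      obtain ⟨b, hb, hb1, hbz⟩ : ∃ b ∈ E, b ≠ 1 ∧ b ≠ z := by
        by_contra hno
        push Not at hno
        classical
        have hsub : (E : Set G) ⊆ ↑([1, z].toFinset : Finset G) := by
          intro q hq
          simp only [Finset.mem_coe, List.mem_toFinset, List.mem_cons, List.not_mem_nil,
            or_false]
          by_cases hq1 : q = 1
          · exact Or.inl hq1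
          · exact Or.inr (hno q hq hq1)
        have h1 : Nat.card E = (E : Set G).ncard := rfl
        have h2 : (E : Set G).ncard ≤ 2 :=
          calc (E : Set G).ncard ≤ (↑([1, z].toFinset : Finset G) : Set G).ncard :=
                Set.ncard_le_ncard hsub (Finset.finite_toSet _)
            _ = ([1, z].toFinset : Finset G).card := Set.ncard_coe_finset _
            _ ≤ [1, z].length := List.toFinset_card_le _
            _ = 2 := rfl
        omega
      obtain ⟨t, ht, htb⟩ := hS.exists_twist_of_ne hZ hb hb1 hbz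
      have e : t * b * t⁻¹ * b⁻¹ = z := by rw [htb]; group
      have h := cv_commutator ϕ (hEH t ht) (hEH b hb)
      rw [e] at h
      rw [huz]
      exact h
    · obtain ⟨t, ht, htu⟩ := hS.exists_twist_of_ne hZ hu hu1 huz
      obtain ⟨a₀, ha₀, b₀, hb₀, ha₀u, hb₀u, hab⟩ := hS.exists_comm_eq_z hZ hcard hu ht htu
      have hzcv : cv ϕ z = 1 := by
        have h := cv_commutator ϕ (hEH a₀ ha₀) (hEH b₀ hb₀)
        rw [hab] at h
        exact h
      have hP2 : IsPGroup 2 (E ⊓ Subgroup.centralizer ({u} : Set G) : Subgroup G) :=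
        hext.1.1.to_le inf_le_left
      have hPu : ∀ p ∈ (E ⊓ Subgroup.centralizer ({u} : Set G) : Subgroup G), p * u = u * p := by
        intro p hp
        exact (mem_centralizer_singleton_iff' u p).mp hp.2
      have hPH : (E ⊓ Subgroup.centralizer ({u} : Set G) : Subgroup G) ≤
          Subgroup.centralizer ({z} : Set G) := fun p hp => hEH p hp.1
      have key := transfer_involution_eq ϕ u hu2 (hEH u hu)
        (E ⊓ Subgroup.centralizer ({u} : Set G)) hP2 hPu hPH ?_
      · rw [htr u] at key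
        rw [cv_of_mem ϕ (hEH u hu)]
        exact key.symm
      · intro g hgH hgu hgP
        obtain ⟨w, hw⟩ : ∃ w, w = g * z * g⁻¹ := ⟨_, rfl⟩
        have hconj : ∀ y : G, g⁻¹ * y * g ∈ Subgroup.centralizer ({z} : Set G) →
            w * y = y * w := by
          intro y hy
          rw [hmemH] at hy
          rw [hw]
          have e1 : g * z * g⁻¹ * y = g * (z * (g⁻¹ * y * g)) * g⁻¹ := by group
          have e2 : y * (g * z * g⁻¹) = g * ((g⁻¹ * y * g) * z) * g⁻¹ := by group
          rw [e1, e2, hy]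
        have hwu : w * u = u * w := hconj u hgu
        have hwP : ∀ y ∈ E, y * u = u * y → w * y = y * w := by
          intro y hy hyu
          exact hconj y (hgP y ⟨hy, (mem_centralizer_singleton_iff' u y).mpr hyu⟩)
        have hwz : w * z = z * w := hwP z hS.z_mem (hS.comm u hu).symm
        have hgw : g⁻¹ * w * g = z := by rw [hw]; group
        rcases hS.eq_of_centralizes_centralizer hZ hu hu2 ht htu hwz hwP with h | h | h | h
        · exfalso
          rw [h] at hgw
          apply hS.zne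
          rw [← hgw]; group
        · exfalso
          apply hgH
          rw [hmemH]
          rw [hw] at h
          have : g * z = z * g := by
            calc g * z = (g * z * g⁻¹) * g := by group
              _ = z * g := by rw [h]
          exact this
        · rw [← h, hgw]
          exact hzcv
        · have hu' : u = w * z := by rw [h, mul_assoc, hz2, mul_one]
          have e1 : g⁻¹ * u * g = z * (g⁻¹ * z * g) := by
            rw [hu', ← hgw]; group
          have e2 : g⁻¹ * z * g = (g⁻¹ * a₀ * g) * (g⁻¹ * b₀ * g) * (g⁻¹ * a₀ * g)⁻¹ *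
              (g⁻¹ * b₀ * g)⁻¹ := by
            rw [← hab]; group
          have hma : g⁻¹ * a₀ * g ∈ Subgroup.centralizer ({z} : Set G) :=
            hgP a₀ ⟨ha₀, (mem_centralizer_singleton_iff' u a₀).mpr ha₀u⟩
          have hmb : g⁻¹ * b₀ * g ∈ Subgroup.centralizer ({z} : Set G) :=
            hgP b₀ ⟨hb₀, (mem_centralizer_singleton_iff' u b₀).mpr hb₀u⟩
          have hmz : g⁻¹ * z * g ∈ Subgroup.centralizer ({z} : Set G) := by
            rw [e2]
            exact Subgroup.mul_mem _ (Subgroup.mul_mem _ (Subgroup.mul_mem _ hma hmb)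
              (Subgroup.inv_mem _ hma)) (Subgroup.inv_mem _ hmb)
          rw [e1, cv_mul ϕ ((hmemH z).mpr rfl) hmz, hzcv, one_mul, e2]
          exact cv_commutator ϕ hma hmb
  intro e he
  rcases hS.sq e he with h | h
  · exact hinv e he h
  · obtain ⟨t, ht, ht2, hta⟩ := hS.exists_two_involutions hZ hcard he h
    have e1 : e = t⁻¹ * (t * e) := by group
    rw [e1, cv_mul ϕ (Subgroup.inv_mem _ (hEH t ht)) (hEH _ (E.mul_mem ht he)),
      hinv _ (E.mul_mem ht he) hta, mul_one, sq_inv_self ht2]
    exact hinv t ht ht2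

end Cfsg.Agent.Lib.helper97
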