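import Mathlib
import Cfsg.Agent.Lib.helper3.GfDefs
import Cfsg.Agent.Lib.helper97.GfEXBfield

/-!
# S4395, piece EXB (helper97): the Heisenberg-type cover

Model: triples `(x, z, k)` with `x z : L`, `k : ZMod (q ^ r)`, `z + σ z = x * σ x` (`σ x = x ^ p ^ b`),
product `(x, z, k) (x', z', k') = (x + lam ^ k * x', z + z' + x * σ (lam ^ k * x'), k + k')`.
-/

set_option autoImplicit false
set_option linter.unusedVariables false
set_option linter.style.longLine false

namespace Cfsg.Agent.Lib.helper3.Gf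

universe u

/-- the data of the model -/
structure H97Data (L : Type u) [Field L] where
  n : ℕ
  m : ℕ
  lam : L
  tt : L
  hm : m ≠ 0
  add : ∀ x y : L, (x + y) ^ n = x ^ n + y ^ n
  invol : ∀ x : L, (x ^ n) ^ n = x
  lam_norm : lam * lam ^ n = 1
  lam_pow : lam ^ m = 1
  tt_tr : tt + tt ^ n = 1
  lam_ne : lam ≠ 1

namespace H97Data

variable {L : Type u} [Field L] (D : H97Data L)

instance : NeZero D.m := ⟨D.hm⟩

theorem zero_pow' : (0 : L) ^ D.n = 0 := by
  have h := D.add 0 0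
  rw [add_zero] at h
  linear_combination (-1 : L) * h

theorem neg_pow' (x : L) : (-x) ^ D.n = -x ^ D.n := by
  have h := D.add x (-x)
  rw [add_neg_cancel, D.zero_pow'] at h
  linear_combination (-1 : L) * h

/-- `lam ^ k` for `k : ZMod m` -/
def mu (k : ZMod D.m) : L := D.lam ^ k.val

theorem pow_mod' (j : ℕ) : D.lam ^ (j % D.m) = D.lam ^ j := by
  conv_rhs => rw [← Nat.mod_add_div j D.m]
  rw [pow_add, pow_mul, D.lam_pow, one_pow, mul_one]

theorem mu_zero : D.mu 0 = 1 := by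
  unfold mu
  rw [ZMod.val_zero, pow_zero]

theorem mu_add (k k' : ZMod D.m) : D.mu (k + k') = D.mu k * D.mu k' := by
  unfold mu
  rw [ZMod.val_add, D.pow_mod', pow_add]

theorem mu_norm (k : ZMod D.m) : D.mu k * D.mu k ^ D.n = 1 := by
  unfold mu
  rw [← pow_mul, mul_comm k.val, pow_mul, ← mul_pow, D.lam_norm, one_pow]

theorem mu_natCast (j : ℕ) : D.mu (j : ZMod D.m) = D.lam ^ j := by
  unfold mu
  rw [ZMod.val_natCast, D.pow_mod']

end H97Data

/-- the group of the model -/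
@[ext] structure H97G {L : Type u} [Field L] (D : H97Data L) where
  x : L
  z : L
  k : ZMod D.m
  h : z + z ^ D.n = x * x ^ D.n

namespace H97G

variable {L : Type u} [Field L] {D : H97Data L}

instance : Group (H97G D) where
  mul g g' := ⟨g.x + D.mu g.k * g'.x, g.z + g'.z + g.x * (D.mu g.k * g'.x) ^ D.n, g.k + g'.k, by
    have h1 := g.h
    have h2 := g'.h
    have hμ := D.mu_norm g.k
    simp only [D.add, mul_pow, D.invol]
    linear_combination h1 + h2 - g'.x * g'.x ^ D.n * hμ⟩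
  one := ⟨0, 0, 0, by rw [D.zero_pow', mul_zero, add_zero]⟩
  inv g := ⟨-(D.mu (-g.k) * g.x), -g.z + g.x * g.x ^ D.n, -g.k, by
    have h1 := g.h
    have hμ := D.mu_norm (-g.k)
    simp only [D.add, D.neg_pow', mul_pow, D.invol]
    linear_combination -h1 - g.x * g.x ^ D.n * hμ⟩
  mul_assoc a b c := by
    ext
    · show a.x + D.mu a.k * b.x + D.mu (a.k + b.k) * c.x =
        a.x + D.mu a.k * (b.x + D.mu b.k * c.x)
      rw [D.mu_add]
      ring
    · show a.z + b.z + a.x * (D.mu a.k * b.x) ^ D.n + c.z +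
          (a.x + D.mu a.k * b.x) * (D.mu (a.k + b.k) * c.x) ^ D.n =
        a.z + (b.z + c.z + b.x * (D.mu b.k * c.x) ^ D.n) +
          a.x * (D.mu a.k * (b.x + D.mu b.k * c.x)) ^ D.n
      have hμ := D.mu_norm a.k
      simp only [D.mu_add, D.add, mul_pow]
      linear_combination b.x * D.mu b.k ^ D.n * c.x ^ D.n * hμ
    · show a.k + b.k + c.k = a.k + (b.k + c.k)
      exact add_assoc _ _ _
  one_mul a := by
    ext
    · show 0 + D.mu 0 * a.x = a.x
      rw [D.mu_zero]
      ring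
    · show 0 + a.z + 0 * (D.mu 0 * a.x) ^ D.n = a.z
      ring
    · show 0 + a.k = a.k
      exact zero_add _
  mul_one a := by
    ext
    · show a.x + D.mu a.k * 0 = a.x
      ring
    · show a.z + 0 + a.x * (D.mu a.k * 0) ^ D.n = a.z
      rw [mul_zero, D.zero_pow']
      ring
    · show a.k + 0 = a.k
      exact add_zero _
  inv_mul_cancel a := by
    ext
    · show -(D.mu (-a.k) * a.x) + D.mu (-a.k) * a.x = 0
      ring
    · show -a.z + a.x * a.x ^ D.n + a.z + -(D.mu (-a.k) * a.x) * (D.mu (-a.k) * a.x) ^ D.n = 0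
      have hμ := D.mu_norm (-a.k)
      simp only [mul_pow]
      linear_combination -(a.x * a.x ^ D.n) * hμ
    · show -a.k + a.k = 0
      exact neg_add_cancel _

theorem mul_x (g g' : H97G D) : (g * g').x = g.x + D.mu g.k * g'.x := rfl
theorem mul_z (g g' : H97G D) :
    (g * g').z = g.z + g'.z + g.x * (D.mu g.k * g'.x) ^ D.n := rfl
theorem mul_k (g g' : H97G D) : (g * g').k = g.k + g'.k := rfl
theorem one_x : (1 : H97G D).x = 0 := rfl
theorem one_z : (1 : H97G D).z = 0 := rfl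
theorem one_k : (1 : H97G D).k = 0 := rfl
theorem inv_x (g : H97G D) : (g⁻¹).x = -(D.mu (-g.k) * g.x) := rfl
theorem inv_z (g : H97G D) : (g⁻¹).z = -g.z + g.x * g.x ^ D.n := rfl
theorem inv_k (g : H97G D) : (g⁻¹).k = -g.k := rfl

instance [Finite L] : Finite (H97G D) :=
  Finite.of_injective (fun g : H97G D => (g.x, g.z, g.k)) (fun a b h => by
    ext
    · exact congrArg Prod.fst h
    · exact congrArg (fun t => t.2.1) h
    · exact congrArg (fun t => t.2.2) h)

variable (D)

/-- `P` -/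
def Psub : Subgroup (H97G D) where
  carrier := {g | g.k = 0}
  mul_mem' {a b} ha hb := by
    show (a * b).k = 0
    rw [mul_k, (ha : a.k = 0), (hb : b.k = 0), add_zero]
  one_mem' := rfl
  inv_mem' {a} ha := by
    show (a⁻¹).k = 0
    rw [inv_k, (ha : a.k = 0), neg_zero]

/-- `N` -/
def Nsub : Subgroup (H97G D) where
  carrier := {g | g.x = 0 ∧ g.k = 0}
  mul_mem' {a b} ha hb := by
    refine ⟨?_, ?_⟩
    · show (a * b).x = 0
      rw [mul_x, ha.1, hb.1, mul_zero, add_zero]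
    · show (a * b).k = 0
      rw [mul_k, ha.2, hb.2, add_zero]
  one_mem' := ⟨rfl, rfl⟩
  inv_mem' {a} ha := by
    refine ⟨?_, ?_⟩
    · show (a⁻¹).x = 0
      rw [inv_x, ha.1, mul_zero, neg_zero]
    · show (a⁻¹).k = 0
      rw [inv_k, ha.2, neg_zero]

/-- `y` -/
def yel : H97G D := ⟨0, 0, 1, by rw [D.zero_pow', mul_zero, add_zero]⟩

/-- a section of `x` -/
def sec (x : L) : H97G D := ⟨x, D.tt * (x * x ^ D.n), 0, by
  simp only [mul_pow, D.invol]
  linear_combination (x * x ^ D.n) * D.tt_tr⟩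

variable {D}

theorem sec_x (x : L) : (sec D x).x = x := rfl
theorem sec_z (x : L) : (sec D x).z = D.tt * (x * x ^ D.n) := rfl
theorem sec_k (x : L) : (sec D x).k = 0 := rfl
theorem yel_x : (yel D).x = 0 := rfl
theorem yel_z : (yel D).z = 0 := rfl
theorem yel_k : (yel D).k = 1 := rfl

theorem ypow (j : ℕ) :
    (yel D ^ j).x = 0 ∧ (yel D ^ j).z = 0 ∧ (yel D ^ j).k = (j : ZMod D.m) := by
  induction j with
  | zero =>
    rw [pow_zero]
    exact ⟨rfl, rfl, by rw [one_k, Nat.cast_zero]⟩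
  | succ j ih =>
    obtain ⟨h1, h2, h3⟩ := ih
    rw [pow_succ]
    refine ⟨?_, ?_, ?_⟩
    · rw [mul_x, h1, yel_x, mul_zero, add_zero]
    · rw [mul_z, h1, h2, yel_z, zero_mul, add_zero, add_zero]
    · rw [mul_k, h3, yel_k, Nat.cast_succ]

theorem conj_x (j : ℕ) (u : H97G D) : (yel D ^ j * u * (yel D ^ j)⁻¹).x = D.lam ^ j * u.x := by
  obtain ⟨h1, h2, h3⟩ := ypow (D := D) j
  rw [mul_x, mul_x, inv_x, h1, h3, D.mu_natCast]
  ring

theorem conj_z (j : ℕ) (u : H97G D) : (yel D ^ j * u * (yel D ^ j)⁻¹).z = u.z := by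
  obtain ⟨h1, h2, h3⟩ := ypow (D := D) j
  simp only [mul_z, mul_x, inv_z, inv_x, h1, h2, mul_zero, neg_zero, D.zero_pow', zero_mul,
    add_zero, zero_add]

theorem conj_k (j : ℕ) (u : H97G D) : (yel D ^ j * u * (yel D ^ j)⁻¹).k = u.k := by
  rw [mul_k, mul_k, inv_k]
  ring

theorem pow_P (u : H97G D) (hu : u.k = 0) (j : ℕ) :
    (u ^ j).k = 0 ∧ (u ^ j).x = (j : L) * u.x := by
  induction j with
  | zero =>
    rw [pow_zero]
    exact ⟨rfl, by rw [one_x, Nat.cast_zero, zero_mul]⟩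
  | succ j ih =>
    obtain ⟨h1, h2⟩ := ih
    rw [pow_succ]
    refine ⟨by rw [mul_k, h1, hu, add_zero], ?_⟩
    rw [mul_x, h1, h2, D.mu_zero, Nat.cast_succ]
    ring

theorem pow_N (u : H97G D) (hx : u.x = 0) (hk : u.k = 0) (j : ℕ) :
    (u ^ j).k = 0 ∧ (u ^ j).x = 0 ∧ (u ^ j).z = (j : L) * u.z := by
  induction j with
  | zero =>
    rw [pow_zero]
    exact ⟨rfl, rfl, by rw [one_z, Nat.cast_zero, zero_mul]⟩
  | succ j ih =>
    obtain ⟨h1, h2, h3⟩ := ih
    rw [pow_succ]
    refine ⟨by rw [mul_k, h1, hk, add_zero], by rw [mul_x, h2, hx, mul_zero, add_zero], ?_⟩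
    rw [mul_z, h2, h3, Nat.cast_succ]
    ring

theorem card_eq [Finite L] :
    Nat.card (H97G D) = Nat.card L * (Nat.card {w : L // w + w ^ D.n = 0} * D.m) := by
  let e : H97G D ≃ L × {w : L // w + w ^ D.n = 0} × ZMod D.m :=
    { toFun := fun g => (g.x, ⟨g.z - D.tt * (g.x * g.x ^ D.n), by
          have h1 := g.h
          simp only [sub_eq_add_neg, D.add, D.neg_pow', mul_pow, D.invol]
          linear_combination h1 - (g.x * g.x ^ D.n) * D.tt_tr⟩, g.k)
      invFun := fun a => ⟨a.1, a.2.1.1 + D.tt * (a.1 * a.1 ^ D.n), a.2.2, by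
          have h1 := a.2.1.2
          simp only [D.add, mul_pow, D.invol]
          linear_combination h1 + (a.1 * a.1 ^ D.n) * D.tt_tr⟩
      left_inv := fun g => by
        ext
        · rfl
        · show g.z - D.tt * (g.x * g.x ^ D.n) + D.tt * (g.x * g.x ^ D.n) = g.z
          ring
        · rfl
      right_inv := fun a => by
        obtain ⟨x, ⟨w, hw⟩, k⟩ := a
        refine Prod.ext rfl (Prod.ext (Subtype.ext ?_) rfl)
        show w + D.tt * (x * x ^ D.n) - D.tt * (x * x ^ D.n) = w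
        ring }
  rw [Nat.card_congr e, Nat.card_prod, Nat.card_prod, Nat.card_zmod]

end H97G

theorem h97_comm_aux {G : Type*} [Group G] (s₁ s₂ n₁ n₂ : G) (h1 : ∀ g : G, g * n₁ = n₁ * g)
    (h2 : ∀ g : G, g * n₂ = n₂ * g) :
    (s₁ * n₁) * (s₂ * n₂) * ((s₂ * n₂) * (s₁ * n₁))⁻¹ = s₁ * s₂ * (s₂ * s₁)⁻¹ := by
  have e1 : (s₁ * n₁) * (s₂ * n₂) = s₁ * s₂ * (n₁ * n₂) := by
    rw [mul_assoc s₁ n₁, ← mul_assoc n₁ s₂, ← h1 s₂, mul_assoc s₂ n₁, ← mul_assoc s₁]
  have e2 : (s₂ * n₂) * (s₁ * n₁) = s₂ * s₁ * (n₁ * n₂) := by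
    rw [mul_assoc s₂ n₂, ← mul_assoc n₂ s₁, ← h2 s₁, mul_assoc s₁ n₂, ← mul_assoc s₂, h1 n₂]
  rw [e1, e2, mul_inv_rev, mul_assoc (s₁ * s₂), ← mul_assoc (n₁ * n₂), mul_inv_cancel, one_mul]

open H97G in
/-- the model is a cover with non-generating `N` -/
theorem h97_model (p q r : ℕ) [Fact p.Prime] [Fact q.Prime] {L : Type u} [Field L] [Finite L]
    [CharP L p] (D : H97Data L) (hm : D.m = q ^ r) (hlq : D.lam ^ q = 1)
    (hirr : ∀ W : AddSubgroup L, (∀ w ∈ W, D.lam * w ∈ W) → W = ⊥ ∨ W = ⊤) :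
    Cov p q r (Nsub D) (Psub D) (yel D) ∧ NonGen (Nsub D) := by
  have hNc : Nsub D ≤ Subgroup.center (H97G D) := by
    intro n hn
    rw [Subgroup.mem_center_iff]
    intro g
    obtain ⟨hx, hk⟩ := hn
    ext
    · rw [mul_x, mul_x, hx, hk, D.mu_zero]
      ring
    · rw [mul_z, mul_z, hx, hk, mul_zero, D.zero_pow']
      ring
    · rw [mul_k, mul_k, hk]
      ring
  have hcov : Cov p q r (Nsub D) (Psub D) (yel D) := by
    refine
      { N_le_P := fun g hg => hg.2
        N_central := hNc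
        P_normal := ⟨fun n hn g => ?_⟩
        P_pgroup := ?_
        comm_mem := ?_
        pow_mem := ?_
        sup_top := ?_
        ord_dvd := ?_
        ord_mem := ?_
        yq := ?_
        nontriv := ?_
        irr := ?_ }
    · show (g * n * g⁻¹).k = 0
      rw [mul_k, mul_k, inv_k, (hn : n.k = 0)]
      ring
    · rintro ⟨u, hu⟩
      refine ⟨2, ?_⟩
      apply Subtype.ext
      rw [Subgroup.coe_pow, Subgroup.coe_one]
      show u ^ p ^ 2 = 1
      rw [pow_two, pow_mul]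
      obtain ⟨h1, h2⟩ := pow_P u hu p
      have hx : (u ^ p).x = 0 := by rw [h2, CharP.cast_eq_zero, zero_mul]
      obtain ⟨h3, h4, h5⟩ := pow_N (u ^ p) hx h1 p
      ext
      · rw [h4]; rfl
      · rw [h5, CharP.cast_eq_zero, zero_mul]; rfl
      · rw [h3]; rfl
    · intro u hu v hv
      have hu' : u.k = 0 := hu
      have hv' : v.k = 0 := hv
      refine ⟨?_, ?_⟩
      · show (u * v * u⁻¹ * v⁻¹).x = 0
        simp only [mul_x, mul_k, inv_x, inv_k, hu', hv', neg_zero, add_zero, D.mu_zero, one_mul]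
        ring
      · show (u * v * u⁻¹ * v⁻¹).k = 0
        simp only [mul_k, inv_k, hu', hv', neg_zero, add_zero]
    · intro u hu
      obtain ⟨h1, h2⟩ := pow_P u hu p
      exact ⟨by rw [h2, CharP.cast_eq_zero, zero_mul], h1⟩
    · rw [eq_top_iff]
      intro g _
      have hg : g = (⟨g.x, g.z, 0, g.h⟩ : H97G D) * yel D ^ g.k.val := by
        obtain ⟨h1, h2, h3⟩ := ypow (D := D) g.k.val
        ext
        · rw [mul_x, h1, mul_zero, add_zero]
        · rw [mul_z, h1, h2, mul_zero, D.zero_pow', mul_zero, add_zero, add_zero]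
        · rw [mul_k, h3, ZMod.natCast_zmod_val]
          show g.k = 0 + g.k
          rw [zero_add]
      rw [hg]
      exact Subgroup.mul_mem_sup (show _ ∈ Psub D from rfl)
        (Subgroup.pow_mem _ (Subgroup.mem_zpowers _) _)
    · intro j hj
      have h0 : (yel D ^ j).k = 0 := hj
      rw [(ypow (D := D) j).2.2] at h0
      rw [← hm]
      exact (ZMod.natCast_eq_zero_iff j D.m).1 h0
    · show (yel D ^ (q ^ r)).k = 0
      rw [(ypow (D := D) (q ^ r)).2.2, ← hm, ZMod.natCast_self]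
    · intro u hu
      have hc : yel D ^ q * u * (yel D ^ q)⁻¹ = u := by
        ext
        · rw [conj_x, hlq, one_mul]
        · rw [conj_z]
        · rw [conj_k]
      rw [hc, mul_inv_cancel]
      exact (Nsub D).one_mem
    · refine ⟨sec D 1, rfl, ?_⟩
      intro hmem
      have hx : (yel D * sec D 1 * (yel D)⁻¹ * (sec D 1)⁻¹).x = 0 := hmem.1
      have e1 : (yel D * sec D 1 * (yel D)⁻¹).x = D.lam := by
        have := conj_x (D := D) 1 (sec D 1)
        rw [pow_one, pow_one, sec_x, mul_one] at this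
        exact this
      have e2 : (yel D * sec D 1 * (yel D)⁻¹).k = 0 := by
        have := conj_k (D := D) 1 (sec D 1)
        rw [pow_one, sec_k] at this
        exact this
      have e3 : ((sec D 1)⁻¹).x = -1 := by
        rw [inv_x, sec_k, sec_x, neg_zero, D.mu_zero, one_mul]
      rw [mul_x, e1, e2, e3, D.mu_zero] at hx
      apply D.lam_ne
      linear_combination hx
    · intro W hNW hWP hinv
      let Wb : AddSubgroup L :=
        { carrier := {x | ∃ u ∈ W, u.x = x}
          add_mem' := by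
            rintro _ _ ⟨u, hu, rfl⟩ ⟨v, hv, rfl⟩
            exact ⟨u * v, W.mul_mem hu hv, by
              rw [mul_x, (hWP hu : u.k = 0), D.mu_zero, one_mul]⟩
          zero_mem' := ⟨1, W.one_mem, rfl⟩
          neg_mem' := by
            rintro _ ⟨u, hu, rfl⟩
            exact ⟨u⁻¹, W.inv_mem hu, by
              rw [inv_x, (hWP hu : u.k = 0), neg_zero, D.mu_zero, one_mul]⟩ }
      have hWb : ∀ x : L, x ∈ Wb ↔ ∃ u ∈ W, u.x = x := fun x => Iff.rfl
      have hlamW : ∀ w ∈ Wb, D.lam * w ∈ Wb := by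
        rintro _ ⟨u, hu, rfl⟩
        refine ⟨yel D * u * (yel D)⁻¹, hinv u hu, ?_⟩
        have := conj_x (D := D) 1 u
        rw [pow_one, pow_one] at this
        exact this
      rcases hirr Wb hlamW with h | h
      · left
        apply le_antisymm _ hNW
        intro u hu
        have hux : u.x ∈ Wb := ⟨u, hu, rfl⟩
        rw [h, AddSubgroup.mem_bot] at hux
        exact ⟨hux, hWP hu⟩
      · right
        apply le_antisymm hWP
        intro u hu
        have hux : u.x ∈ Wb := by rw [h]; exact AddSubgroup.mem_top _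
        obtain ⟨v, hv, hvx⟩ := (hWb _).1 hux
        have hvk : v.k = 0 := hWP hv
        have huk : u.k = 0 := hu
        have hn : v⁻¹ * u ∈ Nsub D := by
          refine ⟨?_, ?_⟩
          · show (v⁻¹ * u).x = 0
            rw [mul_x, inv_x, inv_k, hvk, neg_zero, D.mu_zero, hvx]
            ring
          · show (v⁻¹ * u).k = 0
            rw [mul_k, inv_k, hvk, huk]
            ring
        have hdec : u = v * (v⁻¹ * u) := by rw [mul_inv_cancel_left]
        rw [hdec]
        exact W.mul_mem hv (hNW hn)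
  refine ⟨hcov, ?_⟩
  intro S hS
  haveI hNn : (Nsub D).Normal := ⟨fun n hn g => by
    rw [Subgroup.mem_center_iff.1 (hNc hn) g, mul_inv_cancel_right]
    exact hn⟩
  have hdec : ∀ g : H97G D, ∃ s ∈ S, ∃ n ∈ Nsub D, s * n = g := by
    intro g
    have hg : g ∈ ((S ⊔ Nsub D : Subgroup (H97G D)) : Set (H97G D)) := by
      rw [hS]
      exact Set.mem_univ g
    rw [Subgroup.mul_normal] at hg
    exact Set.mem_mul.1 hg
  have hNS : Nsub D ≤ S := by
    intro n hn
    obtain ⟨hx, hk⟩ := hn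
    have hw : n.z + n.z ^ D.n = 0 := by
      have := n.h
      rw [hx, zero_mul] at this
      exact this
    obtain ⟨s₁, hs₁, n₁, hn₁, hu⟩ := hdec (sec D (D.tt * n.z))
    obtain ⟨s₂, hs₂, n₂, hn₂, hv⟩ := hdec (sec D 1)
    have hkey : sec D (D.tt * n.z) * sec D 1 = n * (sec D 1 * sec D (D.tt * n.z)) := by
      ext
      · simp only [mul_x, mul_k, sec_x, sec_k, hx, hk, D.mu_zero, add_zero]
        ring
      · simp only [mul_z, mul_x, mul_k, sec_x, sec_z, sec_k, hx, hk, D.mu_zero, add_zero,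
          one_mul, mul_one, one_pow, zero_mul, mul_pow]
        linear_combination n.z * D.tt_tr - D.tt ^ D.n * hw
      · simp only [mul_k, sec_k, hk, add_zero]
    have h1 : n = (sec D (D.tt * n.z) * sec D 1) * (sec D 1 * sec D (D.tt * n.z))⁻¹ :=
      eq_mul_inv_of_mul_eq hkey.symm
    have h2 := h97_comm_aux s₁ s₂ n₁ n₂ (fun g => Subgroup.mem_center_iff.1 (hNc hn₁) g)
      (fun g => Subgroup.mem_center_iff.1 (hNc hn₂) g)
    rw [hu, hv] at h2
    rw [h1, h2]
    exact S.mul_mem (S.mul_mem hs₁ hs₂) (S.inv_mem (S.mul_mem hs₂ hs₁))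
  rw [sup_eq_left.2 hNS] at hS
  exact hS

/-- EXB over a given field with `p ^ (2 b)` elements -/
theorem h97_ex_cov_b_of_field (p q r b : ℕ) [Fact p.Prime] [Fact q.Prime] (hpq : p ≠ q)
    (hr : 1 ≤ r) (hb : orderOf (p : ZMod q) = 2 * b) (L : Type u) [Field L] [Finite L]
    [CharP L p] (hL : Nat.card L = p ^ (2 * b)) :
    ∃ (G : Type u) (_ : Group G) (_ : Finite G) (N P : Subgroup G) (y : G),
      Cov p q r N P y ∧ NonGen N ∧ Nat.card G = p ^ (3 * b) * q ^ r := by
  have hq : q.Prime := Fact.out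
  have hL' : Nat.card L = p ^ orderOf (p : ZMod q) := by rw [hb, hL]
  obtain ⟨lam, hlam⟩ := h97_gf_exists_lam p q hL'
  obtain ⟨hadd, hinv, hnorm, ⟨t, ht⟩, hcardK⟩ := h97_gf_sigma p q b hpq hb hL lam hlam
  have hlq : lam ^ q = 1 := by
    rw [← hlam]
    exact pow_orderOf_eq_one lam
  have hlm : lam ^ (q ^ r) = 1 := by
    obtain ⟨r', rfl⟩ : ∃ r', r = r' + 1 := ⟨r - 1, by omega⟩
    rw [pow_succ', pow_mul, hlq, one_pow]
  have hl1 : lam ≠ 1 := by
    intro h
    rw [h, orderOf_one] at hlam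
    exact hq.one_lt.ne hlam
  let D : H97Data L :=
    { n := p ^ b, m := q ^ r, lam := lam, tt := t, hm := (pow_pos hq.pos r).ne', add := hadd,
      invol := hinv, lam_norm := hnorm, lam_pow := hlm, tt_tr := ht, lam_ne := hl1 }
  obtain ⟨hcov, hng⟩ := h97_model p q r D rfl hlq
    (fun W hW => h97_gf_irr p q hL' lam hlam W hW)
  refine ⟨H97G D, inferInstance, inferInstance, H97G.Nsub D, H97G.Psub D, H97G.yel D, hcov,
    hng, ?_⟩
  rw [H97G.card_eq, hL]
  show p ^ (2 * b) * (Nat.card {w : L // w + w ^ p ^ b = 0} * q ^ r) = _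
  rw [hcardK]
  ring

/-- EXB (racing copy, helper97) -/
theorem h97_ex_cov_b (p q r : ℕ) [Fact p.Prime] [Fact q.Prime] (hpq : p ≠ q) (hr : 1 ≤ r)
    (hev : orderOf (p : ZMod q) % 2 = 0) :
    ∃ (G : Type u) (_ : Group G) (_ : Finite G) (N P : Subgroup G) (y : G),
      Cov p q r N P y ∧ NonGen N ∧ Nat.card G = p ^ (3 * orderOf (p : ZMod q) / 2) * q ^ r := by
  obtain ⟨b, hb⟩ : ∃ b, orderOf (p : ZMod q) = 2 * b := ⟨orderOf (p : ZMod q) / 2, by omega⟩
  have hb0 : 2 * b ≠ 0 := by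
    have := h97_gf_order_pos p q hpq
    omega
  haveI : CharP (ULift.{u} (GaloisField p (2 * b))) p :=
    (ULift.ringEquiv : ULift.{u} (GaloisField p (2 * b)) ≃+* GaloisField p (2 * b)).toRingHom.charP
      (ULift.ringEquiv : ULift.{u} (GaloisField p (2 * b)) ≃+* GaloisField p (2 * b)).injective p
  have hL : Nat.card (ULift.{u} (GaloisField p (2 * b))) = p ^ (2 * b) := by
    rw [Nat.card_congr Equiv.ulift, GaloisField.card p (2 * b) hb0]
  obtain ⟨G, i1, i2, N, P, y, h1, h2, h3⟩ :=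
    h97_ex_cov_b_of_field.{u} p q r b hpq hr hb (ULift.{u} (GaloisField p (2 * b))) hL
  refine ⟨G, i1, i2, N, P, y, h1, h2, ?_⟩
  rw [h3, hb]
  congr 2
  omega

end Cfsg.Agent.Lib.helper3.Gf
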