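import Mathlib
import Cfsg.Agent.Lib.helper33.M24BDefs
import Cfsg.Agent.Lib.helper54.AxB

/-!
# S5006, piece LOCAL (core)

`defect_class_eq_one_core`: the statement LOCAL with the pieces NPG (`normal_pgroup_le_defect`) and
OPC (`core_centralizer`) as explicit hypotheses for the prime `2`.
-/

set_option autoImplicit false
open Cfsg Cfsg.Agent.Lib.helper33.M24B
open scoped ComplexConjugate

namespace Cfsg.Agent.Lib.helper97.M24B

/-- A nontrivial `2`-subgroup has a central involution. -/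
theorem exists_central_involution {G : Type*} [Group G] [Finite G] (D : Subgroup G)
    (hD : IsPGroup 2 D) (hD1 : D ≠ ⊥) :
    ∃ t ∈ D, orderOf t = 2 ∧ ∀ x ∈ D, t * x = x * t := by
  have : Fact (Nat.Prime 2) := ⟨Nat.prime_two⟩
  have hnt : Nontrivial ↥D := (Subgroup.nontrivial_iff_ne_bot D).mpr hD1
  have hZ : Nontrivial ↥(Subgroup.center ↥D) := hD.center_nontrivial
  have hZ2 : IsPGroup 2 ↥(Subgroup.center ↥D) := hD.to_subgroup _
  obtain ⟨k, hk⟩ := IsPGroup.iff_card.mp hZ2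
  have hk1 : k ≠ 0 := by
    rintro rfl
    rw [pow_zero] at hk
    have : Subsingleton ↥(Subgroup.center ↥D) := (Nat.card_eq_one_iff_unique.mp hk).1
    exact not_nontrivial _ hZ
  have hdvd : 2 ∣ Nat.card ↥(Subgroup.center ↥D) := by
    rw [hk]; exact dvd_pow_self 2 hk1
  obtain ⟨z, hz⟩ := exists_prime_orderOf_dvd_card' (G := ↥(Subgroup.center ↥D)) 2 hdvd
  refine ⟨((z : ↥D) : G), (z : ↥D).2, ?_, ?_⟩
  · rw [Subgroup.orderOf_coe, Subgroup.orderOf_coe]
    exact hz
  · intro x hx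
    have h1 := Subgroup.mem_center_iff.mp z.2 ⟨x, hx⟩
    have h2 := congrArg Subtype.val h1
    simpa using h2.symm

/-- LOCAL, with NPG and OPC as hypotheses. -/
theorem defect_class_eq_one_core {G : Type*} [Group G] [Finite G]
    (M : Ideal AlgInt) (B : Set (IrrCharacter G))
    (hNPG : ∀ D : Subgroup G, IsDefectGroup 2 M B D → ∀ R : Subgroup G, IsPGroup 2 R →
      R ≤ Subgroup.normalizer (D : Set G) →
      (∀ n ∈ Subgroup.normalizer (D : Set G), ∀ r ∈ R, n * r * n⁻¹ ∈ R) → R ≤ D)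
    (hOPC : ∀ D : Subgroup G, ∃ R : Subgroup G, IsPGroup 2 R ∧
      R ≤ Subgroup.normalizer (D : Set G) ∧
      (∀ n ∈ Subgroup.normalizer (D : Set G), ∀ r ∈ R, n * r * n⁻¹ ∈ R) ∧
      ∀ R0 : Subgroup G, IsPGroup 2 R0 → R0 ≤ Subgroup.centralizer (D : Set G) →
        (∀ c ∈ Subgroup.centralizer (D : Set G), ∀ r ∈ R0, c * r * c⁻¹ ∈ R0) → R0 ≤ R)
    (g : G) (hg : IsDefectClass M B g) (hreg : ¬ 2 ∣ orderOf g)
    (P : Sylow 2 (Subgroup.centralizer ({g} : Set G)))
    (hP : (P : Subgroup (Subgroup.centralizer ({g} : Set G))) ≠ ⊥)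
    (hstar : ∀ t : G, orderOf t = 2 → Star t) : g = 1 := by
  have : Fact (Nat.Prime 2) := ⟨Nat.prime_two⟩
  obtain ⟨D, hDdef⟩ : ∃ D : Subgroup G, D = (P : Subgroup (Subgroup.centralizer ({g} : Set G))).map
      (Subgroup.centralizer ({g} : Set G)).subtype := ⟨_, rfl⟩
  have hD : IsDefectGroup 2 M B D := ⟨g, hg, P, hDdef⟩
  have hDp : IsPGroup 2 D := hDdef ▸ P.isPGroup'.map _
  have hD1 : D ≠ ⊥ := by
    intro h
    apply hP
    rw [hDdef] at h
    exact (Subgroup.map_eq_bot_iff_of_injective _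
      (Subgroup.centralizer ({g} : Set G)).subtype_injective).mp h
  have hDg : ∀ x ∈ D, g * x = x * g := by
    intro x hx
    rw [hDdef] at hx
    obtain ⟨y, -, rfl⟩ := hx
    exact Subgroup.mem_centralizer_iff.mp y.2 g (Set.mem_singleton g)
  obtain ⟨t, htD, ht2, htc⟩ := exists_central_involution D hDp hD1
  obtain ⟨Q, hQ2, hQn, hQc⟩ := hstar t ht2
  have hDQ : D ≤ Subgroup.normalizer (Q : Set G) := fun x hx => hQn x (htc x hx).symm
  have hgQ : g ∈ Subgroup.normalizer (Q : Set G) := hQn g (hDg t htD)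
  obtain ⟨R, hR2, hRN, hRn, hRmax⟩ := hOPC D
  have hR0 : Q ⊓ Subgroup.centralizer (D : Set G) ≤ R := by
    apply hRmax _ (hQ2.to_le inf_le_left) inf_le_right
    intro c hc r hr
    have hct : c * t = t * c := (Subgroup.mem_centralizer_iff.mp hc t htD).symm
    have hcQ := hQn c hct
    refine Subgroup.mem_inf.mpr ⟨?_, ?_⟩
    · exact (Subgroup.mem_normalizer_iff.mp hcQ r).mp (Subgroup.mem_inf.mp hr).1
    · exact Subgroup.mul_mem _ (Subgroup.mul_mem _ hc (Subgroup.mem_inf.mp hr).2)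
        (Subgroup.inv_mem _ hc)
  have hRD : R ≤ D := hNPG D hD R hR2 hRN hRn
  have hcen : ∀ q ∈ Q, (∀ x ∈ D, x * q = q * x) → g * q = q * g := by
    intro q hq hqD
    apply hDg q
    apply hRD
    apply hR0
    refine Subgroup.mem_inf.mpr ⟨hq, ?_⟩
    rw [Subgroup.mem_centralizer_iff]
    exact hqD
  have hd : (orderOf g).Coprime 2 :=
    ((Nat.Prime.coprime_iff_not_dvd Nat.prime_two).mpr hreg).symm
  have hall := Cfsg.Agent.Lib.helper54.thompson_AxB (p := 2) D hDp g hd hDg Q hQ2 hDQ hgQ hcen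
  exact hQc g hreg hall

end Cfsg.Agent.Lib.helper97.M24B
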