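import Mathlib
import Cfsg.Agent.Lib.helper33.M24BDefs
import Cfsg.Agent.S0364
import Cfsg.Agent.Lib.helper97.M24B_LOCALCore

/-!
# S5006, piece CENT

An element `x` of odd order of the group of the length-24 code whose centralizer has order
divisible by `2 ^ 10` is the identity (given the property `Star` of all involutions).
-/

set_option autoImplicit false
open Cfsg Cfsg.Agent.Lib.helper33.M24B
open scoped ComplexConjugate

namespace Cfsg.Agent.Lib.helper97.M24B

/-- CENT -/
theorem cent_full (hstar : ∀ t : ↥M24, orderOf t = 2 → Star t) (x : ↥M24)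
    (hx : ¬ 2 ∣ orderOf x)
    (h : (Nat.card (Subgroup.centralizer ({x} : Set ↥M24))).factorization 2 = 10) : x = 1 := by
  have : Fact (Nat.Prime 2) := ⟨Nat.prime_two⟩
  obtain ⟨P⟩ : Nonempty (Sylow 2 (Subgroup.centralizer ({x} : Set ↥M24))) := inferInstance
  have hPc : Nat.card P = 2 ^ 10 := by
    rw [Sylow.card_eq_multiplicity, h]
  obtain ⟨S, hSdef⟩ : ∃ S : Subgroup ↥M24,
      S = (P : Subgroup (Subgroup.centralizer ({x} : Set ↥M24))).map
        (Subgroup.centralizer ({x} : Set ↥M24)).subtype := ⟨_, rfl⟩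
  have hSc : Nat.card S = 2 ^ 10 := by
    rw [hSdef, Subgroup.card_map_of_injective (Subgroup.subtype_injective _)]
    exact hPc
  have hSp : IsPGroup 2 S := hSdef ▸ P.isPGroup'.map _
  have hS1 : S ≠ ⊥ := by
    intro hb
    rw [hb, Subgroup.card_bot] at hSc
    norm_num at hSc
  have hSx : ∀ s ∈ S, x * s = s * x := by
    intro s hs
    rw [hSdef] at hs
    obtain ⟨y, -, rfl⟩ := hs
    exact Subgroup.mem_centralizer_iff.mp y.2 x (Set.mem_singleton x)
  obtain ⟨t, htS, ht2, htc⟩ := exists_central_involution S hSp hS1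
  obtain ⟨Q, hQ2, hQn, hQc⟩ := hstar t ht2
  have hSQ : S ≤ Subgroup.normalizer (Q : Set ↥M24) := fun s hs => hQn s (htc s hs).symm
  have hT : IsPGroup 2 (S ⊔ Q : Subgroup ↥M24) := IsPGroup.to_sup_of_normal_right' hSp hQ2 hSQ
  obtain ⟨m, hm⟩ := IsPGroup.iff_card.mp hT
  have hdvd : 2 ^ m ∣ 244823040 := by
    rw [← hm, ← Cfsg.Agent.S0364.result]
    exact Subgroup.card_subgroup_dvd_card _
  have hm10 : m ≤ 10 := by
    by_contra hcon
    have h11 : 2 ^ 11 ∣ 2 ^ m := pow_dvd_pow 2 (by omega)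
    have := h11.trans hdvd
    norm_num at this
  have hle : Nat.card (S ⊔ Q : Subgroup ↥M24) ≤ Nat.card S := by
    rw [hm, hSc]
    exact Nat.pow_le_pow_right (by norm_num) hm10
  have hST : S = S ⊔ Q := Subgroup.eq_of_le_of_card_ge le_sup_left hle
  have hQS : Q ≤ S := by
    rw [hST]; exact le_sup_right
  exact hQc x hx (fun q hq => hSx q (hQS hq))

end Cfsg.Agent.Lib.helper97.M24B
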