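import Mathlib
import Cfsg.Agent.Lib.helper33.M24BDefs
import Cfsg.Agent.Lib.helper82.M24B_NPG
import Cfsg.Agent.Lib.helper82.M24B_OPC
import Cfsg.Agent.Lib.helper97.M24B_LOCALCore

/-!
# S5006, piece LOCAL

A defect class `g` of a `2`-block (`g` of odd order) whose centralizer has a nontrivial Sylow
`2`-subgroup is the identity, provided every involution `t` has the property `Star t`.
-/

set_option autoImplicit false
open Cfsg Cfsg.Agent.Lib.helper33.M24B
open scoped ComplexConjugate

namespace Cfsg.Agent.Lib.helper97.M24B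

/-- LOCAL -/
theorem defect_class_eq_one {G : Type*} [Group G] [Finite G]
    (M : Ideal AlgInt) (hM : IsPModular 2 M) (B : Set (IrrCharacter G)) (hB : IsPBlock M B)
    (g : G) (hg : IsDefectClass M B g) (hreg : ¬ 2 ∣ orderOf g)
    (P : Sylow 2 (Subgroup.centralizer ({g} : Set G)))
    (hP : (P : Subgroup (Subgroup.centralizer ({g} : Set G))) ≠ ⊥)
    (hstar : ∀ t : G, orderOf t = 2 → Star t) : g = 1 := by
  have : Fact (Nat.Prime 2) := ⟨Nat.prime_two⟩
  exact defect_class_eq_one_core M B
    (fun D hD R hR hRN hnorm =>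
      Cfsg.Agent.Lib.helper82.M24B.normal_pgroup_le_defect 2 M hM B hB D hD R hR hRN hnorm)
    (fun D => Cfsg.Agent.Lib.helper82.M24B.core_centralizer 2 D)
    g hg hreg P hP hstar

end Cfsg.Agent.Lib.helper97.M24B
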