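import Mathlib
import Cfsg.Agent.Lib.helper33.M24BDefs
import Cfsg.Agent.Lib.helper83.CharBasic

/-!
# S5006, piece PSUMCONJ

For an irreducible character `χ` and elements `y`, `y'` of prime order `n` with `y'` conjugate to a
power of `y`, the sums of `χ` over the non-identity powers of `y` and of `y'` agree.
-/

set_option autoImplicit false
open Cfsg Cfsg.Agent.Lib.helper33.M24B
open scoped ComplexConjugate

namespace Cfsg.Agent.Lib.helper97.M24B

/-- Multiplication by `j` modulo a prime `n ∤ j` permutes `{1, …, n - 1}`. -/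
theorem image_mul_mod_Ico (n : ℕ) (hn : n.Prime) (j : ℕ) (hj : ¬ n ∣ j) :
    (Finset.Ico 1 n).image (fun k => j * k % n) = Finset.Ico 1 n := by
  have hinj : Set.InjOn (fun k => j * k % n) (Finset.Ico 1 n : Set ℕ) := by
    intro a ha b hb hab
    simp only [Finset.coe_Ico, Set.mem_Ico] at ha hb
    have h1 : j * a ≡ j * b [MOD n] := hab
    have hcop : Nat.Coprime n j := (Nat.Prime.coprime_iff_not_dvd hn).mpr hj
    have h2 : a ≡ b [MOD n] := Nat.ModEq.cancel_left_of_coprime (by rwa [Nat.Coprime] at hcop) h1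
    have h3 : a % n = b % n := h2
    rwa [Nat.mod_eq_of_lt ha.2, Nat.mod_eq_of_lt hb.2] at h3
  apply Finset.eq_of_subset_of_card_le
  · intro m hm
    obtain ⟨k, hk, rfl⟩ := Finset.mem_image.mp hm
    rw [Finset.mem_Ico] at hk ⊢
    refine ⟨?_, Nat.mod_lt _ hn.pos⟩
    rw [Nat.one_le_iff_ne_zero]
    intro h0
    have hdvd : n ∣ j * k := Nat.dvd_of_mod_eq_zero h0
    rcases (Nat.Prime.dvd_mul hn).mp hdvd with h | h
    · exact hj h
    · exact absurd (Nat.le_of_dvd (by omega) h) (by omega)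
  · rw [Finset.card_image_of_injOn hinj]

/-- PSUMCONJ -/
theorem psum_conj {G : Type*} [Group G] [Finite G] (χ : IrrCharacter G) (n : ℕ) (hn : n.Prime)
    (y y' : G) (hy : orderOf y = n) (hy' : orderOf y' = n)
    (hconj : ∃ (g : G) (j : ℕ), y' = g * y ^ j * g⁻¹) :
    psum (χ : G → ℂ) n y' = psum (χ : G → ℂ) n y := by
  obtain ⟨g, j, rfl⟩ := hconj
  have hj : ¬ n ∣ j := by
    intro h
    have h1 : y ^ j = 1 := by
      rw [← hy] at h
      exact orderOf_dvd_iff_pow_eq_one.mp h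
    rw [h1, mul_one, mul_inv_cancel, orderOf_one] at hy'
    exact hn.one_lt.ne hy'
  unfold psum
  have h1 : ∀ k : ℕ, (χ : G → ℂ) ((g * y ^ j * g⁻¹) ^ k) = (χ : G → ℂ) (y ^ (j * k % n)) := by
    intro k
    have h2 : (g * y ^ j * g⁻¹) ^ k = g * y ^ (j * k) * g⁻¹ := by
      rw [conj_pow, ← pow_mul]
    rw [h2, Cfsg.Agent.Lib.helper83.irr_conj, ← hy, pow_mod_orderOf]
  rw [Finset.sum_congr rfl (fun k _ => h1 k)]
  have hinj : Set.InjOn (fun k => j * k % n) (Finset.Ico 1 n : Set ℕ) := by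
    intro a ha b hb hab
    simp only [Finset.coe_Ico, Set.mem_Ico] at ha hb
    have h1 : j * a ≡ j * b [MOD n] := hab
    have hcop : Nat.Coprime n j := (Nat.Prime.coprime_iff_not_dvd hn).mpr hj
    have h2 : a ≡ b [MOD n] := Nat.ModEq.cancel_left_of_coprime (by rwa [Nat.Coprime] at hcop) h1
    have h3 : a % n = b % n := h2
    rwa [Nat.mod_eq_of_lt ha.2, Nat.mod_eq_of_lt hb.2] at h3
  rw [← Finset.sum_image (f := fun m => (χ : G → ℂ) (y ^ m)) hinj, image_mul_mod_Ico n hn j hj]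

end Cfsg.Agent.Lib.helper97.M24B
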