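import Mathlib
import Cfsg.Agent.Lib.helper33.M24BDefs
import Cfsg.Agent.Lib.helper97.M24B_PSUMCONJ

/-!
# S5006, piece PSUMSYL

If `n` is a prime with `n ^ 2 ∤ |G|`, the subgroups of order `n` are the Sylow `n`-subgroups, hence
conjugate, and the sum of an irreducible character over the non-identity powers of an element of
order `n` does not depend on the element.
-/

set_option autoImplicit false
open Cfsg Cfsg.Agent.Lib.helper33.M24B
open scoped ComplexConjugate Pointwise

namespace Cfsg.Agent.Lib.helper97.M24B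

/-- PSUMSYL -/
theorem psum_sylow_const {G : Type*} [Group G] [Finite G] (χ : IrrCharacter G) (n : ℕ)
    (hn : n.Prime) (hG : ¬ n ^ 2 ∣ Nat.card G) (y y' : G) (hy : orderOf y = n)
    (hy' : orderOf y' = n) : psum (χ : G → ℂ) n y' = psum (χ : G → ℂ) n y := by
  have : Fact n.Prime := ⟨hn⟩
  have hdvd : n ∣ Nat.card G := hy ▸ orderOf_dvd_natCard y
  have hfac : (Nat.card G).factorization n = 1 := by
    have hpos : Nat.card G ≠ 0 := Nat.card_pos.ne'
    have h1 : 1 ≤ (Nat.card G).factorization n :=
      (hn.dvd_iff_one_le_factorization hpos).mp hdvd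
    have h2 : ¬ 2 ≤ (Nat.card G).factorization n := by
      intro h
      exact hG ((hn.pow_dvd_iff_le_factorization hpos).mpr h)
    omega
  have hc : ∀ z : G, orderOf z = n →
      Nat.card (Subgroup.zpowers z) = n ^ (Nat.card G).factorization n := by
    intro z hz
    rw [hfac, pow_one, Nat.card_zpowers, hz]
  let P : Sylow n G := Sylow.ofCard (Subgroup.zpowers y) (hc y hy)
  let P' : Sylow n G := Sylow.ofCard (Subgroup.zpowers y') (hc y' hy')
  obtain ⟨g, hg⟩ := MulAction.exists_smul_eq G P P'
  have h1 : y' ∈ ((g • P : Sylow n G) : Subgroup G) := by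
    rw [hg]
    exact Subgroup.mem_zpowers y'
  rw [Sylow.coe_subgroup_smul, Subgroup.mem_smul_pointwise_iff_exists] at h1
  obtain ⟨s, hs, hsy⟩ := h1
  have hs' : s ∈ Subgroup.zpowers y := hs
  rw [← mem_powers_iff_mem_zpowers, Submonoid.mem_powers_iff] at hs'
  obtain ⟨j, rfl⟩ := hs'
  apply psum_conj χ n hn y y' hy hy'
  refine ⟨g, j, ?_⟩
  rw [← hsy]
  rfl

end Cfsg.Agent.Lib.helper97.M24B
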