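import Mathlib
import Cfsg.Agent.Lib.helper97.CycMax

/-!
Miller's theorem on the number of cyclic subgroups of a noncyclic `p`-group, `p` odd
(owner: helper97).

* `card_subgroups_cyclic_eq_one` : a cyclic group of order `p^n` has exactly one subgroup of order
  `p^β` for `β ≤ n`.
* `card_cyclic_subgroups_dvd` (Miller) : in a noncyclic group of order `p^m`, `p` odd, the number
  of cyclic subgroups of order `p^β`, `β ≥ 2`, is divisible by `p`.
* `card_cyclic_not_le_sylow_dvd` : the number of cyclic subgroups of order `p^β` of `G` not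
  contained in a fixed Sylow `p`-subgroup is divisible by `p`.
* `card_cyclic_subgroups_dvd_of_sylow` : if a Sylow `p`-subgroup of `G` is noncyclic, `p` odd,
  `β ≥ 2`, then the number of cyclic subgroups of order `p^β` of `G` is divisible by `p`.
-/

set_option autoImplicit false

universe u

namespace Cfsg.Agent.Lib.helper97

open Cfsg.Agent.Lib.helper69

open scoped Pointwise

theorem card_subgroups_cyclic_eq_one (p : ℕ) [hp : Fact p.Prime] {M : Type*} [Group M] [Finite M]
    [IsCyclic M] (n β : ℕ) (hβ : β ≤ n) (hM : Nat.card M = p ^ n) :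
    Nat.card {C : Subgroup M // IsCyclic C ∧ Nat.card C = p ^ β} = 1 := by
  rw [Nat.card_eq_one_iff_unique]
  constructor
  · constructor
    intro a b
    exact Subtype.ext (subgroup_eq_of_card_eq_of_isCyclic a.1 b.1 (a.2.2.trans b.2.2.symm))
  · obtain ⟨C, hC⟩ := Sylow.exists_subgroup_card_pow_prime p (G := M) (n := β)
      (by rw [hM]; exact pow_dvd_pow p hβ)
    exact ⟨⟨C, Subgroup.isCyclic C, hC⟩⟩

/-- **Miller**: in a noncyclic group of order `p^m`, `p` odd, the number of cyclic subgroups of
order `p^β`, `β ≥ 2`, is divisible by `p`. -/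
theorem card_cyclic_subgroups_dvd (p : ℕ) [hp : Fact p.Prime] (hp2 : p ≠ 2) :
    ∀ (m : ℕ) (P : Type u) [Group P] [Finite P], Nat.card P = p ^ m → ¬ IsCyclic P →
      ∀ β : ℕ, 2 ≤ β → p ∣ Nat.card {C : Subgroup P // IsCyclic C ∧ Nat.card C = p ^ β} := by
  intro m
  induction m using Nat.strong_induction_on with
  | _ m ih =>
    intro P _ _ hP hnc β hβ
    classical
    rcases Nat.lt_or_ge β m with hβm | hβm
    swap
    · have : IsEmpty {C : Subgroup P // IsCyclic C ∧ Nat.card C = p ^ β} := by
        constructor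
        rintro ⟨C, hCc, hCcard⟩
        have hd : p ^ β ∣ p ^ m := by
          rw [← hCcard, ← hP]; exact Subgroup.card_subgroup_dvd_card C
        have hle : β ≤ m := (Nat.pow_dvd_pow_iff_le_right hp.out.one_lt).mp hd
        have hβeq : β = m := le_antisymm hle hβm
        have htop : C = ⊤ := Subgroup.eq_top_of_card_eq C (by rw [hCcard, hβeq, hP])
        apply hnc
        rw [htop] at hCc
        exact (Subgroup.topEquiv : (⊤ : Subgroup P) ≃* P).isCyclic.mp hCc
      rw [Nat.card_of_isEmpty]
      exact dvd_zero p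
    · have hm3 : 3 ≤ m := by omega
      have : Fintype (Subgroup P) := Fintype.ofFinite _
      let 𝒞 : Finset (Subgroup P) :=
        Finset.univ.filter (fun C => IsCyclic C ∧ Nat.card C = p ^ β)
      let ℳ : Finset (Subgroup P) := Finset.univ.filter (fun M => M.index = p)
      have h𝒞 : Nat.card {C : Subgroup P // IsCyclic C ∧ Nat.card C = p ^ β} = 𝒞.card := by
        rw [Nat.card_eq_fintype_card, Fintype.card_subtype]
      have hdc := Finset.sum_card_bipartiteAbove_eq_sum_card_bipartiteBelow (s := 𝒞) (t := ℳ)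
        (r := fun (C M : Subgroup P) => C ≤ M)
      have hleft : ∀ C ∈ 𝒞,
          (ℳ.bipartiteAbove (fun (C M : Subgroup P) => C ≤ M) C).card ≡ 1 [MOD p] := by
        intro C hC
        obtain ⟨_, hCc, hCcard⟩ := Finset.mem_filter.mp hC
        have hCtop : C ≠ ⊤ := by
          rintro rfl
          rw [Subgroup.card_top, hP] at hCcard
          have := Nat.pow_right_injective hp.out.two_le hCcard
          omega
        have h1 := card_index_p_ge_modEq_one p m hP C hCtop
        have h2 : (ℳ.bipartiteAbove (fun (C M : Subgroup P) => C ≤ M) C).card =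
            Nat.card {M : Subgroup P // C ≤ M ∧ M.index = p} := by
          rw [Nat.card_eq_fintype_card, Fintype.card_subtype]
          congr 1
          ext M
          simp only [Finset.bipartiteAbove, Finset.mem_filter, Finset.mem_univ, true_and, ℳ]
          exact and_comm
        rw [h2]; exact h1
      have hL : ∑ C ∈ 𝒞, (ℳ.bipartiteAbove (fun (C M : Subgroup P) => C ≤ M) C).card ≡
          𝒞.card * 1 [MOD p] := sum_modEq_card_mul 𝒞 _ 1 p hleft
      have hright : ∀ M ∈ ℳ,
          (𝒞.bipartiteBelow (fun (C M : Subgroup P) => C ≤ M) M).card ≡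
            (if IsCyclic M then 1 else 0) [MOD p] := by
        intro M hM
        have hMi : M.index = p := (Finset.mem_filter.mp hM).2
        have hMcard : Nat.card M = p ^ (m - 1) := by
          have h1 := Subgroup.card_mul_index M
          rw [hMi, hP] at h1
          have h2 : p ^ m = p ^ (m - 1) * p := by rw [← pow_succ]; congr 1; omega
          rw [h2] at h1
          exact Nat.eq_of_mul_eq_mul_right hp.out.pos h1
        have h3 : (𝒞.bipartiteBelow (fun (C M : Subgroup P) => C ≤ M) M).card =
            Nat.card {T : Subgroup M // IsCyclic T ∧ Nat.card T = p ^ β} := by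
          rw [card_subgroups_below_cyclic, Nat.card_eq_fintype_card, Fintype.card_subtype]
          congr 1
          ext C
          simp only [Finset.bipartiteBelow, Finset.mem_filter, Finset.mem_univ, true_and, 𝒞]
          exact and_comm
        rw [h3]
        by_cases hMc : IsCyclic M
        · rw [if_pos hMc, card_subgroups_cyclic_eq_one p (m - 1) β (by omega) hMcard]
        · rw [if_neg hMc]
          exact (Nat.modEq_zero_iff_dvd).mpr (ih (m - 1) (by omega) M hMcard hMc β hβ)
      have hR : ∑ M ∈ ℳ, (𝒞.bipartiteBelow (fun (C M : Subgroup P) => C ≤ M) M).card ≡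
          ∑ M ∈ ℳ, (if IsCyclic M then 1 else 0) [MOD p] := Nat.ModEq.sum hright
      have hcyc : ∑ M ∈ ℳ, (if IsCyclic M then 1 else 0) =
          Nat.card {M : Subgroup P // IsCyclic M ∧ Nat.card M = p ^ (m - 1)} := by
        rw [Finset.sum_boole, Nat.card_eq_fintype_card, Fintype.card_subtype]
        simp only [Nat.cast_id]
        congr 1
        ext M
        simp only [Finset.mem_filter, Finset.mem_univ, true_and, ℳ]
        have h2 : p ^ m = p ^ (m - 1) * p := by rw [← pow_succ]; congr 1; omega
        have h1 := Subgroup.card_mul_index M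
        rw [hP, h2] at h1
        constructor
        · rintro ⟨hMi, hMc⟩
          refine ⟨hMc, ?_⟩
          rw [hMi] at h1
          exact Nat.eq_of_mul_eq_mul_right hp.out.pos h1
        · rintro ⟨hMc, hMcard⟩
          refine ⟨?_, hMc⟩
          rw [hMcard] at h1
          exact Nat.eq_of_mul_eq_mul_left (pow_pos hp.out.pos _) h1
      have hzero : ∑ M ∈ ℳ, (if IsCyclic M then 1 else 0) ≡ 0 [MOD p] := by
        rw [hcyc]
        exact (Nat.modEq_zero_iff_dvd).mpr (card_cyclic_index_p_dvd p hp2 m hm3 hP hnc)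
      rw [h𝒞]
      rw [mul_one] at hL
      rw [hdc] at hL
      exact (Nat.modEq_zero_iff_dvd).mp (hL.symm.trans (hR.trans hzero))

/-- The number of cyclic subgroups of order `p^β` of `G` not contained in a fixed Sylow
`p`-subgroup is divisible by `p`. -/
theorem card_cyclic_not_le_sylow_dvd {G : Type*} [Group G] [Finite G] (p : ℕ) [hp : Fact p.Prime]
    (P : Sylow p G) (β : ℕ) :
    p ∣ Nat.card {C : Subgroup G // ¬ C ≤ P ∧ IsCyclic C ∧ Nat.card C = p ^ β} := by
  classical
  let Q : Subgroup (ConjAct G) := (P : Subgroup G).map (ConjAct.toConjAct (G := G)).toMonoidHom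
  have hQ : IsPGroup p Q := P.2.map _
  have hmemQ : ∀ c : ConjAct G, c ∈ Q → ConjAct.ofConjAct c ∈ (P : Subgroup G) := by
    rintro c ⟨g, hg, rfl⟩
    exact hg
  have hsmul : ∀ (c : ConjAct G) (H : Subgroup G),
      (c • H : Subgroup G) = H.map (MulAut.conj (ConjAct.ofConjAct c)).toMonoidHom := by
    intro c H
    rw [Subgroup.pointwise_smul_def]
    rfl
  let Ω : SubMulAction Q (Subgroup G) :=
    { carrier := {C | ¬ C ≤ P ∧ IsCyclic C ∧ Nat.card C = p ^ β}
      smul_mem' := by
        rintro ⟨c, hc⟩ C ⟨hCP, hCc, hCcard⟩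
        have hcP := hmemQ c hc
        show ¬ (c • C : Subgroup G) ≤ P ∧ IsCyclic (c • C : Subgroup G) ∧
          Nat.card (c • C : Subgroup G) = p ^ β
        rw [hsmul]
        refine ⟨?_, ?_, ?_⟩
        · intro hle
          apply hCP
          intro x hx
          have h1 : ConjAct.ofConjAct c * x * (ConjAct.ofConjAct c)⁻¹ ∈ (P : Subgroup G) :=
            hle ⟨x, hx, rfl⟩
          have h2 := (P : Subgroup G).mul_mem ((P : Subgroup G).mul_mem
            ((P : Subgroup G).inv_mem hcP) h1) hcP
          have h3 : (ConjAct.ofConjAct c)⁻¹ * (ConjAct.ofConjAct c * x *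
              (ConjAct.ofConjAct c)⁻¹) * ConjAct.ofConjAct c = x := by group
          rwa [h3] at h2
        · have e : C ≃* C.map (MulAut.conj (ConjAct.ofConjAct c)).toMonoidHom :=
            C.equivMapOfInjective _ (MulAut.conj (ConjAct.ofConjAct c)).injective
          exact e.isCyclic.mp hCc
        · rw [Subgroup.card_map_of_injective (MulAut.conj (ConjAct.ofConjAct c)).injective]
          exact hCcard }
  have hfix := IsPGroup.card_modEq_card_fixedPoints hQ (α := Ω)
  have hempty : IsEmpty (MulAction.fixedPoints Q Ω) := by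
    constructor
    rintro ⟨⟨C, hCP, hCc, hCcard⟩, hfixed⟩
    apply hCP
    have hCp : IsPGroup p C := IsPGroup.of_card hCcard
    have hnorm : (P : Subgroup G) ≤ Subgroup.normalizer (C : Set G) := by
      intro g hg
      have hgQ : ConjAct.toConjAct g ∈ Q := ⟨g, hg, rfl⟩
      have h1 := hfixed ⟨ConjAct.toConjAct g, hgQ⟩
      have h2 : (ConjAct.toConjAct g • C : Subgroup G) = C := congrArg Subtype.val h1
      rw [hsmul] at h2
      exact Subgroup.mem_normalizer_iff_map_conj_eq.mpr h2
    have hsup : IsPGroup p ((P : Subgroup G) ⊔ C : Subgroup G) :=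
      IsPGroup.to_sup_of_normal_right' P.2 hCp hnorm
    have heq : (P : Subgroup G) ⊔ C = P := P.is_maximal' hsup le_sup_left
    rw [← heq]
    exact le_sup_right
  have hzero : Nat.card (MulAction.fixedPoints Q Ω) = 0 := Nat.card_of_isEmpty
  rw [hzero] at hfix
  have e1 : {C : Subgroup G // ¬ C ≤ P ∧ IsCyclic C ∧ Nat.card C = p ^ β} ≃ Ω := Equiv.refl _
  rw [Nat.card_congr e1]
  exact (Nat.modEq_zero_iff_dvd).mp hfix

/-- If a Sylow `p`-subgroup of `G` is noncyclic, `p` odd, `β ≥ 2`, then the number of cyclic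
subgroups of order `p^β` of `G` is divisible by `p`. -/
theorem card_cyclic_subgroups_dvd_of_sylow {G : Type u} [Group G] [Finite G] (p : ℕ)
    [hp : Fact p.Prime] (hp2 : p ≠ 2) (P : Sylow p G) (hnc : ¬ IsCyclic P) (β : ℕ) (hβ : 2 ≤ β) :
    p ∣ Nat.card {C : Subgroup G // IsCyclic C ∧ Nat.card C = p ^ β} := by
  classical
  obtain ⟨m, hm⟩ := (IsPGroup.iff_card.mp P.2 : ∃ n : ℕ, Nat.card (P : Subgroup G) = p ^ n)
  have h1 := card_cyclic_subgroups_dvd p hp2 m (P : Subgroup G) hm hnc β hβ
  rw [card_subgroups_below_cyclic] at h1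
  have h2 := card_cyclic_not_le_sylow_dvd p P β
  have e : ({C : Subgroup G // C ≤ P ∧ IsCyclic C ∧ Nat.card C = p ^ β} ⊕
      {C : Subgroup G // ¬ C ≤ P ∧ IsCyclic C ∧ Nat.card C = p ^ β}) ≃
      {C : Subgroup G // IsCyclic C ∧ Nat.card C = p ^ β} :=
    { toFun := fun x => Sum.elim (fun C => ⟨C.1, C.2.2⟩) (fun C => ⟨C.1, C.2.2⟩) x
      invFun := fun C => if h : C.1 ≤ P then Sum.inl ⟨C.1, h, C.2⟩ else Sum.inr ⟨C.1, h, C.2⟩
      left_inv := by
        rintro (⟨C, h, hC⟩ | ⟨C, h, hC⟩)
        · simp [h]
        · simp [h]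
      right_inv := by
        rintro ⟨C, hC⟩
        by_cases h : C ≤ P
        · simp [h]
        · simp [h] }
  rw [← Nat.card_congr e, Nat.card_sum]
  exact Nat.dvd_add h1 h2

end Cfsg.Agent.Lib.helper97
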