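import Mathlib

/-!
Quaternion-like subgroups (helper97): a subgroup `C` of order `8` with an involution `z` such that
every element outside `{1, z}` squares to `z`, and automorphisms (conjugations) of odd order of it.
-/

set_option autoImplicit false

namespace Cfsg.Agent.Lib.helper97

open Subgroup

variable {G : Type*} [Group G]

/-- `C` is "quaternion-like" with central involution `z`. -/
structure QL (C : Subgroup G) (z : G) : Prop where
  card : Nat.card C = 8
  mem : z ∈ C
  ord : orderOf z = 2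
  sq : ∀ x ∈ C, x ≠ 1 → x ≠ z → x * x = z

namespace QL

variable {C : Subgroup G} {z : G}

theorem z_ne_one (h : QL C z) : z ≠ 1 := by
  intro h1
  have := h.ord
  rw [h1, orderOf_one] at this
  norm_num at this

theorem z_mul_z (h : QL C z) : z * z = 1 := by
  have := pow_orderOf_eq_one z
  rw [h.ord, pow_two] at this
  exact this

theorem z_inv (h : QL C z) : z⁻¹ = z := inv_eq_of_mul_eq_one_right h.z_mul_z

theorem comm_z (h : QL C z) {x : G} (hx : x ∈ C) : x * z = z * x := by
  by_cases h1 : x = 1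
  · simp [h1]
  by_cases h2 : x = z
  · rw [h2]
  rw [← h.sq x hx h1 h2, mul_assoc]

theorem inv_eq (h : QL C z) {x : G} (hx : x ∈ C) (h1 : x ≠ 1) (h2 : x ≠ z) : x⁻¹ = x * z := by
  apply inv_eq_of_mul_eq_one_right
  rw [← mul_assoc, h.sq x hx h1 h2, h.z_mul_z]

theorem mul_z_ne_one (h : QL C z) {x : G} (h2 : x ≠ z) : x * z ≠ 1 := by
  intro e
  apply h2
  have : x = z⁻¹ := eq_inv_of_mul_eq_one_left e
  rw [this, h.z_inv]

theorem mul_z_ne_z (_h : QL C z) {x : G} (h1 : x ≠ 1) : x * z ≠ z := by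
  intro e
  apply h1
  simpa using e

theorem eq_z_of_orderOf_two (h : QL C z) {x : G} (hx : x ∈ C) (h2 : orderOf x = 2) : x = z := by
  by_contra hne
  have h1 : x ≠ 1 := by
    intro e
    rw [e, orderOf_one] at h2
    norm_num at h2
  have hs := h.sq x hx h1 hne
  have hx2 : x * x = 1 := by
    have := pow_orderOf_eq_one x
    rwa [h2, pow_two] at this
  rw [hx2] at hs
  exact h.z_ne_one hs.symm

theorem conj_z (h : QL C z) {g : G} (hg : ∀ x ∈ C, g * x * g⁻¹ ∈ C) : g * z * g⁻¹ = z := by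
  apply h.eq_z_of_orderOf_two (hg z h.mem)
  have := MulEquiv.orderOf_eq (MulAut.conj g) z
  rw [MulAut.conj_apply] at this
  rw [this, h.ord]

theorem orderOf_eq_four (h : QL C z) {x : G} (hx : x ∈ C) (h1 : x ≠ 1) (h2 : x ≠ z) :
    orderOf x = 4 := by
  have hsq := h.sq x hx h1 h2
  have : Fact (Nat.Prime 2) := ⟨Nat.prime_two⟩
  have h4 : orderOf x = 2 ^ (1 + 1) := by
    apply orderOf_eq_prime_pow
    · rw [pow_one, pow_two, hsq]
      exact h.z_ne_one
    · have : x ^ 2 ^ (1 + 1) = (x * x) * (x * x) := by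
        rw [show (2 : ℕ) ^ (1 + 1) = 2 * 2 from rfl, pow_mul, pow_two, pow_two]
      rw [this, hsq, h.z_mul_z]
  rw [h4]
  norm_num

/-- membership in the cyclic subgroup generated by an element of order four -/
theorem mem_zpowers_iff (h : QL C z) {x : G} (hx : x ∈ C) (h1 : x ≠ 1) (h2 : x ≠ z) (v : G) :
    v ∈ zpowers x ↔ (v = 1 ∨ v = x ∨ v = z ∨ v = x * z) := by
  have hsq := h.sq x hx h1 h2
  constructor
  · intro hv
    obtain ⟨k, rfl⟩ := Subgroup.mem_zpowers_iff.mp hv
    have ho := h.orderOf_eq_four hx h1 h2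
    have hk : x ^ k = x ^ (k % 4) := by
      have := zpow_mod_orderOf x k
      rw [ho] at this
      exact this.symm
    rw [hk]
    have hr0 : 0 ≤ k % 4 := Int.emod_nonneg k (by norm_num)
    have hr4 : k % 4 < 4 := Int.emod_lt_of_pos k (by norm_num)
    obtain ⟨r, hr⟩ : ∃ r : ℤ, r = k % 4 := ⟨_, rfl⟩
    rw [← hr] at hr0 hr4 ⊢
    interval_cases r
    · left; simp
    · right; left; simp
    · right; right; left
      rw [show (2 : ℤ) = ((2 : ℕ) : ℤ) from rfl, zpow_natCast, pow_two, hsq]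
    · right; right; right
      rw [show (3 : ℤ) = ((3 : ℕ) : ℤ) from rfl, zpow_natCast, pow_succ, pow_two, hsq, ← hsq,
        mul_assoc]
  · rintro (rfl | rfl | rfl | rfl)
    · exact one_mem _
    · exact mem_zpowers _
    · rw [← hsq]
      exact mul_mem (mem_zpowers _) (mem_zpowers _)
    · rw [← hsq]
      exact mul_mem (mem_zpowers _) (mul_mem (mem_zpowers _) (mem_zpowers _))

theorem anti (h : QL C z) {x y : G} (hx : x ∈ C) (hy : y ∈ C) (hx1 : x ≠ 1) (hxz : x ≠ z)
    (hy1 : y ≠ 1) (hyz : y ≠ z) (hyx : y ≠ x) (hyxz : y ≠ x * z) : y * x = x * y * z := by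
  have hx' := h.inv_eq hx hx1 hxz
  have hy' := h.inv_eq hy hy1 hyz
  have hxy1 : x * y ≠ 1 := by
    intro e
    apply hyxz
    rw [← hx']
    exact (inv_eq_of_mul_eq_one_right e).symm
  have hxyz : x * y ≠ z := by
    intro e
    apply hyx
    have : y = x⁻¹ * z := by
      rw [← e]
      group
    rw [this, hx', mul_assoc, h.z_mul_z, mul_one]
  have hsq := h.sq (x * y) (C.mul_mem hx hy) hxy1 hxyz
  calc y * x = x⁻¹ * ((x * y) * (x * y)) * y⁻¹ := by group
    _ = x⁻¹ * z * y⁻¹ := by rw [hsq]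
    _ = (x * z) * z * (y * z) := by rw [hx', hy']
    _ = x * y * z := by
        rw [mul_assoc x z z, h.z_mul_z, mul_one, mul_assoc]

/-- the eight elements -/
theorem cases (h : QL C z) {x y : G} (hx : x ∈ C) (hx1 : x ≠ 1) (hxz : x ≠ z) (hy : y ∈ C)
    (hy1 : y ≠ 1) (hyz : y ≠ z) (hyx : y ≠ x) (hyxz : y ≠ x * z) {w : G} (hw : w ∈ C) :
    (w = 1 ∨ w = x ∨ w = z ∨ w = x * z) ∨ (w = y ∨ w = y * x ∨ w = y * z ∨ w = y * x * z) := by
  have : Finite C := Nat.finite_of_card_ne_zero (by rw [h.card]; norm_num)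
  have hH := h.mem_zpowers_iff hx hx1 hxz
  have hle : zpowers x ≤ C := by
    rw [zpowers_le]
    exact hx
  have hcardH : Nat.card ((zpowers x).subgroupOf C) = 4 := by
    rw [Nat.card_congr (Subgroup.subgroupOfEquivOfLe hle).toEquiv, Nat.card_zpowers,
      h.orderOf_eq_four hx hx1 hxz]
  have hidx : ((zpowers x).subgroupOf C).index = 2 := by
    have := Subgroup.card_mul_index ((zpowers x).subgroupOf C)
    rw [hcardH, h.card] at this
    omega
  have hyH : y ∉ zpowers x := by
    rw [hH]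
    push Not
    exact ⟨hy1, hyx, hyz, hyxz⟩
  by_cases hwH : w ∈ zpowers x
  · left
    exact (hH w).mp hwH
  · right
    have key := Subgroup.mul_mem_iff_of_index_two hidx (a := (⟨y⁻¹, C.inv_mem hy⟩ : C))
      (b := (⟨w, hw⟩ : C))
    simp only [Subgroup.mem_subgroupOf, Subgroup.coe_mul] at key
    have hyi : y⁻¹ ∉ zpowers x := fun hh => hyH (by simpa using (zpowers x).inv_mem hh)
    have hmem : y⁻¹ * w ∈ zpowers x := key.mpr ⟨fun hh => absurd hh hyi, fun hh => absurd hh hwH⟩
    rcases (hH _).mp hmem with e | e | e | e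
    · left
      have : w = y * (y⁻¹ * w) := by group
      rw [this, e, mul_one]
    · right; left
      have : w = y * (y⁻¹ * w) := by group
      rw [this, e]
    · right; right; left
      have : w = y * (y⁻¹ * w) := by group
      rw [this, e]
    · right; right; right
      have : w = y * (y⁻¹ * w) := by group
      rw [this, e, mul_assoc]

theorem exists_ne (h : QL C z) : ∃ c ∈ C, c ≠ 1 ∧ c ≠ z := by
  classical
  by_contra hcon
  push Not at hcon
  have hsub : (C : Set G) ⊆ (({1, z} : Finset G) : Set G) := by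
    intro c hc
    by_cases h1 : c = 1
    · simp [h1]
    · simp [hcon c hc h1]
  have h1 : Nat.card C = (C : Set G).ncard := Nat.card_coe_set_eq _
  have h2 : (C : Set G).ncard ≤ ((({1, z} : Finset G) : Set G)).ncard :=
    Set.ncard_le_ncard hsub (Finset.finite_toSet _)
  rw [Set.ncard_coe_finset] at h2
  have h3 := Finset.card_le_two (a := (1 : G)) (b := z)
  have := h.card
  omega

theorem exists_ne' (h : QL C z) {c : G} : ∃ d ∈ C, d ≠ 1 ∧ d ≠ z ∧ d ≠ c ∧ d ≠ c * z := by
  classical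
  by_contra hcon
  push Not at hcon
  have hsub : (C : Set G) ⊆ (({1, z, c, c * z} : Finset G) : Set G) := by
    intro d hd
    by_cases h1 : d = 1
    · simp [h1]
    by_cases h2 : d = z
    · simp [h2]
    by_cases h3 : d = c
    · simp [h3]
    · simp [hcon d hd h1 h2 h3]
  have h1 : Nat.card C = (C : Set G).ncard := Nat.card_coe_set_eq _
  have h2 : (C : Set G).ncard ≤ ((({1, z, c, c * z} : Finset G) : Set G)).ncard :=
    Set.ncard_le_ncard hsub (Finset.finite_toSet _)
  rw [Set.ncard_coe_finset] at h2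
  have h3 := Finset.card_le_four (a := (1 : G)) (b := z) (c := c) (d := c * z)
  have := h.card
  omega

/-- the centre of `C` is `{1, z}` -/
theorem center_sub (h : QL C z) {x : G} (hx : x ∈ C) (hc : ∀ y ∈ C, x * y = y * x) :
    x = 1 ∨ x = z := by
  by_contra hcon
  push Not at hcon
  obtain ⟨d, hd, hd1, hdz, hdx, hdxz⟩ := h.exists_ne' (c := x)
  have := h.anti hx hd hcon.1 hcon.2 hd1 hdz hdx hdxz
  rw [← hc d hd] at this
  exact h.z_ne_one (by simpa using this)

theorem exists_not_comm (h : QL C z) : ∃ x ∈ C, ∃ y ∈ C, x * y ≠ y * x := by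
  obtain ⟨c, hc, hc1, hcz⟩ := h.exists_ne
  obtain ⟨d, hd, hd1, hdz, hdx, hdxz⟩ := h.exists_ne' (c := c)
  refine ⟨c, hc, d, hd, fun e => ?_⟩
  have := h.anti hc hd hc1 hcz hd1 hdz hdx hdxz
  rw [← e] at this
  exact h.z_ne_one (by simpa using this)

/-- a subgroup containing two "independent" elements of `C` contains `C` -/
theorem le_of_mem (h : QL C z) {S : Subgroup G} {c d : G} (hc : c ∈ C) (hc1 : c ≠ 1)
    (hcz : c ≠ z) (hd : d ∈ C) (hd1 : d ≠ 1) (hdz : d ≠ z) (hdc : d ≠ c) (hdcz : d ≠ c * z)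
    (hcS : c ∈ S) (hdS : d ∈ S) : C ≤ S := by
  have hzS : z ∈ S := by
    rw [← h.sq c hc hc1 hcz]
    exact S.mul_mem hcS hcS
  intro w hw
  rcases h.cases hc hc1 hcz hd hd1 hdz hdc hdcz hw with (rfl | rfl | rfl | rfl) |
    (rfl | rfl | rfl | rfl)
  · exact S.one_mem
  · exact hcS
  · exact hzS
  · exact S.mul_mem hcS hzS
  · exact hdS
  · exact S.mul_mem hdS hcS
  · exact S.mul_mem hdS hzS
  · exact S.mul_mem (S.mul_mem hdS hcS) hzS

/-- recognition: order eight, non-commutative, one involution -/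
theorem of_card_eight (C : Subgroup G) (h8 : Nat.card C = 8)
    (hnc : ¬ ∀ x y : C, x * y = y * x)
    (hu : ∀ x ∈ C, ∀ y ∈ C, orderOf x = 2 → orderOf y = 2 → x = y) : ∃ z, QL C z := by
  have : Finite C := Nat.finite_of_card_ne_zero (by rw [h8]; norm_num)
  have : Fact (Nat.Prime 2) := ⟨Nat.prime_two⟩
  obtain ⟨z0, hz0⟩ := exists_prime_orderOf_dvd_card' (G := C) 2 (by rw [h8]; norm_num)
  have hz : orderOf (z0 : G) = 2 := by rw [Subgroup.orderOf_coe]; exact hz0
  refine ⟨(z0 : G), h8, z0.2, hz, ?_⟩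
  intro w hw hw1 hwz
  have hdvd : orderOf w ∣ 2 ^ 3 := by
    have := orderOf_dvd_natCard (⟨w, hw⟩ : C)
    rw [h8, ← Subgroup.orderOf_coe] at this
    exact this
  obtain ⟨j, hj, hoj⟩ := (Nat.dvd_prime_pow Nat.prime_two).mp hdvd
  interval_cases j
  · exfalso
    apply hw1
    rw [← orderOf_eq_one_iff]
    simpa using hoj
  · exfalso
    exact hwz (hu w hw _ z0.2 (by simpa using hoj) hz)
  · have h4 : orderOf w = 4 := by simpa using hoj
    have h2 : orderOf (w * w) = 2 := by
      rw [← pow_two, orderOf_pow' w (by norm_num : (2 : ℕ) ≠ 0), h4]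
      norm_num
    exact hu _ (C.mul_mem hw hw) _ z0.2 h2 hz
  · exfalso
    apply hnc
    have hcyc : IsCyclic C := by
      apply isCyclic_of_orderOf_eq_card (⟨w, hw⟩ : C)
      rw [h8, ← Subgroup.orderOf_coe]
      simpa using hoj
    intro x y
    obtain ⟨a, ha⟩ := hcyc.exists_generator
    obtain ⟨k, rfl⟩ := Subgroup.mem_zpowers_iff.mp (ha x)
    obtain ⟨l, rfl⟩ := Subgroup.mem_zpowers_iff.mp (ha y)
    rw [← zpow_add, ← zpow_add, add_comm]

end QL

end Cfsg.Agent.Lib.helper97
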