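import Mathlib
import Cfsg.Agent.Lib.helper97.OneInvQ8

/-!
Conjugation actions of odd order on quaternion-like subgroups (helper97).
-/

set_option autoImplicit false

namespace Cfsg.Agent.Lib.helper97

open Subgroup

variable {G : Type*} [Group G]

namespace QL

variable {C : Subgroup G} {z : G}

theorem zeta_mem (h : QL C z) {ζ : G} (hζ : ζ = 1 ∨ ζ = z) : ζ ∈ C := by
  rcases hζ with rfl | rfl
  · exact C.one_mem
  · exact h.mem

theorem zeta_comm (h : QL C z) {ζ x : G} (hζ : ζ = 1 ∨ ζ = z) (hx : x ∈ C) : x * ζ = ζ * x := by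
  rcases hζ with rfl | rfl
  · simp
  · exact h.comm_z hx

theorem zeta_mul (h : QL C z) {ζ ζ' : G} (hζ : ζ = 1 ∨ ζ = z) (hζ' : ζ' = 1 ∨ ζ' = z) :
    ζ * ζ' = 1 ∨ ζ * ζ' = z := by
  rcases hζ with rfl | rfl <;> rcases hζ' with rfl | rfl
  · left; simp
  · right; simp
  · right; simp
  · left; exact h.z_mul_z

theorem zeta_conj (h : QL C z) {g : G} (hg : ∀ x ∈ C, g * x * g⁻¹ ∈ C) {ζ : G}
    (hζ : ζ = 1 ∨ ζ = z) : g * ζ * g⁻¹ = ζ := by
  rcases hζ with rfl | rfl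
  · simp
  · exact h.conj_z hg

theorem cmul (g a b : G) : g * (a * b) * g⁻¹ = g * a * g⁻¹ * (g * b * g⁻¹) := by
  group

theorem conj_cube (g x : G) :
    g ^ 3 * x * (g ^ 3)⁻¹ = g * (g * (g * x * g⁻¹) * g⁻¹) * g⁻¹ := by
  rw [show (3 : ℕ) = 2 + 1 from rfl, pow_succ, pow_two]
  group

/-- if conjugation by `g` moves `x` at most by `z`, it fixes `x` -/
theorem conj_eq_self_of (h : QL C z) {g : G} (hg : ∀ x ∈ C, g * x * g⁻¹ ∈ C)
    (hg3 : ∀ x ∈ C, g ^ 3 * x = x * g ^ 3) {x : G} (hx : x ∈ C)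
    (hxx : g * x * g⁻¹ = x ∨ g * x * g⁻¹ = x * z) : g * x * g⁻¹ = x := by
  rcases hxx with e | e1
  · exact e
  · exfalso
    have hz := h.conj_z hg
    have e2 : g * (x * z) * g⁻¹ = x := by
      rw [cmul, e1, hz, mul_assoc, h.z_mul_z, mul_one]
    have e3 := conj_cube g x
    rw [e1, e2, e1] at e3
    have e4 : g ^ 3 * x * (g ^ 3)⁻¹ = x := by rw [hg3 x hx, mul_assoc, mul_inv_cancel, mul_one]
    rw [e4] at e3
    exact h.z_ne_one (by simpa using e3.symm)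

theorem conj_inj (g u v : G) (e : g * u * g⁻¹ = g * v * g⁻¹) : u = v := by
  simpa using e

/-- an element acting nontrivially has only `1, z` as fixed points -/
theorem fixed_sub (h : QL C z) {g : G} (hg : ∀ x ∈ C, g * x * g⁻¹ ∈ C)
    (hg3 : ∀ x ∈ C, g ^ 3 * x = x * g ^ 3) (hne : ∃ d ∈ C, g * d * g⁻¹ ≠ d) {c : G}
    (hc : c ∈ C) (hcg : g * c * g⁻¹ = c) : c = 1 ∨ c = z := by
  by_contra hcon
  push Not at hcon
  obtain ⟨hc1, hcz⟩ := hcon
  obtain ⟨d, hd, hdg⟩ := hne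
  have hz := h.conj_z hg
  have hcc : c * c = z := h.sq c hc hc1 hcz
  have hd1 : d ≠ 1 := by
    rintro rfl
    exact hdg (by simp)
  have hdz : d ≠ z := by
    rintro rfl
    exact hdg hz
  have hdc : d ≠ c := by
    rintro rfl
    exact hdg hcg
  have hczg : g * (c * z) * g⁻¹ = c * z := by rw [cmul, hcg, hz]
  have hdcz : d ≠ c * z := by
    rintro rfl
    exact hdg hczg
  have hd' := hg d hd
  have e3 := conj_cube g d
  have e4 : g ^ 3 * d * (g ^ 3)⁻¹ = d := by rw [hg3 d hd, mul_assoc, mul_inv_cancel, mul_one]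
  rw [e4] at e3
  rcases h.cases hc hc1 hcz hd hd1 hdz hdc hdcz hd' with (e | e | e | e) | (e | e | e | e)
  · exact hd1 (conj_inj g d 1 (by rw [e]; simp))
  · exact hdc (conj_inj g d c (by rw [e, hcg]))
  · exact hdz (conj_inj g d z (by rw [e, hz]))
  · exact hdcz (conj_inj g d (c * z) (by rw [e, hczg]))
  · exact hdg e
  · -- g d g⁻¹ = d * c
    have s1 : g * (d * c) * g⁻¹ = d * z := by
      rw [cmul, e, hcg, mul_assoc, hcc]
    have s2 : g * (d * z) * g⁻¹ = d * c * z := by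
      rw [cmul, e, hz]
    rw [e, s1, s2] at e3
    have : c * z = 1 := by
      have e5 : d * 1 = d * (c * z) := by rw [mul_one, ← mul_assoc]; exact e3
      exact (mul_left_cancel e5).symm
    exact h.mul_z_ne_one hcz this
  · exact hdg (h.conj_eq_self_of hg hg3 hd (Or.inr e))
  · -- g d g⁻¹ = d * c * z
    have s1 : g * (d * c * z) * g⁻¹ = d * z := by
      rw [cmul, cmul, e, hcg, hz]
      calc d * c * z * c * z = d * c * (z * c) * z := by group
        _ = d * c * (c * z) * z := by rw [h.comm_z hc]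
        _ = d * (c * c) * (z * z) := by group
        _ = d * z := by rw [hcc, h.z_mul_z, mul_one]
    have s2 : g * (d * z) * g⁻¹ = d * c := by
      rw [cmul, e, hz, mul_assoc, h.z_mul_z, mul_one]
    rw [e, s1, s2] at e3
    have : c = 1 := by
      have e5 : d * 1 = d * c := by rw [mul_one]; exact e3
      exact (mul_left_cancel e5).symm
    exact hc1 this

/-- if `g` fixes an element outside `{1, z}`, it centralizes `C` -/
theorem centralizes_of_fixed (h : QL C z) {g : G} (hg : ∀ x ∈ C, g * x * g⁻¹ ∈ C)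
    (hg3 : ∀ x ∈ C, g ^ 3 * x = x * g ^ 3) {c : G} (hc : c ∈ C) (hc1 : c ≠ 1) (hcz : c ≠ z)
    (hcg : g * c * g⁻¹ = c ∨ g * c * g⁻¹ = c * z) : ∀ x ∈ C, g * x * g⁻¹ = x := by
  have hfix := h.conj_eq_self_of hg hg3 hc hcg
  by_contra hcon
  push Not at hcon
  rcases h.fixed_sub hg hg3 hcon hc hfix with e | e
  · exact hc1 e
  · exact hcz e

theorem calc1 (h : QL C z) {c d ζ ζ' : G} (hc : c ∈ C) (hc1 : c ≠ 1) (hcz : c ≠ z)
    (hd : d ∈ C) (hd1 : d ≠ 1) (hdz : d ≠ z) (hdc : d ≠ c) (hdcz : d ≠ c * z)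
    (hζ : ζ = 1 ∨ ζ = z) : (d * c * ζ) * d * ζ' = c * (ζ * ζ') := by
  have hcd : c ≠ d := fun e => hdc e.symm
  have hcdz : c ≠ d * z := by
    intro e
    apply hdcz
    rw [e, mul_assoc, h.z_mul_z, mul_one]
  have ha : c * d = d * c * z := h.anti hd hc hd1 hdz hc1 hcz hcd hcdz
  have hdd : d * d = z := h.sq d hd hd1 hdz
  calc (d * c * ζ) * d * ζ' = d * c * (ζ * d) * ζ' := by group
    _ = d * c * (d * ζ) * ζ' := by rw [h.zeta_comm hζ hd]
    _ = d * (c * d) * (ζ * ζ') := by group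
    _ = d * (d * c * z) * (ζ * ζ') := by rw [ha]
    _ = (d * d) * c * z * (ζ * ζ') := by group
    _ = z * c * z * (ζ * ζ') := by rw [hdd]
    _ = c * z * z * (ζ * ζ') := by rw [← h.comm_z hc]
    _ = c * (ζ * ζ') := by rw [mul_assoc c z z, h.z_mul_z, mul_one]

/-- the third axis -/
theorem third (h : QL C z) {g : G} (hg : ∀ x ∈ C, g * x * g⁻¹ ∈ C)
    (hg3 : ∀ x ∈ C, g ^ 3 * x = x * g ^ 3) {c d : G} (hc : c ∈ C) (hc1 : c ≠ 1) (hcz : c ≠ z)
    (hd : g * c * g⁻¹ = d) (hdc : d ≠ c) (hdcz : d ≠ c * z) :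
    ∃ ζ, (ζ = 1 ∨ ζ = z) ∧ g * d * g⁻¹ = d * c * ζ := by
  have hz := h.conj_z hg
  have hdC : d ∈ C := hd ▸ hg c hc
  have hd1 : d ≠ 1 := by
    rintro rfl
    exact hc1 (conj_inj g c 1 (by rw [hd]; simp))
  have hdz : d ≠ z := by
    intro e
    exact hcz (conj_inj g c z (by rw [hd, e, hz]))
  have e3 := conj_cube g c
  have e4 : g ^ 3 * c * (g ^ 3)⁻¹ = c := by rw [hg3 c hc, mul_assoc, mul_inv_cancel, mul_one]
  rw [e4, hd] at e3
  rcases h.cases hc hc1 hcz hdC hd1 hdz hdc hdcz (hg d hdC) with (e | e | e | e) | (e | e | e | e)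
  · exact absurd (conj_inj g d 1 (by rw [e]; simp)) hd1
  · rw [e, hd] at e3
    exact absurd e3.symm hdc
  · exact absurd (conj_inj g d z (by rw [e, hz])) hdz
  · rw [e, cmul, hd, hz] at e3
    exfalso; apply hdcz
    have e5 : c * z = d := by rw [e3, mul_assoc, h.z_mul_z, mul_one]
    exact e5.symm
  · have := h.centralizes_of_fixed hg hg3 hdC hd1 hdz (Or.inl e) c hc
    exact absurd (hd.symm.trans this) hdc
  · exact ⟨1, Or.inl rfl, by rw [mul_one]; exact e⟩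
  · have := h.centralizes_of_fixed hg hg3 hdC hd1 hdz (Or.inr e) c hc
    exact absurd (hd.symm.trans this) hdc
  · exact ⟨z, Or.inr rfl, e⟩

theorem inv_eq_sq_of_cube {g : G} (hg3 : g ^ 3 = 1) : g⁻¹ = g * g := by
  apply inv_eq_of_mul_eq_one_right
  rw [← hg3, show (3 : ℕ) = 2 + 1 from rfl, pow_succ, pow_two]
  group

theorem inv_normalizes {g : G} (hg3 : g ^ 3 = 1) (hg : ∀ x ∈ C, g * x * g⁻¹ ∈ C) :
    ∀ x ∈ C, g⁻¹ * x * g⁻¹⁻¹ ∈ C := by
  intro x hx
  have h1 : g⁻¹ = g * g := inv_eq_sq_of_cube hg3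
  have e : g⁻¹ * x * g⁻¹⁻¹ = g * (g * x * g⁻¹) * g⁻¹ := by
    calc g⁻¹ * x * g⁻¹⁻¹ = g⁻¹ * x * g := by rw [inv_inv]
      _ = (g * g) * x * g := by rw [h1]
      _ = g * (g * x * g⁻¹) * (g * g) := by group
      _ = g * (g * x * g⁻¹) * g⁻¹ := by rw [← h1]
  rw [e]
  exact hg _ (hg x hx)

theorem cube_comm {g : G} (hg3 : g ^ 3 = 1) : ∀ x ∈ C, g ^ 3 * x = x * g ^ 3 := by
  intro x _
  rw [hg3, one_mul, mul_one]

/-- two commuting elements of order dividing `3`, both acting nontrivially on `C`: their product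
or quotient centralizes `C`. -/
theorem two_acts (h : QL C z) {g k : G} (hg : ∀ x ∈ C, g * x * g⁻¹ ∈ C)
    (hk : ∀ x ∈ C, k * x * k⁻¹ ∈ C) (hg3 : g ^ 3 = 1) (hk3 : k ^ 3 = 1) (hgk : g * k = k * g)
    (hgne : ∃ d ∈ C, g * d * g⁻¹ ≠ d) (hkne : ∃ d ∈ C, k * d * k⁻¹ ≠ d) :
    (∀ x ∈ C, (g * k) * x * (g * k)⁻¹ = x) ∨ (∀ x ∈ C, (g⁻¹ * k) * x * (g⁻¹ * k)⁻¹ = x) := by
  obtain ⟨c, hc, hc1, hcz⟩ := h.exists_ne
  have hz := h.conj_z hg
  have hzk := h.conj_z hk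
  have hg3' := cube_comm (C := C) hg3
  have hk3' := cube_comm (C := C) hk3
  obtain ⟨d, hd⟩ : ∃ d, g * c * g⁻¹ = d := ⟨_, rfl⟩
  obtain ⟨d', hd'⟩ : ∃ d', k * c * k⁻¹ = d' := ⟨_, rfl⟩
  have hdC : d ∈ C := hd ▸ hg c hc
  have hd'C : d' ∈ C := hd' ▸ hk c hc
  have hdc : d ≠ c := by
    intro e
    obtain ⟨x, hx, hxg⟩ := hgne
    exact hxg (h.centralizes_of_fixed hg hg3' hc hc1 hcz (Or.inl (hd.trans e)) x hx)
  have hdcz : d ≠ c * z := by
    intro e
    obtain ⟨x, hx, hxg⟩ := hgne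
    exact hxg (h.centralizes_of_fixed hg hg3' hc hc1 hcz (Or.inr (hd.trans e)) x hx)
  have hd'c : d' ≠ c := by
    intro e
    obtain ⟨x, hx, hxg⟩ := hkne
    exact hxg (h.centralizes_of_fixed hk hk3' hc hc1 hcz (Or.inl (hd'.trans e)) x hx)
  have hd'cz : d' ≠ c * z := by
    intro e
    obtain ⟨x, hx, hxg⟩ := hkne
    exact hxg (h.centralizes_of_fixed hk hk3' hc hc1 hcz (Or.inr (hd'.trans e)) x hx)
  have hd1 : d ≠ 1 := by
    rintro rfl
    exact hc1 (conj_inj g c 1 (by rw [hd]; simp))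
  have hdz : d ≠ z := by
    intro e
    exact hcz (conj_inj g c z (by rw [hd, e, hz]))
  have hd'1 : d' ≠ 1 := by
    rintro rfl
    exact hc1 (conj_inj k c 1 (by rw [hd']; simp))
  have hd'z : d' ≠ z := by
    intro e
    exact hcz (conj_inj k c z (by rw [hd', e, hzk]))
  -- the product `g * k`
  have hgkn : ∀ x ∈ C, (g * k) * x * (g * k)⁻¹ ∈ C := by
    intro x hx
    have e : (g * k) * x * (g * k)⁻¹ = g * (k * x * k⁻¹) * g⁻¹ := by group
    rw [e]
    exact hg _ (hk x hx)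
  have hgk3 : (g * k) ^ 3 = 1 := by
    rw [(show Commute g k from hgk).mul_pow, hg3, hk3, one_mul]
  have hgi := inv_normalizes hg3 hg
  have hgin : ∀ x ∈ C, (g⁻¹ * k) * x * (g⁻¹ * k)⁻¹ ∈ C := by
    intro x hx
    have e : (g⁻¹ * k) * x * (g⁻¹ * k)⁻¹ = g⁻¹ * (k * x * k⁻¹) * g⁻¹⁻¹ := by group
    rw [e]
    exact hgi _ (hk x hx)
  have hgik3 : (g⁻¹ * k) ^ 3 = 1 := by
    rw [((show Commute g k from hgk).inv_left).mul_pow, hk3, inv_pow, hg3, inv_one, one_mul]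
  have hzi : g⁻¹ * z * g⁻¹⁻¹ = z := h.conj_z hgi
  have hci : g⁻¹ * d * g⁻¹⁻¹ = c := by
    rw [← hd]; group
  obtain ⟨ζ, hζ, hζd⟩ := h.third hg hg3' hc hc1 hcz hd hdc hdcz
  have key1 : ∀ ζ', (ζ' = 1 ∨ ζ' = z) → d' = d * c * ζ' →
      ∀ x ∈ C, (g * k) * x * (g * k)⁻¹ = x := by
    intro ζ' hζ' e
    have e1 : (g * k) * c * (g * k)⁻¹ = c * (ζ * ζ') := by
      have e2 : (g * k) * c * (g * k)⁻¹ = g * (k * c * k⁻¹) * g⁻¹ := by group
      rw [e2, hd', e, cmul, cmul, hζd, hd, h.zeta_conj hg hζ']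
      exact h.calc1 hc hc1 hcz hdC hd1 hdz hdc hdcz hζ
    apply h.centralizes_of_fixed hgkn (cube_comm hgk3) hc hc1 hcz
    rcases h.zeta_mul hζ hζ' with e3 | e3
    · left; rw [e1, e3, mul_one]
    · right; rw [e1, e3]
  have key2 : ∀ ζ', (ζ' = 1 ∨ ζ' = z) → d' = d * ζ' →
      ∀ x ∈ C, (g⁻¹ * k) * x * (g⁻¹ * k)⁻¹ = x := by
    intro ζ' hζ' e
    have e1 : (g⁻¹ * k) * c * (g⁻¹ * k)⁻¹ = c * ζ' := by
      have e2 : (g⁻¹ * k) * c * (g⁻¹ * k)⁻¹ = g⁻¹ * (k * c * k⁻¹) * g⁻¹⁻¹ := by group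
      rw [e2, hd', e, cmul, hci, h.zeta_conj hgi hζ']
    apply h.centralizes_of_fixed hgin (cube_comm hgik3) hc hc1 hcz
    rcases hζ' with e3 | e3
    · left; rw [e1, e3, mul_one]
    · right; rw [e1, e3]
  rcases h.cases hc hc1 hcz hdC hd1 hdz hdc hdcz hd'C with (e | e | e | e) | (e | e | e | e)
  · exact absurd e hd'1
  · exact absurd e hd'c
  · exact absurd e hd'z
  · exact absurd e hd'cz
  · right; exact key2 1 (Or.inl rfl) (by rw [mul_one]; exact e)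
  · left; exact key1 1 (Or.inl rfl) (by rw [mul_one]; exact e)
  · right; exact key2 z (Or.inr rfl) e
  · left; exact key1 z (Or.inr rfl) e

/-- an element commuting with a nontrivially acting `g` and moving elements of `C` at most by
`z` centralizes `C` -/
theorem cent_of_twist (h : QL C z) {g : G} (hg : ∀ x ∈ C, g * x * g⁻¹ ∈ C)
    (hg3 : ∀ x ∈ C, g ^ 3 * x = x * g ^ 3) (hne : ∃ d ∈ C, g * d * g⁻¹ ≠ d) {y : G}
    (hy : g * y = y * g) (htw : ∀ c ∈ C, y * c * y⁻¹ = c ∨ y * c * y⁻¹ = c * z) :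
    ∀ c ∈ C, y * c * y⁻¹ = c := by
  -- a fixed element outside `{1, z}`
  have step1 : ∃ c ∈ C, c ≠ 1 ∧ c ≠ z ∧ y * c * y⁻¹ = c := by
    obtain ⟨c, hc, hc1, hcz⟩ := h.exists_ne
    obtain ⟨d, hd, hd1, hdz, hdc, hdcz⟩ := h.exists_ne' (c := c)
    rcases htw c hc with e | e
    · exact ⟨c, hc, hc1, hcz, e⟩
    · rcases htw d hd with e' | e'
      · exact ⟨d, hd, hd1, hdz, e'⟩
      · refine ⟨d * c, C.mul_mem hd hc, ?_, ?_, ?_⟩
        · intro e1
          apply hdcz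
          rw [← h.inv_eq hc hc1 hcz]
          exact eq_inv_of_mul_eq_one_left e1
        · intro e1
          apply hdc
          have e2 : d = z * c⁻¹ := by rw [← e1]; group
          rw [e2, h.inv_eq hc hc1 hcz, ← mul_assoc, ← h.comm_z hc, mul_assoc, h.z_mul_z, mul_one]
        · rw [cmul, e', e]
          calc d * z * (c * z) = d * (z * c) * z := by group
            _ = d * (c * z) * z := by rw [h.comm_z hc]
            _ = d * c * (z * z) := by group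
            _ = d * c := by rw [h.z_mul_z, mul_one]
  obtain ⟨c, hc, hc1, hcz, hcy⟩ := step1
  obtain ⟨d, hd⟩ : ∃ d, g * c * g⁻¹ = d := ⟨_, rfl⟩
  have hz := h.conj_z hg
  have hdC : d ∈ C := hd ▸ hg c hc
  have hdc : d ≠ c := by
    intro e
    obtain ⟨x, hx, hxg⟩ := hne
    exact hxg (h.centralizes_of_fixed hg hg3 hc hc1 hcz (Or.inl (hd.trans e)) x hx)
  have hdcz : d ≠ c * z := by
    intro e
    obtain ⟨x, hx, hxg⟩ := hne
    exact hxg (h.centralizes_of_fixed hg hg3 hc hc1 hcz (Or.inr (hd.trans e)) x hx)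
  have hd1 : d ≠ 1 := by
    rintro rfl
    exact hc1 (conj_inj g c 1 (by rw [hd]; simp))
  have hdz : d ≠ z := by
    intro e
    exact hcz (conj_inj g c z (by rw [hd, e, hz]))
  have hdy : y * d * y⁻¹ = d := by
    have hy' : y⁻¹ * g⁻¹ = g⁻¹ * y⁻¹ := by
      rw [← mul_inv_rev, ← mul_inv_rev, hy]
    calc y * d * y⁻¹ = (y * g) * c * (g⁻¹ * y⁻¹) := by rw [← hd]; group
      _ = (g * y) * c * (y⁻¹ * g⁻¹) := by rw [hy, hy']
      _ = g * (y * c * y⁻¹) * g⁻¹ := by group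
      _ = d := by rw [hcy, hd]
  have hle : C ≤ Subgroup.centralizer {y} := by
    apply h.le_of_mem hc hc1 hcz hdC hd1 hdz hdc hdcz
    · rw [Subgroup.mem_centralizer_iff]
      intro w hw
      rw [Set.mem_singleton_iff] at hw
      subst hw
      calc w * c = (w * c * w⁻¹) * w := by group
        _ = c * w := by rw [hcy]
    · rw [Subgroup.mem_centralizer_iff]
      intro w hw
      rw [Set.mem_singleton_iff] at hw
      subst hw
      calc w * d = (w * d * w⁻¹) * w := by group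
        _ = d * w := by rw [hdy]
  intro x hx
  have := hle hx
  rw [Subgroup.mem_centralizer_iff] at this
  have e := this y rfl
  rw [e, mul_assoc, mul_inv_cancel, mul_one]

end QL

end Cfsg.Agent.Lib.helper97
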