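import Mathlib
import Cfsg.Agent.Lib.helper97.OneInvAct
import Cfsg.Agent.Lib.helper37.CoprimeGen

/-!
An elementary abelian group of order `9` acting on a `2`-group so that every nonidentity element
fixes at most one involution: centralizers of independent elements commute (helper97).
-/

set_option autoImplicit false

namespace Cfsg.Agent.Lib.helper97

open Subgroup

variable {G : Type*} [Group G]

/-- fixed points of `e` in `W` -/
def fixOf (W : Subgroup G) (e : G) : Subgroup G := W ⊓ Subgroup.centralizer {e}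

theorem mem_fixOf {W : Subgroup G} {e x : G} : x ∈ fixOf W e ↔ x ∈ W ∧ e * x * e⁻¹ = x := by
  unfold fixOf
  rw [Subgroup.mem_inf, Subgroup.mem_centralizer_iff]
  constructor
  · rintro ⟨h1, h2⟩
    refine ⟨h1, ?_⟩
    rw [h2 e rfl, mul_assoc, mul_inv_cancel, mul_one]
  · rintro ⟨h1, h2⟩
    refine ⟨h1, ?_⟩
    intro w hw
    rw [Set.mem_singleton_iff] at hw
    subst hw
    exact mul_inv_eq_iff_eq_mul.1 h2

theorem fixOf_le (W : Subgroup G) (e : G) : fixOf W e ≤ W := inf_le_left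

theorem mem_zpowers_two {z x : G} (hz : z * z = 1) :
    x ∈ Subgroup.zpowers z ↔ x = 1 ∨ x = z := by
  constructor
  · intro hx
    obtain ⟨k, rfl⟩ := Subgroup.mem_zpowers_iff.1 hx
    rcases Int.even_or_odd' k with ⟨m, rfl | rfl⟩
    · left
      rw [zpow_mul, zpow_two, hz, one_zpow]
    · right
      rw [zpow_add, zpow_mul, zpow_two, hz, one_zpow, one_mul, zpow_one]
  · rintro (rfl | rfl)
    · exact Subgroup.one_mem _
    · exact Subgroup.mem_zpowers _

theorem zp3 {e x : G} (he : e ^ 3 = 1) (hx : x ∈ Subgroup.zpowers e) :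
    x = 1 ∨ x = e ∨ x = e⁻¹ := by
  obtain ⟨k, rfl⟩ := Subgroup.mem_zpowers_iff.1 hx
  have he' : e ^ (3 : ℤ) = 1 := by
    have : e ^ ((3 : ℕ) : ℤ) = 1 := by rw [zpow_natCast, he]
    exact_mod_cast this
  have hk : e ^ k = e ^ (k % 3) := by
    conv_lhs => rw [← Int.mul_ediv_add_emod k 3]
    rw [zpow_add, zpow_mul, he', one_zpow, one_mul]
  rw [hk]
  have h0 : 0 ≤ k % 3 := Int.emod_nonneg k (by norm_num)
  have h3 : k % 3 < 3 := Int.emod_lt_of_pos k (by norm_num)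
  obtain ⟨r, hr⟩ : ∃ r, r = k % 3 := ⟨_, rfl⟩
  rw [← hr] at h0 h3 ⊢
  interval_cases r
  · left; simp
  · right; left; simp
  · right; right
    rw [eq_inv_iff_mul_eq_one, ← zpow_add_one]
    exact he'

theorem gen_of_mem {e e₀ : G} (he₀ : e₀ ^ 3 = 1) (h : e ∈ Subgroup.zpowers e₀) (h1 : e ≠ 1) :
    e₀ ∈ Subgroup.zpowers e := by
  rcases zp3 he₀ h with rfl | rfl | rfl
  · exact absurd rfl h1
  · exact Subgroup.mem_zpowers _
  · simp

theorem fix_of_mem_zpowers {e f x : G} (hf : f ∈ Subgroup.zpowers e) (hx : e * x * e⁻¹ = x) :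
    f * x * f⁻¹ = x := by
  have hle : Subgroup.zpowers e ≤ Subgroup.centralizer {x} := by
    rw [Subgroup.zpowers_le, Subgroup.mem_centralizer_iff]
    intro w hw
    rw [Set.mem_singleton_iff] at hw
    subst hw
    exact (mul_inv_eq_iff_eq_mul.1 hx).symm
  have := hle hf
  rw [Subgroup.mem_centralizer_iff] at this
  have e1 := this x rfl
  rw [← e1, mul_assoc, mul_inv_cancel, mul_one]

theorem conj_comm_of {a e : G} (hae : a * e = e * a) (x : G) :
    e * (a * x * a⁻¹) * e⁻¹ = a * (e * x * e⁻¹) * a⁻¹ := by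
  calc e * (a * x * a⁻¹) * e⁻¹ = (e * a) * x * (e * a)⁻¹ := by group
    _ = (a * e) * x * (a * e)⁻¹ := by rw [hae]
    _ = a * (e * x * e⁻¹) * a⁻¹ := by group

theorem mem_normalizer_of (R : Subgroup G) (g : G) (h1 : ∀ x ∈ R, g * x * g⁻¹ ∈ R)
    (h2 : ∀ x ∈ R, g⁻¹ * x * g⁻¹⁻¹ ∈ R) : g ∈ Subgroup.normalizer (R : Set G) := by
  rw [Subgroup.mem_normalizer_iff]
  intro x
  constructor
  · exact h1 x
  · intro hx
    have := h2 _ hx
    have e : g⁻¹ * (g * x * g⁻¹) * g⁻¹⁻¹ = x := by group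
    rwa [e] at this

/-- generation by centralizers of nonidentity elements, in the form used here -/
theorem gen_le [Finite G] (p : ℕ) [Fact p.Prime] (A X M : Subgroup G)
    (hAc : ∀ a ∈ A, ∀ b ∈ A, a * b = b * a) (hAp : ∀ a ∈ A, a ^ p = 1) (hcard : p < Nat.card A)
    (hX : ¬ p ∣ Nat.card X) (hAX : ∀ a ∈ A, ∀ x ∈ X, a * x * a⁻¹ ∈ X)
    (hM : ∀ e ∈ A, e ≠ 1 → ∀ x ∈ X, e * x * e⁻¹ = x → x ∈ M) : X ≤ M := by
  have hnorm : A ≤ Subgroup.normalizer (X : Set G) := by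
    intro a ha
    exact mem_normalizer_of X a (hAX a ha) (hAX a⁻¹ (A.inv_mem ha))
  have key := Cfsg.Agent.Lib.helper37.coprime_gen_hyperplane p A X hAc hAp hX hnorm
  rw [key]
  apply iSup_le
  rintro ⟨B, hBA, hBp⟩
  have hB : B ≠ ⊥ := by
    rintro rfl
    rw [Subgroup.relIndex_bot_left] at hBp
    omega
  obtain ⟨⟨e, heB⟩, he1⟩ := (Subgroup.ne_bot_iff_exists_ne_one).mp hB
  have he1' : e ≠ 1 := fun e0 => he1 (Subtype.ext e0)
  intro x hx
  obtain ⟨hxX, hxc⟩ := Subgroup.mem_inf.1 hx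
  apply hM e (hBA heB) he1' x hxX
  rw [Subgroup.mem_centralizer_iff] at hxc
  have := hxc e heB
  rw [this, mul_assoc, mul_inv_cancel, mul_one]

/-- elements of `X` that are moved at most by `z` under conjugation by `X` -/
def twistSub (W X : Subgroup G) (z : G) (hXW : X ≤ W) (hz : z * z = 1)
    (hzc : ∀ w ∈ W, w * z = z * w) : Subgroup G where
  carrier := {u | u ∈ X ∧ ∀ w ∈ X, w * u * w⁻¹ = u ∨ w * u * w⁻¹ = u * z}
  one_mem' := ⟨X.one_mem, fun w _ => Or.inl (by group)⟩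
  mul_mem' := by
    rintro u v ⟨hu, hu'⟩ ⟨hv, hv'⟩
    refine ⟨X.mul_mem hu hv, fun w hw => ?_⟩
    have hvz : v * z = z * v := hzc v (hXW hv)
    rw [QL.cmul]
    rcases hu' w hw with e1 | e1 <;> rcases hv' w hw with e2 | e2
    · left; rw [e1, e2]
    · right; rw [e1, e2, mul_assoc]
    · right; rw [e1, e2]
      calc u * z * v = u * (z * v) := mul_assoc _ _ _
        _ = u * (v * z) := by rw [hvz]
        _ = u * v * z := (mul_assoc _ _ _).symm
    · left; rw [e1, e2]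
      calc u * z * (v * z) = u * (z * v) * z := by group
        _ = u * (v * z) * z := by rw [hvz]
        _ = u * v * (z * z) := by group
        _ = u * v := by rw [hz, mul_one]
  inv_mem' := by
    rintro u ⟨hu, hu'⟩
    refine ⟨X.inv_mem hu, fun w hw => ?_⟩
    have huz : u * z = z * u := hzc u (hXW hu)
    have e0 : w * u⁻¹ * w⁻¹ = (w * u * w⁻¹)⁻¹ := by group
    rw [e0]
    rcases hu' w hw with e1 | e1
    · left; rw [e1]
    · right; rw [e1]
      have e2 : z * u⁻¹ = u⁻¹ * z := by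
        have : z * u⁻¹ = u⁻¹ * (u * z) * u⁻¹ := by group
        rw [this, huz]; group
      calc (u * z)⁻¹ = z⁻¹ * u⁻¹ := mul_inv_rev _ _
        _ = z * u⁻¹ := by rw [inv_eq_of_mul_eq_one_right hz]
        _ = u⁻¹ * z := e2

theorem mem_twistSub {W X : Subgroup G} {z : G} {hXW : X ≤ W} {hz : z * z = 1}
    {hzc : ∀ w ∈ W, w * z = z * w} {u : G} :
    u ∈ twistSub W X z hXW hz hzc ↔
      u ∈ X ∧ ∀ w ∈ X, w * u * w⁻¹ = u ∨ w * u * w⁻¹ = u * z := Iff.rfl

/-- the standing configuration -/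
structure OI (W A : Subgroup G) (z : G) : Prop where
  pgrp : IsPGroup 2 W
  card : Nat.card A = 9
  cube : ∀ a ∈ A, a ^ 3 = 1
  comm : ∀ a ∈ A, ∀ b ∈ A, a * b = b * a
  norm : ∀ a ∈ A, ∀ w ∈ W, a * w * a⁻¹ ∈ W
  zW : z ∈ W
  ord : orderOf z = 2
  zfix : ∀ a ∈ A, a * z * a⁻¹ = z
  zcen : ∀ w ∈ W, w * z = z * w
  dich : ∀ e ∈ A, e ≠ 1 → (∀ x ∈ fixOf W e, x = 1 ∨ x = z) ∨ QL (fixOf W e) z
  act : ∀ e ∈ A, e ≠ 1 → ∀ g ∈ A, g ∉ Subgroup.zpowers e → QL (fixOf W e) z →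
    ∃ d ∈ fixOf W e, g * d * g⁻¹ ≠ d
  faith : ∀ a ∈ A, (∀ w ∈ W, a * w * a⁻¹ = w) → a = 1

namespace OI

variable {W A : Subgroup G} {z : G}

theorem z_mul_z (h : OI W A z) : z * z = 1 := by
  have := pow_orderOf_eq_one z
  rw [h.ord, pow_two] at this
  exact this

theorem z_ne_one (h : OI W A z) : z ≠ 1 := by
  intro e
  have := h.ord
  rw [e, orderOf_one] at this
  omega

theorem notdvd [Finite G] (h : OI W A z) : ¬ 3 ∣ Nat.card W := by
  obtain ⟨n, hn⟩ := IsPGroup.iff_card.mp h.pgrp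
  rw [hn]
  intro hd
  have := Nat.Prime.dvd_of_dvd_pow Nat.prime_three hd
  omega

theorem fix_norm (h : OI W A z) {e a : G} (he : e ∈ A) (ha : a ∈ A) :
    ∀ x ∈ fixOf W e, a * x * a⁻¹ ∈ fixOf W e := by
  intro x hx
  rw [mem_fixOf] at hx ⊢
  refine ⟨h.norm a ha x hx.1, ?_⟩
  rw [conj_comm_of (h.comm a ha e he), hx.2]

theorem gen [Finite G] (h : OI W A z) (X M : Subgroup G) (hXW : X ≤ W)
    (hAX : ∀ a ∈ A, ∀ x ∈ X, a * x * a⁻¹ ∈ X)
    (hM : ∀ e ∈ A, e ≠ 1 → ∀ x ∈ X, e * x * e⁻¹ = x → x ∈ M) : X ≤ M := by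
  have : Fact (Nat.Prime 3) := ⟨Nat.prime_three⟩
  apply gen_le 3 A X M h.comm h.cube (by rw [h.card]; norm_num) _ hAX hM
  intro hdvd
  exact h.notdvd (hdvd.trans (Subgroup.card_dvd_of_le hXW))

theorem exists_indep [Finite G] (h : OI W A z) {e : G} (he : e ∈ A) :
    ∃ g ∈ A, g ∉ Subgroup.zpowers e := by
  by_contra hcon
  push Not at hcon
  have hle : A ≤ Subgroup.zpowers e := hcon
  have h1 := Subgroup.card_le_of_le hle
  rw [h.card, Nat.card_zpowers] at h1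
  have h2 : orderOf e ≤ 3 :=
    Nat.le_of_dvd (by norm_num) (orderOf_dvd_of_pow_eq_one (h.cube e he))
  omega

theorem exists_twist [Finite G] (h : OI W A z) (X : Subgroup G) (hXW : X ≤ W)
    (hX : ∃ u ∈ X, u ≠ 1 ∧ u ≠ z) :
    ∃ u ∈ X, u ≠ 1 ∧ u ≠ z ∧ ∀ w ∈ X, w * u * w⁻¹ = u ∨ w * u * w⁻¹ = u * z := by
  let Z' : Subgroup X := (Subgroup.zpowers z).subgroupOf X
  have hZn : Z'.Normal := by
    constructor
    intro n hn g
    rw [Subgroup.mem_subgroupOf] at hn ⊢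
    have hn' := (mem_zpowers_two h.z_mul_z).1 hn
    have e0 : ((g * n * g⁻¹ : X) : G) = (n : G) := by
      rw [Subgroup.coe_mul, Subgroup.coe_mul, Subgroup.coe_inv]
      rcases hn' with e | e
      · rw [e]; group
      · rw [e, h.zcen (g : G) (hXW g.2), mul_assoc, mul_inv_cancel, mul_one]
    rw [e0]
    exact hn
  have hQ : IsPGroup 2 (X ⧸ Z') := (h.pgrp.to_le hXW).to_quotient Z'
  have hnt : Nontrivial (X ⧸ Z') := by
    obtain ⟨u, hu, hu1, huz⟩ := hX
    refine ⟨⟨QuotientGroup.mk ⟨u, hu⟩, 1, ?_⟩⟩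
    intro e
    rw [QuotientGroup.eq_one_iff, Subgroup.mem_subgroupOf] at e
    rcases (mem_zpowers_two h.z_mul_z).1 e with e | e
    exacts [hu1 e, huz e]
  have hc := hQ.center_nontrivial
  obtain ⟨⟨q, hq⟩, hq1⟩ := exists_ne (1 : Subgroup.center (X ⧸ Z'))
  obtain ⟨u, rfl⟩ := QuotientGroup.mk_surjective q
  have hu1 : (QuotientGroup.mk u : X ⧸ Z') ≠ 1 := fun e => hq1 (Subtype.ext e)
  rw [Ne, QuotientGroup.eq_one_iff, Subgroup.mem_subgroupOf, mem_zpowers_two h.z_mul_z] at hu1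
  refine ⟨u, u.2, fun e => hu1 (Or.inl e), fun e => hu1 (Or.inr e), ?_⟩
  intro w hw
  rw [Subgroup.mem_center_iff] at hq
  have e1 := hq (QuotientGroup.mk ⟨w, hw⟩)
  have e2 : (QuotientGroup.mk (u⁻¹ * (⟨w, hw⟩ * u * ⟨w, hw⟩⁻¹)) : X ⧸ Z') = 1 := by
    rw [QuotientGroup.mk_mul, QuotientGroup.mk_mul, QuotientGroup.mk_mul, QuotientGroup.mk_inv,
      QuotientGroup.mk_inv, e1]
    group
  rw [QuotientGroup.eq_one_iff, Subgroup.mem_subgroupOf] at e2
  have e3 : ((u⁻¹ * (⟨w, hw⟩ * u * ⟨w, hw⟩⁻¹) : X) : G) = (u : G)⁻¹ * (w * u * w⁻¹) := by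
    simp
  rw [e3, mem_zpowers_two h.z_mul_z] at e2
  rcases e2 with e | e
  · left
    have : w * (u : G) * w⁻¹ = (u : G) * ((u : G)⁻¹ * (w * u * w⁻¹)) := by group
    rw [this, e, mul_one]
  · right
    have : w * (u : G) * w⁻¹ = (u : G) * ((u : G)⁻¹ * (w * u * w⁻¹)) := by group
    rw [this, e]

/-- centralizers of independent elements commute (inside any invariant subgroup) -/
theorem commute_aux [Finite G] (h : OI W A z) : ∀ (n : ℕ) (X : Subgroup G), Nat.card X ≤ n →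
    X ≤ W → (∀ a ∈ A, ∀ x ∈ X, a * x * a⁻¹ ∈ X) → ∀ e ∈ A, e ≠ 1 → ∀ e' ∈ A,
    e' ∉ Subgroup.zpowers e → ∀ x ∈ X, ∀ y ∈ X, e * x * e⁻¹ = x → e' * y * e'⁻¹ = y →
    x * y = y * x := by
  intro n
  induction n with
  | zero =>
    intro X hX
    have := Nat.card_pos (α := X)
    omega
  | succ n ih =>
    intro X hXn hXW hAX e he he1 e' he' hee' x hx y hy hxe hye
    by_cases hsmall : ∀ u ∈ X, u = 1 ∨ u = z
    · rcases hsmall x hx with rfl | rfl <;> rcases hsmall y hy with rfl | rfl <;> simp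
    · push Not at hsmall
      obtain ⟨u₁, hu₁X, hu₁1, hu₁z, hu₁tw⟩ := h.exists_twist X hXW hsmall
      obtain ⟨U, hU⟩ : ∃ U, U = twistSub W X z hXW h.z_mul_z h.zcen := ⟨_, rfl⟩
      have hUmem : ∀ u, u ∈ U ↔
          u ∈ X ∧ ∀ w ∈ X, w * u * w⁻¹ = u ∨ w * u * w⁻¹ = u * z := by
        intro u; rw [hU]; exact mem_twistSub
      have hUX : U ≤ X := fun u hu => ((hUmem u).1 hu).1
      have hUA : ∀ a ∈ A, ∀ u ∈ U, a * u * a⁻¹ ∈ U := by
        intro a ha u hu
        rw [hUmem] at hu ⊢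
        refine ⟨hAX a ha u hu.1, fun w hw => ?_⟩
        have hw' : a⁻¹ * w * a⁻¹⁻¹ ∈ X := hAX a⁻¹ (A.inv_mem ha) w hw
        have e0 : w * (a * u * a⁻¹) * w⁻¹ =
            a * ((a⁻¹ * w * a⁻¹⁻¹) * u * (a⁻¹ * w * a⁻¹⁻¹)⁻¹) * a⁻¹ := by group
        rw [e0]
        rcases hu.2 _ hw' with e1 | e1
        · left; rw [e1]
        · right; rw [e1, QL.cmul, h.zfix a ha]
      have hex : ∃ e₀ ∈ A, e₀ ≠ 1 ∧ ∃ c ∈ U, e₀ * c * e₀⁻¹ = c ∧ c ≠ 1 ∧ c ≠ z := by
        by_contra hcon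
        have hle : U ≤ Subgroup.zpowers z := by
          apply h.gen U _ (hUX.trans hXW) hUA
          intro e₀ he₀ he₀1 c hc hce
          rw [mem_zpowers_two h.z_mul_z]
          by_contra hc2
          exact hcon ⟨e₀, he₀, he₀1, c, hc, hce, fun e => hc2 (Or.inl e), fun e => hc2 (Or.inr e)⟩
        have := (mem_zpowers_two h.z_mul_z).1 (hle ((hUmem u₁).2 ⟨hu₁X, hu₁tw⟩))
        rcases this with e | e
        exacts [hu₁1 e, hu₁z e]
      obtain ⟨e₀, he₀, he₀1, c, hcU, hce, hc1, hcz⟩ := hex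
      have hcC : c ∈ fixOf W e₀ := mem_fixOf.2 ⟨hXW (hUX hcU), hce⟩
      have hQ : QL (fixOf W e₀) z := by
        rcases h.dich e₀ he₀ he₀1 with h1 | h1
        · rcases h1 c hcC with e | e
          exacts [absurd e hc1, absurd e hcz]
        · exact h1
      obtain ⟨g, hg, hge⟩ := h.exists_indep he₀
      have hgn := h.fix_norm he₀ hg
      have hg3 := QL.cube_comm (C := fixOf W e₀) (h.cube g hg)
      have hgne := h.act e₀ he₀ he₀1 g hg hge hQ
      have hdC : g * c * g⁻¹ ∈ fixOf W e₀ := hgn c hcC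
      have hdU : g * c * g⁻¹ ∈ U := hUA g hg c hcU
      have hzg := hQ.conj_z hgn
      have hdc : g * c * g⁻¹ ≠ c := by
        intro e
        obtain ⟨x, hx, hxg⟩ := hgne
        exact hxg (hQ.centralizes_of_fixed hgn hg3 hcC hc1 hcz (Or.inl e) x hx)
      have hdcz : g * c * g⁻¹ ≠ c * z := by
        intro e
        obtain ⟨x, hx, hxg⟩ := hgne
        exact hxg (hQ.centralizes_of_fixed hgn hg3 hcC hc1 hcz (Or.inr e) x hx)
      have hd1 : g * c * g⁻¹ ≠ 1 := by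
        intro e
        exact hc1 (QL.conj_inj g c 1 (by rw [e]; simp))
      have hdz : g * c * g⁻¹ ≠ z := by
        intro e
        exact hcz (QL.conj_inj g c z (by rw [e, hzg]))
      have hCU : fixOf W e₀ ≤ U := hQ.le_of_mem hcC hc1 hcz hdC hd1 hdz hdc hdcz hcU hdU
      have key : ∀ f ∈ A, f ∉ Subgroup.zpowers e₀ → ∀ y ∈ X, f * y * f⁻¹ = y →
          ∀ c ∈ fixOf W e₀, y * c * y⁻¹ = c := by
        intro f hf hfe y hy hfy
        apply hQ.cent_of_twist (h.fix_norm he₀ hf) (QL.cube_comm (h.cube f hf))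
          (h.act e₀ he₀ he₀1 f hf hfe hQ) (mul_inv_eq_iff_eq_mul.1 hfy)
        intro c hc
        exact ((hUmem c).1 (hCU hc)).2 y hy
      obtain ⟨X₁, hX₁⟩ : ∃ X₁, X₁ = X ⊓ Subgroup.centralizer (fixOf W e₀ : Set G) := ⟨_, rfl⟩
      have hX₁A : ∀ a ∈ A, ∀ x ∈ X₁, a * x * a⁻¹ ∈ X₁ := by
        intro a ha x hx
        rw [hX₁] at hx ⊢
        obtain ⟨hxX, hxc⟩ := Subgroup.mem_inf.1 hx
        refine Subgroup.mem_inf.2 ⟨hAX a ha x hxX, ?_⟩
        rw [Subgroup.mem_centralizer_iff] at hxc ⊢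
        intro c hc
        have hc' : a⁻¹ * c * a⁻¹⁻¹ ∈ fixOf W e₀ := h.fix_norm he₀ (A.inv_mem ha) c hc
        have e1 := hxc _ hc'
        calc c * (a * x * a⁻¹) = a * ((a⁻¹ * c * a⁻¹⁻¹) * x) * a⁻¹ := by group
          _ = a * (x * (a⁻¹ * c * a⁻¹⁻¹)) * a⁻¹ := by rw [e1]
          _ = a * x * a⁻¹ * c := by group
      have hX₁le : X₁ ≤ X := by rw [hX₁]; exact inf_le_left
      have hX₁lt : Nat.card X₁ ≤ n := by
        have hne : X₁ ≠ X := by
          intro e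
          obtain ⟨x, hx, y, hy, hxy⟩ := hQ.exists_not_comm
          have hxX : x ∈ X := hUX (hCU hx)
          rw [← e, hX₁] at hxX
          have := (Subgroup.mem_inf.1 hxX).2
          rw [Subgroup.mem_centralizer_iff] at this
          exact hxy (this y hy).symm
        have hlt : Nat.card X₁ < Nat.card X := by
          by_contra hcon
          push Not at hcon
          exact hne (Subgroup.eq_of_le_of_card_ge hX₁le hcon)
        omega
      by_cases h1 : e ∈ Subgroup.zpowers e₀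
      · have h2 : e₀ ∈ Subgroup.zpowers e := gen_of_mem (h.cube e₀ he₀) h1 he1
        have hxC : x ∈ fixOf W e₀ := mem_fixOf.2 ⟨hXW hx, fix_of_mem_zpowers h2 hxe⟩
        have h3 : e' ∉ Subgroup.zpowers e₀ := by
          intro h4
          exact hee' ((Subgroup.zpowers_le.2 h2) h4)
        have := key e' he' h3 y hy hye x hxC
        exact (mul_inv_eq_iff_eq_mul.1 this).symm
      · by_cases h2 : e' ∈ Subgroup.zpowers e₀
        · have he'1 : e' ≠ 1 := by
            intro e1; apply hee'; rw [e1]; exact Subgroup.one_mem _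
          have h3 : e₀ ∈ Subgroup.zpowers e' := gen_of_mem (h.cube e₀ he₀) h2 he'1
          have hyC : y ∈ fixOf W e₀ := mem_fixOf.2 ⟨hXW hy, fix_of_mem_zpowers h3 hye⟩
          have := key e he h1 x hx hxe y hyC
          exact mul_inv_eq_iff_eq_mul.1 this
        · have hx1 : x ∈ X₁ := by
            rw [hX₁]
            refine Subgroup.mem_inf.2 ⟨hx, ?_⟩
            rw [Subgroup.mem_centralizer_iff]
            intro c hc
            exact (mul_inv_eq_iff_eq_mul.1 (key e he h1 x hx hxe c hc)).symm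
          have hy1 : y ∈ X₁ := by
            rw [hX₁]
            refine Subgroup.mem_inf.2 ⟨hy, ?_⟩
            rw [Subgroup.mem_centralizer_iff]
            intro c hc
            exact (mul_inv_eq_iff_eq_mul.1 (key e' he' h2 y hy hye c hc)).symm
          exact ih X₁ hX₁lt (hX₁le.trans hXW) hX₁A e he he1 e' he' hee' x hx1 y hy1 hxe hye

/-- centralizers of independent elements commute -/
theorem commute [Finite G] (h : OI W A z) {e e' x y : G} (he : e ∈ A) (he1 : e ≠ 1)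
    (he' : e' ∈ A) (hee' : e' ∉ Subgroup.zpowers e) (hx : x ∈ fixOf W e)
    (hy : y ∈ fixOf W e') : x * y = y * x :=
  h.commute_aux (Nat.card W) W le_rfl le_rfl h.norm e he he1 e' he' hee' x (mem_fixOf.1 hx).1 y
    (mem_fixOf.1 hy).1 (mem_fixOf.1 hx).2 (mem_fixOf.1 hy).2

end OI

end Cfsg.Agent.Lib.helper97
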