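import Mathlib
import Cfsg.Agent.Lib.helper97.OneInvCore
import Cfsg.Agent.Lib.helper3.ElemAb
import Cfsg.Agent.Lib.helper13.Count

/-!
Structure of a `2`-group `W` in the configuration `OI W A z`: centre, commutators, squares and
order (helper97).
-/

set_option autoImplicit false

namespace Cfsg.Agent.Lib.helper97

open Subgroup

variable {G : Type*} [Group G]

theorem QL.twist {C : Subgroup G} {z : G} (h : QL C z) {x y : G} (hx : x ∈ C) (hy : y ∈ C) :
    x * y * x⁻¹ = y ∨ x * y * x⁻¹ = y * z := by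
  by_cases hx1 : x = 1
  · left; rw [hx1]; group
  by_cases hxz : x = z
  · left; rw [hxz, ← h.comm_z hy, mul_assoc, mul_inv_cancel, mul_one]
  by_cases hy1 : y = 1
  · left; rw [hy1]; group
  by_cases hyz : y = z
  · left; rw [hyz, h.comm_z hx, mul_assoc, mul_inv_cancel, mul_one]
  by_cases hyx : y = x
  · left; rw [hyx]; group
  by_cases hyxz : y = x * z
  · left
    rw [hyxz]
    calc x * (x * z) * x⁻¹ = x * (z * x) * x⁻¹ := by rw [h.comm_z hx]
      _ = x * z := by group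
  · right
    have hanti := h.anti hx hy hx1 hxz hy1 hyz hyx hyxz
    calc x * y * x⁻¹ = (x * y * z) * z * x⁻¹ := by rw [mul_assoc (x * y) z z, h.z_mul_z, mul_one]
      _ = (y * x) * z * x⁻¹ := by rw [← hanti]
      _ = y * (x * z) * x⁻¹ := by group
      _ = y * (z * x) * x⁻¹ := by rw [h.comm_z hx]
      _ = y * z := by group

theorem twist_symm {x y z : G} (hz : z * z = 1) (hxz : x * z = z * x) (hyz : y * z = z * y)
    (h : y * x * y⁻¹ = x ∨ y * x * y⁻¹ = x * z) : x * y * x⁻¹ = y ∨ x * y * x⁻¹ = y * z := by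
  rcases h with e | e
  · left
    calc x * y * x⁻¹ = (y * x * y⁻¹) * y * x⁻¹ := by rw [e]
      _ = y := by group
  · right
    calc x * y * x⁻¹ = (x * z) * z * y * x⁻¹ := by rw [mul_assoc x z z, hz, mul_one]
      _ = (y * x * y⁻¹) * z * y * x⁻¹ := by rw [e]
      _ = y * x * y⁻¹ * (z * y) * x⁻¹ := by group
      _ = y * x * y⁻¹ * (y * z) * x⁻¹ := by rw [hyz]
      _ = y * (x * z) * x⁻¹ := by group
      _ = y * (z * x) * x⁻¹ := by rw [hxz]
      _ = y * z := by group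

/-- elements of `W` moving every element of `S` at most by `z` -/
def twister (W : Subgroup G) (S : Set G) (z : G) (hz : z * z = 1)
    (hzc : ∀ w ∈ W, w * z = z * w) : Subgroup G where
  carrier := {x | x ∈ W ∧ ∀ y ∈ S, x * y * x⁻¹ = y ∨ x * y * x⁻¹ = y * z}
  one_mem' := ⟨W.one_mem, fun y _ => Or.inl (by group)⟩
  mul_mem' := by
    rintro u v ⟨hu, hu'⟩ ⟨hv, hv'⟩
    refine ⟨W.mul_mem hu hv, fun y hy => ?_⟩
    have huz : u * z * u⁻¹ = z := by rw [hzc u hu, mul_assoc, mul_inv_cancel, mul_one]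
    have e0 : (u * v) * y * (u * v)⁻¹ = u * (v * y * v⁻¹) * u⁻¹ := by group
    rw [e0]
    rcases hv' y hy with e2 | e2 <;> rcases hu' y hy with e1 | e1
    · left; rw [e2, e1]
    · right; rw [e2, e1]
    · right; rw [e2, QL.cmul, e1, huz]
    · left; rw [e2, QL.cmul, e1, huz, mul_assoc, hz, mul_one]
  inv_mem' := by
    rintro u ⟨hu, hu'⟩
    refine ⟨W.inv_mem hu, fun y hy => ?_⟩
    have huz : u⁻¹ * z * u⁻¹⁻¹ = z := by
      have : u⁻¹ * z * u⁻¹⁻¹ = u⁻¹ * (z * u) := by group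
      rw [this, ← hzc u hu]; group
    rcases hu' y hy with e1 | e1
    · left
      calc u⁻¹ * y * u⁻¹⁻¹ = u⁻¹ * (u * y * u⁻¹) * u⁻¹⁻¹ := by rw [e1]
        _ = y := by group
    · right
      have e2 : u⁻¹ * (y * z) * u⁻¹⁻¹ = y := by rw [← e1]; group
      rw [QL.cmul, huz] at e2
      calc u⁻¹ * y * u⁻¹⁻¹ = (u⁻¹ * y * u⁻¹⁻¹ * z) * z := by
            rw [mul_assoc _ z z, hz, mul_one]
        _ = y * z := by rw [e2]

/-- elements of `W` with square in `{1, z}` -/
def sqSub (W : Subgroup G) (z : G) (hz : z * z = 1) (_hzc : ∀ w ∈ W, w * z = z * w)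
    (htw : ∀ x ∈ W, ∀ y ∈ W, x * y * x⁻¹ = y ∨ x * y * x⁻¹ = y * z) : Subgroup G where
  carrier := {x | x ∈ W ∧ (x * x = 1 ∨ x * x = z)}
  one_mem' := ⟨W.one_mem, Or.inl (mul_one 1)⟩
  mul_mem' := by
    rintro u v ⟨hu, hu'⟩ ⟨hv, hv'⟩
    refine ⟨W.mul_mem hu hv, ?_⟩
    have e0 : (u * v) * (u * v) = u * (v * u * v⁻¹) * (v * v) := by group
    rw [e0]
    rcases htw v hv u hu with e1 | e1
    · rw [e1]
      rcases hu' with e2 | e2 <;> rcases hv' with e3 | e3
      · left; rw [e2, e3, mul_one]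
      · right; rw [e2, e3, one_mul]
      · right; rw [e2, e3, mul_one]
      · left; rw [e2, e3, hz]
    · rw [e1]
      have e4 : u * (u * z) * (v * v) = (u * u) * z * (v * v) := by group
      rw [e4]
      rcases hu' with e2 | e2 <;> rcases hv' with e3 | e3
      · right; rw [e2, e3, one_mul, mul_one]
      · left; rw [e2, e3, one_mul, hz]
      · left; rw [e2, e3, hz, mul_one]
      · right; rw [e2, e3, hz, one_mul]
  inv_mem' := by
    rintro u ⟨hu, hu'⟩
    refine ⟨W.inv_mem hu, ?_⟩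
    have e0 : u⁻¹ * u⁻¹ = (u * u)⁻¹ := by group
    rw [e0]
    rcases hu' with e | e
    · left; rw [e, inv_one]
    · right; rw [e]; exact inv_eq_of_mul_eq_one_right hz

theorem indep13 {a b : G} (hba : b ∉ Subgroup.zpowers a) : a * b ∉ Subgroup.zpowers a := by
  intro h
  apply hba
  have := Subgroup.mul_mem _ (Subgroup.inv_mem _ (Subgroup.mem_zpowers a)) h
  simpa using this

theorem indep14 {a b : G} (hba : b ∉ Subgroup.zpowers a) : a * b⁻¹ ∉ Subgroup.zpowers a := by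
  intro h
  apply hba
  have := Subgroup.mul_mem _ (Subgroup.inv_mem _ (Subgroup.mem_zpowers a)) h
  have h2 : b⁻¹ ∈ Subgroup.zpowers a := by simpa using this
  simpa using Subgroup.inv_mem _ h2

theorem indep23 {a b : G} (hb3 : b ^ 3 = 1) (ha1 : a ≠ 1) (hba : b ∉ Subgroup.zpowers a) :
    a * b ∉ Subgroup.zpowers b := by
  intro h
  apply hba
  have := Subgroup.mul_mem _ h (Subgroup.inv_mem _ (Subgroup.mem_zpowers b))
  have h2 : a ∈ Subgroup.zpowers b := by simpa using this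
  exact gen_of_mem hb3 h2 ha1

theorem indep24 {a b : G} (hb3 : b ^ 3 = 1) (ha1 : a ≠ 1) (hba : b ∉ Subgroup.zpowers a) :
    a * b⁻¹ ∉ Subgroup.zpowers b := by
  intro h
  apply hba
  have := Subgroup.mul_mem _ h (Subgroup.mem_zpowers b)
  have h2 : a ∈ Subgroup.zpowers b := by simpa using this
  exact gen_of_mem hb3 h2 ha1

theorem indep34 {a b : G} (ha3 : a ^ 3 = 1) (hb3 : b ^ 3 = 1) (hab : a * b = b * a)
    (ha1 : a ≠ 1) (hba : b ∉ Subgroup.zpowers a) : a * b⁻¹ ∉ Subgroup.zpowers (a * b) := by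
  intro h
  have hab3 : (a * b) ^ 3 = 1 := by
    rw [(show Commute a b from hab).mul_pow, ha3, hb3, one_mul]
  have hb1 : b ≠ 1 := by
    intro e
    apply hba
    rw [e]
    exact Subgroup.one_mem _
  rcases zp3 hab3 h with e | e | e
  · apply hba
    have : b = a := by
      rw [mul_inv_eq_one] at e
      exact e.symm
    rw [this]
    exact Subgroup.mem_zpowers a
  · have e2 : b⁻¹ = b := mul_left_cancel e
    apply hb1
    have e3 : b * b = 1 := by
      have := inv_mul_cancel b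
      rwa [e2] at this
    have : b ^ 3 = b := by
      rw [show (3 : ℕ) = 2 + 1 from rfl, pow_succ, pow_two, e3, one_mul]
    rw [← this, hb3]
  · rw [mul_inv_rev] at e
    have e2 : a * b⁻¹ = a⁻¹ * b⁻¹ := by
      rw [e]
      exact (((show Commute a b from hab).inv_inv).eq).symm
    have e3 : a = a⁻¹ := mul_right_cancel e2
    apply ha1
    have e4 : a * a = 1 := by
      have := mul_inv_cancel a
      rwa [← e3] at this
    have : a ^ 3 = a := by
      rw [show (3 : ℕ) = 2 + 1 from rfl, pow_succ, pow_two, e4, one_mul]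
    rw [← this, ha3]

namespace OI

variable {W A : Subgroup G} {z : G}

theorem exists_ne_one [Finite G] (h : OI W A z) : ∃ e ∈ A, e ≠ 1 := by
  by_contra hcon
  push Not at hcon
  have : A = ⊥ := (Subgroup.eq_bot_iff_forall A).2 hcon
  have h9 := h.card
  rw [this, Subgroup.card_bot] at h9
  omega

theorem z_mem_fix (h : OI W A z) {e : G} (he : e ∈ A) : z ∈ fixOf W e :=
  mem_fixOf.2 ⟨h.zW, h.zfix e he⟩

/-- the fixed points of `A` are `1` and `z` -/
theorem fixed_all [Finite G] (h : OI W A z) {x : G} (hx : x ∈ W)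
    (hfix : ∀ a ∈ A, a * x * a⁻¹ = x) : x = 1 ∨ x = z := by
  obtain ⟨e, he, he1⟩ := h.exists_ne_one
  have hxC : x ∈ fixOf W e := mem_fixOf.2 ⟨hx, hfix e he⟩
  rcases h.dich e he he1 with h1 | h1
  · exact h1 x hxC
  · obtain ⟨g, hg, hge⟩ := h.exists_indep he
    exact h1.fixed_sub (h.fix_norm he hg) (QL.cube_comm (h.cube g hg))
      (h.act e he he1 g hg hge h1) hxC (hfix g hg)

/-- the centre of `W` is `{1, z}` -/
theorem center_sub [Finite G] (h : OI W A z) {x : G} (hx : x ∈ W)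
    (hc : ∀ y ∈ W, x * y = y * x) : x = 1 ∨ x = z := by
  have hle : W ⊓ Subgroup.centralizer (W : Set G) ≤ Subgroup.zpowers z := by
    apply h.gen _ _ inf_le_left
    · intro a ha x hx
      obtain ⟨hxW, hxc⟩ := Subgroup.mem_inf.1 hx
      refine Subgroup.mem_inf.2 ⟨h.norm a ha x hxW, ?_⟩
      rw [Subgroup.mem_centralizer_iff] at hxc ⊢
      intro c hc
      have hc' : a⁻¹ * c * a⁻¹⁻¹ ∈ W := h.norm a⁻¹ (A.inv_mem ha) c hc
      have e1 := hxc _ hc'
      calc c * (a * x * a⁻¹) = a * ((a⁻¹ * c * a⁻¹⁻¹) * x) * a⁻¹ := by group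
        _ = a * (x * (a⁻¹ * c * a⁻¹⁻¹)) * a⁻¹ := by rw [e1]
        _ = a * x * a⁻¹ * c := by group
    · intro e he he1 x hx hxe
      obtain ⟨hxW, hxc⟩ := Subgroup.mem_inf.1 hx
      rw [Subgroup.mem_centralizer_iff] at hxc
      rw [mem_zpowers_two h.z_mul_z]
      have hxC : x ∈ fixOf W e := mem_fixOf.2 ⟨hxW, hxe⟩
      rcases h.dich e he he1 with h1 | h1
      · exact h1 x hxC
      · exact h1.center_sub hxC (fun y hy => (hxc y (fixOf_le W e hy)).symm)
  have := hle (Subgroup.mem_inf.2 ⟨hx, by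
    rw [Subgroup.mem_centralizer_iff]; intro y hy; exact (hc y hy).symm⟩)
  exact (mem_zpowers_two h.z_mul_z).1 this

theorem twist_fix [Finite G] (h : OI W A z) {e : G} (he : e ∈ A) (he1 : e ≠ 1) :
    ∀ x ∈ W, ∀ y ∈ fixOf W e, x * y * x⁻¹ = y ∨ x * y * x⁻¹ = y * z := by
  have hle : W ≤ twister W (fixOf W e : Set G) z h.z_mul_z h.zcen := by
    apply h.gen W _ le_rfl h.norm
    intro e' he' he'1 x hx hxe'
    refine ⟨hx, fun y hy => ?_⟩
    by_cases hee : e' ∈ Subgroup.zpowers e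
    · have h2 : e ∈ Subgroup.zpowers e' := gen_of_mem (h.cube e he) hee he'1
      have hxC : x ∈ fixOf W e := mem_fixOf.2 ⟨hx, fix_of_mem_zpowers h2 hxe'⟩
      rcases h.dich e he he1 with h1 | h1
      · left
        rcases h1 x hxC with e0 | e0
        · rw [e0]; group
        · rw [e0, ← h.zcen y (fixOf_le W e hy), mul_assoc, mul_inv_cancel, mul_one]
      · exact h1.twist hxC hy
    · left
      have := h.commute he he1 he' hee hy (mem_fixOf.2 ⟨hx, hxe'⟩)
      rw [← this, mul_assoc, mul_inv_cancel, mul_one]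
  intro x hx
  exact (hle hx).2

/-- all commutators of `W` lie in `{1, z}` -/
theorem twist_all [Finite G] (h : OI W A z) :
    ∀ x ∈ W, ∀ y ∈ W, x * y * x⁻¹ = y ∨ x * y * x⁻¹ = y * z := by
  have hle : W ≤ twister W (W : Set G) z h.z_mul_z h.zcen := by
    apply h.gen W _ le_rfl h.norm
    intro e he he1 x hx hxe
    refine ⟨hx, fun y hy => ?_⟩
    have hxC : x ∈ fixOf W e := mem_fixOf.2 ⟨hx, hxe⟩
    exact twist_symm h.z_mul_z (h.zcen x hx) (h.zcen y hy) (h.twist_fix he he1 y hy x hxC)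
  intro x hx
  exact (hle hx).2

/-- all squares of `W` lie in `{1, z}` -/
theorem sq_all [Finite G] (h : OI W A z) : ∀ x ∈ W, x * x = 1 ∨ x * x = z := by
  have hle : W ≤ sqSub W z h.z_mul_z h.zcen h.twist_all := by
    apply h.gen W _ le_rfl h.norm
    intro e he he1 x hx hxe
    refine ⟨hx, ?_⟩
    have hxC : x ∈ fixOf W e := mem_fixOf.2 ⟨hx, hxe⟩
    rcases h.dich e he he1 with h1 | h1
    · left
      rcases h1 x hxC with e0 | e0
      · rw [e0, mul_one]
      · rw [e0, h.z_mul_z]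
    · by_cases hx1 : x = 1
      · left; rw [hx1, mul_one]
      · by_cases hxz : x = z
        · left; rw [hxz, h.z_mul_z]
        · right; exact h1.sq x hxC hx1 hxz
  intro x hx
  exact (hle hx).2

theorem exists_QL [Finite G] (h : OI W A z) : ∃ e ∈ A, e ≠ 1 ∧ QL (fixOf W e) z := by
  by_contra hcon
  have hle : W ≤ Subgroup.zpowers z := by
    apply h.gen W _ le_rfl h.norm
    intro e he he1 x hx hxe
    rw [mem_zpowers_two h.z_mul_z]
    rcases h.dich e he he1 with h1 | h1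
    · exact h1 x (mem_fixOf.2 ⟨hx, hxe⟩)
    · exact absurd ⟨e, he, he1, h1⟩ hcon
  obtain ⟨e, he, he1⟩ := h.exists_ne_one
  apply he1
  apply h.faith e he
  intro w hw
  rcases (mem_zpowers_two h.z_mul_z).1 (hle hw) with e0 | e0
  · rw [e0]; group
  · rw [e0]; exact h.zfix e he

theorem exists_QL2 [Finite G] (h : OI W A z) : ∃ e ∈ A, e ≠ 1 ∧ ∃ e' ∈ A,
    e' ∉ Subgroup.zpowers e ∧ QL (fixOf W e) z ∧ QL (fixOf W e') z := by
  obtain ⟨e, he, he1, hQ⟩ := h.exists_QL
  refine ⟨e, he, he1, ?_⟩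
  by_contra hcon
  have hle : W ≤ fixOf W e := by
    apply h.gen W _ le_rfl h.norm
    intro e' he' he'1 x hx hxe'
    by_cases hee : e' ∈ Subgroup.zpowers e
    · have h2 : e ∈ Subgroup.zpowers e' := gen_of_mem (h.cube e he) hee he'1
      exact mem_fixOf.2 ⟨hx, fix_of_mem_zpowers h2 hxe'⟩
    · rcases h.dich e' he' he'1 with h1 | h1
      · rcases h1 x (mem_fixOf.2 ⟨hx, hxe'⟩) with e0 | e0
        · rw [e0]; exact Subgroup.one_mem _
        · rw [e0]; exact hQ.mem
      · exact absurd ⟨e', he', hee, hQ, h1⟩ hcon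
  apply he1
  apply h.faith e he
  intro w hw
  exact (mem_fixOf.1 (hle hw)).2

theorem exists_not_comm [Finite G] (h : OI W A z) : ∃ x ∈ W, ∃ y ∈ W, x * y ≠ y * x := by
  obtain ⟨e, _, _, hQ⟩ := h.exists_QL
  obtain ⟨x, hx, y, hy, hxy⟩ := hQ.exists_not_comm
  exact ⟨x, fixOf_le W e hx, y, fixOf_le W e hy, hxy⟩

theorem enum [Finite G] (h : OI W A z) {a b : G} (ha : a ∈ A) (ha1 : a ≠ 1) (hb : b ∈ A)
    (hba : b ∉ Subgroup.zpowers a) : ∀ x ∈ A, ∃ i j : ℤ, x = a ^ i * b ^ j := by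
  have : Fact (Nat.Prime 3) := ⟨Nat.prime_three⟩
  have hab : a * b = b * a := h.comm a ha b hb
  have hcard : Nat.card (Subgroup.zpowers a ⊔ Subgroup.zpowers b : Subgroup G) =
      Nat.card (Subgroup.zpowers a) * 3 := by
    apply Cfsg.Agent.Lib.helper3.card_sup_zpowers (p := 3) (Subgroup.zpowers a) b hba
      (h.cube b hb)
    intro e he
    obtain ⟨k, rfl⟩ := Subgroup.mem_zpowers_iff.1 he
    exact ((show Commute b a from hab.symm).zpow_right k)
  have hoa : orderOf a = 3 := orderOf_eq_prime (h.cube a ha) ha1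
  rw [Nat.card_zpowers, hoa] at hcard
  have hle : Subgroup.zpowers a ⊔ Subgroup.zpowers b ≤ A :=
    sup_le (by rw [Subgroup.zpowers_le]; exact ha) (by rw [Subgroup.zpowers_le]; exact hb)
  have heq : Subgroup.zpowers a ⊔ Subgroup.zpowers b = A :=
    Subgroup.eq_of_le_of_card_ge hle (by rw [hcard, h.card])
  let T : Subgroup G :=
    { carrier := {x | ∃ i j : ℤ, x = a ^ i * b ^ j}
      one_mem' := ⟨0, 0, by simp⟩
      mul_mem' := by
        rintro _ _ ⟨i, j, rfl⟩ ⟨k, l, rfl⟩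
        refine ⟨i + k, j + l, ?_⟩
        have hc : Commute (b ^ j) (a ^ k) := (show Commute b a from hab.symm).zpow_zpow j k
        calc a ^ i * b ^ j * (a ^ k * b ^ l) = a ^ i * (b ^ j * a ^ k) * b ^ l := by
              simp only [mul_assoc]
          _ = a ^ i * (a ^ k * b ^ j) * b ^ l := by rw [hc.eq]
          _ = a ^ (i + k) * b ^ (j + l) := by
              rw [zpow_add, zpow_add]; simp only [mul_assoc]
      inv_mem' := by
        rintro _ ⟨i, j, rfl⟩
        refine ⟨-i, -j, ?_⟩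
        have hc : Commute (a ^ i) (b ^ j) := (show Commute a b from hab).zpow_zpow i j
        rw [mul_inv_rev, zpow_neg, zpow_neg]
        exact (hc.inv_inv.eq).symm }
  have hAT : A ≤ T := by
    rw [← heq]
    refine sup_le ?_ ?_
    · rw [Subgroup.zpowers_le]; exact ⟨1, 0, by simp⟩
    · rw [Subgroup.zpowers_le]; exact ⟨0, 1, by simp⟩
  intro x hx
  exact hAT hx

theorem rep [Finite G] (h : OI W A z) {a b : G} (ha : a ∈ A) (ha1 : a ≠ 1) (hb : b ∈ A)
    (hba : b ∉ Subgroup.zpowers a) {e : G} (he : e ∈ A) (he1 : e ≠ 1) :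
    a ∈ Subgroup.zpowers e ∨ b ∈ Subgroup.zpowers e ∨ a * b ∈ Subgroup.zpowers e ∨
      a * b⁻¹ ∈ Subgroup.zpowers e := by
  obtain ⟨i, j, rfl⟩ := h.enum ha ha1 hb hba e he
  have hab : a * b = b * a := h.comm a ha b hb
  have h1 := zp3 (h.cube a ha) (Subgroup.zpow_mem_zpowers a i)
  have h2 := zp3 (h.cube b hb) (Subgroup.zpow_mem_zpowers b j)
  rcases h1 with e1 | e1 | e1 <;> rcases h2 with e2 | e2 | e2 <;> rw [e1, e2] at he1 ⊢
  · exact absurd (mul_one 1) he1
  · right; left; rw [one_mul]; exact Subgroup.mem_zpowers _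
  · right; left; rw [one_mul]; simp
  · left; rw [mul_one]; exact Subgroup.mem_zpowers _
  · right; right; left; exact Subgroup.mem_zpowers _
  · right; right; right; exact Subgroup.mem_zpowers _
  · left; rw [mul_one]; simp
  · right; right; right
    have e3 : a * b⁻¹ = (a⁻¹ * b)⁻¹ := by
      rw [mul_inv_rev, inv_inv]
      exact ((show Commute a b from hab).inv_right).eq
    rw [e3]; exact Subgroup.inv_mem _ (Subgroup.mem_zpowers _)
  · right; right; left
    have e3 : a * b = (a⁻¹ * b⁻¹)⁻¹ := by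
      rw [mul_inv_rev, inv_inv, inv_inv]; exact hab
    rw [e3]; exact Subgroup.inv_mem _ (Subgroup.mem_zpowers _)

theorem card_step [Finite G] (h : OI W A z) (X : Subgroup G) (hzX : z ∈ X) {e : G}
    (he : e ∈ A) (he1 : e ≠ 1) (hX : X ≤ Subgroup.centralizer (fixOf W e : Set G)) :
    Nat.card (X ⊔ fixOf W e : Subgroup G) = Nat.card X ∨
      Nat.card (X ⊔ fixOf W e : Subgroup G) = 4 * Nat.card X := by
  rcases h.dich e he he1 with h1 | h1
  · left
    have hle : fixOf W e ≤ X := by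
      intro x hx
      rcases h1 x hx with e0 | e0
      · rw [e0]; exact X.one_mem
      · rw [e0]; exact hzX
    rw [sup_eq_left.2 hle]
  · right
    have key := Cfsg.Agent.Lib.helper13.card_sup_mul_card_inf X (fixOf W e)
      (hX.trans (Subgroup.centralizer_le_normalizer _))
    have hinf : X ⊓ fixOf W e = Subgroup.zpowers z := by
      apply le_antisymm
      · intro x hx
        obtain ⟨hxX, hxC⟩ := Subgroup.mem_inf.1 hx
        rw [mem_zpowers_two h.z_mul_z]
        have hxc := hX hxX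
        rw [Subgroup.mem_centralizer_iff] at hxc
        exact h1.center_sub hxC (fun y hy => (hxc y hy).symm)
      · rw [Subgroup.zpowers_le]
        exact Subgroup.mem_inf.2 ⟨hzX, h1.mem⟩
    rw [hinf, Nat.card_zpowers, h.ord, h1.card] at key
    omega

/-- the order of `W` -/
theorem card_W [Finite G] (h : OI W A z) :
    Nat.card W = 2 ^ 5 ∨ Nat.card W = 2 ^ 7 ∨ Nat.card W = 2 ^ 9 := by
  obtain ⟨a, ha, ha1⟩ := h.exists_ne_one
  obtain ⟨b, hb, hba⟩ := h.exists_indep ha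
  have hab : a * b = b * a := h.comm a ha b hb
  have hb1 : b ≠ 1 := by
    intro e
    apply hba
    rw [e]
    exact Subgroup.one_mem _
  have hab_mem : a * b ∈ A := A.mul_mem ha hb
  have hab'_mem : a * b⁻¹ ∈ A := A.mul_mem ha (A.inv_mem hb)
  have hab1 : a * b ≠ 1 := by
    intro e
    apply hba
    have : b = a⁻¹ := (inv_eq_of_mul_eq_one_right e).symm
    rw [this]
    exact Subgroup.inv_mem _ (Subgroup.mem_zpowers a)
  have hab'1 : a * b⁻¹ ≠ 1 := by
    intro e
    apply hba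
    have : a = b := by rwa [mul_inv_eq_one] at e
    rw [← this]
    exact Subgroup.mem_zpowers a
  obtain ⟨X₀, hX₀⟩ : ∃ X₀, X₀ = Subgroup.zpowers z := ⟨_, rfl⟩
  obtain ⟨X₁, hX₁⟩ : ∃ X₁, X₁ = X₀ ⊔ fixOf W a := ⟨_, rfl⟩
  obtain ⟨X₂, hX₂⟩ : ∃ X₂, X₂ = X₁ ⊔ fixOf W b := ⟨_, rfl⟩
  obtain ⟨X₃, hX₃⟩ : ∃ X₃, X₃ = X₂ ⊔ fixOf W (a * b) := ⟨_, rfl⟩
  obtain ⟨X₄, hX₄⟩ : ∃ X₄, X₄ = X₃ ⊔ fixOf W (a * b⁻¹) := ⟨_, rfl⟩
  have hz0 : z ∈ X₀ := by rw [hX₀]; exact Subgroup.mem_zpowers z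
  have h01 : X₀ ≤ X₁ := by rw [hX₁]; exact le_sup_left
  have h12 : X₁ ≤ X₂ := by rw [hX₂]; exact le_sup_left
  have h23 : X₂ ≤ X₃ := by rw [hX₃]; exact le_sup_left
  have h34 : X₃ ≤ X₄ := by rw [hX₄]; exact le_sup_left
  have hzc : ∀ e : G, X₀ ≤ Subgroup.centralizer (fixOf W e : Set G) := by
    intro e
    rw [hX₀, Subgroup.zpowers_le, Subgroup.mem_centralizer_iff]
    intro y hy
    exact h.zcen y (fixOf_le W e hy)
  have hcc : ∀ e ∈ A, e ≠ 1 → ∀ e' ∈ A, e' ∉ Subgroup.zpowers e →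
      fixOf W e ≤ Subgroup.centralizer (fixOf W e' : Set G) := by
    intro e he he1 e' he' hee' x hx
    rw [Subgroup.mem_centralizer_iff]
    intro y hy
    exact (h.commute he he1 he' hee' hx hy).symm
  have c1 : X₀ ≤ Subgroup.centralizer (fixOf W a : Set G) := hzc a
  have c2 : X₁ ≤ Subgroup.centralizer (fixOf W b : Set G) := by
    rw [hX₁]; exact sup_le (hzc b) (hcc a ha ha1 b hb hba)
  have c3 : X₂ ≤ Subgroup.centralizer (fixOf W (a * b) : Set G) := by
    rw [hX₂, hX₁]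
    exact sup_le (sup_le (hzc _) (hcc a ha ha1 _ hab_mem (indep13 hba)))
      (hcc b hb hb1 _ hab_mem (indep23 (h.cube b hb) ha1 hba))
  have c4 : X₃ ≤ Subgroup.centralizer (fixOf W (a * b⁻¹) : Set G) := by
    rw [hX₃, hX₂, hX₁]
    exact sup_le (sup_le (sup_le (hzc _) (hcc a ha ha1 _ hab'_mem (indep14 hba)))
      (hcc b hb hb1 _ hab'_mem (indep24 (h.cube b hb) ha1 hba)))
      (hcc _ hab_mem hab1 _ hab'_mem (indep34 (h.cube a ha) (h.cube b hb) hab ha1 hba))
  have s1 := h.card_step X₀ hz0 ha ha1 c1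
  have s2 := h.card_step X₁ (h01 hz0) hb hb1 c2
  have s3 := h.card_step X₂ (h12 (h01 hz0)) hab_mem hab1 c3
  have s4 := h.card_step X₃ (h23 (h12 (h01 hz0))) hab'_mem hab'1 c4
  rw [← hX₁] at s1
  rw [← hX₂] at s2
  rw [← hX₃] at s3
  rw [← hX₄] at s4
  have h0 : Nat.card X₀ = 2 := by rw [hX₀, Nat.card_zpowers, h.ord]
  have hWX : W ≤ X₄ := by
    apply h.gen W _ le_rfl h.norm
    intro e he he1 x hx hxe
    rcases h.rep ha ha1 hb hba he he1 with r | r | r | r
    · have hm : x ∈ fixOf W a := mem_fixOf.2 ⟨hx, fix_of_mem_zpowers r hxe⟩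
      have : x ∈ X₁ := by rw [hX₁]; exact (le_sup_right : fixOf W a ≤ _) hm
      exact h34 (h23 (h12 this))
    · have hm : x ∈ fixOf W b := mem_fixOf.2 ⟨hx, fix_of_mem_zpowers r hxe⟩
      have : x ∈ X₂ := by rw [hX₂]; exact (le_sup_right : fixOf W b ≤ _) hm
      exact h34 (h23 this)
    · have hm : x ∈ fixOf W (a * b) := mem_fixOf.2 ⟨hx, fix_of_mem_zpowers r hxe⟩
      have : x ∈ X₃ := by rw [hX₃]; exact (le_sup_right : fixOf W (a * b) ≤ _) hm
      exact h34 this
    · have hm : x ∈ fixOf W (a * b⁻¹) := mem_fixOf.2 ⟨hx, fix_of_mem_zpowers r hxe⟩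
      rw [hX₄]; exact (le_sup_right : fixOf W (a * b⁻¹) ≤ _) hm
  have hXW : X₄ ≤ W := by
    rw [hX₄, hX₃, hX₂, hX₁, hX₀]
    exact sup_le (sup_le (sup_le (sup_le (by rw [Subgroup.zpowers_le]; exact h.zW)
      (fixOf_le _ _)) (fixOf_le _ _)) (fixOf_le _ _)) (fixOf_le _ _)
  have hW4 : Nat.card W = Nat.card X₄ := by rw [le_antisymm hWX hXW]
  obtain ⟨e₁, he₁, he₁1, hQ⟩ := h.exists_QL
  have h8 : 8 ≤ Nat.card W := by
    rw [← hQ.card]; exact Subgroup.card_le_of_le (fixOf_le W e₁)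
  have hne8 : Nat.card W ≠ 8 := by
    intro e8
    have : fixOf W e₁ = W :=
      Subgroup.eq_of_le_of_card_ge (fixOf_le W e₁) (by rw [hQ.card, e8])
    apply he₁1
    apply h.faith e₁ he₁
    intro w hw
    rw [← this] at hw
    exact (mem_fixOf.1 hw).2
  rw [hW4] at h8 hne8 ⊢
  norm_num
  omega

end OI

end Cfsg.Agent.Lib.helper97
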