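import Mathlib
import Cfsg.Agent.Lib.helper97.OneInvStruct
import Cfsg.Agent.Lib.helper16.QuatAut
import Cfsg.Agent.Lib.helper29.Rank2

/-!
A noncyclic abelian `p`-group (`p` odd) normalizing a `2`-group `W` faithfully so that every
nonidentity element centralizes at most one involution of `W`: internal form of the theorem
(helper97).
-/

set_option autoImplicit false

namespace Cfsg.Agent.Lib.helper97

open Subgroup

variable {G : Type*} [Group G]

/-- hypotheses of the internal theorem -/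
structure OIHyp (W E : Subgroup G) (p : ℕ) : Prop where
  pgrp : IsPGroup 2 W
  pE : IsPGroup p E
  comm : ∀ a ∈ E, ∀ b ∈ E, a * b = b * a
  norm : ∀ a ∈ E, ∀ w ∈ W, a * w * a⁻¹ ∈ W
  faith : ∀ a ∈ E, (∀ w ∈ W, a * w * a⁻¹ = w) → a = 1
  fix : ∀ e ∈ E, e ≠ 1 → ∀ x ∈ W, ∀ y ∈ W, orderOf x = 2 → orderOf y = 2 →
    e * x * e⁻¹ = x → e * y * e⁻¹ = y → x = y

namespace OIHyp

variable {W E : Subgroup G} {p : ℕ}

theorem fix_norm (h : OIHyp W E p) {e a : G} (he : e ∈ E) (ha : a ∈ E) :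
    ∀ x ∈ fixOf W e, a * x * a⁻¹ ∈ fixOf W e := by
  intro x hx
  rw [mem_fixOf] at hx ⊢
  refine ⟨h.norm a ha x hx.1, ?_⟩
  rw [conj_comm_of (h.comm a ha e he), hx.2]

theorem odd_order [Fact p.Prime] (h : OIHyp W E p) (hp2 : p ≠ 2) {g : G} (hg : g ∈ E) :
    Odd (orderOf g) := by
  obtain ⟨k, hk⟩ := h.pE ⟨g, hg⟩
  have hk' : g ^ (p ^ k) = 1 := by
    have := congrArg Subtype.val hk
    simpa using this
  have hdvd := orderOf_dvd_of_pow_eq_one hk'
  have hodd : Odd (p ^ k) := ((Fact.out : p.Prime).odd_of_ne_two hp2).pow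
  exact Odd.of_dvd_nat hodd hdvd

theorem dichot [Finite G] [Fact p.Prime] (h : OIHyp W E p) (hp2 : p ≠ 2) {e g : G}
    (he : e ∈ E) (he1 : e ≠ 1) (hg : g ∈ E) :
    (∀ x ∈ fixOf W e, g * x * g⁻¹ = x) ∨
    (Nat.card (fixOf W e) = 8 ∧ (¬ ∀ x y : fixOf W e, x * y = y * x) ∧ 3 ∣ orderOf g ∧
      ∀ x ∈ fixOf W e, g ^ 3 * x * (g ^ 3)⁻¹ = x) := by
  have hR : IsPGroup 2 (fixOf W e) := h.pgrp.to_le (fixOf_le W e)
  have hU : Cfsg.Agent.Lib.helper59.UniqueOrderP 2 (fixOf W e) := by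
    apply Cfsg.Agent.Lib.helper16.QuatAut.uniqueOrderP_of 2
    intro x y hx1 hy1 hx2 hy2
    have hx1' : (x : G) ≠ 1 := fun e0 => hx1 (Subtype.ext e0)
    have hy1' : (y : G) ≠ 1 := fun e0 => hy1 (Subtype.ext e0)
    have hx2' : (x : G) ^ 2 = 1 := by
      have := congrArg Subtype.val hx2
      simpa using this
    have hy2' : (y : G) ^ 2 = 1 := by
      have := congrArg Subtype.val hy2
      simpa using this
    have hox : orderOf (x : G) = 2 := orderOf_eq_prime hx2' hx1'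
    have hoy : orderOf (y : G) = 2 := orderOf_eq_prime hy2' hy1'
    have hxm := mem_fixOf.1 x.2
    have hym := mem_fixOf.1 y.2
    have := h.fix e he he1 x hxm.1 y hym.1 hox hoy hxm.2 hym.2
    have hxy : x = y := Subtype.ext this
    rw [← hxy]
    exact Subgroup.mem_zpowers x
  have hgn : g ∈ Subgroup.normalizer ((fixOf W e : Subgroup G) : Set G) :=
    mem_normalizer_of _ g (h.fix_norm he hg) (h.fix_norm he (E.inv_mem hg))
  rcases Cfsg.Agent.Lib.helper16.QuatAut.normalizer_odd (fixOf W e) hR hU g hgn (orderOf g)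
    (h.odd_order hp2 hg) (pow_orderOf_eq_one g) with h1 | ⟨h8, hnc, h3, hc⟩
  · left
    intro x hx
    rw [Subgroup.mem_centralizer_iff] at h1
    rw [← h1 x hx, mul_assoc, mul_inv_cancel, mul_one]
  · right
    refine ⟨h8, hnc, h3, ?_⟩
    intro x hx
    rw [Subgroup.mem_centralizer_iff] at hc
    rw [← hc x hx, mul_assoc, mul_inv_cancel, mul_one]

/-- the prime is `3` and some subgroup of order `9` is in the standing configuration -/
theorem setup [Finite G] [Fact p.Prime] (h : OIHyp W E p) (hp2 : p ≠ 2) (hcyc : ¬ IsCyclic E) :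
    p = 3 ∧ ∃ A : Subgroup G, A ≤ E ∧ ∃ z, OI W A z := by
  have hpP : p.Prime := Fact.out
  have hcomm : IsMulCommutative E := ⟨⟨fun a b => Subtype.ext (h.comm a.1 a.2 b.1 b.2)⟩⟩
  obtain ⟨q, E₀, hq, hE₀E, hE₀el, hE₀card⟩ :=
    Cfsg.Agent.Lib.helper29.exists_elementaryAbelian_of_not_isCyclic E hcyc
  have hqf : Fact q.Prime := ⟨hq⟩
  have hE₀nt : ∃ a ∈ E₀, a ≠ 1 := by
    by_contra hcon
    push Not at hcon
    have : E₀ = ⊥ := (Subgroup.eq_bot_iff_forall E₀).2 hcon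
    rw [this, Subgroup.card_bot] at hE₀card
    have := hq.two_le
    nlinarith
  obtain ⟨a, ha, ha1⟩ := hE₀nt
  have haq : a ^ q = 1 := hE₀el.2 a ha
  have hoa : orderOf a = q := orderOf_eq_prime haq ha1
  have hqp : q = p := by
    obtain ⟨k, hk⟩ := h.pE ⟨a, hE₀E ha⟩
    have hk' : a ^ (p ^ k) = 1 := by
      have := congrArg Subtype.val hk
      simpa using this
    have hdvd := orderOf_dvd_of_pow_eq_one hk'
    rw [hoa] at hdvd
    exact (Nat.prime_dvd_prime_iff_eq hq hpP).1 (hq.dvd_of_dvd_pow hdvd)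
  have hE₀p : ∀ x ∈ E₀, x ^ p = 1 := by
    intro x hx
    rw [← hqp]
    exact hE₀el.2 x hx
  rw [hqp] at hoa hE₀card
  have hb : ∃ b ∈ E₀, b ∉ Subgroup.zpowers a := by
    by_contra hcon
    push Not at hcon
    have hle : E₀ ≤ Subgroup.zpowers a := hcon
    have h1 := Subgroup.card_le_of_le hle
    rw [Nat.card_zpowers, hoa] at h1
    have := hpP.two_le
    nlinarith
  obtain ⟨b, hb, hba⟩ := hb
  obtain ⟨A, hA⟩ : ∃ A, A = Subgroup.zpowers a ⊔ Subgroup.zpowers b := ⟨_, rfl⟩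
  have hAE₀ : A ≤ E₀ := by
    rw [hA]
    exact sup_le (by rw [Subgroup.zpowers_le]; exact ha) (by rw [Subgroup.zpowers_le]; exact hb)
  have hAE : A ≤ E := hAE₀.trans hE₀E
  have haA : a ∈ A := by
    rw [hA]
    exact (le_sup_left : Subgroup.zpowers a ≤ _) (Subgroup.mem_zpowers a)
  have hcomm_b : ∀ e ∈ Subgroup.zpowers a, b * e = e * b := by
    intro e he
    have heE₀ : e ∈ E₀ :=
      (show Subgroup.zpowers a ≤ E₀ by rw [Subgroup.zpowers_le]; exact ha) he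
    exact h.comm b (hE₀E hb) e (hE₀E heE₀)
  have hAcard : Nat.card A = p * p := by
    rw [hA, Cfsg.Agent.Lib.helper3.card_sup_zpowers (p := p) (Subgroup.zpowers a) b hba
      (hE₀p b hb) hcomm_b, Nat.card_zpowers, hoa]
  have hAc : ∀ x ∈ A, ∀ y ∈ A, x * y = y * x := fun x hx y hy => h.comm x (hAE hx) y (hAE hy)
  have hAp : ∀ x ∈ A, x ^ p = 1 := fun x hx => hE₀p x (hAE₀ hx)
  have hAn : ∀ x ∈ A, ∀ w ∈ W, x * w * x⁻¹ ∈ W := fun x hx => h.norm x (hAE hx)
  have hpW : ¬ p ∣ Nat.card W := by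
    obtain ⟨n, hn⟩ := IsPGroup.iff_card.mp h.pgrp
    rw [hn]
    intro hd
    have := (Nat.prime_dvd_prime_iff_eq hpP Nat.prime_two).1 (hpP.dvd_of_dvd_pow hd)
    exact hp2 this
  have hplt : p < Nat.card A := by
    rw [hAcard]
    have := hpP.two_le
    nlinarith
  have hex : ∃ e₁ ∈ A, e₁ ≠ 1 ∧ ∃ g₁ ∈ A, ∃ x₁ ∈ fixOf W e₁, g₁ * x₁ * g₁⁻¹ ≠ x₁ := by
    by_contra hcon
    have hle : W ≤ fixOf W a := by
      apply gen_le p A W _ hAc hAp hplt hpW hAn
      intro e he he1 x hx hxe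
      rw [mem_fixOf]
      refine ⟨hx, ?_⟩
      by_contra hne
      exact hcon ⟨e, he, he1, a, haA, x, mem_fixOf.2 ⟨hx, hxe⟩, hne⟩
    apply ha1
    apply h.faith a (hAE haA)
    intro w hw
    exact (mem_fixOf.1 (hle hw)).2
  obtain ⟨e₁, he₁, he₁1, g₁, hg₁, x₁, hx₁, hx₁g⟩ := hex
  have hd1 := h.dichot hp2 (hAE he₁) he₁1 (hAE hg₁)
  have hd1' : Nat.card (fixOf W e₁) = 8 ∧ (¬ ∀ x y : fixOf W e₁, x * y = y * x) ∧
      3 ∣ orderOf g₁ := by
    rcases hd1 with h1 | ⟨h8, hnc, h3, -⟩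
    · exact absurd (h1 x₁ hx₁) hx₁g
    · exact ⟨h8, hnc, h3⟩
  obtain ⟨h8, hnc, h3⟩ := hd1'
  have hp3 : p = 3 := by
    have hdvd : orderOf g₁ ∣ p := orderOf_dvd_of_pow_eq_one (hAp g₁ hg₁)
    exact ((Nat.prime_dvd_prime_iff_eq Nat.prime_three hpP).1 (h3.trans hdvd)).symm
  refine ⟨hp3, A, hAE, ?_⟩
  subst hp3
  have hu : ∀ x ∈ fixOf W e₁, ∀ y ∈ fixOf W e₁, orderOf x = 2 → orderOf y = 2 → x = y := by
    intro x hx y hy hox hoy
    exact h.fix e₁ (hAE he₁) he₁1 x (mem_fixOf.1 hx).1 y (mem_fixOf.1 hy).1 hox hoy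
      (mem_fixOf.1 hx).2 (mem_fixOf.1 hy).2
  obtain ⟨z, hQ₁⟩ := QL.of_card_eight (fixOf W e₁) h8 hnc hu
  have hzW : z ∈ W := fixOf_le W e₁ hQ₁.mem
  have hzE : ∀ g ∈ E, g * z * g⁻¹ = z := fun g hg => hQ₁.conj_z (h.fix_norm (hAE he₁) hg)
  have hfixA : ∀ x ∈ W, (∀ a ∈ A, a * x * a⁻¹ = x) → x = 1 ∨ x = z := by
    intro x hx hxA
    exact hQ₁.fixed_sub (h.fix_norm (hAE he₁) (hAE hg₁)) (QL.cube_comm (hAp g₁ hg₁))
      ⟨x₁, hx₁, hx₁g⟩ (mem_fixOf.2 ⟨hx, hxA e₁ he₁⟩) (hxA g₁ hg₁)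
  have hdich : ∀ e ∈ A, e ≠ 1 → (∀ x ∈ fixOf W e, x = 1 ∨ x = z) ∨ QL (fixOf W e) z := by
    intro e he he1
    by_cases hall : ∀ g ∈ A, ∀ x ∈ fixOf W e, g * x * g⁻¹ = x
    · left
      intro x hx
      exact hfixA x (fixOf_le W e hx) (fun a ha => hall a ha x hx)
    · right
      push Not at hall
      obtain ⟨g, hg, x, hx, hxg⟩ := hall
      rcases h.dichot hp2 (hAE he) he1 (hAE hg) with h1 | ⟨h8', hnc', -, -⟩
      · exact absurd (h1 x hx) hxg
      · have hu' : ∀ x ∈ fixOf W e, ∀ y ∈ fixOf W e, orderOf x = 2 → orderOf y = 2 →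
            x = y := by
          intro x hx y hy hox hoy
          exact h.fix e (hAE he) he1 x (mem_fixOf.1 hx).1 y (mem_fixOf.1 hy).1 hox hoy
            (mem_fixOf.1 hx).2 (mem_fixOf.1 hy).2
        obtain ⟨z', hQ'⟩ := QL.of_card_eight (fixOf W e) h8' hnc' hu'
        have hzC : z ∈ fixOf W e := mem_fixOf.2 ⟨hzW, hzE e (hAE he)⟩
        have : z = z' := hQ'.eq_z_of_orderOf_two hzC hQ₁.ord
        rw [this]
        exact hQ'
  have hzcen : ∀ w ∈ W, w * z = z * w := by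
    have hle : W ≤ Subgroup.centralizer {z} := by
      apply gen_le 3 A W _ hAc hAp hplt hpW hAn
      intro e he he1 x hx hxe
      rw [Subgroup.mem_centralizer_iff]
      intro w hw
      rw [Set.mem_singleton_iff] at hw
      rw [hw]
      have hxC : x ∈ fixOf W e := mem_fixOf.2 ⟨hx, hxe⟩
      rcases hdich e he he1 with h1 | h1
      · rcases h1 x hxC with e0 | e0
        · rw [e0, mul_one, one_mul]
        · rw [e0]
      · exact (h1.comm_z hxC).symm
    intro w hw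
    have := hle hw
    rw [Subgroup.mem_centralizer_iff] at this
    exact (this z rfl).symm
  have hact : ∀ e ∈ A, e ≠ 1 → ∀ g ∈ A, g ∉ Subgroup.zpowers e → QL (fixOf W e) z →
      ∃ d ∈ fixOf W e, g * d * g⁻¹ ≠ d := by
    intro e he he1 g hg hge hQ
    by_contra hcon
    push Not at hcon
    have hoe : orderOf e = 3 := orderOf_eq_prime (hAp e he) he1
    have hcomm_g : ∀ x ∈ Subgroup.zpowers e, g * x = x * g := by
      intro x hx
      have hxA : x ∈ A := (show Subgroup.zpowers e ≤ A by rw [Subgroup.zpowers_le]; exact he) hx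
      exact hAc g hg x hxA
    have hcard : Nat.card (Subgroup.zpowers e ⊔ Subgroup.zpowers g : Subgroup G) = 3 * 3 := by
      rw [Cfsg.Agent.Lib.helper3.card_sup_zpowers (p := 3) (Subgroup.zpowers e) g hge
        (hAp g hg) hcomm_g, Nat.card_zpowers, hoe]
    have hle : Subgroup.zpowers e ⊔ Subgroup.zpowers g ≤ A :=
      sup_le (by rw [Subgroup.zpowers_le]; exact he) (by rw [Subgroup.zpowers_le]; exact hg)
    have heq : Subgroup.zpowers e ⊔ Subgroup.zpowers g = A :=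
      Subgroup.eq_of_le_of_card_ge hle (by rw [hcard, hAcard])
    have hAS : A ≤ Subgroup.centralizer (fixOf W e : Set G) := by
      rw [← heq]
      refine sup_le ?_ ?_
      · rw [Subgroup.zpowers_le, Subgroup.mem_centralizer_iff]
        intro x hx
        exact (mul_inv_eq_iff_eq_mul.1 (mem_fixOf.1 hx).2).symm
      · rw [Subgroup.zpowers_le, Subgroup.mem_centralizer_iff]
        intro x hx
        exact (mul_inv_eq_iff_eq_mul.1 (hcon x hx)).symm
    obtain ⟨c, hc, hc1, hcz⟩ := hQ.exists_ne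
    have := hfixA c (fixOf_le W e hc) (fun a ha => by
      have h1 := hAS ha
      rw [Subgroup.mem_centralizer_iff] at h1
      rw [← h1 c hc, mul_assoc, mul_inv_cancel, mul_one])
    rcases this with e0 | e0
    exacts [hc1 e0, hcz e0]
  refine ⟨z, ?_⟩
  exact
    { pgrp := h.pgrp
      card := hAcard.trans (by norm_num)
      cube := hAp
      comm := hAc
      norm := hAn
      zW := hzW
      ord := hQ₁.ord
      zfix := fun a ha => hzE a (hAE ha)
      zcen := hzcen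
      dich := hdich
      act := hact
      faith := fun a ha => h.faith a (hAE ha) }

/-- the acting group is the subgroup of order `9` -/
theorem le_of_OI [Finite G] (h : OIHyp W E 3) {A : Subgroup G} {z : G} (hA : A ≤ E)
    (hO : OI W A z) : E ≤ A := by
  have : Fact (Nat.Prime 3) := ⟨Nat.prime_three⟩
  have hp2 : (3 : ℕ) ≠ 2 := by norm_num
  have hE3 : ∀ g ∈ E, g ^ 3 = 1 := by
    intro g hg
    apply h.faith (g ^ 3) (E.pow_mem hg 3)
    have hle : W ≤ fixOf W (g ^ 3) := by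
      apply hO.gen W _ le_rfl hO.norm
      intro e he he1 x hx hxe
      have hxC : x ∈ fixOf W e := mem_fixOf.2 ⟨hx, hxe⟩
      rw [mem_fixOf]
      refine ⟨hx, ?_⟩
      rcases h.dichot hp2 (hA he) he1 hg with h1 | ⟨-, -, -, h3⟩
      · rw [QL.conj_cube, h1 x hxC, h1 x hxC, h1 x hxC]
      · exact h3 x hxC
    intro w hw
    exact (mem_fixOf.1 (hle hw)).2
  obtain ⟨e, he, he1, e', he', hee', hQ, hQ'⟩ := hO.exists_QL2
  have he'1 : e' ≠ 1 := by
    intro e0
    apply hee'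
    rw [e0]
    exact Subgroup.one_mem _
  have hee : e ∉ Subgroup.zpowers e' := by
    intro h1
    exact hee' (gen_of_mem (hO.cube e' he') h1 he1)
  intro g hg
  by_contra hgA
  have step1 : ∃ g' ∈ E, g' ∉ A ∧ ∀ x ∈ fixOf W e, g' * x * g'⁻¹ = x := by
    by_cases hgc : ∀ x ∈ fixOf W e, g * x * g⁻¹ = x
    · exact ⟨g, hg, hgA, hgc⟩
    · push Not at hgc
      rcases hQ.two_acts (h.fix_norm (hA he) hg) (hO.fix_norm he he') (hE3 g hg)
        (hO.cube e' he') (h.comm g hg e' (hA he')) hgc (hO.act e he he1 e' he' hee' hQ)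
        with h1 | h1
      · refine ⟨g * e', E.mul_mem hg (hA he'), ?_, h1⟩
        intro hm
        apply hgA
        have := A.mul_mem hm (A.inv_mem he')
        simpa using this
      · refine ⟨g⁻¹ * e', E.mul_mem (E.inv_mem hg) (hA he'), ?_, h1⟩
        intro hm
        apply hgA
        have := A.mul_mem hm (A.inv_mem he')
        have h2 : g⁻¹ ∈ A := by simpa using this
        simpa using A.inv_mem h2
  obtain ⟨g', hg', hg'A, hg'c⟩ := step1
  have step2 : ∃ g'' ∈ E, g'' ∉ A ∧ (∀ x ∈ fixOf W e, g'' * x * g''⁻¹ = x) ∧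
      ∀ x ∈ fixOf W e', g'' * x * g''⁻¹ = x := by
    by_cases hgc : ∀ x ∈ fixOf W e', g' * x * g'⁻¹ = x
    · exact ⟨g', hg', hg'A, hg'c, hgc⟩
    · push Not at hgc
      have hec : ∀ x ∈ fixOf W e, e * x * e⁻¹ = x := fun x hx => (mem_fixOf.1 hx).2
      have hg'ci : ∀ x ∈ fixOf W e, g'⁻¹ * x * g'⁻¹⁻¹ = x := by
        intro x hx
        calc g'⁻¹ * x * g'⁻¹⁻¹ = g'⁻¹ * (g' * x * g'⁻¹) * g'⁻¹⁻¹ := by rw [hg'c x hx]
          _ = x := by group
      rcases hQ'.two_acts (h.fix_norm (hA he') hg') (hO.fix_norm he' he) (hE3 g' hg')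
        (hO.cube e he) (h.comm g' hg' e (hA he)) hgc (hO.act e' he' he'1 e he hee hQ')
        with h1 | h1
      · refine ⟨g' * e, E.mul_mem hg' (hA he), ?_, ?_, h1⟩
        · intro hm
          apply hg'A
          have := A.mul_mem hm (A.inv_mem he)
          simpa using this
        · intro x hx
          have e0 : (g' * e) * x * (g' * e)⁻¹ = g' * (e * x * e⁻¹) * g'⁻¹ := by group
          rw [e0, hec x hx, hg'c x hx]
      · refine ⟨g'⁻¹ * e, E.mul_mem (E.inv_mem hg') (hA he), ?_, ?_, h1⟩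
        · intro hm
          apply hg'A
          have := A.mul_mem hm (A.inv_mem he)
          have h2 : g'⁻¹ ∈ A := by simpa using this
          simpa using A.inv_mem h2
        · intro x hx
          have e0 : (g'⁻¹ * e) * x * (g'⁻¹ * e)⁻¹ = g'⁻¹ * (e * x * e⁻¹) * g'⁻¹⁻¹ := by group
          rw [e0, hec x hx, hg'ci x hx]
  obtain ⟨g'', hg'', hg''A, hcen1, hcen2⟩ := step2
  have hg''1 : g'' ≠ 1 := by
    intro e0
    apply hg''A
    rw [e0]
    exact A.one_mem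
  obtain ⟨c, hc, hc1, hcz⟩ := hQ.exists_ne
  obtain ⟨d, hd, hd1, hdz⟩ := hQ'.exists_ne
  have hcd : c * d = d * c := hO.commute he he1 he' hee' hc hd
  have hz2 := hO.z_mul_z
  have hint : ∀ x ∈ fixOf W e, x ∈ fixOf W e' → x = 1 ∨ x = z := by
    intro x hx hx'
    exact hQ.fixed_sub (hO.fix_norm he he') (QL.cube_comm (hO.cube e' he'))
      (hO.act e he he1 e' he' hee' hQ) hx (mem_fixOf.1 hx').2
  have hu1 : c * d ≠ 1 := by
    intro e0
    have hd' : d = c⁻¹ := (inv_eq_of_mul_eq_one_right e0).symm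
    have : d ∈ fixOf W e := by
      rw [hd']
      exact Subgroup.inv_mem _ hc
    rcases hint d this hd with e1 | e1
    exacts [hd1 e1, hdz e1]
  have huz : c * d ≠ z := by
    intro e0
    have hd' : d = c⁻¹ * z := by
      rw [← e0]
      group
    have : d ∈ fixOf W e := by
      rw [hd']
      exact Subgroup.mul_mem _ (Subgroup.inv_mem _ hc) hQ.mem
    rcases hint d this hd with e1 | e1
    exacts [hd1 e1, hdz e1]
  have husq : (c * d) ^ 2 = 1 := by
    have hcc : c * c = z := hQ.sq c hc hc1 hcz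
    have hdd : d * d = z := hQ'.sq d hd hd1 hdz
    calc (c * d) ^ 2 = c * (d * c) * d := by rw [pow_two]; group
      _ = c * (c * d) * d := by rw [hcd]
      _ = (c * c) * (d * d) := by group
      _ = 1 := by rw [hcc, hdd, hz2]
  have hou : orderOf (c * d) = 2 := orderOf_eq_prime husq hu1
  have hcdW : c * d ∈ W := W.mul_mem (fixOf_le W e hc) (fixOf_le W e' hd)
  have hfixu : g'' * (c * d) * g''⁻¹ = c * d := by
    rw [QL.cmul, hcen1 c hc, hcen2 d hd]
  have hfixz : g'' * z * g''⁻¹ = z := hcen1 z hQ.mem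
  exact huz (h.fix g'' hg'' hg''1 (c * d) hcdW z hO.zW hou hO.ord hfixu hfixz)

/-- the internal theorem -/
theorem main [Finite G] [Fact p.Prime] (h : OIHyp W E p) (hp2 : p ≠ 2) (hcyc : ¬ IsCyclic E) :
    Nat.card E = 9 ∧ (Nat.card W = 2 ^ 5 ∨ Nat.card W = 2 ^ 7 ∨ Nat.card W = 2 ^ 9) ∧
    ∃ z ∈ W, orderOf z = 2 ∧ (∀ w ∈ W, w * z = z * w) ∧
      (∀ x ∈ W, (∀ y ∈ W, x * y = y * x) → x = 1 ∨ x = z) ∧
      (∀ x ∈ W, ∀ y ∈ W, x * y * x⁻¹ = y ∨ x * y * x⁻¹ = y * z) ∧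
      (∀ x ∈ W, x * x = 1 ∨ x * x = z) ∧ (∃ x ∈ W, ∃ y ∈ W, x * y ≠ y * x) ∧
      (∀ x ∈ W, (∀ e ∈ E, e * x * e⁻¹ = x) → x = 1 ∨ x = z) ∧ (∀ e ∈ E, e * z * e⁻¹ = z) := by
  obtain ⟨hp3, A, hAE, z, hO⟩ := h.setup hp2 hcyc
  subst hp3
  have hEA : E ≤ A := h.le_of_OI hAE hO
  have hEq : E = A := le_antisymm hEA hAE
  refine ⟨by rw [hEq]; exact hO.card, hO.card_W, z, hO.zW, hO.ord, hO.zcen,
    fun x hx hc => hO.center_sub hx hc, hO.twist_all, hO.sq_all, hO.exists_not_comm, ?_, ?_⟩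
  · intro x hx hfix
    exact hO.fixed_all hx (fun a ha => hfix a (hAE ha))
  · intro e he
    exact hO.zfix e (hEA he)

end OIHyp

end Cfsg.Agent.Lib.helper97
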