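import Mathlib
import Cfsg.Agent.Lib.helper97.PNilp

/-!
# Elementwise Frattini argument and congruence tools (helper97)
-/

set_option autoImplicit false

namespace Cfsg.Agent.Lib.helper97

/-- Elementwise Frattini argument: if the Sylow `q`-subgroup `R` of `G` lies in `C` and `g`
normalizes `C` (in the weak form `g C g⁻¹ ⊆ C`), then `c * g` normalizes `R` for some `c ∈ C`. -/
theorem frattini_elt {G : Type*} [Group G] [Finite G] {q : ℕ} [Fact q.Prime] (C : Subgroup G)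
    (R : Sylow q G) (hRC : (R : Subgroup G) ≤ C) (g : G) (hg : ∀ c ∈ C, g * c * g⁻¹ ∈ C) :
    ∃ c ∈ C, c * g ∈ Subgroup.normalizer ((R : Subgroup G) : Set G) := by
  have hmem : ∀ y : G, y ∈ ((g • R : Sylow q G) : Subgroup G) ↔ g⁻¹ * y * g ∈ (R : Subgroup G) := by
    intro y
    rw [Sylow.coe_subgroup_smul, Subgroup.mem_pointwise_smul_iff_inv_smul_mem]
    simp [MulAut.smul_def]
  have hgRC : ((g • R : Sylow q G) : Subgroup G) ≤ C := by
    intro y hy
    rw [hmem] at hy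
    have := hg _ (hRC hy)
    have e : g * (g⁻¹ * y * g) * g⁻¹ = y := by group
    rwa [e] at this
  obtain ⟨c, hc⟩ := MulAction.exists_smul_eq C ((g • R).subtype hgRC) (R.subtype hRC)
  refine ⟨c, c.2, ?_⟩
  apply mem_normalizer_of_forall_conj_mem
  intro w hw
  -- w' = g w g⁻¹ ∈ g • R, inside C
  have h1 : g * w * g⁻¹ ∈ ((g • R : Sylow q G) : Subgroup G) := by
    rw [hmem]
    have e : g⁻¹ * (g * w * g⁻¹) * g = w := by group
    rwa [e]
  have h2 : (⟨g * w * g⁻¹, hgRC h1⟩ : C) ∈ (((g • R).subtype hgRC : Sylow q C) : Subgroup C) := by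
    rw [Sylow.coe_subtype, Subgroup.mem_subgroupOf]
    exact h1
  have h3 : c * (⟨g * w * g⁻¹, hgRC h1⟩ : C) * c⁻¹ ∈
      ((c • (g • R).subtype hgRC : Sylow q C) : Subgroup C) := by
    rw [Sylow.coe_subgroup_smul, Subgroup.mem_pointwise_smul_iff_inv_smul_mem]
    simp only [MulAut.smul_def, MulAut.conj_inv_apply]
    have e : c⁻¹ * (c * (⟨g * w * g⁻¹, hgRC h1⟩ : C) * c⁻¹) * c = ⟨g * w * g⁻¹, hgRC h1⟩ := by
      group
    rw [e]
    exact h2
  rw [hc, Sylow.coe_subtype, Subgroup.mem_subgroupOf] at h3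
  have e : (c : G) * g * w * ((c : G) * g)⁻¹ = ((c * (⟨g * w * g⁻¹, hgRC h1⟩ : C) * c⁻¹ : C) : G) := by
    push_cast
    group
  rw [e]
  exact h3

/-- If `g = c₁ u c₂` with `c₁, c₂` in a subgroup `C` normalized by `u`, the order of `g` prime to
`p` and `u` a `p`-element, then `u ∈ C` (hence `g ∈ C`). -/
theorem mem_of_pprime_congr {G : Type*} [Group G] [Finite G] {p : ℕ} [Fact p.Prime]
    (C : Subgroup G) (g u : G) (hu : ∀ c ∈ C, u⁻¹ * c * u ∈ C)
    (hgu : u⁻¹ * g ∈ C) (hcop : (orderOf g).Coprime p) (hup : ∃ k : ℕ, u ^ p ^ k = 1) :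
    u ∈ C := by
  have key : ∀ j : ℕ, (u ^ j)⁻¹ * g ^ j ∈ C := by
    intro j
    induction j with
    | zero => simp
    | succ j ih =>
      have h1 := hu _ ih
      have h2 := C.mul_mem h1 hgu
      have e : u⁻¹ * ((u ^ j)⁻¹ * g ^ j) * u * (u⁻¹ * g) = (u ^ (j + 1))⁻¹ * g ^ (j + 1) := by
        rw [pow_succ, pow_succ]; group
      rwa [e] at h2
  have h1 := key (orderOf g)
  rw [pow_orderOf_eq_one, mul_one] at h1
  have h2 : u ^ orderOf g ∈ C := by simpa using C.inv_mem h1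
  obtain ⟨k, hk⟩ := hup
  have h3 : (orderOf g).Coprime (orderOf u) := by
    have : orderOf u ∣ p ^ k := orderOf_dvd_of_pow_eq_one hk
    exact Nat.Coprime.coprime_dvd_right this (Nat.Coprime.pow_right k hcop)
  obtain ⟨m, hm⟩ := exists_pow_eq_self_of_coprime h3
  rw [← hm]
  exact C.pow_mem h2 m

end Cfsg.Agent.Lib.helper97
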