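import Mathlib
import Cfsg.Agent.Lib.helper68.HallPet
import Cfsg.Agent.Lib.helper65.PearlDefs
import Cfsg.Agent.Lib.helper65.PearlBasic

/-!
# S5238L piece I2 (`rel_dl_ph`), racer copy (helper97)
-/

set_option autoImplicit false

namespace Cfsg.Agent.Lib.helper65.PearlPow

open Cfsg.Agent.Lib.helper68

variable {H : Type*} [Group H]

/-- I2 (racer copy). -/
theorem h97_rel_dl_ph {v : ℕ} (x : H) {s : ℕ → H} (hs : PolySeq v s) :
    Rel (2 * v + 2) (ph x (dl s)) (dl (ph x s)) := by
  unfold Rel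
  have hd : PolySeq (v + 1) (dl s) := PolySeq.diff hs
  have h1 : PolySeq (2 * v + 2) (fun n => com (ph x s n) (dl s n)) :=
    PolySeq.mono (by omega) (PolySeq.comm (polyseq_ph x hs) hd)
  have h2 := polyseq_conj h1 (polyseq_ph x hd)
  have e : (fun n => (ph x (dl s) n)⁻¹ * dl (ph x s) n) =
      fun n => (ph x (dl s) n)⁻¹ * com (ph x s n) (dl s n) * ph x (dl s) n := by
    funext n
    unfold ph dl com
    group
  rw [e]
  exact h2

end Cfsg.Agent.Lib.helper65.PearlPow
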