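import Mathlib
import Cfsg.Agent.Lib.helper68.HallPet
import Cfsg.Agent.Lib.helper65.PearlDefs
import Cfsg.Agent.Lib.helper65.PearlBasic
import Cfsg.Agent.Lib.helper97.PearlScore
import Cfsg.Agent.Lib.helper97.PearlD2
import Cfsg.Agent.Lib.helper97.PearlI2

/-!
# S5238L piece S (`s_claim`), racer copy (helper97): core + own racer copies of I2 and D2
-/

set_option autoImplicit false

namespace Cfsg.Agent.Lib.helper65.PearlPow

open Cfsg.Agent.Lib.helper68

variable {H : Type*} [Group H]

/-- S (racer copy). -/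
theorem h97_s_claim (x g : H) {w : ℕ} (hw : 1 ≤ w) (hg : g ∈ gam H w) (j : ℕ) :
    Rel (w + j + 2) ((ph x)^[j] (dl (tt x g))) (dl ((ph x)^[j] (tt x g))) :=
  h97_s_claim_core (fun x _ hs => h97_rel_dl_ph x hs) (fun x _ _ hs h => h97_rel_ph x hs h)
    x g hw hg j

end Cfsg.Agent.Lib.helper65.PearlPow
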