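import Mathlib

set_option autoImplicit false

namespace Cfsg.Agent.Lib.helper45.RU

/-- Lucas: `binom(m, p^e) ≡ ⌊m / p^e⌋ (mod p)`. -/
theorem h97_choose_pow_modEq (p : ℕ) [Fact p.Prime] (e : ℕ) :
    ∀ m : ℕ, m.choose (p ^ e) ≡ m / p ^ e [MOD p] := by
  induction e with
  | zero => intro m; simp [Nat.ModEq]
  | succ e ih =>
    intro m
    have h1 := Choose.choose_modEq_choose_mod_mul_choose_div_nat (p := p) (n := m)
      (k := p ^ (e + 1))
    have h2 : p ^ (e + 1) % p = 0 := by rw [pow_succ]; exact Nat.mul_mod_left _ _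
    have h3 : p ^ (e + 1) / p = p ^ e := by
      rw [pow_succ]; exact Nat.mul_div_cancel _ (Fact.out : p.Prime).pos
    rw [h2, h3, Nat.choose_zero_right, one_mul] at h1
    have h4 : m / p / p ^ e = m / p ^ (e + 1) := by
      rw [Nat.div_div_eq_div_mul, pow_succ']
    exact h1.trans (h4 ▸ ih (m / p))

/-- E, racing copy of `choose_not_dvd` (verbatim statement, prefixed name). -/
theorem h97_choose_not_dvd (p : ℕ) (hp : p.Prime) (e n' : ℕ) (hn' : ¬ p ∣ n') :
    ¬ p ∣ (p ^ e * n' + p ^ e - 1).choose (p ^ e) := by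
  have : Fact p.Prime := ⟨hp⟩
  have h1 := h97_choose_pow_modEq p e (p ^ e * n' + p ^ e - 1)
  have hpos : 0 < p ^ e := pow_pos hp.pos e
  have h2 : (p ^ e * n' + p ^ e - 1) / p ^ e = n' := by
    have h0 : p ^ e * n' + p ^ e - 1 = (p ^ e - 1) + p ^ e * n' := by omega
    rw [h0, Nat.add_mul_div_left _ _ hpos, Nat.div_eq_of_lt (by omega), zero_add]
  rw [h2] at h1
  intro hdvd
  apply hn'
  exact Nat.modEq_zero_iff_dvd.mp (h1.symm.trans (Nat.modEq_zero_iff_dvd.mpr hdvd))

end Cfsg.Agent.Lib.helper45.RU
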