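import Mathlib
import Cfsg.Agent.Lib.helper69.StemSylow

/-! S2111 piece B (`stepB`): lifts of the centre `t 0 w` commute with every lift of `t a b`. -/

set_option autoImplicit false

namespace Cfsg.Agent.Lib.helper97.S2111

open scoped commutatorElement
open Cfsg.Agent.Lib.helper69

/-- PIECE B: lifts of the centre `t 0 w` commute with every lift of `t a b`. -/
theorem helper97_stepB {G Γ F : Type*} [Group G] [Group Γ] [Field F] (σ : Γ →* G)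
    (hsurj : Function.Surjective σ) (hc : σ.ker ≤ Subgroup.center Γ) (e : ℕ) (he : e ≠ 0)
    (t : F → F → G) (ht : ∀ a b c d, t a b * t c d = t (a + c) (b + d + a ^ e * c))
    (htor : ∀ μ : F, μ ≠ 0 → ∃ h : G, ∀ a b, h * t a b * h⁻¹ = t (μ * a) (μ * μ ^ e * b))
    (hA : ∀ x y : Γ, (∃ b, σ x = t 0 b) → (∃ b, σ y = t 0 b) → x * y = y * x)
    (hpair : ∀ B : F → F → Γ, (∀ s s' t, B (s + s') t = B s t * B s' t) →
      (∀ s t t', B s (t + t') = B s t * B s t') →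
      (∀ μ s t, μ ≠ 0 → B (μ * s) (μ * μ ^ e * t) = B s t) → ∀ s t, B s t = 1)
    (x y : Γ) (hx : ∃ a b, σ x = t a b) (hy : ∃ w, σ y = t 0 w) : x * y = y * x := by
  obtain ⟨ℓ, hℓ⟩ := hsurj.hasRightInverse
  have h0e : (0 : F) ^ e = 0 := zero_pow he
  -- products in the model
  have m1 : ∀ a b : F, t a 0 * t 0 b = t a b := by
    intro a b
    rw [ht]
    simp
  have m2 : ∀ a b w : F, t a b * t 0 w = t 0 w * t a b := by
    intro a b w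
    rw [ht, ht, h0e]
    simp [add_comm]
  have m3 : ∀ w w' : F, t 0 w * t 0 w' = t 0 (w + w') := by
    intro w w'
    rw [ht]
    simp
  have m4 : ∀ a a' : F, t a 0 * t a' 0 = t (a + a') 0 * t 0 (a ^ e * a') := by
    intro a a'
    rw [ht, ht]
    simp
  have hcen : ∀ x y : Γ, (∃ a b, σ x = t a b) → (∃ w, σ y = t 0 w) →
      ⁅x, y⁆ ∈ Subgroup.center Γ := by
    rintro x y ⟨a, b, hs⟩ ⟨w, hw⟩
    apply commutatorElement_mem_center_of_central σ hc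
    rw [hs, hw]
    exact m2 a b w
  have hone : ∀ b w : F, ⁅ℓ (t 0 b), ℓ (t 0 w)⁆ = 1 := by
    intro b w
    rw [commutatorElement_eq_one_iff_mul_comm]
    exact hA _ _ ⟨b, hℓ _⟩ ⟨w, hℓ _⟩
  have hB : ∀ a w, ⁅ℓ (t a 0), ℓ (t 0 w)⁆ = 1 := by
    apply hpair (fun a w => ⁅ℓ (t a 0), ℓ (t 0 w)⁆)
    · intro s s' w
      show ⁅ℓ (t (s + s') 0), ℓ (t 0 w)⁆ = ⁅ℓ (t s 0), ℓ (t 0 w)⁆ * ⁅ℓ (t s' 0), ℓ (t 0 w)⁆
      rw [← stem_commutatorElement_mul_left _ _ _ (hcen _ _ ⟨s', 0, hℓ _⟩ ⟨w, hℓ _⟩)]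
      have e1 : ⁅ℓ (t s 0) * ℓ (t s' 0), ℓ (t 0 w)⁆
          = ⁅ℓ (t (s + s') 0) * ℓ (t 0 (s ^ e * s')), ℓ (t 0 w)⁆ := by
        apply commutatorElement_congr_of_central σ hc
        · rw [map_mul, map_mul, hℓ, hℓ, hℓ, hℓ, m4]
        · rfl
      rw [e1, stem_commutatorElement_mul_left _ _ _ (hcen _ _ ⟨0, _, hℓ _⟩ ⟨w, hℓ _⟩), hone,
        mul_one]
    · intro s w w'
      show ⁅ℓ (t s 0), ℓ (t 0 (w + w'))⁆ = ⁅ℓ (t s 0), ℓ (t 0 w)⁆ * ⁅ℓ (t s 0), ℓ (t 0 w')⁆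
      rw [← stem_commutatorElement_mul_right _ _ _ (hcen _ _ ⟨s, 0, hℓ _⟩ ⟨w', hℓ _⟩)]
      apply commutatorElement_congr_of_central σ hc
      · rfl
      · rw [map_mul, hℓ, hℓ, hℓ, m3]
    · intro μ s w hμ
      show ⁅ℓ (t (μ * s) 0), ℓ (t 0 (μ * μ ^ e * w))⁆ = ⁅ℓ (t s 0), ℓ (t 0 w)⁆
      obtain ⟨h, hh⟩ := htor μ hμ
      rw [← commutatorElement_conj_of_central (ℓ h) _ _ (hcen _ _ ⟨s, 0, hℓ _⟩ ⟨w, hℓ _⟩)]
      apply commutatorElement_congr_of_central σ hc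
      · rw [map_mul, map_mul, map_inv, hℓ, hℓ, hℓ, hh, mul_zero]
      · rw [map_mul, map_mul, map_inv, hℓ, hℓ, hℓ, hh, mul_zero]
  obtain ⟨a, b, hs⟩ := hx
  obtain ⟨w, hw⟩ := hy
  have e2 : ⁅x, y⁆ = ⁅ℓ (t a 0) * ℓ (t 0 b), ℓ (t 0 w)⁆ := by
    apply commutatorElement_congr_of_central σ hc
    · rw [map_mul, hℓ, hℓ, hs, m1]
    · rw [hℓ, hw]
  rw [stem_commutatorElement_mul_left _ _ _ (hcen _ _ ⟨0, b, hℓ _⟩ ⟨w, hℓ _⟩), hB, hone, mul_one,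
    commutatorElement_eq_one_iff_mul_comm] at e2
  exact e2

end Cfsg.Agent.Lib.helper97.S2111
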