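import Mathlib

/-! S2111 piece F2 (`field_pt`): a field with `2^(2m+1)` elements, `m ≥ 2`, has a point `x ∉ {0, 1}`
at which `((x+1)(x+1)^e)⁻¹ + (x x^e)⁻¹ + 1 ≠ 0`, `e = 2^(m+1)` (polynomial root count). -/

set_option autoImplicit false

namespace Cfsg.Agent.Lib.helper97.S2111

open Polynomial

/-- Abstract form: `e ≥ 8`, `(x+1)^e = x^e + 1`, `2 = 0`, and `2e + 4 < |F|`. -/
theorem helper97_field_pt_aux {F : Type*} [Field F] [Fintype F] (e : ℕ) (h2 : (2 : F) = 0)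
    (hfrob : ∀ x : F, (x + 1) ^ e = x ^ e + 1) (he : e ≠ 0)
    (hcard : 2 * e + 4 < Fintype.card F) :
    ∃ x : F, x ≠ 0 ∧ x + 1 ≠ 0 ∧
      ((x + 1) * (x + 1) ^ e)⁻¹ + (x * x ^ e)⁻¹ + 1 ≠ 0 := by
  classical
  set P : F[X] := X ^ (2 * e + 2) + X ^ (2 * e + 1) + X ^ (e + 2) + X ^ (e + 1) + X ^ e + X + 1
    with hP
  have hev : ∀ x : F, P.eval x
      = x ^ (2 * e + 2) + x ^ (2 * e + 1) + x ^ (e + 2) + x ^ (e + 1) + x ^ e + x + 1 := by
    intro x
    simp [hP]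
  have hP0 : P ≠ 0 := by
    intro h0
    have h1 := hev 0
    rw [h0] at h1
    simp [he] at h1
  have hdeg : P.natDegree ≤ 2 * e + 2 := by
    rw [hP]
    compute_degree
    all_goals omega
  have hroots : P.roots.toFinset.card ≤ 2 * e + 2 :=
    (Multiset.toFinset_card_le _).trans ((Polynomial.card_roots' P).trans hdeg)
  have hS : (P.roots.toFinset ∪ {0, 1}).card ≤ 2 * e + 4 := by
    refine (Finset.card_union_le _ _).trans ?_
    have : ({0, 1} : Finset F).card ≤ 2 := Finset.card_insert_le _ _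
    omega
  have hex : ∃ x : F, x ∉ P.roots.toFinset ∪ {0, 1} := by
    by_contra hcon
    have hall : ∀ x : F, x ∈ P.roots.toFinset ∪ {0, 1} := by
      intro x
      by_contra hx
      exact hcon ⟨x, hx⟩
    have huniv : P.roots.toFinset ∪ {0, 1} = Finset.univ := Finset.eq_univ_iff_forall.mpr hall
    rw [huniv, Finset.card_univ] at hS
    omega
  obtain ⟨x, hx⟩ := hex
  rw [Finset.mem_union, not_or] at hx
  obtain ⟨hxr, hx01⟩ := hx
  have hx0 : x ≠ 0 := by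
    intro h
    apply hx01
    rw [h]
    exact Finset.mem_insert_self _ _
  have hx1' : x ≠ 1 := by
    intro h
    apply hx01
    rw [h]
    exact Finset.mem_insert_of_mem (Finset.mem_singleton_self _)
  have hx1 : x + 1 ≠ 0 := by
    intro h
    apply hx1'
    linear_combination h - h2
  have hPx : P.eval x ≠ 0 := by
    intro h
    apply hxr
    rw [Multiset.mem_toFinset, Polynomial.mem_roots hP0]
    exact h
  refine ⟨x, hx0, hx1, ?_⟩
  intro hk
  apply hPx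
  have hA : x * x ^ e ≠ 0 := mul_ne_zero hx0 (pow_ne_zero e hx0)
  have hB : (x + 1) * (x + 1) ^ e ≠ 0 := mul_ne_zero hx1 (pow_ne_zero e hx1)
  have h3 : x * x ^ e + (x + 1) * (x + 1) ^ e + (x * x ^ e) * ((x + 1) * (x + 1) ^ e) = 0 := by
    have h4 : (((x + 1) * (x + 1) ^ e)⁻¹ + (x * x ^ e)⁻¹ + 1) *
        ((x * x ^ e) * ((x + 1) * (x + 1) ^ e))
        = x * x ^ e + (x + 1) * (x + 1) ^ e + (x * x ^ e) * ((x + 1) * (x + 1) ^ e) := by
      field_simp
    rw [← h4, hk, zero_mul]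
  rw [hfrob] at h3
  rw [hev]
  linear_combination h3 - (x * x ^ e) * h2

/-- PIECE F2 (pure Mathlib, polynomial root count; `p = X^(2e+2)+X^(2e+1)+X^(e+2)+X^(e+1)+X^e+X+1`,
`e = 2^(m+1)`, has at most `2e+2 < q-2` roots). -/
theorem helper97_field_pt {F : Type*} [Field F] [Fintype F] {m : ℕ} (hm : 2 ≤ m)
    (hF : Fintype.card F = 2 ^ (2 * m + 1)) :
    ∃ x : F, x ≠ 0 ∧ x + 1 ≠ 0 ∧
      ((x + 1) * (x + 1) ^ 2 ^ (m + 1))⁻¹ + (x * x ^ 2 ^ (m + 1))⁻¹ + 1 ≠ 0 := by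
  have h2 : (2 : F) = 0 := by
    have h := Nat.cast_card_eq_zero F
    rw [hF] at h
    push_cast at h
    exact pow_eq_zero_iff (by omega) |>.mp h
  have hch : CharP F 2 := CharTwo.of_one_ne_zero_of_two_eq_zero one_ne_zero h2
  have hfrob : ∀ x : F, (x + 1) ^ 2 ^ (m + 1) = x ^ 2 ^ (m + 1) + 1 := by
    intro x
    have := add_pow_char_pow x 1 2 (m + 1)
    rw [this, one_pow]
  have he8 : 8 ≤ 2 ^ (m + 1) := by
    calc 8 = 2 ^ 3 := by norm_num
      _ ≤ 2 ^ (m + 1) := Nat.pow_le_pow_right (by norm_num) (by omega)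
  have hsq : 2 * 2 ^ (2 * m + 1) = 2 ^ (m + 1) * 2 ^ (m + 1) := by
    rw [← pow_add, ← pow_succ']
    congr 1
    omega
  refine helper97_field_pt_aux (2 ^ (m + 1)) h2 hfrob (by positivity) ?_
  rw [hF]
  generalize 2 ^ (m + 1) = k at he8 hsq
  generalize 2 ^ (2 * m + 1) = q at hsq
  nlinarith

end Cfsg.Agent.Lib.helper97.S2111
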