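import Mathlib
import Cfsg.Agent.Lib.helper97.S2113FLAC

/-! S2113 piece FLBC (`fl_bc`): a bi-additive pairing on the field with `3^(2m+1)` elements which is
invariant under `(s, t) ↦ (ν φ(ν) s, ν² φ(ν) t)`, `φ ν = (ν^(3^m))^3`, is trivial. -/

set_option autoImplicit false

namespace Cfsg.Agent.Lib.helper97.S2113

open Polynomial

/-- The field point for FLBC, abstract form. -/
theorem helper97_fl_bc_pt {K : Type*} [Field K] [Fintype K] (E : ℕ) (h2 : (2 : K) ≠ 0)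
    (hfrob : ∀ x : K, (x + 1) ^ E = x ^ E + 1)
    (hcard : 2 * E + 2 < Fintype.card K) :
    ∃ x : K, x ≠ 0 ∧ x + 1 ≠ 0 ∧
      ((x + 1) ^ E * (x + 1)⁻¹)⁻¹ - (x ^ E * x⁻¹)⁻¹ - 1 ≠ 0 := by
  classical
  set P : K[X] := X ^ (2 * E) + X with hP
  have hev : ∀ x : K, P.eval x = x ^ (2 * E) + x := by
    intro x
    simp [hP]
  have hP0 : P ≠ 0 := by
    intro h0
    have h1 := hev 1
    rw [h0] at h1
    simp only [eval_zero, one_pow] at h1
    apply h2
    rw [h1]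
    norm_num
  have hdeg : P.natDegree ≤ 2 * E + 1 := by
    rw [hP]
    compute_degree
    all_goals omega
  have hroots : P.roots.toFinset.card ≤ 2 * E + 1 :=
    (Multiset.toFinset_card_le _).trans ((Polynomial.card_roots' P).trans hdeg)
  have hS : (P.roots.toFinset ∪ {-1}).card ≤ 2 * E + 2 := by
    refine (Finset.card_union_le _ _).trans ?_
    have : ({-1} : Finset K).card = 1 := Finset.card_singleton _
    omega
  have hex : ∃ x : K, x ∉ P.roots.toFinset ∪ {-1} := by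
    by_contra hcon
    have hall : ∀ x : K, x ∈ P.roots.toFinset ∪ {-1} := by
      intro x
      by_contra hx
      exact hcon ⟨x, hx⟩
    have huniv : P.roots.toFinset ∪ {-1} = Finset.univ := Finset.eq_univ_iff_forall.mpr hall
    rw [huniv, Finset.card_univ] at hS
    omega
  obtain ⟨x, hx⟩ := hex
  rw [Finset.mem_union, not_or] at hx
  obtain ⟨hxr, hx01⟩ := hx
  have hPx : P.eval x ≠ 0 := by
    intro h
    apply hxr
    rw [Multiset.mem_toFinset, Polynomial.mem_roots hP0]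
    exact h
  have hx1 : x + 1 ≠ 0 := by
    intro h
    apply hx01
    rw [eq_neg_of_add_eq_zero_left h]
    exact Finset.mem_singleton_self _
  have hx0 : x ≠ 0 := by
    intro h
    apply hPx
    rw [hev, h, zero_pow (by
      intro hE0
      have hE : E = 0 := by omega
      have h1 := hfrob 0
      rw [hE] at h1
      simp only [pow_zero] at h1
      exact one_ne_zero (α := K) (by linear_combination -h1)), zero_add]
  refine ⟨x, hx0, hx1, ?_⟩
  intro hk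
  apply hPx
  have hX : x ^ E ≠ 0 := pow_ne_zero E hx0
  have hX1 : x ^ E + 1 ≠ 0 := by
    rw [← hfrob]
    exact pow_ne_zero E hx1
  rw [hfrob] at hk
  have h4 : (((x ^ E + 1) * (x + 1)⁻¹)⁻¹ - (x ^ E * x⁻¹)⁻¹ - 1) * (x ^ E * (x ^ E + 1))
      = -(x + (x ^ E) ^ 2) := by
    field_simp
    ring
  rw [hk, zero_mul] at h4
  rw [hev, pow_mul']
  linear_combination h4

/-- PIECE FLBC. -/
theorem helper97_fl_bc {K : Type*} [Field K] [Fintype K] {m : ℕ} (hm : 1 ≤ m)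
    (hK : Fintype.card K = 3 ^ (2 * m + 1)) {Γ : Type*} [Group Γ] (B : K → K → Γ)
    (hl : ∀ s s' t, B (s + s') t = B s t * B s' t) (hr : ∀ s t t', B s (t + t') = B s t * B s t')
    (hinv : ∀ ν s t, ν ≠ 0 →
      B (ν * (ν ^ 3 ^ m) ^ 3 * s) (ν ^ 2 * (ν ^ 3 ^ m) ^ 3 * t) = B s t) :
    ∀ s t, B s t = 1 := by
  have h3 : ((3 : ℕ) : K) = 0 := by
    have h := Nat.cast_card_eq_zero K
    rw [hK] at h
    push_cast at h
    have h' := pow_eq_zero_iff (by omega) |>.mp h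
    exact_mod_cast h'
  have hch : CharP K 3 := (CharP.charP_iff_prime_eq_zero Nat.prime_three).mpr h3
  have h2 : (2 : K) ≠ 0 := by
    intro h
    have h3' : (3 : K) = 0 := by exact_mod_cast h3
    exact one_ne_zero (α := K) (by linear_combination h3' - h)
  have hpow : ∀ ν : K, (ν ^ 3 ^ m) ^ 3 = ν ^ 3 ^ (m + 1) := by
    intro ν
    rw [← pow_mul, ← pow_succ]
  have hfrob : ∀ x : K, (x + 1) ^ 3 ^ (m + 1) = x ^ 3 ^ (m + 1) + 1 := by
    intro x
    have := add_pow_char_pow x 1 3 (m + 1)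
    rw [this, one_pow]
  have hE9 : 9 ≤ 3 ^ (m + 1) := by
    calc 9 = 3 ^ 2 := by norm_num
      _ ≤ 3 ^ (m + 1) := Nat.pow_le_pow_right (by norm_num) (by omega)
  have hsq : 3 * 3 ^ (2 * m + 1) = 3 ^ (m + 1) * 3 ^ (m + 1) := by
    rw [← pow_add, ← pow_succ']
    congr 1
    omega
  -- `φ (φ ν) = ν ^ 3`
  have hEE : ∀ ν : K, (ν ^ 3 ^ (m + 1)) ^ 3 ^ (m + 1) = ν ^ 3 := by
    intro ν
    rw [← pow_mul, ← hsq, mul_comm, pow_mul, ← hK, FiniteField.pow_card]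
  have hcard : 2 * 3 ^ (m + 1) + 2 < Fintype.card K := by
    rw [hK]
    generalize 3 ^ (m + 1) = k at hE9 hsq
    generalize 3 ^ (2 * m + 1) = q at hsq
    nlinarith
  obtain ⟨x, hx0, hx1, hκ⟩ := helper97_fl_bc_pt (K := K) (3 ^ (m + 1)) h2 hfrob hcard
  -- the swapped pairing
  have hswap : ∀ t s, B s t = 1 := by
    refine helper97_fl_core (fun t s => B s t) (fun ν => ν ^ 3 ^ (m + 1) * ν⁻¹)
      (fun t t' s => hr s t t') (fun t s s' => hl s s' t) ?_ ?_ x hx0 hx1 hκ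
    · intro ν hν
      exact mul_ne_zero (pow_ne_zero _ hν) (inv_ne_zero hν)
    · intro ν t s hν
      show B (ν ^ 3 ^ (m + 1) * ν⁻¹ * s) (ν * t) = B s t
      have hy : ν ^ 3 ^ (m + 1) ≠ 0 := pow_ne_zero _ hν
      have hν0 : ν ^ 2 * (ν ^ 3 ^ (m + 1))⁻¹ ≠ 0 := mul_ne_zero (pow_ne_zero 2 hν) (inv_ne_zero hy)
      have h := hinv (ν ^ 2 * (ν ^ 3 ^ (m + 1))⁻¹) s t hν0
      rw [hpow] at h
      have e0 : (ν ^ 2 * (ν ^ 3 ^ (m + 1))⁻¹) ^ 3 ^ (m + 1)
          = (ν ^ 3 ^ (m + 1)) ^ 2 * (ν ^ 3)⁻¹ := by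
        rw [mul_pow, inv_pow, hEE, ← pow_mul, mul_comm 2, pow_mul]
      have e1 : ν ^ 2 * (ν ^ 3 ^ (m + 1))⁻¹ * (ν ^ 2 * (ν ^ 3 ^ (m + 1))⁻¹) ^ 3 ^ (m + 1)
          = ν ^ 3 ^ (m + 1) * ν⁻¹ := by
        rw [e0]
        field_simp
      have e2 : (ν ^ 2 * (ν ^ 3 ^ (m + 1))⁻¹) ^ 2 * (ν ^ 2 * (ν ^ 3 ^ (m + 1))⁻¹) ^ 3 ^ (m + 1)
          = ν := by
        rw [e0]
        field_simp
      rw [e1, e2] at h
      exact h
  intro s t
  exact hswap t s

end Cfsg.Agent.Lib.helper97.S2113
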