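import Mathlib
import Cfsg.Agent.Lib.helper26.S4409Defs
import Cfsg.Agent.Lib.helper7.S4409_KN

/-!
# S4409 piece AV2 (racing copy, helper97): `⁅X, H⁆` a central four-group ⇒ `X` abelian
-/

set_option autoImplicit false
set_option linter.unusedVariables false

namespace Cfsg.Agent.Lib.helper26.S4409

variable {G : Type*} [Group G]

open scoped commutatorElement

/-- an element outside `K` whose square lies in `K` -/
theorem h97_exists_sq_mem (X K : Subgroup G) (hX : IsPGroup 2 ↥X) (x : G) (hx : x ∈ X)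
    (hxK : x ∉ K) : ∃ x' ∈ X, x' ∉ K ∧ x' * x' ∈ K := by
  obtain ⟨k, hk⟩ := hX ⟨x, hx⟩
  have hk' : x ^ 2 ^ k = 1 := by
    have := congrArg Subtype.val hk
    simpa using this
  have key : ∀ k : ℕ, ∀ x : G, x ∈ X → x ∉ K → x ^ 2 ^ k ∈ K →
      ∃ x' ∈ X, x' ∉ K ∧ x' * x' ∈ K := by
    intro k
    induction k with
    | zero =>
      intro x hx hxK h
      rw [pow_zero, pow_one] at h
      exact absurd h hxK
    | succ k ih =>
      intro x hx hxK h
      by_cases h2 : x * x ∈ K
      · exact ⟨x, hx, hxK, h2⟩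
      · apply ih (x * x) (X.mul_mem hx hx) h2
        rw [← pow_two, ← pow_mul, ← pow_succ']
        exact h
  exact key k x hx hxK (by rw [hk']; exact K.one_mem)

/-- AV2 (racing copy) -/
theorem h97_av2 [Finite G] (X H : Subgroup G) (hM : MinSet X H)
    (hV : IsV4 (⁅X, H⁆ : Subgroup G))
    (hc : X ≤ Subgroup.centralizer ((⁅X, H⁆ : Subgroup G) : Set G)) : IsMulCommutative ↥X := by
  obtain ⟨hX2, hHX, hodd, hmin, hnot⟩ := hM
  obtain ⟨hKX, hXK, hHK⟩ := kn X H hHX
  generalize hKdef : (⁅X, H⁆ : Subgroup G) = K at hV hc hKX hXK hHK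
  have hcomm : ∀ k ∈ K, ∀ g ∈ X, k * g = g * k := fun k hk g hg =>
    Subgroup.mem_centralizer_iff.1 (hc hg) k hk
  by_cases hKeq : K = X
  · rw [isMulCommutative_iff]
    intro a b
    apply Subtype.ext
    exact hcomm a.1 (by rw [hKeq]; exact a.2) b.1 b.2
  · obtain ⟨x₀, hx₀, hx₀K⟩ : ∃ x ∈ X, x ∉ K := by
      by_contra hcon
      push_neg at hcon
      exact hKeq (le_antisymm hKX hcon)
    obtain ⟨x, hx, hxK, hxx⟩ := h97_exists_sq_mem X K hX2 x₀ hx₀ hx₀K
    have hzX : Subgroup.zpowers x ≤ X := Subgroup.zpowers_le.2 hx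
    have hzN : Subgroup.zpowers x ≤ Subgroup.normalizer (K : Set G) := hzX.trans hXK
    have hYX : Subgroup.zpowers x ⊔ K ≤ X := sup_le hzX hKX
    have hKY : K ≤ Subgroup.zpowers x ⊔ K := le_sup_right
    have hxY : x ∈ Subgroup.zpowers x ⊔ K :=
      (le_sup_left : Subgroup.zpowers x ≤ Subgroup.zpowers x ⊔ K) (Subgroup.mem_zpowers x)
    -- description of the elements
    have hdesc : ∀ a ∈ Subgroup.zpowers x ⊔ K, ∃ i : ℤ, ∃ k ∈ K, a = x ^ i * k := by
      intro a ha
      have ha' : a ∈ ((Subgroup.zpowers x ⊔ K : Subgroup G) : Set G) := ha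
      rw [Subgroup.coe_mul_of_left_le_normalizer_right _ _ hzN] at ha'
      obtain ⟨u, hu, k, hk, rfl⟩ := Set.mem_mul.1 ha'
      obtain ⟨i, rfl⟩ := Subgroup.mem_zpowers_iff.1 hu
      exact ⟨i, k, hk, rfl⟩
    have hpar : ∀ i : ℤ, x ^ i ∈ K ∨ x⁻¹ * x ^ i ∈ K := by
      intro i
      have hsq : ∀ j : ℤ, x ^ (2 * j) ∈ K := by
        intro j
        rw [zpow_mul, zpow_ofNat, pow_two]
        exact K.zpow_mem hxx j
      rcases Int.even_or_odd' i with ⟨j, rfl | rfl⟩
      · exact Or.inl (hsq j)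
      · right
        rw [zpow_add, zpow_one, ← mul_assoc, mul_assoc x⁻¹, (Commute.refl x).zpow_left (2 * j) |>.eq,
          ← mul_assoc, inv_mul_cancel, one_mul]
        exact hsq j
    -- commutativity
    have hcommY : ∀ a ∈ Subgroup.zpowers x ⊔ K, ∀ b ∈ Subgroup.zpowers x ⊔ K, a * b = b * a := by
      intro a ha b hb
      obtain ⟨i, k, hk, rfl⟩ := hdesc a ha
      obtain ⟨j, k', hk', rfl⟩ := hdesc b hb
      have hxi : x ^ i ∈ X := X.zpow_mem hx i
      have hxj : x ^ j ∈ X := X.zpow_mem hx j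
      have c1 : Commute (x ^ i) (x ^ j) := (Commute.refl x).zpow_zpow i j
      have c2 : Commute (x ^ i) k' := (hcomm k' hk' _ hxi).symm
      have c3 : Commute k (x ^ j) := hcomm k hk _ hxj
      have c4 : Commute k k' := hcomm k hk k' (hKX hk')
      exact (Commute.mul_left (Commute.mul_right c1 c2) (Commute.mul_right c3 c4)).eq
    have hYcomm : IsMulCommutative ↥(Subgroup.zpowers x ⊔ K : Subgroup G) := by
      rw [isMulCommutative_iff]
      intro a b
      apply Subtype.ext
      exact hcommY a.1 a.2 b.1 b.2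
    -- order 8
    have hrel : K.relIndex (Subgroup.zpowers x ⊔ K) = 2 := by
      rw [Subgroup.relIndex_eq_two_iff]
      refine ⟨x, hxY, ?_⟩
      intro b hb
      obtain ⟨i, k, hk, rfl⟩ := hdesc b hb
      rcases hpar i with h | h
      · refine Or.inr ⟨K.mul_mem h hk, ?_⟩
        intro hcon
        apply hxK
        have : x = (x ^ i * k)⁻¹ * (x ^ i * k * x) := by group
        rw [this]
        exact K.mul_mem (K.inv_mem (K.mul_mem h hk)) hcon
      · refine Or.inl ⟨?_, ?_⟩
        · have h1 : x ^ i * k * x = x * x * (x⁻¹ * x ^ i * k) := by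
            have h2 : k * x = x * k := hcomm k hk x hx
            have h3 : x ^ i * x = x * x ^ i := ((Commute.refl x).zpow_left i).eq
            calc x ^ i * k * x = x ^ i * (k * x) := by rw [mul_assoc]
              _ = x ^ i * (x * k) := by rw [h2]
              _ = x ^ i * x * k := by rw [mul_assoc]
              _ = x * x ^ i * k := by rw [h3]
              _ = x * x * (x⁻¹ * x ^ i * k) := by group
          rw [h1]
          exact K.mul_mem hxx (K.mul_mem h hk)
        · intro hcon
          apply hxK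
          have : x = (x ^ i * k) * (x⁻¹ * x ^ i * k)⁻¹ := by group
          rw [this]
          exact K.mul_mem hcon (K.inv_mem (K.mul_mem h hk))
    have hcard : Nat.card ↥(Subgroup.zpowers x ⊔ K : Subgroup G) = 8 := by
      have h1 := Subgroup.relIndex_mul_relIndex ⊥ K (Subgroup.zpowers x ⊔ K) bot_le hKY
      rw [Subgroup.relIndex_bot_left, Subgroup.relIndex_bot_left, hrel, hV.1] at h1
      omega
    -- not cyclic
    have hncyc : ¬ IsCyclic ↥(Subgroup.zpowers x ⊔ K : Subgroup G) := by
      intro hcyc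
      haveI := hcyc
      obtain ⟨g, hg⟩ := IsCyclic.exists_ofOrder_eq_natCard
        (α := ↥(K.subgroupOf (Subgroup.zpowers x ⊔ K)))
      have hcard4 : Nat.card ↥(K.subgroupOf (Subgroup.zpowers x ⊔ K)) = 4 := by
        rw [Nat.card_congr (Subgroup.subgroupOfEquivOfLe hKY).toEquiv]
        exact hV.1
      have hg2 : g ^ 2 = 1 := by
        apply Subtype.ext
        apply Subtype.ext
        have := hV.2 ((g : ↥(Subgroup.zpowers x ⊔ K : Subgroup G)) : G)
          (Subgroup.mem_subgroupOf.1 g.2)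
        simpa [pow_two] using this
      have hd := orderOf_dvd_of_pow_eq_one hg2
      rw [hg, hcard4] at hd
      omega
    have hnotNoP : ¬ NoP (Subgroup.zpowers x ⊔ K : Subgroup G) := fun hN =>
      hncyc (hN _ le_rfl hYcomm hcard)
    -- `H`-invariance
    have hconjY : ∀ h ∈ H, ∀ a ∈ Subgroup.zpowers x ⊔ K, h * a * h⁻¹ ∈ Subgroup.zpowers x ⊔ K := by
      intro h hh a ha
      obtain ⟨i, k, hk, rfl⟩ := hdesc a ha
      have hk' : h * k * h⁻¹ ∈ K := (Subgroup.mem_normalizer_iff.1 (hHK hh) k).1 hk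
      have hcm : ⁅x, h⁆ ∈ K := by
        rw [← hKdef]
        exact Subgroup.commutator_mem_commutator hx hh
      have hxc : h * x * h⁻¹ ∈ Subgroup.zpowers x ⊔ K := by
        have : h * x * h⁻¹ = ⁅x, h⁆⁻¹ * x := by
          rw [commutatorElement_def]
          group
        rw [this]
        exact Subgroup.mul_mem _ (hKY (K.inv_mem hcm)) hxY
      have : h * (x ^ i * k) * h⁻¹ = (h * x * h⁻¹) ^ i * (h * k * h⁻¹) := by
        rw [conj_zpow]
        group
      rw [this]
      exact Subgroup.mul_mem _ (Subgroup.zpow_mem _ hxc i) (hKY hk')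
    have hHY : H ≤ Subgroup.normalizer ((Subgroup.zpowers x ⊔ K : Subgroup G) : Set G) := by
      intro h hh
      apply helper7_mem_normalizer_of_conj
      · exact hconjY h hh
      · exact hconjY h⁻¹ (H.inv_mem hh)
    have hYeq : Subgroup.zpowers x ⊔ K = X := by
      by_contra hne
      exact hnotNoP (hmin _ hYX hne hHY)
    rw [isMulCommutative_iff]
    intro a b
    apply Subtype.ext
    exact hcommY a.1 (by rw [hYeq]; exact a.2) b.1 (by rw [hYeq]; exact b.2)

end Cfsg.Agent.Lib.helper26.S4409
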