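import Mathlib
import Cfsg.Agent.Lib.helper89.S60Defs

set_option autoImplicit false
set_option linter.unusedSimpArgs false
set_option linter.unusedVariables false

namespace Cfsg.Agent.Lib.helper89.S60

open Matrix Cfsg Cfsg.Geo

/-- Ring identities for the frame: `x = ζ a b c`, `y = ζ a b d`. -/
theorem h97_fr_ring {A : Type*} [Ring A] (ζ a b c d : A)
    (hζ : ζ * ζ = -1) (hζa : a * ζ = ζ * a) (hζb : b * ζ = ζ * b) (hζc : c * ζ = ζ * c)
    (hζd : d * ζ = ζ * d)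
    (ha : a * a = 1) (hb : b * b = 1) (hc : c * c = 1) (hd : d * d = 1)
    (hab : b * a = -(a * b)) (hca : c * a = a * c) (hcb : c * b = b * c)
    (hda : d * a = a * d) (hdb : d * b = b * d) (hcd : d * c = -(c * d)) :
    (ζ * a * b * c) * (ζ * a * b * c) = 1 ∧ (ζ * a * b * d) * (ζ * a * b * d) = 1 ∧
    a * (ζ * a * b * c) = -((ζ * a * b * c) * a) ∧ b * (ζ * a * b * c) = -((ζ * a * b * c) * b) ∧
    a * (ζ * a * b * d) = -((ζ * a * b * d) * a) ∧ b * (ζ * a * b * d) = -((ζ * a * b * d) * b) ∧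
    (ζ * a * b * c) * (ζ * a * b * d) = -((ζ * a * b * d) * (ζ * a * b * c)) := by
  have hζ' : ∀ t, ζ * (ζ * t) = -t := fun t => by rw [← mul_assoc, hζ, neg_mul, one_mul]
  have hζa' : ∀ t, a * (ζ * t) = ζ * (a * t) := fun t => by rw [← mul_assoc, hζa, mul_assoc]
  have hζb' : ∀ t, b * (ζ * t) = ζ * (b * t) := fun t => by rw [← mul_assoc, hζb, mul_assoc]
  have hζc' : ∀ t, c * (ζ * t) = ζ * (c * t) := fun t => by rw [← mul_assoc, hζc, mul_assoc]
  have hζd' : ∀ t, d * (ζ * t) = ζ * (d * t) := fun t => by rw [← mul_assoc, hζd, mul_assoc]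
  have ha' : ∀ t, a * (a * t) = t := fun t => by rw [← mul_assoc, ha, one_mul]
  have hb' : ∀ t, b * (b * t) = t := fun t => by rw [← mul_assoc, hb, one_mul]
  have hc' : ∀ t, c * (c * t) = t := fun t => by rw [← mul_assoc, hc, one_mul]
  have hd' : ∀ t, d * (d * t) = t := fun t => by rw [← mul_assoc, hd, one_mul]
  have hab' : ∀ t, b * (a * t) = -(a * (b * t)) := fun t => by
    rw [← mul_assoc, hab, neg_mul, mul_assoc]
  have hca' : ∀ t, c * (a * t) = a * (c * t) := fun t => by rw [← mul_assoc, hca, mul_assoc]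
  have hcb' : ∀ t, c * (b * t) = b * (c * t) := fun t => by rw [← mul_assoc, hcb, mul_assoc]
  have hda' : ∀ t, d * (a * t) = a * (d * t) := fun t => by rw [← mul_assoc, hda, mul_assoc]
  have hdb' : ∀ t, d * (b * t) = b * (d * t) := fun t => by rw [← mul_assoc, hdb, mul_assoc]
  have hcd' : ∀ t, d * (c * t) = -(c * (d * t)) := fun t => by
    rw [← mul_assoc, hcd, neg_mul, mul_assoc]
  refine ⟨?_, ?_, ?_, ?_, ?_, ?_, ?_⟩ <;>
    simp only [mul_assoc, hζ, hζa, hζb, hζc, hζd, ha, hb, hc, hd, hab, hca, hcb, hda, hdb, hcd,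
      hζ', hζa', hζb', hζc', hζd', ha', hb', hc', hd', hab', hca', hcb', hda', hdb', hcd',
      neg_mul, mul_neg, neg_neg, mul_one, one_mul]

/-- Adjusting `g` by `1, a, b, a b` to commute with the anticommuting involutions `a`, `b`. -/
theorem h97_fr_adj {A : Type*} [Ring A] (g a b : A) (ha : a * a = 1) (hb : b * b = 1)
    (hab : b * a = -(a * b))
    (h0 : g * a = a * g ∨ g * a = -(a * g)) (h1 : g * b = b * g ∨ g * b = -(b * g)) :
    ∃ u u' : A, ((u = 1 ∧ u' = 1) ∨ (u = a ∧ u' = a) ∨ (u = b ∧ u' = b) ∨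
        (u = a * b ∧ u' = b * a)) ∧
      (g * u) * a = a * (g * u) ∧ (g * u) * b = b * (g * u) := by
  have ha' : ∀ t, a * (a * t) = t := fun t => by rw [← mul_assoc, ha, one_mul]
  have hb' : ∀ t, b * (b * t) = t := fun t => by rw [← mul_assoc, hb, one_mul]
  have hab' : ∀ t, b * (a * t) = -(a * (b * t)) := fun t => by
    rw [← mul_assoc, hab, neg_mul, mul_assoc]
  rcases h0 with h0 | h0 <;> rcases h1 with h1 | h1
  · exact ⟨1, 1, Or.inl ⟨rfl, rfl⟩, by rw [mul_one]; exact h0, by rw [mul_one]; exact h1⟩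
  · have ag : a * g = g * a := h0.symm
    have bg : b * g = -(g * b) := by rw [h1, neg_neg]
    have ag' : ∀ t, a * (g * t) = g * (a * t) := fun t => by rw [← mul_assoc, ag, mul_assoc]
    have bg' : ∀ t, b * (g * t) = -(g * (b * t)) := fun t => by
      rw [← mul_assoc, bg, neg_mul, mul_assoc]
    refine ⟨a, a, Or.inr (Or.inl ⟨rfl, rfl⟩), ?_, ?_⟩ <;>
      simp only [mul_assoc, ag, bg, hab, ag', bg', hab', ha, ha', hb, hb', neg_mul, mul_neg,
        neg_neg, mul_one, one_mul]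
  · have ag : a * g = -(g * a) := by rw [h0, neg_neg]
    have bg : b * g = g * b := h1.symm
    have ag' : ∀ t, a * (g * t) = -(g * (a * t)) := fun t => by
      rw [← mul_assoc, ag, neg_mul, mul_assoc]
    have bg' : ∀ t, b * (g * t) = g * (b * t) := fun t => by rw [← mul_assoc, bg, mul_assoc]
    refine ⟨b, b, Or.inr (Or.inr (Or.inl ⟨rfl, rfl⟩)), ?_, ?_⟩ <;>
      simp only [mul_assoc, ag, bg, hab, ag', bg', hab', ha, ha', hb, hb', neg_mul, mul_neg,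
        neg_neg, mul_one, one_mul]
  · have ag : a * g = -(g * a) := by rw [h0, neg_neg]
    have bg : b * g = -(g * b) := by rw [h1, neg_neg]
    have ag' : ∀ t, a * (g * t) = -(g * (a * t)) := fun t => by
      rw [← mul_assoc, ag, neg_mul, mul_assoc]
    have bg' : ∀ t, b * (g * t) = -(g * (b * t)) := fun t => by
      rw [← mul_assoc, bg, neg_mul, mul_assoc]
    refine ⟨a * b, b * a, Or.inr (Or.inr (Or.inr ⟨rfl, rfl⟩)), ?_, ?_⟩ <;>
      simp only [mul_assoc, ag, bg, hab, ag', bg', hab', ha, ha', hb, hb', neg_mul, mul_neg,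
        neg_neg, mul_one, one_mul]

theorem h97_s60_frame4 {F : Type*} [Field F] [Fintype F] (h2 : (2 : F) ≠ 0) (R : Subgroup (GL (Fin 4) F)) (w : F) (hw : w * w = -1) (hwR : ∃ z ∈ R, (z : Matrix (Fin 4) (Fin 4) F) = w • (1 : Matrix (Fin 4) (Fin 4) F))
    (hschur : ∀ y : Matrix (Fin 4) (Fin 4) F, (∀ s ∈ R, y * (s : Matrix (Fin 4) (Fin 4) F) = (s : Matrix (Fin 4) (Fin 4) F) * y) → ∃ c : F, y = c • (1 : Matrix (Fin 4) (Fin 4) F))
    (hscal : ∀ s ∈ R, ∀ c : F, (s : Matrix (Fin 4) (Fin 4) F) = c • (1 : Matrix (Fin 4) (Fin 4) F) → c ^ 4 = 1)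
    (hsq : ∀ s ∈ R, (s : Matrix (Fin 4) (Fin 4) F) * (s : Matrix (Fin 4) (Fin 4) F) = 1 ∨ (s : Matrix (Fin 4) (Fin 4) F) * (s : Matrix (Fin 4) (Fin 4) F) = -1)
    (hcomm : ∀ s ∈ R, ∀ t ∈ R, (s : Matrix (Fin 4) (Fin 4) F) * (t : Matrix (Fin 4) (Fin 4) F) = (t : Matrix (Fin 4) (Fin 4) F) * (s : Matrix (Fin 4) (Fin 4) F) ∨ (s : Matrix (Fin 4) (Fin 4) F) * (t : Matrix (Fin 4) (Fin 4) F) = -((t : Matrix (Fin 4) (Fin 4) F) * (s : Matrix (Fin 4) (Fin 4) F)))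
    (hcard : Nat.card R = 64) :
    ∃ t : Fin 4 → GL (Fin 4) F, (∀ j, t j ∈ R) ∧ (∀ j, (t j : Matrix (Fin 4) (Fin 4) F) * (t j : Matrix (Fin 4) (Fin 4) F) = 1) ∧
      ∀ j k, j ≠ k → (t j : Matrix (Fin 4) (Fin 4) F) * (t k : Matrix (Fin 4) (Fin 4) F) = -((t k : Matrix (Fin 4) (Fin 4) F) * (t j : Matrix (Fin 4) (Fin 4) F)) := by
  classical
  obtain ⟨z, hzR, hz⟩ := hwR
  -- a non-scalar element
  have hA : ∃ s ∈ R, ∀ c : F, s.1 ≠ c • (1 : Matrix (Fin 4) (Fin 4) F) := by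
    by_contra hcon
    push Not at hcon
    obtain ⟨c, hc⟩ := hschur (Matrix.of (fun i j : Fin 4 => if i = 0 ∧ j = 1 then (1 : F) else 0))
      (fun s hs => by
        obtain ⟨c, hc⟩ := hcon s hs
        rw [hc]; simp)
    have h := congrFun (congrFun hc 0) 1
    simp at h
  -- non-scalar elements have an anticommuting partner
  have hB : ∀ s ∈ R, (∀ c : F, s.1 ≠ c • (1 : Matrix (Fin 4) (Fin 4) F)) →
      ∃ g ∈ R, s.1 * g.1 = -(g.1 * s.1) := by
    intro s hs hns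
    by_contra hcon
    push Not at hcon
    obtain ⟨c, hc⟩ := hschur s.1 (fun g hg => by
      rcases hcomm s hs g hg with h | h
      · exact h
      · exact absurd h (hcon g hg))
    exact hns c hc
  -- make an involution
  have hC : ∀ s ∈ R, ∃ s' ∈ R, s'.1 * s'.1 = 1 ∧ (s'.1 = s.1 ∨ s'.1 = w • s.1) := by
    intro s hs
    rcases hsq s hs with h | h
    · exact ⟨s, hs, h, Or.inl rfl⟩
    · have e : (z * s).1 = w • s.1 := by
        rw [Units.val_mul, hz, smul_mul_assoc, one_mul]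
      refine ⟨z * s, R.mul_mem hzR hs, ?_, Or.inr e⟩
      rw [e, smul_mul_smul_comm, hw, h]
      simp
  have hT : ∀ a a' x : Matrix (Fin 4) (Fin 4) F, (a' = a ∨ a' = w • a) → a * x = -(x * a) →
      a' * x = -(x * a') := by
    intro a a' x h hax
    rcases h with rfl | rfl
    · exact hax
    · rw [smul_mul_assoc, mul_smul_comm, hax, smul_neg]
  have hT' : ∀ a a' x : Matrix (Fin 4) (Fin 4) F, (a' = a ∨ a' = w • a) → a * x = x * a →
      a' * x = x * a' := by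
    intro a a' x h hax
    rcases h with rfl | rfl
    · exact hax
    · rw [smul_mul_assoc, mul_smul_comm, hax]
  obtain ⟨s0, hs0R, hs0⟩ := hA
  obtain ⟨s1, hs1R, hs01⟩ := hB s0 hs0R hs0
  obtain ⟨t0, ht0R, ha, ht0e⟩ := hC s0 hs0R
  obtain ⟨t1, ht1R, hb, ht1e⟩ := hC s1 hs1R
  have hx1 : t0.1 * s1.1 = -(s1.1 * t0.1) := hT _ _ _ ht0e hs01
  have hx2 : s1.1 * t0.1 = -(t0.1 * s1.1) := by rw [hx1, neg_neg]
  have hab : t1.1 * t0.1 = -(t0.1 * t1.1) := hT _ _ _ ht1e hx2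
  have h01 : t0.1 * t1.1 = -(t1.1 * t0.1) := by rw [hab, neg_neg]
  -- a non-scalar element commuting with t0, t1
  have hD : ∃ c ∈ R, c.1 * t0.1 = t0.1 * c.1 ∧ c.1 * t1.1 = t1.1 * c.1 ∧
      ∀ l : F, c.1 ≠ l • (1 : Matrix (Fin 4) (Fin 4) F) := by
    by_contra hcon
    push Not at hcon
    obtain ⟨v, hv⟩ : ∃ v : Fin 4 → Matrix (Fin 4) (Fin 4) F,
        v = ![1, t0.1, t1.1, t1.1 * t0.1] := ⟨_, rfl⟩
    obtain ⟨S, hSdef⟩ : ∃ S : Finset (Matrix (Fin 4) (Fin 4) F),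
        S = Finset.image (fun p : F × Fin 4 => p.1 • v p.2)
          ((Polynomial.nthRoots 4 (1 : F)).toFinset ×ˢ (Finset.univ : Finset (Fin 4))) := ⟨_, rfl⟩
    have hS : ∀ g : R, (g : GL (Fin 4) F).1 ∈ S := by
      rintro ⟨g, hg⟩
      obtain ⟨u, u', hu, h1, h2⟩ := h97_fr_adj g.1 t0.1 t1.1 ha hb hab
        (hcomm g hg t0 ht0R) (hcomm g hg t1 ht1R)
      obtain ⟨U, hUR, hU, k, hk, huu'⟩ : ∃ U ∈ R, U.1 = u ∧ ∃ k : Fin 4, v k = u' ∧ u * u' = 1 := by
        rcases hu with ⟨rfl, rfl⟩ | ⟨rfl, rfl⟩ | ⟨rfl, rfl⟩ | ⟨rfl, rfl⟩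
        · exact ⟨1, R.one_mem, rfl, 0, by rw [hv]; rfl, by simp⟩
        · exact ⟨t0, ht0R, rfl, 1, by rw [hv]; rfl, ha⟩
        · exact ⟨t1, ht1R, rfl, 2, by rw [hv]; rfl, hb⟩
        · exact ⟨t0 * t1, R.mul_mem ht0R ht1R, rfl, 3, by rw [hv]; rfl, by
            rw [mul_assoc, ← mul_assoc t1.1, hb, one_mul, ha]⟩
      obtain ⟨l, hl⟩ := hcon (g * U) (R.mul_mem hg hUR)
        (by rw [Units.val_mul, hU]; exact h1) (by rw [Units.val_mul, hU]; exact h2)
      have hl4 := hscal (g * U) (R.mul_mem hg hUR) l hl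
      have hg' : g.1 = l • u' := by
        have e1 : g.1 = (g.1 * u) * u' := by rw [mul_assoc, huu', mul_one]
        rw [e1, ← hU, ← Units.val_mul, hl, smul_mul_assoc, one_mul]
      rw [hSdef]
      refine Finset.mem_image.mpr ⟨(l, k), ?_, ?_⟩
      · rw [Finset.mem_product]
        exact ⟨Multiset.mem_toFinset.mpr ((Polynomial.mem_nthRoots (by norm_num)).mpr hl4),
          Finset.mem_univ _⟩
      · show l • v k = g.1
        rw [hk, hg']
    have hScard : S.card ≤ 16 := by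
      rw [hSdef]
      refine Finset.card_image_le.trans ?_
      rw [Finset.card_product, Finset.card_univ, Fintype.card_fin]
      have := (Multiset.toFinset_card_le (Polynomial.nthRoots 4 (1 : F))).trans
        (Polynomial.card_nthRoots 4 (1 : F))
      omega
    have hle : Nat.card R ≤ S.card := by
      have h1 : Nat.card R ≤ Nat.card S :=
        Nat.card_le_card_of_injective
          (fun g : R => (⟨(g : GL (Fin 4) F).1, hS g⟩ : S)) (by
            intro g1 g2 h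
            have h' := congrArg Subtype.val h
            exact Subtype.ext (Units.ext h'))
      have h3 : Nat.card S = S.card := by rw [Nat.card_eq_fintype_card, Fintype.card_coe]
      rw [h3] at h1
      exact h1
    omega
  obtain ⟨c, hcR, hca, hcb, hcns⟩ := hD
  obtain ⟨g, hgR, hcg⟩ := hB c hcR hcns
  obtain ⟨u, u', hu, h1, h2⟩ := h97_fr_adj g.1 t0.1 t1.1 ha hb hab
    (hcomm g hgR t0 ht0R) (hcomm g hgR t1 ht1R)
  obtain ⟨U, hUR, hU, hcu⟩ : ∃ U ∈ R, U.1 = u ∧ c.1 * u = u * c.1 := by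
    rcases hu with ⟨rfl, rfl⟩ | ⟨rfl, rfl⟩ | ⟨rfl, rfl⟩ | ⟨rfl, rfl⟩
    · exact ⟨1, R.one_mem, rfl, by simp⟩
    · exact ⟨t0, ht0R, rfl, hca⟩
    · exact ⟨t1, ht1R, rfl, hcb⟩
    · exact ⟨t0 * t1, R.mul_mem ht0R ht1R, rfl, by
        rw [← mul_assoc, hca, mul_assoc, hcb, mul_assoc]⟩
  have hdR : g * U ∈ R := R.mul_mem hgR hUR
  have hdv : (g * U).1 = g.1 * u := by rw [Units.val_mul, hU]
  have hda : (g * U).1 * t0.1 = t0.1 * (g * U).1 := by rw [hdv]; exact h1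
  have hdb : (g * U).1 * t1.1 = t1.1 * (g * U).1 := by rw [hdv]; exact h2
  have hcd : c.1 * (g * U).1 = -((g * U).1 * c.1) := by
    rw [hdv, ← mul_assoc, hcg, neg_mul, mul_assoc, hcu, ← mul_assoc]
  obtain ⟨c', hc'R, hc'2, hc'e⟩ := hC c hcR
  obtain ⟨d', hd'R, hd'2, hd'e⟩ := hC (g * U) hdR
  have hc'a : c'.1 * t0.1 = t0.1 * c'.1 := hT' _ _ _ hc'e hca
  have hc'b : c'.1 * t1.1 = t1.1 * c'.1 := hT' _ _ _ hc'e hcb
  have hd'a : d'.1 * t0.1 = t0.1 * d'.1 := hT' _ _ _ hd'e hda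
  have hd'b : d'.1 * t1.1 = t1.1 * d'.1 := hT' _ _ _ hd'e hdb
  have hy1 : c'.1 * (g * U).1 = -((g * U).1 * c'.1) := hT _ _ _ hc'e hcd
  have hy2 : (g * U).1 * c'.1 = -(c'.1 * (g * U).1) := by rw [hy1, neg_neg]
  have hc'd' : d'.1 * c'.1 = -(c'.1 * d'.1) := hT _ _ _ hd'e hy2
  have hζ : z.1 * z.1 = -1 := by
    rw [hz, smul_mul_smul_comm, hw, mul_one, neg_smul, one_smul]
  have hζx : ∀ x : Matrix (Fin 4) (Fin 4) F, x * z.1 = z.1 * x := fun x => by rw [hz]; simp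
  obtain ⟨e1, e2, e3, e4, e5, e6, e7⟩ := h97_fr_ring z.1 t0.1 t1.1 c'.1 d'.1 hζ (hζx _) (hζx _)
    (hζx _) (hζx _) ha hb hc'2 hd'2 hab hc'a hc'b hd'a hd'b hc'd'
  have e3' : (z.1 * t0.1 * t1.1 * c'.1) * t0.1 = -(t0.1 * (z.1 * t0.1 * t1.1 * c'.1)) := by
    rw [e3, neg_neg]
  have e4' : (z.1 * t0.1 * t1.1 * c'.1) * t1.1 = -(t1.1 * (z.1 * t0.1 * t1.1 * c'.1)) := by
    rw [e4, neg_neg]
  have e5' : (z.1 * t0.1 * t1.1 * d'.1) * t0.1 = -(t0.1 * (z.1 * t0.1 * t1.1 * d'.1)) := by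
    rw [e5, neg_neg]
  have e6' : (z.1 * t0.1 * t1.1 * d'.1) * t1.1 = -(t1.1 * (z.1 * t0.1 * t1.1 * d'.1)) := by
    rw [e6, neg_neg]
  have e7' : (z.1 * t0.1 * t1.1 * d'.1) * (z.1 * t0.1 * t1.1 * c'.1) =
      -((z.1 * t0.1 * t1.1 * c'.1) * (z.1 * t0.1 * t1.1 * d'.1)) := by
    rw [e7, neg_neg]
  refine ⟨![t0, t1, z * t0 * t1 * c', z * t0 * t1 * d'], ?_, ?_, ?_⟩
  · intro j
    fin_cases j
    · exact ht0R
    · exact ht1R
    · exact R.mul_mem (R.mul_mem (R.mul_mem hzR ht0R) ht1R) hc'R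
    · exact R.mul_mem (R.mul_mem (R.mul_mem hzR ht0R) ht1R) hd'R
  · intro j
    fin_cases j
    · exact ha
    · exact hb
    · exact e1
    · exact e2
  · intro j k hjk
    fin_cases j <;> fin_cases k <;>
      first
        | exact absurd rfl hjk
        | exact h01 | exact hab | exact e3 | exact e3' | exact e4 | exact e4'
        | exact e5 | exact e5' | exact e6 | exact e6' | exact e7 | exact e7'

end Cfsg.Agent.Lib.helper89.S60
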