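import Mathlib
import Cfsg.Agent.Lib.helper89.S60Defs

/-!
# S6000, piece NBIG (hypothesis-core, racer copy, helper97): primes `r ≥ 7` give derangements

BFC (`s60_fix_count`) and HALF (`s60_half`) are taken as hypotheses (verbatim statements).
-/

set_option autoImplicit false
set_option linter.unusedVariables false

namespace Cfsg.Agent.Lib.helper89.S60

open Matrix Cfsg Cfsg.Geo

theorem h97_s60_arith (r c : ℕ) (hr : r.Prime) (hr7 : 7 ≤ r) (hc : c ∣ 64) (h4 : 4 ∣ c)
    (hmod : c % r = 64 % r) : c = 64 ∨ (c = 8 ∧ r = 7) := by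
  have hc64 : c ≤ 64 := Nat.le_of_dvd (by norm_num) hc
  by_cases hne : c = 64
  · exact Or.inl hne
  right
  have hlt : c < 64 := lt_of_le_of_ne hc64 hne
  have hdvd : r ∣ 64 - c := (Nat.modEq_iff_dvd' hc64).1 hmod
  have hr64 : r ≤ 64 := le_trans (Nat.le_of_dvd (by omega) hdvd) (by omega)
  obtain ⟨k, rfl⟩ := h4
  have hk : k < 16 := by omega
  interval_cases k <;> first
    | omega
    | (interval_cases r <;> first | omega | (exfalso; revert hr; norm_num))

/-- The order of `w` with `w * w = -1` is four. -/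
theorem h97_s60_pow_inj {F : Type*} [Field F] (h2 : (2 : F) ≠ 0) (w : F) (hw : w * w = -1)
    (e e' : Fin 4) (h : w ^ (e : ℕ) = w ^ (e' : ℕ)) : e = e' := by
  have h1 : (1 : F) ≠ -1 := by
    intro h
    apply h2
    linear_combination h
  have hw1 : w ≠ 1 := by
    rintro rfl
    exact h1 (by linear_combination hw)
  have hw2 : w ≠ -1 := by
    rintro rfl
    exact h1 (by linear_combination hw)
  have hw0 : w ≠ 0 := by
    rintro rfl
    simp at hw
  have hww : w ≠ -w := by
    intro h
    have : (2 : F) * w = 0 := by linear_combination h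
    rcases mul_eq_zero.mp this with h | h
    · exact h2 h
    · exact hw0 h
  have p2 : w ^ 2 = -1 := by rw [pow_two]; exact hw
  have p3 : w ^ 3 = -w := by rw [pow_succ, p2]; ring
  fin_cases e <;> fin_cases e' <;> simp only [Fin.mk.injEq] <;>
    first
    | rfl
    | (exfalso
       simp only [pow_zero, pow_one, p2, p3] at h
       first
       | exact hw1 h
       | exact hw1 h.symm
       | exact h1 h
       | exact h1 h.symm
       | exact hw2 h
       | exact hw2 h.symm
       | exact hww h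
       | exact hww h.symm
       | exact hw1 (by linear_combination -h)
       | exact hw1 (by linear_combination h)
       | exact hw2 (by linear_combination -h)
       | exact hw2 (by linear_combination h))

/-- NBIG core: BFC and HALF as hypotheses. -/
theorem h97_s60_nec_big_core {F : Type*} [Field F] [Fintype F] (h2 : (2 : F) ≠ 0)
    (R : Subgroup (GL (Fin 4) F)) (w : F) (hG : Good R w)
    (r : ℕ) [Fact r.Prime] (hr : 7 ≤ r) (hdvd : r ∣ Nat.card (specialLinear (Fin 4) F))
    (hBFC : ∀ y : GL (Fin 4) F, y ∈ subgroupNormalizer R → y ^ r = 1 →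
      Nat.card {s : GL (Fin 4) F // s ∈ R ∧ y * s = s * y} ∣ 64 ∧ 4 ∣ Nat.card {s : GL (Fin 4) F // s ∈ R ∧ y * s = s * y} ∧
      Nat.card {s : GL (Fin 4) F // s ∈ R ∧ y * s = s * y} % r = 64 % r ∧
      ∀ s₀ ∈ R, y * s₀ = s₀ * y →
        Nat.card {t : GL (Fin 4) F // t ∈ R ∧ (t : Matrix (Fin 4) (Fin 4) F) * (s₀ : Matrix (Fin 4) (Fin 4) F) = -((s₀ : Matrix (Fin 4) (Fin 4) F) * (t : Matrix (Fin 4) (Fin 4) F)) ∧ y * t = t * y} % r =
          Nat.card {t : GL (Fin 4) F // t ∈ R ∧ (t : Matrix (Fin 4) (Fin 4) F) * (s₀ : Matrix (Fin 4) (Fin 4) F) = -((s₀ : Matrix (Fin 4) (Fin 4) F) * (t : Matrix (Fin 4) (Fin 4) F))} % r)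
    (hHALF : ∀ s₀ : GL (Fin 4) F, s₀ ∈ R →
      (∀ c : F, (s₀ : Matrix (Fin 4) (Fin 4) F) ≠ c • (1 : Matrix (Fin 4) (Fin 4) F)) →
      Nat.card {t : GL (Fin 4) F // t ∈ R ∧ (t : Matrix (Fin 4) (Fin 4) F) * (s₀ : Matrix (Fin 4) (Fin 4) F) = -((s₀ : Matrix (Fin 4) (Fin 4) F) * (t : Matrix (Fin 4) (Fin 4) F))} = 32) :
    Derang R r := by
  classical
  have hrp : r.Prime := Fact.out
  obtain ⟨x', hx'⟩ := exists_prime_orderOf_dvd_card' r hdvd
  have hxr : (x' : GL (Fin 4) F) ^ r = 1 := by
    have h1 := pow_orderOf_eq_one x'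
    rw [hx'] at h1
    have h := congrArg Subtype.val h1
    simpa using h
  have ho : orderOf (x' : GL (Fin 4) F) = r := by
    rw [← hx']
    exact Subgroup.orderOf_coe x'
  have hns : ∀ z : F, ((x' : GL (Fin 4) F) : Matrix (Fin 4) (Fin 4) F) ≠ z • (1 : Matrix (Fin 4) (Fin 4) F) := by
    intro z hz
    have hdet : Matrix.GeneralLinearGroup.det (x' : GL (Fin 4) F) = 1 := MonoidHom.mem_ker.mp x'.2
    have hdet' : ((x' : GL (Fin 4) F) : Matrix (Fin 4) (Fin 4) F).det = 1 := by
      have h := congrArg Units.val hdet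
      simpa using h
    rw [hz, Matrix.det_smul, Matrix.det_one, Fintype.card_fin, mul_one] at hdet'
    have h4 : (x' : GL (Fin 4) F) ^ 4 = 1 := by
      apply Units.ext
      rw [Units.val_pow_eq_pow_val, Units.val_one, hz, smul_pow, one_pow, hdet', one_smul]
    have h4' := orderOf_dvd_of_pow_eq_one h4
    rw [ho] at h4'
    have := Nat.le_of_dvd (by norm_num) h4'
    omega
  refine ⟨(x' : GL (Fin 4) F), x'.2, hxr, hns, ?_⟩
  intro g hmem
  obtain ⟨y, hy⟩ : ∃ y : GL (Fin 4) F, y = g⁻¹ * (x' : GL (Fin 4) F) * g := ⟨_, rfl⟩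
  rw [← hy] at hmem
  have hyr : y ^ r = 1 := by
    have h1 : y = g⁻¹ * (x' : GL (Fin 4) F) * g⁻¹⁻¹ := by rw [hy, inv_inv]
    rw [h1, conj_pow, hxr, mul_one, mul_inv_cancel]
  have hyns : ∀ c : F, (y : Matrix (Fin 4) (Fin 4) F) ≠ c • (1 : Matrix (Fin 4) (Fin 4) F) := by
    intro c hcs
    apply hns c
    have hx : (x' : GL (Fin 4) F) = g * y * g⁻¹ := by rw [hy]; group
    rw [hx, Units.val_mul, Units.val_mul, hcs, Matrix.mul_smul, Matrix.mul_one, Matrix.smul_mul,
      ← Units.val_mul, mul_inv_cancel, Units.val_one]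
  obtain ⟨hc64, h4c, hcmod, hfour⟩ := hBFC y hmem hyr
  rcases h97_s60_arith r _ hrp hr hc64 h4c hcmod with hc | ⟨hc8, hr7⟩
  · -- `y` centralizes `R`
    have hall : ∀ s ∈ R, y * s = s * y := by
      have hinj : Function.Injective
          (fun s : {s : GL (Fin 4) F // s ∈ R ∧ y * s = s * y} => (⟨s.1, s.2.1⟩ : R)) := by
        intro a b hab
        have h : (⟨a.1, a.2.1⟩ : R) = ⟨b.1, b.2.1⟩ := hab
        have h' : a.1 = b.1 := congrArg (fun t : R => (t : GL (Fin 4) F)) h
        exact Subtype.ext h'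
      have hle : Nat.card R ≤ Nat.card {s : GL (Fin 4) F // s ∈ R ∧ y * s = s * y} := by
        rw [hc, hG.card]
      have hbij := Function.Injective.bijective_of_nat_card_le hinj hle
      intro s hs
      obtain ⟨a, ha⟩ := hbij.2 ⟨s, hs⟩
      have hs' : a.1 = s := congrArg (fun t : R => (t : GL (Fin 4) F)) ha
      rw [← hs']
      exact a.2.2
    obtain ⟨c, hcs⟩ := hG.schur (y : Matrix (Fin 4) (Fin 4) F)
      (fun s hs => by
        have h := congrArg (fun u : GL (Fin 4) F => (u : Matrix (Fin 4) (Fin 4) F)) (hall s hs)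
        simpa using h)
    exact hyns c hcs
  · -- the case `(c, r) = (8, 7)`
    obtain ⟨zw, hzwR, hzw⟩ := hG.wmem
    have hzwpow : ∀ e : ℕ, ((zw ^ e : GL (Fin 4) F) : Matrix (Fin 4) (Fin 4) F) =
        (w ^ e) • (1 : Matrix (Fin 4) (Fin 4) F) := by
      intro e
      rw [Units.val_pow_eq_pow_val, hzw, smul_pow, one_pow]
    have hzwc : ∀ (u : GL (Fin 4) F) (e : ℕ), Commute u (zw ^ e) := by
      intro u e
      apply Units.ext
      rw [Units.val_mul, Units.val_mul, hzwpow, Matrix.mul_smul, Matrix.smul_mul, Matrix.mul_one,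
        Matrix.one_mul]
    -- a non-scalar element of the centralizer
    obtain ⟨s₀, hs₀R, hs₀y, hs₀ns⟩ : ∃ s₀ : GL (Fin 4) F, s₀ ∈ R ∧ y * s₀ = s₀ * y ∧
        ∀ c : F, (s₀ : Matrix (Fin 4) (Fin 4) F) ≠ c • (1 : Matrix (Fin 4) (Fin 4) F) := by
      by_contra hcon
      simp only [not_exists, not_and, not_forall, not_not] at hcon
      have hsc : ∀ s : {s : GL (Fin 4) F // s ∈ R ∧ y * s = s * y}, ∃ e : Fin 4,
          ((s : GL (Fin 4) F) : Matrix (Fin 4) (Fin 4) F) = (w ^ (e : ℕ)) • (1 : Matrix (Fin 4) (Fin 4) F) := by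
        intro s
        obtain ⟨c, hc⟩ := hcon s.1 s.2.1 s.2.2
        have hc4 := hG.scal s.1 s.2.1 c hc
        have hfac : (c - 1) * (c + 1) * (c - w) * (c + w) = 0 := by
          have hw2 := hG.wsq
          linear_combination hc4 - (c ^ 2 - 1) * hw2
        rcases mul_eq_zero.mp hfac with h | h
        · rcases mul_eq_zero.mp h with h | h
          · rcases mul_eq_zero.mp h with h | h
            · exact ⟨0, by rw [hc, sub_eq_zero.mp h]; simp⟩
            · refine ⟨2, ?_⟩
              have : c = -1 := by linear_combination h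
              rw [hc, this]
              have hw2 := hG.wsq
              simp only [Fin.val_two, pow_two, hw2]
          · exact ⟨1, by rw [hc, sub_eq_zero.mp h]; simp⟩
        · refine ⟨3, ?_⟩
          have : c = -w := by linear_combination h
          rw [hc, this]
          have hw2 := hG.wsq
          have p3 : w ^ 3 = -w := by
            have : w ^ 3 = w * w * w := by ring
            rw [this, hw2]; ring
          show (-w) • (1 : Matrix (Fin 4) (Fin 4) F) = w ^ 3 • (1 : Matrix (Fin 4) (Fin 4) F)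
          rw [p3]
      choose e he using hsc
      have hinj : Function.Injective e := by
        intro a b hab
        apply Subtype.ext
        apply Units.ext
        rw [he a, he b, hab]
      have hle := Nat.card_le_card_of_injective e hinj
      rw [hc8, Nat.card_fin] at hle
      omega
    -- the eight elements `s₀ ^ b * zw ^ e`
    have hmemC : ∀ (e : Fin 4) (b : Bool), (if b then s₀ else 1) * zw ^ (e : ℕ) ∈ R ∧
        y * ((if b then s₀ else 1) * zw ^ (e : ℕ)) = ((if b then s₀ else 1) * zw ^ (e : ℕ)) * y := by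
      intro e b
      refine ⟨R.mul_mem (by split_ifs; exact hs₀R; exact R.one_mem) (R.pow_mem hzwR _), ?_⟩
      have hc1 : Commute y (if b then s₀ else 1) := by
        split_ifs
        · exact hs₀y
        · exact Commute.one_right y
      exact (hc1.mul_right (hzwc y _)).eq
    have hinj : Function.Injective (fun q : Fin 4 × Bool =>
        (⟨(if q.2 then s₀ else 1) * zw ^ (q.1 : ℕ), hmemC q.1 q.2⟩ :
          {s : GL (Fin 4) F // s ∈ R ∧ y * s = s * y})) := by
      rintro ⟨e, b⟩ ⟨e', b'⟩ hq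
      have hq1 : (if b then s₀ else 1) * zw ^ (e : ℕ) = (if b' then s₀ else 1) * zw ^ (e' : ℕ) :=
        congrArg Subtype.val hq
      have hq2 := congrArg (fun u : GL (Fin 4) F => (u : Matrix (Fin 4) (Fin 4) F)) hq1
      simp only [Units.val_mul, hzwpow, Matrix.mul_smul, Matrix.mul_one] at hq2
      have hw0 : ∀ k : ℕ, w ^ k ≠ 0 := by
        intro k
        apply pow_ne_zero
        rintro rfl
        have := hG.wsq
        simp at this
      have hee : ∀ (M : Matrix (Fin 4) (Fin 4) F), (∃ N : Matrix (Fin 4) (Fin 4) F, M * N = 1) →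
          (w ^ (e : ℕ)) • M = (w ^ (e' : ℕ)) • M → e = e' := by
        rintro M ⟨N, hMN⟩ hM
        have h3 := congrArg (fun A : Matrix (Fin 4) (Fin 4) F => A * N) hM
        simp only [Matrix.smul_mul, hMN] at h3
        have h4 := congrFun (congrFun h3 0) 0
        simp only [Matrix.smul_apply, Matrix.one_apply_eq, smul_eq_mul, mul_one] at h4
        exact h97_s60_pow_inj h2 w hG.wsq e e' h4
      cases b <;> cases b'
      · simp only [Bool.false_eq_true, if_false, Units.val_one] at hq2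
        rw [hee 1 ⟨1, by simp⟩ hq2]
      · exfalso
        simp only [Bool.false_eq_true, if_false, if_true, Units.val_one] at hq2
        apply hs₀ns ((w ^ (e' : ℕ))⁻¹ * w ^ (e : ℕ))
        rw [mul_smul, hq2, smul_smul, inv_mul_cancel₀ (hw0 _), one_smul]
      · exfalso
        simp only [Bool.false_eq_true, if_false, if_true, Units.val_one] at hq2
        apply hs₀ns ((w ^ (e : ℕ))⁻¹ * w ^ (e' : ℕ))
        rw [mul_smul, ← hq2, smul_smul, inv_mul_cancel₀ (hw0 _), one_smul]
      · simp only [if_true] at hq2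
        rw [hee (s₀ : Matrix (Fin 4) (Fin 4) F) ⟨((s₀⁻¹ : GL (Fin 4) F) : Matrix (Fin 4) (Fin 4) F), by
          rw [← Units.val_mul, mul_inv_cancel, Units.val_one]⟩ hq2]
    have hle : Nat.card {s : GL (Fin 4) F // s ∈ R ∧ y * s = s * y} ≤ Nat.card (Fin 4 × Bool) := by
      rw [hc8]
      simp
    have hbij := Function.Injective.bijective_of_nat_card_le hinj hle
    -- an element of the centralizer anticommuting with `s₀`
    have hA := hfour s₀ hs₀R hs₀y
    rw [hHALF s₀ hs₀R hs₀ns, hr7] at hA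
    have hAne : Nat.card {t : GL (Fin 4) F // t ∈ R ∧ (t : Matrix (Fin 4) (Fin 4) F) * (s₀ : Matrix (Fin 4) (Fin 4) F) = -((s₀ : Matrix (Fin 4) (Fin 4) F) * (t : Matrix (Fin 4) (Fin 4) F)) ∧ y * t = t * y} ≠ 0 := by
      intro h0
      rw [h0] at hA
      norm_num at hA
    obtain ⟨⟨t, htR, htanti, hty⟩⟩ := (Nat.card_ne_zero.mp hAne).1
    obtain ⟨⟨e, b⟩, hq⟩ := hbij.2 ⟨t, htR, hty⟩
    have hq1 : (if b then s₀ else 1) * zw ^ (e : ℕ) = t := congrArg Subtype.val hq
    have hcomm : (t : Matrix (Fin 4) (Fin 4) F) * (s₀ : Matrix (Fin 4) (Fin 4) F) =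
        (s₀ : Matrix (Fin 4) (Fin 4) F) * (t : Matrix (Fin 4) (Fin 4) F) := by
      rw [← hq1, Units.val_mul, hzwpow]
      cases b
      · simp
      · simp
    rw [hcomm] at htanti
    have h0 : (s₀ : Matrix (Fin 4) (Fin 4) F) * (t : Matrix (Fin 4) (Fin 4) F) = 0 := by
      have h3 : (2 : F) • ((s₀ : Matrix (Fin 4) (Fin 4) F) * (t : Matrix (Fin 4) (Fin 4) F)) = 0 := by
        rw [two_smul]
        nth_rewrite 1 [htanti]
        simp
      rcases smul_eq_zero.mp h3 with h | h
      · exact absurd h h2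
      · exact h
    have h1 : ((s₀ * t : GL (Fin 4) F) : Matrix (Fin 4) (Fin 4) F) = 0 := by
      rw [Units.val_mul]; exact h0
    exact Units.ne_zero _ h1

end Cfsg.Agent.Lib.helper89.S60
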