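import Mathlib
import Cfsg.Agent.Lib.helper89.S60Defs
import Cfsg.Agent.Lib.helper97.S60NBIGcore
import Cfsg.Agent.Lib.helper31.S60BFC
import Cfsg.Agent.Lib.helper46.S60HALF

/-!
# S6000, piece NBIG (racer copy, helper97): core + landed BFC (helper31) + HALF (helper46)
-/

set_option autoImplicit false

namespace Cfsg.Agent.Lib.helper89.S60

open Matrix Cfsg Cfsg.Geo

/-- NBIG (racer copy). -/
theorem h97_s60_nec_big {F : Type*} [Field F] [Fintype F] (h2 : (2 : F) ≠ 0) (R : Subgroup (GL (Fin 4) F)) (w : F) (hG : Good R w)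
    (r : ℕ) [Fact r.Prime] (hr : 7 ≤ r) (hdvd : r ∣ Nat.card (specialLinear (Fin 4) F)) : Derang R r :=
  h97_s60_nec_big_core h2 R w hG r hr hdvd
    (fun y hy hyr => s60_fix_count h2 R w hG r y hy hyr)
    (fun s₀ hs hns => s60_half h2 R w hG s₀ hs hns)

end Cfsg.Agent.Lib.helper89.S60
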