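import Mathlib
import Cfsg.Agent.Lib.helper24.S6eDefs
import Cfsg.Agent.Lib.helper17.SympBasis
import Cfsg.Agent.Lib.helper17.SympPrim
import Cfsg.Agent.Lib.helper17.SympStab

/-!
# S6002, piece BQRT: elements of `Sp_4(F)` with square `-1` are conjugate

For `x ∈ Sp_4(F)` with `x² = -1` the form `(u, v) ↦ f(u, x v)` is symmetric and non-degenerate;
a hyperbolic-free "orthonormal" pair `u₁, u₂` (`f(u_i, u_j) = 0`, `f(u_i, x u_j) = δ_ij`) exists
(every non-degenerate quadratic form over a finite field of odd characteristic represents `1`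
on an `x`-stable plane).  The family `u₁, u₂, x u₁, x u₂` is a basis with a Gram matrix not depending
on `x`, and Witt's lemma produces the conjugating element.
-/

set_option autoImplicit false

namespace Cfsg.Agent.Lib.helper24

open Matrix Cfsg Cfsg.Geo Cfsg.Agent.Lib.helper17

section quart

variable {F : Type*} [Field F]

/-- `f(u, M v)` is symmetric when `M` is symplectic with `M² = -1`. -/
theorem helper97_q_symm (M : Matrix S6I S6I F)
    (hsp : ∀ u v, sympForm 2 F (M *ᵥ u) (M *ᵥ v) = sympForm 2 F u v)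
    (hMM : ∀ u, M *ᵥ (M *ᵥ u) = -u) (u v : S6I → F) :
    sympForm 2 F u (M *ᵥ v) = sympForm 2 F v (M *ᵥ u) := by
  have h1 := hsp u (M *ᵥ v)
  rw [hMM, sympForm_neg_right] at h1
  have h2 := sympForm_swap 2 (M *ᵥ u) v
  linear_combination (-1 : F) * h1 - h2

/-- The value of the quadratic form on `α u + β M u`. -/
theorem helper97_q_val (M : Matrix S6I S6I F)
    (hMM : ∀ u, M *ᵥ (M *ᵥ u) = -u) (u : S6I → F) (α β : F) :
    sympForm 2 F (α • u + β • M *ᵥ u) (M *ᵥ (α • u + β • M *ᵥ u)) =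
      (α ^ 2 + β ^ 2) * sympForm 2 F u (M *ᵥ u) := by
  have h1 := sympForm_swap 2 u (M *ᵥ u)
  have h2 := sympForm_self 2 u
  have h3 := sympForm_self 2 (M *ᵥ u)
  simp only [Matrix.mulVec_add, Matrix.mulVec_smul, hMM, sympForm_add_left, sympForm_add_right,
    sympForm_smul_left, sympForm_smul_right, sympForm_neg_right, h1, h2, h3]
  ring

/-- Polarization: a stable subspace on which `f` is not identically zero carries a vector with
`f(v, M v) ≠ 0`. -/
theorem helper97_q_exists (h2 : (2 : F) ≠ 0) (M : Matrix S6I S6I F)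
    (hsp : ∀ u v, sympForm 2 F (M *ᵥ u) (M *ᵥ v) = sympForm 2 F u v)
    (hMM : ∀ u, M *ᵥ (M *ᵥ u) = -u) (U : Submodule F (S6I → F))
    (hU : ∀ v ∈ U, M *ᵥ v ∈ U) (p q : S6I → F) (hp : p ∈ U) (hq : q ∈ U)
    (hpq : sympForm 2 F p q ≠ 0) :
    ∃ v ∈ U, sympForm 2 F v (M *ᵥ v) ≠ 0 := by
  by_contra hcon
  simp only [not_exists, not_and, not_not] at hcon
  have hq' : -(M *ᵥ q) ∈ U := U.neg_mem (hU q hq)
  have h1 := hcon (p + -(M *ᵥ q)) (U.add_mem hp hq')
  have h2' := hcon p hp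
  have h3 := hcon _ hq'
  have h4 := helper97_q_symm M hsp hMM p (-(M *ᵥ q))
  simp only [Matrix.mulVec_add, Matrix.mulVec_neg, hMM, neg_neg, sympForm_add_left,
    sympForm_add_right, sympForm_neg_left] at h1 h3 h4
  apply hpq
  have h5 : (2 : F) * sympForm 2 F p q = 0 := by linear_combination h1 - h2' - h3 + h4
  exact (mul_eq_zero.mp h5).resolve_left h2

/-- Sums of two squares represent every nonzero element of a finite field of odd characteristic. -/
theorem helper97_q_norm [Fintype F] (h2 : (2 : F) ≠ 0) (c : F) (hc : c ≠ 0) :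
    ∃ α β : F, (α ^ 2 + β ^ 2) * c = 1 := by
  classical
  have hchar : ringChar F ≠ 2 := by
    intro h
    apply h2
    have h3 := (ringChar.spec F 2).mpr (by rw [h])
    exact_mod_cast h3
  have hodd := FiniteField.odd_card_of_char_ne_two hchar
  obtain ⟨a, b, hab⟩ := FiniteField.exists_root_sum_quadratic
    (f := (Polynomial.X : Polynomial F) ^ 2)
    (g := (Polynomial.X : Polynomial F) ^ 2 - Polynomial.C c⁻¹)
    (Polynomial.degree_X_pow 2) (Polynomial.degree_X_pow_sub_C (by norm_num) _) hodd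
  simp only [Polynomial.eval_pow, Polynomial.eval_X, Polynomial.eval_sub, Polynomial.eval_C] at hab
  refine ⟨a, b, ?_⟩
  have h4 : a ^ 2 + b ^ 2 = c⁻¹ := by linear_combination hab
  rw [h4, inv_mul_cancel₀ hc]

/-- The common perp of two vectors. -/
def helper97_perp (a b : S6I → F) : Submodule F (S6I → F) where
  carrier := {v | sympForm 2 F v a = 0 ∧ sympForm 2 F v b = 0}
  add_mem' := by
    rintro v w ⟨hv1, hv2⟩ ⟨hw1, hw2⟩
    exact ⟨by rw [sympForm_add_left, hv1, hw1, add_zero], by rw [sympForm_add_left, hv2, hw2, add_zero]⟩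
  zero_mem' := ⟨sympForm_zero_left 2 a, sympForm_zero_left 2 b⟩
  smul_mem' := by
    rintro c v ⟨hv1, hv2⟩
    exact ⟨by rw [sympForm_smul_left, hv1, mul_zero], by rw [sympForm_smul_left, hv2, mul_zero]⟩

theorem helper97_mem_perp (a b v : S6I → F) :
    v ∈ helper97_perp a b ↔ sympForm 2 F v a = 0 ∧ sympForm 2 F v b = 0 := Iff.rfl

/-- The common perp of two vectors of a four-dimensional space is not zero. -/
theorem helper97_perp_ne_bot (a b : S6I → F) : ∃ v ∈ helper97_perp a b, v ≠ 0 := by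
  have hlt : Module.finrank F (F × F) < Module.finrank F (S6I → F) := by
    simp
  have hker := LinearMap.ker_ne_bot_of_finrank_lt
    (f := ((sympBilin 2 (F := F)).flip a).prod ((sympBilin 2 (F := F)).flip b)) hlt
  obtain ⟨v, hv, hv0⟩ := (Submodule.ne_bot_iff _).mp hker
  refine ⟨v, ?_, hv0⟩
  have hv' := LinearMap.mem_ker.mp hv
  exact ⟨congrArg Prod.fst hv', congrArg Prod.snd hv'⟩

/-- An "orthonormal" pair for the symmetric form `f(u, M v)` which is isotropic for `f`. -/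
theorem helper97_q_frame [Fintype F] (h2 : (2 : F) ≠ 0) (M : Matrix S6I S6I F)
    (hsp : ∀ u v, sympForm 2 F (M *ᵥ u) (M *ᵥ v) = sympForm 2 F u v)
    (hMM : ∀ u, M *ᵥ (M *ᵥ u) = -u) :
    ∃ u : Fin 2 → (S6I → F), (∀ i j, sympForm 2 F (u i) (u j) = 0) ∧
      ∀ i j, sympForm 2 F (u i) (M *ᵥ u j) = if i = j then 1 else 0 := by
  classical
  -- first vector
  obtain ⟨u₁, hu₁⟩ : ∃ u₁ : S6I → F, sympForm 2 F u₁ (M *ᵥ u₁) = 1 := by
    have hp0 : (Pi.single (Sum.inl 0) 1 : S6I → F) ≠ 0 := by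
      intro h
      have := congrFun h (Sum.inl 0)
      simp at this
    obtain ⟨q, hq⟩ := exists_sympForm_ne_zero 2 _ hp0
    obtain ⟨v, -, hv⟩ := helper97_q_exists h2 M hsp hMM ⊤ (fun _ _ => Submodule.mem_top) _ q
      Submodule.mem_top Submodule.mem_top hq
    obtain ⟨α, β, hαβ⟩ := helper97_q_norm h2 _ hv
    exact ⟨α • v + β • M *ᵥ v, by rw [helper97_q_val M hMM, hαβ]⟩
  have hu₁' : sympForm 2 F (M *ᵥ u₁) u₁ = -1 := by
    rw [sympForm_swap 2 u₁ (M *ᵥ u₁), hu₁]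
  -- the perp is stable
  have hU : ∀ v ∈ helper97_perp u₁ (M *ᵥ u₁), M *ᵥ v ∈ helper97_perp u₁ (M *ᵥ u₁) := by
    rintro v ⟨hv1, hv2⟩
    refine ⟨?_, ?_⟩
    · have h := hsp v (-(M *ᵥ u₁))
      rw [Matrix.mulVec_neg, hMM, neg_neg, sympForm_neg_right, hv2, neg_zero] at h
      exact h
    · rw [hsp]; exact hv1
  -- a non-degenerate pair inside the perp
  obtain ⟨a₀, ha₀, ha₀0⟩ := helper97_perp_ne_bot u₁ (M *ᵥ u₁)
  obtain ⟨b, hb⟩ := exists_sympForm_ne_zero 2 a₀ ha₀0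
  obtain ⟨ha1, ha2⟩ := ha₀
  have ha1' : sympForm 2 F u₁ a₀ = 0 := by rw [sympForm_swap 2 a₀ u₁, ha1, neg_zero]
  have ha2' : sympForm 2 F (M *ᵥ u₁) a₀ = 0 := by rw [sympForm_swap 2 a₀ (M *ᵥ u₁), ha2, neg_zero]
  obtain ⟨b', hb'⟩ : ∃ b' : S6I → F, b' = b - sympForm 2 F b (M *ᵥ u₁) • u₁ +
      sympForm 2 F b u₁ • M *ᵥ u₁ := ⟨_, rfl⟩
  have hb'U : b' ∈ helper97_perp u₁ (M *ᵥ u₁) := by
    refine ⟨?_, ?_⟩
    · rw [hb', sympForm_add_left, sympForm_sub_left, sympForm_smul_left, sympForm_smul_left,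
        sympForm_self, hu₁']
      ring
    · rw [hb', sympForm_add_left, sympForm_sub_left, sympForm_smul_left, sympForm_smul_left,
        sympForm_self, hu₁]
      ring
  have hab' : sympForm 2 F a₀ b' ≠ 0 := by
    rw [hb', sympForm_add_right, sympForm_sub_right, sympForm_smul_right, sympForm_smul_right,
      ha1, ha2, mul_zero, mul_zero, sub_zero, add_zero]
    exact hb
  obtain ⟨v, hvU, hv⟩ := helper97_q_exists h2 M hsp hMM _ hU a₀ b' ⟨ha1, ha2⟩ hb'U hab'
  obtain ⟨α, β, hαβ⟩ := helper97_q_norm h2 _ hv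
  obtain ⟨u₂, hu₂def⟩ : ∃ u₂ : S6I → F, u₂ = α • v + β • M *ᵥ v := ⟨_, rfl⟩
  have hu₂U : u₂ ∈ helper97_perp u₁ (M *ᵥ u₁) := by
    rw [hu₂def]
    exact Submodule.add_mem _ (Submodule.smul_mem _ _ hvU) (Submodule.smul_mem _ _ (hU v hvU))
  have hu₂ : sympForm 2 F u₂ (M *ᵥ u₂) = 1 := by
    rw [hu₂def, helper97_q_val M hMM, hαβ]
  obtain ⟨h21, h22⟩ := hu₂U
  have h12 : sympForm 2 F u₁ u₂ = 0 := by rw [sympForm_swap 2 u₂ u₁, h21, neg_zero]
  have h12' : sympForm 2 F u₁ (M *ᵥ u₂) = 0 := by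
    rw [helper97_q_symm M hsp hMM u₁ u₂]; exact h22
  refine ⟨![u₁, u₂], ?_, ?_⟩
  · intro i j
    fin_cases i <;> fin_cases j
    · exact sympForm_self 2 u₁
    · exact h12
    · exact h21
    · exact sympForm_self 2 u₂
  · intro i j
    fin_cases i <;> fin_cases j
    · simpa using hu₁
    · simpa using h12'
    · simpa using h22
    · simpa using hu₂

/-- The family `u, M u` of a frame is linearly independent. -/
theorem helper97_q_indep (M : Matrix S6I S6I F)
    (hsp : ∀ u v, sympForm 2 F (M *ᵥ u) (M *ᵥ v) = sympForm 2 F u v)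
    (u : Fin 2 → (S6I → F)) (h0 : ∀ i j, sympForm 2 F (u i) (u j) = 0)
    (h1 : ∀ i j, sympForm 2 F (u i) (M *ᵥ u j) = if i = j then 1 else 0) :
    LinearIndependent F (Sum.elim u (fun i => M *ᵥ u i) : Fin 2 ⊕ Fin 2 → (S6I → F)) := by
  classical
  rw [Fintype.linearIndependent_iff]
  intro g hg
  rw [Fintype.sum_sum_type, Fin.sum_univ_two, Fin.sum_univ_two] at hg
  simp only [Sum.elim_inl, Sum.elim_inr] at hg
  have h1' : ∀ i j, sympForm 2 F (M *ᵥ u i) (u j) = if j = i then -1 else 0 := by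
    intro i j
    rw [sympForm_swap 2 (u j) (M *ᵥ u i), h1]
    split_ifs <;> simp
  have key : ∀ w : S6I → F,
      g (Sum.inl 0) * sympForm 2 F (u 0) w + g (Sum.inl 1) * sympForm 2 F (u 1) w +
        (g (Sum.inr 0) * sympForm 2 F (M *ᵥ u 0) w + g (Sum.inr 1) * sympForm 2 F (M *ᵥ u 1) w) = 0 := by
    intro w
    have h := congrArg (fun t => sympForm 2 F t w) hg
    simp only [sympForm_add_left, sympForm_smul_left, sympForm_zero_left] at h
    exact h
  rintro (i | i)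
  · have h := key (M *ᵥ u i)
    simp only [h1, hsp, h0] at h
    fin_cases i <;> simpa using h
  · have h := key (u i)
    simp only [h1', h0] at h
    fin_cases i <;> simpa using h

end quart

/-- BQRT. Elements of `Sp_4(F)` with square `-1` are conjugate in `Sp_4(F)`. -/
theorem s6_conj_quart {F : Type*} [Field F] [Fintype F] (h2 : (2 : F) ≠ 0) (x y : GL S6I F) (hx : x ∈ spGL 2 F)
    (hy : y ∈ spGL 2 F) (hx2 : (x : Matrix S6I S6I F) * (x : Matrix S6I S6I F) = -1) (hy2 : (y : Matrix S6I S6I F) * (y : Matrix S6I S6I F) = -1) :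
    ∃ g ∈ spGL 2 F, g⁻¹ * x * g = y := by
  classical
  have hxsp : ∀ u v, sympForm 2 F ((x : Matrix S6I S6I F) *ᵥ u) ((x : Matrix S6I S6I F) *ᵥ v) =
      sympForm 2 F u v := hx
  have hysp : ∀ u v, sympForm 2 F ((y : Matrix S6I S6I F) *ᵥ u) ((y : Matrix S6I S6I F) *ᵥ v) =
      sympForm 2 F u v := hy
  have hxMM : ∀ u, (x : Matrix S6I S6I F) *ᵥ ((x : Matrix S6I S6I F) *ᵥ u) = -u := by
    intro u
    rw [Matrix.mulVec_mulVec, hx2, Matrix.neg_mulVec, Matrix.one_mulVec]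
  have hyMM : ∀ u, (y : Matrix S6I S6I F) *ᵥ ((y : Matrix S6I S6I F) *ᵥ u) = -u := by
    intro u
    rw [Matrix.mulVec_mulVec, hy2, Matrix.neg_mulVec, Matrix.one_mulVec]
  obtain ⟨u, hu0, hu1⟩ := helper97_q_frame h2 _ hxsp hxMM
  obtain ⟨w, hw0, hw1⟩ := helper97_q_frame h2 _ hysp hyMM
  have hiu := helper97_q_indep _ hxsp u hu0 hu1
  have hiw := helper97_q_indep _ hysp w hw0 hw1
  have hG : ∀ a b : Fin 2 ⊕ Fin 2,
      sympForm 2 F (Sum.elim u (fun i => (x : Matrix S6I S6I F) *ᵥ u i) a)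
        (Sum.elim u (fun i => (x : Matrix S6I S6I F) *ᵥ u i) b) =
      sympForm 2 F (Sum.elim w (fun i => (y : Matrix S6I S6I F) *ᵥ w i) a)
        (Sum.elim w (fun i => (y : Matrix S6I S6I F) *ᵥ w i) b) := by
    rintro (i | i) (j | j)
    · simp only [Sum.elim_inl, hu0, hw0]
    · simp only [Sum.elim_inl, Sum.elim_inr, hu1, hw1]
    · simp only [Sum.elim_inl, Sum.elim_inr]
      rw [sympForm_swap 2 (u j) _, sympForm_swap 2 (w j) _, hu1, hw1]
    · simp only [Sum.elim_inr, hxsp, hysp, hu0, hw0]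
  obtain ⟨A, hA⟩ := sp_witt_family' 2 _ _ hiu hiw hG
  have hspan := hiu.span_eq_top_of_card_eq_finrank' (by simp)
  have hAM : (A : Matrix S6I S6I F) * (x : Matrix S6I S6I F) =
      (y : Matrix S6I S6I F) * (A : Matrix S6I S6I F) := by
    apply Matrix.toLin'.injective
    apply LinearMap.ext_on hspan
    rintro _ ⟨a, rfl⟩
    rw [Matrix.toLin'_apply, Matrix.toLin'_apply, ← Matrix.mulVec_mulVec, ← Matrix.mulVec_mulVec]
    rcases a with i | i
    · have e1 := hA (Sum.inl i)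
      have e2 := hA (Sum.inr i)
      simp only [Sum.elim_inl, Sum.elim_inr] at e1 e2 ⊢
      rw [e2, e1]
    · have e1 := hA (Sum.inl i)
      have e2 := hA (Sum.inr i)
      simp only [Sum.elim_inl, Sum.elim_inr] at e1 e2 ⊢
      rw [hxMM, Matrix.mulVec_neg, e1, e2, hyMM]
  obtain ⟨g₀, hg⟩ := exists_spGL 2 A.2
  refine ⟨(g₀ : GL S6I F)⁻¹, inv_mem g₀.2, ?_⟩
  rw [inv_inv, mul_inv_eq_iff_eq_mul]
  apply Units.ext
  rw [Units.val_mul, Units.val_mul, hg]
  exact hAM

end Cfsg.Agent.Lib.helper24
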