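import Mathlib
import Cfsg.Agent.Lib.helper44.SL3Defs

/-! S2287 piece TA (`base_actions`): the torus actions that follow from the base configuration. -/

set_option autoImplicit false
set_option linter.unusedSimpArgs false

namespace Cfsg.Agent.Lib.helper44.SL3

-- TA
theorem h97_base_actions {G : Type*} [Group G] {F : Type*} [Field F] (x : F → G) (h c : G) (ω : F)
    (hB : IsBase x h c ω) :
    (∀ a, (c * h * c⁻¹) * x a * (c * h * c⁻¹)⁻¹ = x (ω⁻¹ * ω⁻¹ * a)) ∧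
    (∀ b, h * yy x c b * h⁻¹ = yy x c (ω * b)) ∧
    (∀ b, (c * h * c⁻¹) * yy x c b * (c * h * c⁻¹)⁻¹ = yy x c (ω * b)) ∧
    (∀ b, (c * c * h * (c * c)⁻¹) * yy x c b * (c * c * h * (c * c)⁻¹)⁻¹ =
      yy x c (ω⁻¹ * ω⁻¹ * b)) ∧
    Commute (c * h * c⁻¹) (c * c * h * (c * c)⁻¹) ∧ Commute (c * c * h * (c * c)⁻¹) h ∧
    (∀ a b, yy x c (a + b) = yy x c a * yy x c b) ∧
    (∀ a, c * c * yy x c a * (c * c)⁻¹ = x a) := by
  have c3 := hB.c3
  have hc3 : c * (c * c) = 1 := by rw [← mul_assoc]; exact c3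
  have hc : c⁻¹ = c * c := inv_eq_of_mul_eq_one_right hc3
  have hc3' : ∀ g : G, c * (c * (c * g)) = g := by
    intro g
    rw [← mul_assoc, ← mul_assoc, c3, one_mul]
  have hω := hB.ω0
  have hih : ∀ a, h⁻¹ * x a * h = x (ω⁻¹ * a) := by
    intro a
    have e := hB.h_x (ω⁻¹ * a)
    rw [mul_inv_cancel_left₀ hω] at e
    rw [← e]
    group
  have hik' : ∀ a, (c * c * h * (c * c)⁻¹)⁻¹ * x a * (c * c * h * (c * c)⁻¹) = x (ω⁻¹ * a) := by
    intro a
    have e := hB.k'_x (ω⁻¹ * a)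
    rw [mul_inv_cancel_left₀ hω] at e
    rw [← e]
    group
  have hkeq : c * h * c⁻¹ = h⁻¹ * (c * c * h * (c * c)⁻¹)⁻¹ := by
    have e := hB.hkk
    calc c * h * c⁻¹
        = h⁻¹ * (h * (c * h * c⁻¹) * (c * c * h * (c * c)⁻¹)) * (c * c * h * (c * c)⁻¹)⁻¹ := by
          group
      _ = h⁻¹ * (c * c * h * (c * c)⁻¹)⁻¹ := by rw [e, mul_one]
  have p1 : ∀ a, (c * h * c⁻¹) * x a * (c * h * c⁻¹)⁻¹ = x (ω⁻¹ * ω⁻¹ * a) := by
    intro a
    rw [hkeq]
    have hgen : ∀ K : G, h⁻¹ * K⁻¹ * x a * (h⁻¹ * K⁻¹)⁻¹ = h⁻¹ * (K⁻¹ * x a * K) * h := by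
      intro K
      group
    rw [hgen, hik', hih, mul_assoc]
  have p5 : Commute (c * h * c⁻¹) (c * c * h * (c * c)⁻¹) := by
    have e := hB.hk.eq
    show (c * h * c⁻¹) * (c * c * h * (c * c)⁻¹) = (c * c * h * (c * c)⁻¹) * (c * h * c⁻¹)
    calc (c * h * c⁻¹) * (c * c * h * (c * c)⁻¹) = c * (h * (c * h * c⁻¹)) * c⁻¹ := by group
      _ = c * ((c * h * c⁻¹) * h) * c⁻¹ := by rw [e]
      _ = (c * c * h * (c * c)⁻¹) * (c * h * c⁻¹) := by group
  refine ⟨p1, ?_, ?_, ?_, p5, ?_, ?_, ?_⟩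
  · intro b
    unfold yy
    rw [← hB.k'_x b]
    simp only [mul_inv_rev, inv_inv, hc, mul_assoc, hc3', hc3, mul_one, one_mul,
      mul_inv_cancel_left, inv_mul_cancel_left, mul_inv_cancel, inv_mul_cancel]
  · intro b
    unfold yy
    rw [← hB.h_x b]
    group
  · intro b
    unfold yy
    rw [← p1 b]
    group
  · have e6 := congrArg (fun g => c * g * c⁻¹) p5.eq
    show (c * c * h * (c * c)⁻¹) * h = h * (c * c * h * (c * c)⁻¹)
    simp only [mul_inv_rev, inv_inv, hc, mul_assoc, hc3', hc3, mul_one, one_mul,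
      mul_inv_cancel_left, inv_mul_cancel_left, mul_inv_cancel, inv_mul_cancel] at e6 ⊢
    exact e6
  · intro a b
    unfold yy
    rw [hB.x_add]
    group
  · intro a
    unfold yy
    simp only [mul_inv_rev, inv_inv, hc, mul_assoc, hc3', hc3, mul_one, one_mul,
      mul_inv_cancel_left, inv_mul_cancel_left, mul_inv_cancel, inv_mul_cancel]

end Cfsg.Agent.Lib.helper44.SL3
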