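import Cfsg.Agent.S3335
import Mathlib

set_option autoImplicit false
open Cfsg Cfsg.Agent.S3335

namespace Cfsg.Agent.Lib.helper70.SM

universe u

/-- In a subgroup of odd order, an element with trivial square is trivial. -/
theorem h97_eq_one_of_sq {Γ : Type u} [Group Γ] [Finite Γ] (K : Subgroup Γ)
    (hodd : Odd (Nat.card K)) (g : Γ) (hg : g ∈ K) (h2 : g * g = 1) : g = 1 := by
  have h1 : orderOf g ∣ 2 := orderOf_dvd_of_pow_eq_one (by rw [pow_two]; exact h2)
  have h3 : orderOf g ∣ Nat.card K := by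
    have h0 := orderOf_dvd_natCard (⟨g, hg⟩ : K)
    rwa [← Subgroup.orderOf_coe] at h0
  have h4 : orderOf g ∣ Nat.gcd 2 (Nat.card K) := Nat.dvd_gcd h1 h3
  have h5 : Nat.gcd 2 (Nat.card K) = 1 := Nat.coprime_two_left.mpr hodd
  rw [h5] at h4
  exact orderOf_eq_one_iff.mp (Nat.dvd_one.mp h4)

/-- A group generated by pairwise commuting elements is commutative. -/
theorem h97_comm_of_gen {Q : Type*} [Group Q] (T : Set Q) (hT : Subgroup.closure T = ⊤)
    (hcomm : ∀ a ∈ T, ∀ b ∈ T, a * b = b * a) (g h : Q) : g * h = h * g := by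
  have h1 : ∀ t ∈ T, ∀ g : Q, t * g = g * t := by
    intro t ht g
    have hle : Subgroup.closure T ≤ Subgroup.centralizer ({t} : Set Q) := by
      rw [Subgroup.closure_le]
      intro b hb
      rw [SetLike.mem_coe, Subgroup.mem_centralizer_iff]
      intro a ha
      rw [Set.mem_singleton_iff] at ha
      rw [ha]
      exact hcomm t ht b hb
    have hg : g ∈ Subgroup.centralizer ({t} : Set Q) := hle (by rw [hT]; exact Subgroup.mem_top g)
    exact (Subgroup.mem_centralizer_iff.mp hg) t (Set.mem_singleton t)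
  have hle2 : Subgroup.closure T ≤ Subgroup.center Q := by
    rw [Subgroup.closure_le]
    intro t ht
    rw [SetLike.mem_coe, Subgroup.mem_center_iff]
    intro g
    exact (h1 t ht g).symm
  have hg : g ∈ Subgroup.center Q := hle2 (by rw [hT]; exact Subgroup.mem_top g)
  exact ((Subgroup.mem_center_iff.mp hg) h).symm

/-- O6 (degree 4, odd kernel), racing copy of `odd_ker_trivial_one` (verbatim statement,
prefixed name). -/
theorem h97_odd_ker_trivial_one {Γ : Type u} [Group Γ] [Finite Γ]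
    (π : Γ →* PresentedGroup (rels 1)) (hπ : Function.Surjective π)
    (hc : π.ker ≤ Subgroup.center Γ) (hd : π.ker ≤ commutator Γ)
    (hodd : Odd (Nat.card π.ker)) : π.ker = ⊥ := by
  have hcen : ∀ c ∈ π.ker, ∀ g : Γ, c * g = g * c := fun c hcK g =>
    ((Subgroup.mem_center_iff.mp (hc hcK)) g).symm
  have hcj : ∀ c ∈ π.ker, ∀ g : Γ, c * g * c⁻¹ = g := fun c hcK g => by
    rw [hcen c hcK g, mul_inv_cancel_right]
  have hcj' : ∀ c ∈ π.ker, ∀ g : Γ, g * c * g⁻¹ = c := fun c hcK g => by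
    rw [← hcen c hcK g, mul_inv_cancel_right]
  have hsq1 := h97_eq_one_of_sq π.ker hodd
  obtain ⟨y0, hy0⟩ := hπ (x 1 0)
  obtain ⟨y1', hy1'⟩ := hπ (x 1 1)
  have hx1 : x 1 (1 : Fin (1 + 1)) * x 1 1 = 1 := by
    have h := x_sq 1 (1 : Fin (1 + 1)) (by decide)
    rwa [pow_two] at h
  have hx0 : x 1 (0 : Fin (1 + 1)) * x 1 0 * x 1 0 = 1 := by
    have h := x_cube 1 (0 : Fin (1 + 1)) rfl
    rwa [pow_three'] at h
  have hx01 : (x 1 (0 : Fin (1 + 1)) * x 1 1) * (x 1 0 * x 1 1) * (x 1 0 * x 1 1) = 1 := by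
    have h := x_adj 1 (0 : Fin (1 + 1)) 1 rfl
    rwa [pow_three'] at h
  -- the involution `u` lifting `x 1 1`
  obtain ⟨u, hu_def⟩ : ∃ u : Γ, u = y1' ^ Nat.card π.ker := ⟨_, rfl⟩
  have hπu : π u = x 1 1 := by
    obtain ⟨m, hm⟩ := hodd
    rw [hu_def, map_pow, hy1', hm, pow_succ, pow_mul, pow_two, hx1, one_pow, one_mul]
  have huu : u * u = 1 := by
    have hk : y1' * y1' ∈ π.ker := by
      rw [MonoidHom.mem_ker, map_mul, hy1', hx1]
    have h1 : (y1' * y1') ^ Nat.card π.ker = 1 := by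
      have h2 := pow_card_eq_one' (G := π.ker) (x := ⟨y1' * y1', hk⟩)
      have h3 := congrArg Subtype.val h2
      simpa using h3
    rw [hu_def, ← (Commute.refl y1').mul_pow]
    exact h1
  have huinv : u⁻¹ = u := inv_eq_of_mul_eq_one_right huu
  obtain ⟨v, hv_def⟩ : ∃ v : Γ, v = y0 * u * y0⁻¹ := ⟨_, rfl⟩
  have hvv : v * v = 1 := by
    rw [hv_def]
    calc y0 * u * y0⁻¹ * (y0 * u * y0⁻¹) = y0 * (u * u) * y0⁻¹ := by group
      _ = 1 := by rw [huu]; group
  have hvinv : v⁻¹ = v := inv_eq_of_mul_eq_one_right hvv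
  have huu' : ∀ z : Γ, u * (u * z) = z := fun z => by rw [← mul_assoc, huu, one_mul]
  have hvv' : ∀ z : Γ, v * (v * z) = z := fun z => by rw [← mul_assoc, hvv, one_mul]
  have hc0 : y0 * y0 * y0 ∈ π.ker := by
    rw [MonoidHom.mem_ker, map_mul, map_mul, hy0, hx0]
  have hβ : (y0 * u) * (y0 * u) * (y0 * u) ∈ π.ker := by
    rw [MonoidHom.mem_ker]
    simp only [map_mul, hy0, hπu]
    exact hx01
  obtain ⟨w, hw_def⟩ : ∃ w : Γ, w = y0 * v * y0⁻¹ := ⟨_, rfl⟩
  have hww : w * w = 1 := by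
    rw [hw_def]
    calc y0 * v * y0⁻¹ * (y0 * v * y0⁻¹) = y0 * (v * v) * y0⁻¹ := by group
      _ = 1 := by rw [hvv]; group
  have hκ : v * w * u ∈ π.ker := by
    have h1 : v * w * u = ((y0 * u) * (y0 * u) * (y0 * u)) * (y0 * y0 * y0)⁻¹ := by
      rw [hw_def, hv_def]
      calc y0 * u * y0⁻¹ * (y0 * (y0 * u * y0⁻¹) * y0⁻¹) * u
          = (y0 * u * y0 * u * y0⁻¹ * y0⁻¹) * u := by group
        _ = (y0 * u * y0 * u * y0⁻¹ * y0⁻¹) * ((y0 * y0 * y0) * u * (y0 * y0 * y0)⁻¹) := by
            rw [hcj _ hc0 u]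
        _ = ((y0 * u) * (y0 * u) * (y0 * u)) * (y0 * y0 * y0)⁻¹ := by group
    rw [h1]
    exact mul_mem hβ (inv_mem hc0)
  obtain ⟨κ, hκ_def⟩ : ∃ κ : Γ, κ = v * w * u := ⟨_, rfl⟩
  have hκK : κ ∈ π.ker := hκ_def ▸ hκ
  have hw : w = κ * v * u := by
    calc w = (v * v) * w * (u * u) := by rw [hvv, huu, one_mul, mul_one]
      _ = v * (v * w * u) * u := by group
      _ = v * κ * u := by rw [hκ_def]
      _ = κ * v * u := by rw [hcen κ hκK v]
  have hb : κ * κ * ((v * u) * (v * u)) = 1 := by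
    calc κ * κ * ((v * u) * (v * u)) = κ * (κ * (v * u)) * (v * u) := by group
      _ = κ * ((v * u) * κ) * (v * u) := by rw [hcen κ hκK (v * u)]
      _ = (κ * v * u) * (κ * v * u) := by group
      _ = w * w := by rw [← hw]
      _ = 1 := hww
  have hbK : (v * u) * (v * u) ∈ π.ker := by
    rw [eq_inv_of_mul_eq_one_right hb]
    exact inv_mem (mul_mem hκK hκK)
  have hb1 : (v * u) * (v * u) = 1 := by
    apply hsq1 _ hbK
    have h6 : v * ((v * u) * (v * u)) * v⁻¹ = (u * v) * (u * v) := by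
      rw [hvinv]; simp only [mul_assoc, hvv']
    have h7 : v * ((v * u) * (v * u)) * v⁻¹ = (v * u) * (v * u) := hcj' _ hbK v
    have h5 : (u * v) * (u * v) * ((v * u) * (v * u)) = 1 := by
      simp only [mul_assoc, hvv', huu', hvv, huu]
    rw [← h6, h7] at h5
    exact h5
  have hκ1 : κ = 1 := by
    apply hsq1 _ hκK
    rw [hb1, mul_one] at hb
    exact hb
  have huv : v * u = u * v := by
    rw [← inv_eq_of_mul_eq_one_right hb1, mul_inv_rev, huinv, hvinv]
  have huv' : ∀ z : Γ, v * (u * z) = u * (v * z) := fun z => by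
    rw [← mul_assoc, huv, mul_assoc]
  have hwuv : y0 * v * y0⁻¹ = u * v := by
    rw [← hw_def, hw, hκ1, one_mul, huv]
  have hc3 : y0 * (u * v) * y0⁻¹ = u := by
    calc y0 * (u * v) * y0⁻¹ = y0 * (y0 * (y0 * u * y0⁻¹) * y0⁻¹) * y0⁻¹ := by
          rw [← hwuv, hv_def]
      _ = (y0 * y0 * y0) * u * (y0 * y0 * y0)⁻¹ := by group
      _ = u := hcj _ hc0 u
  have hinvc : ∀ a b : Γ, y0 * a * y0⁻¹ = b → y0⁻¹ * b * y0 = a := by
    intro a b h
    rw [← h]; group
  -- the four-group `E = {1, u, v, u v}`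
  obtain ⟨E, hE⟩ : ∃ E : Subgroup Γ, ∀ g, g ∈ E ↔ (g = 1 ∨ g = u ∨ g = v ∨ g = u * v) :=
    ⟨{ carrier := {g | g = 1 ∨ g = u ∨ g = v ∨ g = u * v}
       one_mem' := Or.inl rfl
       mul_mem' := by
         rintro a b (ha | ha | ha | ha) (hb | hb | hb | hb) <;> rw [ha, hb] <;>
           simp only [Set.mem_ofPred_eq, mul_assoc, one_mul, mul_one, huu, hvv, huu', hvv', huv,
             huv', true_or, or_true, eq_self_iff_true]
       inv_mem' := by
         rintro a (ha | ha | ha | ha) <;> rw [ha] <;>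
           simp only [Set.mem_ofPred_eq, inv_one, mul_inv_rev, huinv, hvinv, huv, true_or, or_true,
             eq_self_iff_true] }, fun g => Iff.rfl⟩
  -- generation of `Γ`
  have hgen : Subgroup.closure (({y0, u} : Set Γ) ∪ (π.ker : Set Γ)) = ⊤ := by
    rw [eq_top_iff]
    intro g _
    have hmap : (⊤ : Subgroup (PresentedGroup (rels 1))) ≤
        (Subgroup.closure (({y0, u} : Set Γ) ∪ (π.ker : Set Γ))).map π := by
      rw [← PresentedGroup.closure_range_of (rels 1), Subgroup.closure_le]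
      rintro _ ⟨i, rfl⟩
      rw [SetLike.mem_coe, Subgroup.mem_map]
      fin_cases i
      · exact ⟨y0, Subgroup.subset_closure (Set.mem_union_left _ (Set.mem_insert _ _)), hy0⟩
      · exact ⟨u, Subgroup.subset_closure (Set.mem_union_left _
          (Set.mem_insert_of_mem _ (Set.mem_singleton _))), hπu⟩
    obtain ⟨h, hh, hhg⟩ := Subgroup.mem_map.mp (hmap (Subgroup.mem_top (π g)))
    have hk : h⁻¹ * g ∈ π.ker := by
      rw [MonoidHom.mem_ker, map_mul, map_inv, hhg, inv_mul_cancel]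
    have hgg : g = h * (h⁻¹ * g) := by group
    rw [hgg]
    exact mul_mem hh (Subgroup.subset_closure (Set.mem_union_right _ hk))
  -- `E` is normal
  have hnorm : ∀ g : Γ, ∀ e ∈ E, g * e * g⁻¹ ∈ E ∧ g⁻¹ * e * g ∈ E := by
    intro g
    have hg : g ∈ Subgroup.closure (({y0, u} : Set Γ) ∪ (π.ker : Set Γ)) := by
      rw [hgen]; exact Subgroup.mem_top g
    induction hg using Subgroup.closure_induction with
    | mem a ha =>
      rcases ha with (ha | ha) | ha
      · rw [ha]
        intro e he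
        rcases (hE e).mp he with h | h | h | h <;> rw [h]
        · simp only [mul_one, mul_inv_cancel, inv_mul_cancel]
          exact ⟨E.one_mem, E.one_mem⟩
        · exact ⟨(hE _).mpr (Or.inr (Or.inr (Or.inl hv_def.symm))),
            (hE _).mpr (Or.inr (Or.inr (Or.inr (hinvc _ _ hc3))))⟩
        · exact ⟨(hE _).mpr (Or.inr (Or.inr (Or.inr hwuv))),
            (hE _).mpr (Or.inr (Or.inl (hinvc _ _ hv_def.symm)))⟩
        · exact ⟨(hE _).mpr (Or.inr (Or.inl hc3)),
            (hE _).mpr (Or.inr (Or.inr (Or.inl (hinvc _ _ hwuv))))⟩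
      · rw [Set.mem_singleton_iff] at ha
        rw [ha]
        intro e he
        rw [huinv]
        rcases (hE e).mp he with h | h | h | h <;> rw [h] <;>
          simp only [hE, mul_assoc, one_mul, mul_one, huu, hvv, huu', hvv', huv, huv', true_or,
            or_true, and_self, eq_self_iff_true]
      · intro e he
        have h1 : a⁻¹ * e * a = e := by
          rw [mul_assoc, ← hcen a ha e, inv_mul_cancel_left]
        rw [hcj a ha e, h1]
        exact ⟨he, he⟩
    | one =>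
      intro e he
      simpa using he
    | mul a b _ _ iha ihb =>
      intro e he
      constructor
      · have h1 : a * b * e * (a * b)⁻¹ = a * (b * e * b⁻¹) * a⁻¹ := by group
        rw [h1]; exact (iha _ (ihb e he).1).1
      · have h1 : (a * b)⁻¹ * e * (a * b) = b⁻¹ * (a⁻¹ * e * a) * b := by group
        rw [h1]; exact (ihb _ (iha e he).2).2
    | inv a _ iha =>
      intro e he
      rw [inv_inv]
      exact ⟨(iha e he).2, (iha e he).1⟩
  haveI hEn : E.Normal := ⟨fun e he g => (hnorm g e he).1⟩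
  -- the quotient by `E` is commutative
  have hqu : (QuotientGroup.mk' E) u = 1 := by
    rw [QuotientGroup.mk'_apply, QuotientGroup.eq_one_iff]
    exact (hE u).mpr (Or.inr (Or.inl rfl))
  have hTq : ∀ a ∈ (({y0, u} : Set Γ) ∪ (π.ker : Set Γ)),
      ∀ b ∈ (({y0, u} : Set Γ) ∪ (π.ker : Set Γ)),
      (QuotientGroup.mk' E) a * (QuotientGroup.mk' E) b =
        (QuotientGroup.mk' E) b * (QuotientGroup.mk' E) a := by
    intro a ha b hb
    rcases ha with (ha | ha) | ha
    · rcases hb with (hb | hb) | hb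
      · rw [ha, hb]
      · rw [Set.mem_singleton_iff] at hb
        rw [hb, hqu, mul_one, one_mul]
      · rw [← map_mul, ← map_mul, hcen b hb a]
    · rw [Set.mem_singleton_iff] at ha
      rw [ha, hqu, mul_one, one_mul]
    · rw [← map_mul, ← map_mul, hcen a ha b]
  have hqcomm : ∀ g h : Γ ⧸ E, g * h = h * g := by
    apply h97_comm_of_gen ((QuotientGroup.mk' E) '' (({y0, u} : Set Γ) ∪ (π.ker : Set Γ)))
    · rw [← MonoidHom.map_closure, hgen]
      exact Subgroup.map_top_of_surjective _ (QuotientGroup.mk'_surjective E)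
    · rintro _ ⟨a, ha, rfl⟩ _ ⟨b, hb, rfl⟩
      exact hTq a ha b hb
  have hcomE : commutator Γ ≤ E := by
    rw [_root_.commutator_def, Subgroup.commutator_le]
    intro g₁ _ g₂ _
    rw [commutatorElement_def]
    apply (QuotientGroup.eq_one_iff _).mp
    show (QuotientGroup.mk' E) (g₁ * g₂ * g₁⁻¹ * g₂⁻¹) = 1
    rw [map_mul, map_mul, map_mul, map_inv, map_inv,
      hqcomm ((QuotientGroup.mk' E) g₁) ((QuotientGroup.mk' E) g₂), mul_inv_cancel_right,
      mul_inv_cancel]
  rw [Subgroup.eq_bot_iff_forall]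
  intro g hg
  apply hsq1 g hg
  rcases (hE g).mp (hcomE (hd hg)) with h | h | h | h <;> rw [h] <;>
    simp only [mul_assoc, one_mul, mul_one, huu, hvv, huu', hvv', huv, huv']

end Cfsg.Agent.Lib.helper70.SM
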