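import Mathlib
import Cfsg.Agent.Lib.helper69.SNDefs

set_option autoImplicit false

namespace Cfsg.Agent.Lib.helper97.SNG

open Cfsg.Agent.Lib.helper69.SNG

universe u v

/-- Key lemma for CT-B: `N(P)/P` is abelian and `N(P)` is transitive on `P ∖ 1` (through the
powers of any element outside `P`). -/
theorem h97_ctb_key {G : Type u} [Group G] [Finite G]
    {n : ℕ} (hp : (2 ^ n - 1).Prime) (P : Sylow 2 G)
    (hP : Nat.card P = 2 ^ n)
    (hN : Nat.card (Subgroup.normalizer ((P : Subgroup G) : Set G)) = 2 ^ n * (2 ^ n - 1))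
    (hcent : ∀ u ∈ P, u ≠ 1 → ∀ g : G, Commute g u → g ∈ P) :
    (∀ a ∈ Subgroup.normalizer ((P : Subgroup G) : Set G),
      ∀ b ∈ Subgroup.normalizer ((P : Subgroup G) : Set G),
        a * b * a⁻¹ * b⁻¹ ∈ (P : Subgroup G)) ∧
    (∀ u ∈ (P : Subgroup G), u ≠ 1 → ∀ k ∈ Subgroup.normalizer ((P : Subgroup G) : Set G),
      k ∉ (P : Subgroup G) → ∀ y ∈ (P : Subgroup G), y ≠ 1 →
        ∃ i : ℕ, y = k ^ i * u * (k ^ i)⁻¹) := by
  classical
  have hPN : (P : Subgroup G) ≤ Subgroup.normalizer ((P : Subgroup G) : Set G) :=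
    Subgroup.le_normalizer
  haveI : Fact (2 ^ n - 1).Prime := ⟨hp⟩
  have hcardP' : Nat.card ((P : Subgroup G).subgroupOf
      (Subgroup.normalizer ((P : Subgroup G) : Set G))) = 2 ^ n := by
    rw [← hP]
    exact Nat.card_congr (Subgroup.subgroupOfEquivOfLe hPN).toEquiv
  have hidx : ((P : Subgroup G).subgroupOf
      (Subgroup.normalizer ((P : Subgroup G) : Set G))).index = 2 ^ n - 1 := by
    have h1 := ((P : Subgroup G).subgroupOf
      (Subgroup.normalizer ((P : Subgroup G) : Set G))).card_mul_index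
    rw [hcardP', hN] at h1
    exact Nat.eq_of_mul_eq_mul_left (by positivity) h1
  have hcardQ : Nat.card (↥(Subgroup.normalizer ((P : Subgroup G) : Set G)) ⧸
      (P : Subgroup G).subgroupOf (Subgroup.normalizer ((P : Subgroup G) : Set G))) =
      2 ^ n - 1 := by
    rw [← hidx]; exact (Subgroup.index_eq_card _).symm
  haveI : IsCyclic (↥(Subgroup.normalizer ((P : Subgroup G) : Set G)) ⧸
      (P : Subgroup G).subgroupOf (Subgroup.normalizer ((P : Subgroup G) : Set G))) :=
    isCyclic_of_prime_card hcardQ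
  have hQcomm : ∀ a b : ↥(Subgroup.normalizer ((P : Subgroup G) : Set G)) ⧸
      (P : Subgroup G).subgroupOf (Subgroup.normalizer ((P : Subgroup G) : Set G)),
      a * b = b * a := by
    intro a b
    obtain ⟨g, hg⟩ := IsCyclic.exists_generator (α := ↥(Subgroup.normalizer
      ((P : Subgroup G) : Set G)) ⧸
      (P : Subgroup G).subgroupOf (Subgroup.normalizer ((P : Subgroup G) : Set G)))
    obtain ⟨i, rfl⟩ := Subgroup.mem_zpowers_iff.mp (hg a)
    obtain ⟨j, rfl⟩ := Subgroup.mem_zpowers_iff.mp (hg b)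
    exact zpow_mul_comm g i j
  have hmemP' : ∀ (a : ↥(Subgroup.normalizer ((P : Subgroup G) : Set G))),
      a ∈ (P : Subgroup G).subgroupOf (Subgroup.normalizer ((P : Subgroup G) : Set G)) ↔
        (a : G) ∈ (P : Subgroup G) := fun a => Subgroup.mem_subgroupOf
  refine ⟨?_, ?_⟩
  · intro a ha b hb
    have h1 : (QuotientGroup.mk' ((P : Subgroup G).subgroupOf
        (Subgroup.normalizer ((P : Subgroup G) : Set G))))
        (⟨a, ha⟩ * ⟨b, hb⟩ * ⟨a, ha⟩⁻¹ * ⟨b, hb⟩⁻¹) = 1 := by
      rw [map_mul, map_mul, map_mul, map_inv, map_inv, hQcomm (QuotientGroup.mk' _ ⟨a, ha⟩),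
        mul_inv_cancel_right, mul_inv_cancel]
    rw [QuotientGroup.mk'_apply, QuotientGroup.eq_one_iff, hmemP'] at h1
    exact h1
  · intro u hu hu1 k hk hkP y hy hy1
    have hord : orderOf ((QuotientGroup.mk' ((P : Subgroup G).subgroupOf
        (Subgroup.normalizer ((P : Subgroup G) : Set G)))) ⟨k, hk⟩) = 2 ^ n - 1 := by
      apply orderOf_eq_prime
      · rw [← hcardQ]; exact pow_card_eq_one'
      · intro h1
        rw [QuotientGroup.mk'_apply, QuotientGroup.eq_one_iff, hmemP'] at h1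
        exact hkP h1
    have hconj : ∀ i : ℕ, k ^ i * u * (k ^ i)⁻¹ ∈ (P : Subgroup G) := by
      intro i
      have hki : k ^ i ∈ Subgroup.normalizer ((P : Subgroup G) : Set G) := pow_mem hk i
      exact ((Subgroup.mem_normalizer_iff.mp hki) u).mp hu
    let F : Option (Fin (2 ^ n - 1)) → ↥(P : Subgroup G) := fun o =>
      match o with
      | none => 1
      | some i => ⟨k ^ (i : ℕ) * u * (k ^ (i : ℕ))⁻¹, hconj i⟩
    have hne : ∀ j : ℕ, (1 : G) ≠ k ^ j * u * (k ^ j)⁻¹ := by
      intro j h1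
      apply hu1
      have h2 : u = (k ^ j)⁻¹ * (k ^ j * u * (k ^ j)⁻¹) * k ^ j := by group
      rw [h2, ← h1]; group
    have hFinj : Function.Injective F := by
      intro o1 o2 h
      match o1, o2, h with
      | none, none, _ => rfl
      | none, some j, h => exact absurd (congrArg Subtype.val h) (hne j)
      | some i, none, h => exact absurd (congrArg Subtype.val h).symm (hne i)
      | some i, some j, h =>
        have h1 : k ^ (i : ℕ) * u * (k ^ (i : ℕ))⁻¹ = k ^ (j : ℕ) * u * (k ^ (j : ℕ))⁻¹ :=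
          congrArg Subtype.val h
        have hc : Commute ((k ^ (j : ℕ))⁻¹ * k ^ (i : ℕ)) u := by
          have h2 : k ^ (i : ℕ) * u = k ^ (j : ℕ) * u * (k ^ (j : ℕ))⁻¹ * k ^ (i : ℕ) := by
            rw [← h1]; group
          show (k ^ (j : ℕ))⁻¹ * k ^ (i : ℕ) * u = u * ((k ^ (j : ℕ))⁻¹ * k ^ (i : ℕ))
          calc (k ^ (j : ℕ))⁻¹ * k ^ (i : ℕ) * u = (k ^ (j : ℕ))⁻¹ * (k ^ (i : ℕ) * u) := by
                group
            _ = (k ^ (j : ℕ))⁻¹ * (k ^ (j : ℕ) * u * (k ^ (j : ℕ))⁻¹ * k ^ (i : ℕ)) := by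
                rw [h2]
            _ = u * ((k ^ (j : ℕ))⁻¹ * k ^ (i : ℕ)) := by group
        have hcP : (k ^ (j : ℕ))⁻¹ * k ^ (i : ℕ) ∈ (P : Subgroup G) := hcent u hu hu1 _ hc
        have hq : (QuotientGroup.mk' ((P : Subgroup G).subgroupOf
            (Subgroup.normalizer ((P : Subgroup G) : Set G))) ⟨k, hk⟩) ^ (j : ℕ) =
            (QuotientGroup.mk' ((P : Subgroup G).subgroupOf
            (Subgroup.normalizer ((P : Subgroup G) : Set G))) ⟨k, hk⟩) ^ (i : ℕ) := by
          rw [← map_pow, ← map_pow, QuotientGroup.mk'_apply, QuotientGroup.mk'_apply,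
            QuotientGroup.eq, hmemP']
          exact hcP
        have hij : (j : ℕ) = (i : ℕ) :=
          pow_injOn_Iio_orderOf (by rw [Set.mem_Iio, hord]; exact j.2)
            (by rw [Set.mem_Iio, hord]; exact i.2) hq
        exact congrArg some (Fin.ext hij.symm)
    have hFbij : Function.Bijective F := by
      apply hFinj.bijective_of_nat_card_le
      rw [hP, Nat.card_eq_fintype_card, Fintype.card_option, Fintype.card_fin]
      have h1 := hp.one_lt
      generalize 2 ^ n = q at h1 ⊢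
      omega
    obtain ⟨o, ho⟩ := hFbij.2 ⟨y, hy⟩
    match o, ho with
    | none, ho => exact absurd (congrArg Subtype.val ho).symm hy1
    | some i, ho => exact ⟨i, (congrArg Subtype.val ho).symm⟩

/-- **[CT-B]** -/
theorem ct_sylow2_borel {G : Type u} [Group G] [Finite G]
    {n : ℕ} (hn : 2 ≤ n) (hp : (2 ^ n - 1).Prime) (P : Sylow 2 G)
    (hP : Nat.card P = 2 ^ n)
    (hN : Nat.card (Subgroup.normalizer ((P : Subgroup G) : Set G)) = 2 ^ n * (2 ^ n - 1))
    (hPc : IsMulCommutative P)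
    (hcent : ∀ u ∈ P, u ≠ 1 → ∀ g : G, Commute g u → g ∈ P) :
    (∀ K : Subgroup G, K ≤ Subgroup.normalizer ((P : Subgroup G) : Set G) →
        ¬ IsMulCommutative K → K = Subgroup.normalizer ((P : Subgroup G) : Set G)) ∧
    (∀ x : G, x ^ 4 = 1 → x ^ 2 = 1) := by
  obtain ⟨hcomm, hkey⟩ := h97_ctb_key hp P hP hN hcent
  have hPcomm : ∀ a ∈ (P : Subgroup G), ∀ b ∈ (P : Subgroup G), a * b = b * a :=
    (comm_iff (P : Subgroup G)).mp hPc
  have hr1 : 1 < 2 ^ n - 1 := hp.one_lt
  constructor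
  · intro K hKN hK
    have hex : ∃ k ∈ K, k ∉ (P : Subgroup G) := by
      by_contra hcon
      apply hK
      rw [comm_iff]
      intro a ha b hb
      have haP : a ∈ (P : Subgroup G) := by
        by_contra h0
        exact hcon ⟨a, ha, h0⟩
      have hbP : b ∈ (P : Subgroup G) := by
        by_contra h0
        exact hcon ⟨b, hb, h0⟩
      exact hPcomm a haP b hbP
    obtain ⟨k, hkK, hkP⟩ := hex
    have hex2 : ∃ u ∈ K, u ∈ (P : Subgroup G) ∧ u ≠ 1 := by
      by_contra hcon
      apply hK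
      rw [comm_iff]
      intro a ha b hb
      have h1 : a * b * a⁻¹ * b⁻¹ ∈ (P : Subgroup G) := hcomm a (hKN ha) b (hKN hb)
      have h2 : a * b * a⁻¹ * b⁻¹ ∈ K :=
        mul_mem (mul_mem (mul_mem ha hb) (inv_mem ha)) (inv_mem hb)
      have h3 : a * b * a⁻¹ * b⁻¹ = 1 := by
        by_contra h4
        exact hcon ⟨_, h2, h1, h4⟩
      calc a * b = (a * b * a⁻¹ * b⁻¹) * (b * a) := by group
        _ = b * a := by rw [h3, one_mul]
    obtain ⟨u, huK, huP, hu1⟩ := hex2
    have hPK : (P : Subgroup G) ≤ K := by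
      intro y hy
      by_cases hy1 : y = 1
      · rw [hy1]; exact K.one_mem
      · obtain ⟨i, hi⟩ := hkey u huP hu1 k (hKN hkK) hkP y hy hy1
        rw [hi]
        exact mul_mem (mul_mem (pow_mem hkK i) huK) (inv_mem (pow_mem hkK i))
    have hd1 : Nat.card (P : Subgroup G) ∣ Nat.card K := Subgroup.card_dvd_of_le hPK
    have hd2 : Nat.card K ∣ Nat.card (Subgroup.normalizer ((P : Subgroup G) : Set G)) :=
      Subgroup.card_dvd_of_le hKN
    rw [hP] at hd1
    rw [hN] at hd2
    obtain ⟨m, hm⟩ := hd1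
    rw [hm] at hd2
    have hm' : m ∣ 2 ^ n - 1 := Nat.dvd_of_mul_dvd_mul_left (by positivity) hd2
    rcases (Nat.dvd_prime hp).mp hm' with h1 | h1
    · exfalso
      apply hkP
      have h5 : (P : Subgroup G) = K :=
        Subgroup.eq_of_le_of_card_ge hPK (by rw [hm, h1, mul_one, hP])
      rw [h5]; exact hkK
    · exact Subgroup.eq_of_le_of_card_ge hKN (by rw [hN, hm, h1])
  · have hex : ∃ k ∈ Subgroup.normalizer ((P : Subgroup G) : Set G), k ∉ (P : Subgroup G) := by
      by_contra hcon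
      have hle : Subgroup.normalizer ((P : Subgroup G) : Set G) ≤ (P : Subgroup G) := by
        intro k hk
        by_contra h0
        exact hcon ⟨k, hk, h0⟩
      have h1 := Subgroup.card_le_of_le hle
      rw [hN, hP] at h1
      have h2 : 2 ^ n * 2 ≤ 2 ^ n * (2 ^ n - 1) := Nat.mul_le_mul_left _ hr1
      have h3 : 0 < 2 ^ n := by positivity
      omega
    obtain ⟨k, hkN, hkP⟩ := hex
    haveI : Fact (Nat.Prime 2) := ⟨Nat.prime_two⟩
    have h2dvd : 2 ∣ Nat.card (P : Subgroup G) := by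
      rw [hP]; exact dvd_pow_self 2 (by omega)
    obtain ⟨t, ht⟩ := exists_prime_orderOf_dvd_card' (G := ↥(P : Subgroup G)) 2 h2dvd
    have ht1 : (t : G) ≠ 1 := by
      intro h
      have h0 : t = 1 := Subtype.ext h
      rw [h0, orderOf_one] at ht
      omega
    have ht2 : (t : G) ^ 2 = 1 := by
      have h := pow_orderOf_eq_one t
      rw [ht] at h
      have h0 := congrArg Subtype.val h
      simpa using h0
    have hsq : ∀ y ∈ (P : Subgroup G), y ^ 2 = 1 := by
      intro y hy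
      by_cases hy1 : y = 1
      · rw [hy1, one_pow]
      · obtain ⟨i, hi⟩ := hkey (t : G) t.2 ht1 k hkN hkP y hy hy1
        rw [hi, conj_pow, ht2, mul_one, mul_inv_cancel]
    intro x hx
    have hpg : IsPGroup 2 (Subgroup.zpowers x) := by
      have hdvd : orderOf x ∣ 2 ^ 2 := orderOf_dvd_of_pow_eq_one (by norm_num; exact hx)
      obtain ⟨j, -, hj⟩ := (Nat.dvd_prime_pow Nat.prime_two).mp hdvd
      exact IsPGroup.of_card (n := j) (by rw [Nat.card_zpowers, hj])
    obtain ⟨Q, hQ⟩ := hpg.exists_le_sylow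
    obtain ⟨g, hg⟩ := MulAction.exists_smul_eq G Q P
    have hxP : g * x * g⁻¹ ∈ (P : Subgroup G) := by
      have h1 : g * x * g⁻¹ ∈ ((g • Q : Sylow 2 G) : Subgroup G) := by
        rw [Sylow.coe_subgroup_smul]
        exact ⟨x, hQ (Subgroup.mem_zpowers x), rfl⟩
      rwa [hg] at h1
    have h3 := hsq _ hxP
    rw [conj_pow] at h3
    have h4 : x ^ 2 = g⁻¹ * (g * x ^ 2 * g⁻¹) * g := by group
    rw [h4, h3]; group

end Cfsg.Agent.Lib.helper97.SNG
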