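import Mathlib
import Cfsg.Agent.Lib.helper49.SPEDefs
import Cfsg.Agent.Lib.helper49.SPEPBIL

/-! S2333 split (architect helper49), piece PIND (racing copy, helper97): two vectors with
non-zero polar form are independent (characteristic 2). -/

set_option autoImplicit false

namespace Cfsg.Agent.Lib.helper49.SPE

open Matrix

/-- PIND (racing copy) -/
theorem h97_indep_of_polar {F : Type*} [Field F] {n : ℕ} (h2 : (2 : F) = 0)
    (Q : (Fin n → F) → F) (hQ : IsQF Q) (u v : Fin n → F) (h : polar Q u v ≠ 0) : Indep u v := by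
  obtain ⟨h_add, h_smul, h_symm, h_hom, h_diag⟩ := polar_bilin Q hQ
  have hzero : ∀ w : Fin n → F, polar Q 0 w = 0 := by
    intro w
    have h0 := h_smul 0 u w
    rw [zero_smul, zero_mul] at h0
    exact h0
  intro s t hst
  have e1 : polar Q (s • u + t • v) v = s * polar Q u v + t * polar Q v v := by
    rw [h_add, h_smul, h_smul]
  have e2 : polar Q (s • u + t • v) u = s * polar Q u u + t * polar Q v u := by
    rw [h_add, h_smul, h_smul]
  rw [hst, hzero, h_diag, h2, zero_mul, mul_zero, add_zero] at e1
  rw [hst, hzero, h_diag, h2, zero_mul, mul_zero, zero_add, h_symm v u] at e2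
  refine ⟨?_, ?_⟩
  · rcases mul_eq_zero.1 e1.symm with h0 | h0
    · exact h0
    · exact absurd h0 h
  · rcases mul_eq_zero.1 e2.symm with h0 | h0
    · exact h0
    · exact absurd h0 h

end Cfsg.Agent.Lib.helper49.SPE
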