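import Mathlib
import Cfsg.Agent.Lib.helper24.SfoDefs

/-!
# S5981, piece OIDX (core, helper97): index arithmetic for the orthogonal similarity group

The lower bound OLB for the `r`-part of the isometry group and the fact ODET that isometries have
determinant of square one are taken as hypotheses.
-/

set_option autoImplicit false
set_option linter.unusedVariables false
set_option linter.style.longLine false

namespace Cfsg.Agent.Lib.helper24

open Module Matrix Cfsg.Geo

/-- `r ∣ q ^ t - 1` iff the order of `q` modulo `r` divides `t`. -/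
theorem helper97_sfo_dvd_iff (q r t : ℕ) (hq : 1 ≤ q) :
    r ∣ q ^ t - 1 ↔ orderOf ((q : ℕ) : ZMod r) ∣ t := by
  rw [orderOf_dvd_iff_pow_eq_one, ← ZMod.natCast_eq_zero_iff,
    Nat.cast_sub (Nat.one_le_pow _ _ hq), Nat.cast_pow, Nat.cast_one, sub_eq_zero]

theorem helper97_sfo_padic_prod {ι : Type*} (p : ℕ) [hp : Fact p.Prime] (s : Finset ι)
    (f : ι → ℕ) (hf : ∀ i ∈ s, f i ≠ 0) :
    padicValNat p (∏ i ∈ s, f i) = ∑ i ∈ s, padicValNat p (f i) := by
  classical
  induction s using Finset.induction_on with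
  | empty => simp
  | insert a s ha ih =>
    rw [Finset.prod_insert ha, Finset.sum_insert ha,
      padicValNat.mul (hf a (Finset.mem_insert_self a s))
        (Finset.prod_ne_zero_iff.2 (fun i hi => hf i (Finset.mem_insert_of_mem hi))),
      ih (fun i hi => hf i (Finset.mem_insert_of_mem hi))]

/-- The `r`-adic valuation of the order formula of `GL_n(q)`. -/
theorem helper97_sfo_val_GL (q r n : ℕ) [hr : Fact r.Prime] (hq2 : 2 ≤ q) (hrq : ¬ r ∣ q) :
    padicValNat r (∏ i : Fin n, (q ^ n - q ^ (i : ℕ))) =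
      ∑ t ∈ Finset.range n, padicValNat r (q ^ (t + 1) - 1) := by
  have hne : ∀ i ∈ (Finset.univ : Finset (Fin n)), q ^ n - q ^ (i : ℕ) ≠ 0 := by
    intro i _
    have := Nat.pow_lt_pow_right (by omega : 1 < q) i.2
    omega
  rw [helper97_sfo_padic_prod r _ _ hne]
  have hsplit : ∀ i : Fin n,
      padicValNat r (q ^ n - q ^ (i : ℕ)) = padicValNat r (q ^ (n - 1 - (i : ℕ) + 1) - 1) := by
    intro i
    have hi := i.2
    have h1 : q ^ n - q ^ (i : ℕ) = q ^ (i : ℕ) * (q ^ (n - 1 - (i : ℕ) + 1) - 1) := by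
      rw [Nat.mul_sub, mul_one, ← pow_add]
      have e : (i : ℕ) + (n - 1 - (i : ℕ) + 1) = n := by omega
      rw [e]
    have h2 : q ^ (n - 1 - (i : ℕ) + 1) - 1 ≠ 0 := by
      have := Nat.pow_lt_pow_right (by omega : 1 < q) (by omega : 0 < n - 1 - (i : ℕ) + 1)
      rw [pow_zero] at this
      omega
    have h4 : q ^ (i : ℕ) ≠ 0 := by positivity
    rw [h1, padicValNat.mul h4 h2,
      padicValNat.eq_zero_of_not_dvd (fun h => hrq (hr.out.dvd_of_dvd_pow h)), zero_add]
  simp only [hsplit]
  rw [Fin.sum_univ_eq_sum_range (fun t => padicValNat r (q ^ (n - 1 - t + 1) - 1)) n]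
  exact Finset.sum_range_reflect (fun t => padicValNat r (q ^ (t + 1) - 1)) n

/-- OIDX core: OLB and ODET as hypotheses. -/
theorem helper97_sfo_idx_even_core {F : Type*} [Field F] [Fintype F] {n : ℕ}
    (Q : (Fin n → F) → F) (r : ℕ) [Fact r.Prime]
    (hr2 : r ≠ 2) (hrF : (r : F) ≠ 0)
    (hdet : ∀ g : GL (Fin n) F, g ∈ sfoIsom Q → (g : Matrix (Fin n) (Fin n) F).det ^ 2 = 1)
    (hOLB : (∑ t ∈ (Finset.range n).filter (fun t => orderOf ((Fintype.card F : ℕ) : ZMod r) ∣ t),
        padicValNat r (Fintype.card F ^ t - 1)) +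
      (if orderOf ((Fintype.card F : ℕ) : ZMod r) ∣ n ∧ r ∣ sfoCount Q 1 then
        padicValNat r (Fintype.card F ^ n - 1) else 0)
      ≤ padicValNat r (Nat.card (sfoIsom Q)))
    (hΩ : r ∣ (quadSimilarityGroup Q).relIndex (specialLinear (Fin n) F)) :
    orderOf ((Fintype.card F : ℕ) : ZMod r) ∣ n ∧ ¬ r ∣ sfoCount Q 1 := by
  classical
  by_contra hcon
  have hr : r.Prime := Fact.out
  have hq2 : 2 ≤ Fintype.card F := Fintype.one_lt_card
  have hrq : ¬ r ∣ Fintype.card F := by
    intro h4
    apply hrF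
    obtain ⟨p, hp⟩ := CharP.exists F
    have := hp
    obtain ⟨k, hpp, hk⟩ := FiniteField.card F p
    rw [hk] at h4
    have h5 : r ∣ p := Nat.Prime.dvd_of_dvd_pow hr h4
    have h6 : r = p := (Nat.prime_dvd_prime_iff_eq hr hpp).1 h5
    rw [h6]
    exact CharP.cast_eq_zero F p
  -- Step 1: the `r`-part of `GL_n(q)` is at most that of the isometry group
  have h1 : padicValNat r (Nat.card (GL (Fin n) F)) ≤ padicValNat r (Nat.card (sfoIsom Q)) := by
    refine le_trans ?_ hOLB
    rw [Matrix.card_GL_field, helper97_sfo_val_GL (Fintype.card F) r n hq2 hrq]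
    have hA := Finset.sum_range_succ' (fun t => padicValNat r (Fintype.card F ^ t - 1)) n
    have hA' := Finset.sum_range_succ (fun t => padicValNat r (Fintype.card F ^ t - 1)) n
    have h0 : padicValNat r (Fintype.card F ^ 0 - 1) = 0 := by simp
    have hB : ∑ t ∈ (Finset.range n).filter
          (fun t => orderOf ((Fintype.card F : ℕ) : ZMod r) ∣ t),
          padicValNat r (Fintype.card F ^ t - 1) =
        ∑ t ∈ Finset.range n, padicValNat r (Fintype.card F ^ t - 1) := by
      apply Finset.sum_filter_of_ne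
      intro t _ ht
      by_contra hnd
      apply ht
      apply padicValNat.eq_zero_of_not_dvd
      rw [helper97_sfo_dvd_iff _ _ _ (by omega)]
      exact hnd
    have hC : padicValNat r (Fintype.card F ^ n - 1) ≤
        (if orderOf ((Fintype.card F : ℕ) : ZMod r) ∣ n ∧ r ∣ sfoCount Q 1 then
          padicValNat r (Fintype.card F ^ n - 1) else 0) := by
      by_cases hd : orderOf ((Fintype.card F : ℕ) : ZMod r) ∣ n
      · have hN : r ∣ sfoCount Q 1 := by
          by_contra hN
          exact hcon ⟨hd, hN⟩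
        rw [if_pos ⟨hd, hN⟩]
      · have : padicValNat r (Fintype.card F ^ n - 1) = 0 := by
          apply padicValNat.eq_zero_of_not_dvd
          rw [helper97_sfo_dvd_iff _ _ _ (by omega)]
          exact hd
        rw [this]
        exact Nat.zero_le _
    rw [hB]
    omega
  -- Step 2: a Sylow `r`-subgroup of the isometry group lies in `quadSimilarityGroup Q ⊓ SL`
  obtain ⟨P⟩ : Nonempty (Sylow r (sfoIsom Q)) := inferInstance
  have hPcard : Nat.card P = r ^ (Nat.card (sfoIsom Q)).factorization r :=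
    Sylow.card_eq_multiplicity P
  rw [Nat.factorization_def _ hr] at hPcard
  have hle : (P : Subgroup (sfoIsom Q)).map (sfoIsom Q).subtype ≤
      quadSimilarityGroup Q ⊓ specialLinear (Fin n) F := by
    rintro _ ⟨g, hg, rfl⟩
    refine ⟨?_, ?_⟩
    · exact ⟨1, fun v => by rw [Units.val_one, one_mul]; exact g.2 v⟩
    · show ((sfoIsom Q).subtype g) ∈ (Matrix.GeneralLinearGroup.det : GL (Fin n) F →* Fˣ).ker
      rw [MonoidHom.mem_ker]
      obtain ⟨k, hk⟩ := P.isPGroup' ⟨g, hg⟩
      have hk1 : g ^ r ^ k = 1 := by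
        have := congrArg Subtype.val hk
        simpa using this
      have hk2 : ((sfoIsom Q).subtype g) ^ r ^ k = 1 := by
        rw [← map_pow, hk1, map_one]
      have hd1 : (Matrix.GeneralLinearGroup.det ((sfoIsom Q).subtype g)) ^ r ^ k = 1 := by
        rw [← map_pow, hk2, map_one]
      have hd2 : (Matrix.GeneralLinearGroup.det ((sfoIsom Q).subtype g)) ^ 2 = 1 := by
        apply Units.ext
        rw [Units.val_pow_eq_pow_val, Matrix.GeneralLinearGroup.val_det_apply, Units.val_one]
        exact hdet _ g.2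
      have ho1 := orderOf_dvd_of_pow_eq_one hd1
      have ho2 := orderOf_dvd_of_pow_eq_one hd2
      have hcop : Nat.Coprime 2 (r ^ k) :=
        Nat.Coprime.pow_right k ((Nat.coprime_primes Nat.prime_two hr).2 (Ne.symm hr2))
      have ho3 : orderOf (Matrix.GeneralLinearGroup.det ((sfoIsom Q).subtype g)) ∣ 1 := by
        have := Nat.dvd_gcd ho2 ho1
        rwa [hcop.gcd_eq_one] at this
      exact orderOf_eq_one_iff.1 (Nat.dvd_one.1 ho3)
  have hcardmap : Nat.card ((P : Subgroup (sfoIsom Q)).map (sfoIsom Q).subtype) = Nat.card P :=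
    Subgroup.card_map_of_injective (Subgroup.subtype_injective _)
  have hdvd1 : r ^ padicValNat r (Nat.card (sfoIsom Q)) ∣
      Nat.card (quadSimilarityGroup Q ⊓ specialLinear (Fin n) F : Subgroup (GL (Fin n) F)) := by
    have := Subgroup.card_dvd_of_le hle
    rwa [hcardmap, hPcard] at this
  have hmul : Nat.card (quadSimilarityGroup Q ⊓ specialLinear (Fin n) F : Subgroup (GL (Fin n) F)) *
      (quadSimilarityGroup Q).relIndex (specialLinear (Fin n) F) =
      Nat.card (specialLinear (Fin n) F) := by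
    have := Subgroup.relIndex_mul_relIndex ⊥ (quadSimilarityGroup Q ⊓ specialLinear (Fin n) F)
      (specialLinear (Fin n) F) bot_le inf_le_right
    rwa [Subgroup.relIndex_bot_left, Subgroup.relIndex_bot_left, Subgroup.inf_relIndex_right]
      at this
  have hdvd2 : r ^ (padicValNat r (Nat.card (sfoIsom Q)) + 1) ∣ Nat.card (GL (Fin n) F) := by
    refine dvd_trans ?_ (Subgroup.card_subgroup_dvd_card (specialLinear (Fin n) F))
    rw [← hmul, pow_succ]
    exact mul_dvd_mul hdvd1 hΩ
  have hGL0 : Nat.card (GL (Fin n) F) ≠ 0 := Nat.card_pos.ne'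
  have h6 := (padicValNat_dvd_iff_le (p := r) hGL0).1 hdvd2
  omega

end Cfsg.Agent.Lib.helper24
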