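import Mathlib
import Cfsg.Agent.Lib.helper24.SfoDefs
import Cfsg.Agent.Lib.helper97.SfoOIDXcore
import Cfsg.Agent.Lib.helper30.SfoOLB
import Cfsg.Agent.Lib.helper83.SfoODET

/-!
# S5981, piece OIDX (helper97): index arithmetic for the orthogonal similarity group

The verbatim statement `sfo_idx_even`, from the core `helper97_sfo_idx_even_core`, OLB
(`sfo_card_lb`, helper30) and ODET (`sfo_det_sq`, helper83).
-/

set_option autoImplicit false
set_option linter.unusedVariables false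

namespace Cfsg.Agent.Lib.helper24

open Module Matrix Cfsg.Geo

/-- OIDX -/
theorem sfo_idx_even {F : Type*} [Field F] [Fintype F] {n : ℕ} (hn : 1 ≤ n) (h2 : (2 : F) ≠ 0)
    (Q : (Fin n → F) → F) (hQ : IsNondegenerateQuadraticForm Q) (r : ℕ) [Fact r.Prime]
    (hr2 : r ≠ 2) (hrF : (r : F) ≠ 0) (hnd : ¬ r ∣ Fintype.card F - 1)
    (hi : Even (orderOf ((Fintype.card F : ℕ) : ZMod r)))
    (hΩ : r ∣ (quadSimilarityGroup Q).relIndex (specialLinear (Fin n) F)) :
    orderOf ((Fintype.card F : ℕ) : ZMod r) ∣ n ∧ ¬ r ∣ sfoCount Q 1 :=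
  helper97_sfo_idx_even_core Q r hr2 hrF (fun g hg => sfo_det_sq h2 Q hQ g hg)
    (sfo_card_lb h2 r hr2 hrF hnd hi n Q hQ) hΩ

end Cfsg.Agent.Lib.helper24
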