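import Mathlib

/-!
# S5973 piece ARIE-N (`stp_arith_nec`), insurance copy under the prefixed name `h97_stp_arith_nec`

Pure arithmetic.  With `D = 2d / i`, `ρ = 2d % i`, `μ = m / i`, `ν = m % i` the witness is
`j = D`, `D - 1` or `D - 2`.
-/

set_option autoImplicit false
set_option linter.unusedVariables false

namespace Cfsg.Agent.Lib.helper24

/-- Uniqueness of division with remainder. -/
theorem h97_arien_U (i m μ ν a b : ℕ) (hi0 : 0 < i) (hμ : i * μ + ν = m) (hν : ν < i)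
    (h1 : a + i * b = m) (ha : a < i) : b = μ ∧ a = ν := by
  have hU := (Nat.div_mod_unique hi0).mpr ⟨h1, ha⟩
  have hU' := (Nat.div_mod_unique hi0).mpr ⟨(by omega : ν + i * μ = m), hν⟩
  exact ⟨by rw [← hU.1, hU'.1], by rw [← hU.2, hU'.2]⟩

/-- A smaller quotient forces a remainder `≥ i`. -/
theorem h97_arien_L (i m μ ν a b : ℕ) (hμ : i * μ + ν = m)
    (h1 : a + i * b = m) (hb : b + 1 ≤ μ) : ν + i ≤ a := by
  have h2 : i * (b + 1) ≤ i * μ := Nat.mul_le_mul_left i hb
  rw [Nat.mul_succ] at h2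
  omega

/-- The witness `j = D`. -/
theorem h97_arien_w0 (i t d m D ρ μ ν : ℕ) (hi0 : 0 < i)
    (hD : i * D + ρ = 2 * d) (hρ : ρ < i) (hμ : i * μ + ν = m) (hν : ν < i)
    (hD1 : 1 ≤ D) (hval : ρ = 0 → D % 2 = 0)
    (hfail : ¬ (μ ≤ (D + 1 - t) / 2 ∧ 2 * (ν + D % 2) ≤ ρ)) :
    ∃ j : ℕ, 1 ≤ j ∧ i * j ≤ 2 * d ∧ (i * j = 2 * d → Even j) ∧
      ∀ a b : ℕ, a + i * b = m → b ≤ (j + 1 - t) / 2 →
        2 * (a + (if Odd j then 1 else 0)) ≤ 2 * d - i * j → False := by
  refine ⟨D, hD1, by omega, fun h => ?_, fun a b h1 h2 h3 => ?_⟩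
  · rw [Nat.even_iff]; apply hval; omega
  · have h4 : 2 * d - i * D = ρ := by omega
    rw [h4] at h3
    have ha : a < i := by omega
    obtain ⟨hb, ha'⟩ := h97_arien_U i m μ ν a b hi0 hμ hν h1 ha
    subst hb ha'
    apply hfail
    refine ⟨h2, ?_⟩
    by_cases hj : Odd D
    · rw [if_pos hj] at h3
      rw [Nat.odd_iff] at hj
      omega
    · rw [if_neg hj] at h3
      rw [Nat.odd_iff] at hj
      omega

/-- The witness `j = D - 1`. -/
theorem h97_arien_w1 (i t d m D ρ μ ν : ℕ) (hi0 : 0 < i)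
    (hD : i * D + ρ = 2 * d) (hρ : ρ < i) (hμ : i * μ + ν = m) (hν : ν < i)
    (hD2 : 2 ≤ D)
    (hfail : ∀ a b : ℕ, a + i * b = m → b ≤ (D - t) / 2 →
      2 * (a + (1 - D % 2)) ≤ ρ + i → False) :
    ∃ j : ℕ, 1 ≤ j ∧ i * j ≤ 2 * d ∧ (i * j = 2 * d → Even j) ∧
      ∀ a b : ℕ, a + i * b = m → b ≤ (j + 1 - t) / 2 →
        2 * (a + (if Odd j then 1 else 0)) ≤ 2 * d - i * j → False := by
  have hm1 : i * (D - 1) + i = i * D := by
    rw [← Nat.mul_succ]; congr 1; omega
  refine ⟨D - 1, by omega, by omega, fun h => absurd h (by omega), fun a b h1 h2 h3 => ?_⟩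
  have h4 : 2 * d - i * (D - 1) = ρ + i := by omega
  rw [h4] at h3
  have h5 : D - 1 + 1 - t = D - t := by omega
  rw [h5] at h2
  apply hfail a b h1 h2
  by_cases hj : Odd (D - 1)
  · rw [if_pos hj] at h3
    rw [Nat.odd_iff] at hj
    omega
  · rw [if_neg hj] at h3
    rw [Nat.odd_iff] at hj
    omega

/-- The witness `j = D - 2`. -/
theorem h97_arien_w2 (i t d m D ρ μ ν : ℕ) (hi0 : 0 < i)
    (hD : i * D + ρ = 2 * d) (hρ0 : ρ = 0) (hμ : i * μ + ν = m) (hν : ν < i)
    (hD3 : 3 ≤ D) (hodd : D % 2 = 1) (hμ1 : 1 ≤ μ) (ht : t + 2 * μ = D) :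
    ∃ j : ℕ, 1 ≤ j ∧ i * j ≤ 2 * d ∧ (i * j = 2 * d → Even j) ∧
      ∀ a b : ℕ, a + i * b = m → b ≤ (j + 1 - t) / 2 →
        2 * (a + (if Odd j then 1 else 0)) ≤ 2 * d - i * j → False := by
  have hm2 : i * (D - 2) + i * 2 = i * D := by
    rw [← Nat.mul_add]; congr 1; omega
  refine ⟨D - 2, by omega, by omega, fun h => absurd h (by omega), fun a b h1 h2 h3 => ?_⟩
  have hj : Odd (D - 2) := by rw [Nat.odd_iff]; omega
  rw [if_pos hj] at h3
  have h4 : 2 * d - i * (D - 2) = 2 * i := by omega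
  rw [h4] at h3
  have hb : b + 1 ≤ μ := by omega
  have := h97_arien_L i m μ ν a b hμ h1 hb
  omega

/-- ARIE-N (verbatim statement of `stp_arith_nec`). -/
theorem h97_stp_arith_nec (i t d m : ℕ) (hi : Even i) (hi0 : 0 < i) (ht : 1 ≤ t) (hm : 1 ≤ m)
    (hmd : m < d)
    (hcount : ∃ j₀, j₀ < m ∧ (i ∣ d - j₀ ∨ (i ∣ 2 * (d - j₀ - 1) ∧ ¬ i ∣ d - j₀ - 1)))
    (hC : ¬ (i ≤ m ∧ t + 2 * (m / i) ≤ (2 * d) / i ∧
      ((2 * (m % i) ≤ i ∧ (2 * d) % i = 0 ∧ Odd ((2 * d) / i) ∧ t + 2 * (m / i) < (2 * d) / i) ∨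
       (2 * (m % i) ≤ (2 * d) % i ∧ Even ((2 * d) / i)) ∨
       (2 * (m % i) < (2 * d) % i ∧ Odd ((2 * d) / i))))) :
    ∃ j : ℕ, 1 ≤ j ∧ i * j ≤ 2 * d ∧ (i * j = 2 * d → Even j) ∧
      ∀ a b : ℕ, a + i * b = m → b ≤ (j + 1 - t) / 2 →
        2 * (a + (if Odd j then 1 else 0)) ≤ 2 * d - i * j → False := by
  obtain ⟨h, hh⟩ := hi
  have hD := Nat.div_add_mod (2 * d) i
  have hρ := Nat.mod_lt (2 * d) hi0
  have hμ := Nat.div_add_mod m i
  have hν := Nat.mod_lt m hi0
  simp only [Nat.odd_iff, Nat.even_iff] at hC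
  generalize (2 * d) / i = D at hD hC
  generalize (2 * d) % i = ρ at hD hρ hC
  generalize m / i = μ at hμ hC
  generalize m % i = ν at hμ hν hC
  have hμ1 : 1 ≤ μ → i ≤ i * μ := fun h' => Nat.le_mul_of_pos_right i h'
  have hμ0 : μ = 0 → i * μ = 0 := by rintro rfl; rfl
  have hD0' : D = 0 → i * D = 0 := by rintro rfl; rfl
  have hD1' : D = 1 → i * D = i := by rintro rfl; exact Nat.mul_one i
  by_cases hmi : m < i
  · -- `m < i`: here the count hypothesis is needed
    have hμz : μ = 0 := by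
      by_contra h0
      have := hμ1 (by omega)
      omega
    have hνm : ν = m := by
      have := hμ0 hμz
      omega
    obtain ⟨j₀, hj₀, hc⟩ := hcount
    rcases hc with ⟨c, hc⟩ | ⟨⟨c, hc⟩, hnd⟩
    · have hc1 : 1 ≤ c := by
        by_contra h0
        have h0' : c = 0 := by omega
        rw [h0', Nat.mul_zero] at hc
        omega
      have hic : i * (2 * c) = 2 * (i * c) := by ring
      have hic1 : i * (2 * c + 1) = 2 * (i * c) + i := by ring
      by_cases h2j : 2 * j₀ < i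
      · obtain ⟨hDc, hρj⟩ := h97_arien_U i (2 * d) D ρ (2 * j₀) (2 * c) hi0 hD hρ
          (by omega) h2j
        exact h97_arien_w0 i t d m D ρ μ ν hi0 hD hρ hμ hν (by omega) (fun _ => by omega)
          (fun hf => by omega)
      · obtain ⟨hDc, hρj⟩ := h97_arien_U i (2 * d) D ρ (2 * j₀ - i) (2 * c + 1) hi0 hD hρ
          (by omega) (by omega)
        by_cases hρ0 : ρ = 0
        · refine h97_arien_w1 i t d m D ρ μ ν hi0 hD hρ hμ hν (by omega) ?_
          intro a b h1 h2 h3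
          have hb0 : b = 0 := by
            by_contra hb
            have : i ≤ i * b := Nat.le_mul_of_pos_right i (by omega)
            omega
          rw [hb0, Nat.mul_zero] at h1
          omega
        · exact h97_arien_w0 i t d m D ρ μ ν hi0 hD hρ hμ hν (by omega) (fun h0 => absurd h0 hρ0)
            (fun hf => by omega)
    · have hcodd : Odd c := by
        rcases Nat.even_or_odd c with ⟨c', hc'⟩ | ho
        · exfalso
          apply hnd
          refine ⟨c', ?_⟩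
          have h1 : i * c = 2 * (i * c') := by rw [hc']; ring
          omega
        · exact ho
      obtain ⟨c', hc'⟩ := hcodd
      rw [hc'] at hc
      have hic2 : i * (2 * c' + 2) = i * (2 * c' + 1) + i := by ring
      by_cases h2j : 2 * j₀ + 2 < i
      · obtain ⟨hDc, hρj⟩ := h97_arien_U i (2 * d) D ρ (2 * j₀ + 2) (2 * c' + 1) hi0 hD hρ
          (by omega) h2j
        exact h97_arien_w0 i t d m D ρ μ ν hi0 hD hρ hμ hν (by omega) (fun h0 => by omega)
          (fun hf => by omega)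
      · obtain ⟨hDc, hρj⟩ := h97_arien_U i (2 * d) D ρ (2 * j₀ + 2 - i) (2 * c' + 2) hi0 hD hρ
          (by omega) (by omega)
        exact h97_arien_w0 i t d m D ρ μ ν hi0 hD hρ hμ hν (by omega) (fun h0 => by omega)
          (fun hf => by omega)
  · -- `i ≤ m`
    have hμp : 1 ≤ μ := by
      by_contra h0
      have := hμ0 (by omega)
      omega
    have hDp : 1 ≤ D := by
      by_contra h0
      have := hD0' (by omega)
      omega
    by_cases hval : ρ = 0 ∧ D % 2 = 1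
    · have hD3 : 3 ≤ D := by
        by_contra h0
        have hD1 : D = 1 := by omega
        have := hD1' hD1
        omega
      by_cases hkey : 2 * ν ≤ i ∧ t + 2 * μ = D
      · exact h97_arien_w2 i t d m D ρ μ ν hi0 hD hval.1 hμ hν hD3 hval.2 hμp hkey.2
      · refine h97_arien_w1 i t d m D ρ μ ν hi0 hD hρ hμ hν (by omega) ?_
        intro a b h1 h2 h3
        obtain ⟨hb, ha'⟩ := h97_arien_U i m μ ν a b hi0 hμ hν h1 (by omega)
        subst hb ha'
        omega
    · by_cases hkey : t + 2 * μ = D + 1 ∧ 2 * (ν + D % 2) ≤ ρ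
      · refine h97_arien_w1 i t d m D ρ μ ν hi0 hD hρ hμ hν (by omega) ?_
        intro a b h1 h2 h3
        have := h97_arien_L i m μ ν a b hμ h1 (by omega)
        omega
      · exact h97_arien_w0 i t d m D ρ μ ν hi0 hD hρ hμ hν hDp (fun h0 => by omega)
          (fun hf => by omega)

end Cfsg.Agent.Lib.helper24
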