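import Mathlib

/-!
# S5973 piece ARIE-S (`stp_arith_suff`), insurance copy under the prefixed name
`h97_stp_arith_suff`

Pure arithmetic.  With `μ = m / i` the witness is `B = min S μ`.
-/

set_option autoImplicit false
set_option linter.unusedVariables false

namespace Cfsg.Agent.Lib.helper24

/-- ARIE-S (verbatim statement of `stp_arith_suff`). -/
theorem h97_stp_arith_suff (i t d m : ℕ) (hi : Even i) (hi0 : 0 < i) (ht : 1 ≤ t) (hm : 1 ≤ m)
    (hmd : m < d)
    (hC : i ≤ m ∧ t + 2 * (m / i) ≤ (2 * d) / i ∧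
      ((2 * (m % i) ≤ i ∧ (2 * d) % i = 0 ∧ Odd ((2 * d) / i) ∧ t + 2 * (m / i) < (2 * d) / i) ∨
       (2 * (m % i) ≤ (2 * d) % i ∧ Even ((2 * d) / i)) ∨
       (2 * (m % i) < (2 * d) % i ∧ Odd ((2 * d) / i))))
    (A S k' : ℕ) (hA : 1 ≤ A) (hdim : i * A + 2 * k' = 2 * d) (hAS : A ≤ 2 * S + t)
    (hk0 : k' = 0 → Even A) :
    ∃ B a : ℕ, B ≤ S ∧ a + i * B = m ∧ a + (if Odd A then 1 else 0) ≤ k' := by
  have hD := Nat.div_add_mod (2 * d) i
  have hρ := Nat.mod_lt (2 * d) hi0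
  have hμ := Nat.div_add_mod m i
  have hν := Nat.mod_lt m hi0
  simp only [Nat.odd_iff, Nat.even_iff] at hC hk0
  generalize (2 * d) / i = D at hD hC
  generalize (2 * d) % i = ρ at hD hρ hC
  generalize m / i = μ at hμ hC
  generalize m % i = ν at hμ hν hC
  have hif : (if Odd A then 1 else 0) = A % 2 := by
    by_cases hA2 : Odd A
    · rw [if_pos hA2]; rw [Nat.odd_iff] at hA2; omega
    · rw [if_neg hA2]; rw [Nat.odd_iff] at hA2; omega
  rw [hif]
  have hAD : A ≤ D := by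
    by_contra hlt
    have h1 : i * (D + 1) ≤ i * A := Nat.mul_le_mul_left i (by omega)
    rw [Nat.mul_succ] at h1
    omega
  obtain ⟨E, hE⟩ := Nat.exists_eq_add_of_le hAD
  have hiE : i * D = i * A + i * E := by rw [hE, Nat.mul_add]
  have hk : 2 * k' = i * E + ρ := by omega
  by_cases hSμ : μ ≤ S
  · refine ⟨μ, ν, hSμ, by omega, ?_⟩
    have hE0 : E = 0 → i * E = 0 := by rintro rfl; rfl
    have hE1 : E = 1 → i * E = i := by rintro rfl; exact Nat.mul_one i
    have hE2 : 2 ≤ E → i * 2 ≤ i * E := fun h' => Nat.mul_le_mul_left i h'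
    have h3 : E = 0 ∨ E = 1 ∨ 2 ≤ E := by omega
    rcases h3 with h3 | h3 | h3
    · have := hE0 h3; omega
    · have := hE1 h3; omega
    · have := hE2 h3; omega
  · have hS : S + 1 ≤ μ := by omega
    obtain ⟨F, hF⟩ := Nat.exists_eq_add_of_le hS
    have hiμ : i * μ = i * S + i + i * F := by rw [hF]; ring
    refine ⟨S, i + i * F + ν, le_refl _, by omega, ?_⟩
    have hE' : 2 * F + 2 ≤ E := by omega
    obtain ⟨E', hE'⟩ := Nat.exists_eq_add_of_le hE'
    have hiE3 : i * E = 2 * (i * F) + 2 * i + i * E' := by rw [hE']; ring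
    have hE0 : E' = 0 → i * E' = 0 := by rintro rfl; rfl
    have hE1 : E' = 1 → i * E' = i := by rintro rfl; exact Nat.mul_one i
    have hE2 : 2 ≤ E' → i * 2 ≤ i * E' := fun h' => Nat.mul_le_mul_left i h'
    have h3 : E' = 0 ∨ E' = 1 ∨ 2 ≤ E' := by omega
    rcases h3 with h3 | h3 | h3
    · have := hE0 h3; omega
    · have := hE1 h3; omega
    · have := hE2 h3; omega

end Cfsg.Agent.Lib.helper24
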