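import Mathlib
import Cfsg.Prelude.Def_Transfer
import Cfsg.Prelude.Def_CaseTheorems
import Cfsg.Prelude.Def_ClassificationK
import Cfsg.Agent.Lib.helper28.Components
import Cfsg.Agent.Lib.helper97.SympFus

/-!
# From P. Hall's decomposition of a symplectic-type `2`-group of exponent `4` to `SympQ`

`sq_cm_of_hall`: in a finite group `T` whose characteristic abelian subgroups are cyclic, of
exponent dividing `4`, and with a central-product decomposition `T = E ∗ R` as in P. Hall's theorem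
(statement S3762), squares and commutators lie in `{1, z}` for a central involution `z`, and `z`
is the only central involution.

`sympQ_of_fstar`: the hypotheses `SympQ z Q` for `Q = F*(C_G(z))` of symplectic type and
exponent `4`, given the Hall decomposition of `F*(C_G(z))`.
-/

set_option autoImplicit false

namespace Cfsg.Agent.Lib.helper97

open Cfsg

theorem central_invol_unique {T : Type*} [Group T] [Finite T]
    (hcyc : IsCyclic (Subgroup.center T)) {z : T} (hz : z ∈ Subgroup.center T)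
    (hz2 : z * z = 1) (hz1 : z ≠ 1) :
    ∀ r ∈ Subgroup.center T, r * r = 1 → r = 1 ∨ r = z := by
  classical
  intro r hr hr2
  by_contra hcon
  push Not at hcon
  obtain ⟨hr1, hrz⟩ := hcon
  have := Fintype.ofFinite (Subgroup.center T)
  have hle := IsCyclic.card_pow_eq_one_le (α := Subgroup.center T) (n := 2) (by norm_num)
  have hsub : ({1, ⟨z, hz⟩, ⟨r, hr⟩} : Finset (Subgroup.center T)) ⊆
      Finset.univ.filter (fun a => a ^ 2 = 1) := by
    intro x hx
    simp only [Finset.mem_insert, Finset.mem_singleton] at hx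
    rw [Finset.mem_filter]
    refine ⟨Finset.mem_univ _, ?_⟩
    rcases hx with rfl | rfl | rfl
    · simp
    · apply Subtype.ext; simp [pow_two, hz2]
    · apply Subtype.ext; simp [pow_two, hr2]
  have hcard : ({1, ⟨z, hz⟩, ⟨r, hr⟩} : Finset (Subgroup.center T)).card = 3 := by
    rw [Finset.card_insert_of_notMem, Finset.card_insert_of_notMem, Finset.card_singleton]
    · rw [Finset.mem_singleton]
      intro h
      exact hrz (congrArg Subtype.val h).symm
    · simp only [Finset.mem_insert, Finset.mem_singleton]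
      rintro (h | h)
      · exact hz1 (congrArg Subtype.val h).symm
      · exact hr1 (congrArg Subtype.val h).symm
  have := Finset.card_le_card hsub
  omega

theorem cyclic_of_exp_four {T : Type*} [Group T] (R : Subgroup T) (h4 : ∀ q : T, q ^ 4 = 1)
    (h : IsCyclic R ∨ ((2 : ℕ) = 2 ∧ 16 ≤ Nat.card R ∧
      ((∃ m : ℕ, Nonempty (↥R ≃* DihedralGroup m)) ∨
        (∃ m : ℕ, Nonempty (↥R ≃* QuaternionGroup m)) ∨ Cfsg.IsQuasiDihedral ↥R))) :
    IsCyclic R := by
  have h4R : ∀ x : R, x ^ 4 = 1 := by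
    intro x
    apply Subtype.ext
    rw [Subgroup.coe_pow]
    exact h4 _
  rcases h with h | ⟨-, h16, h | h | h⟩
  · exact h
  · exfalso
    obtain ⟨m, ⟨e⟩⟩ := h
    have hc : Nat.card R = 2 * m := by rw [Nat.card_congr e.toEquiv, DihedralGroup.nat_card]
    have h1 : (DihedralGroup.r 1 : DihedralGroup m) ^ 4 = 1 := by
      have h2 := h4R (e.symm (DihedralGroup.r 1))
      have := congrArg e h2
      simpa using this
    have h3 := orderOf_dvd_of_pow_eq_one h1
    rw [DihedralGroup.orderOf_r_one] at h3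
    have := Nat.le_of_dvd (by norm_num) h3
    omega
  · exfalso
    obtain ⟨m, ⟨e⟩⟩ := h
    have h1 : (QuaternionGroup.a 1 : QuaternionGroup m) ^ 4 = 1 := by
      have h2 := h4R (e.symm (QuaternionGroup.a 1))
      have := congrArg e h2
      simpa using this
    have h3 := orderOf_dvd_of_pow_eq_one h1
    rw [QuaternionGroup.orderOf_a_one] at h3
    have h5 := Nat.le_of_dvd (by norm_num) h3
    have hm0 : m ≠ 0 := by
      rintro rfl
      simp at h3
    have : NeZero m := ⟨hm0⟩
    have hc : Nat.card R = 4 * m := by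
      rw [Nat.card_congr e.toEquiv, Nat.card_eq_fintype_card, QuaternionGroup.card]
    omega
  · exfalso
    obtain ⟨n, hn, -, x, y, hx, -, -⟩ := h
    have h3 := orderOf_dvd_of_pow_eq_one (h4R x)
    rw [hx] at h3
    have h5 := Nat.le_of_dvd (by norm_num) h3
    have h6 : 2 ^ 3 ≤ 2 ^ n := Nat.pow_le_pow_right (by norm_num) hn
    omega

theorem sq_cm_of_hall {T : Type*} [Group T] [Finite T]
    (hsymp : ∀ A : Subgroup T, A.Characteristic → IsMulCommutative A → IsCyclic A)
    (h4 : ∀ q : T, q ^ 4 = 1)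
    (hall : ∃ E R : Subgroup T, (∀ e ∈ E, ∀ r ∈ R, e * r = r * e) ∧ E ⊔ R = ⊤ ∧
      (E = ⊥ ∨ Cfsg.IsExtraspecial 2 ↥E) ∧ (IsCyclic R ∨ ((2 : ℕ) = 2 ∧ 16 ≤ Nat.card R ∧
        ((∃ m : ℕ, Nonempty (↥R ≃* DihedralGroup m)) ∨
          (∃ m : ℕ, Nonempty (↥R ≃* QuaternionGroup m)) ∨ Cfsg.IsQuasiDihedral ↥R))))
    {z : T} (hz : z ∈ Subgroup.center T) (hz2 : z * z = 1) (hz1 : z ≠ 1) :
    (∀ q : T, q * q = 1 ∨ q * q = z) ∧
    (∀ q q' : T, q * q' * q⁻¹ * q'⁻¹ = 1 ∨ q * q' * q⁻¹ * q'⁻¹ = z) ∧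
    (∀ r ∈ Subgroup.center T, r * r = 1 → r = 1 ∨ r = z) := by
  have hcycZ : IsCyclic (Subgroup.center T) := hsymp _ inferInstance inferInstance
  have huniq := central_invol_unique hcycZ hz hz2 hz1
  obtain ⟨E, R, hER, htop, hE, hR⟩ := hall
  have hRc : IsCyclic R := cyclic_of_exp_four R h4 hR
  have hcen : ∀ x : T, (∀ e ∈ E, e * x = x * e) → (∀ r ∈ R, r * x = x * r) →
      x ∈ Subgroup.center T := by
    intro x h1 h2
    have h3 : E ⊔ R ≤ Subgroup.centralizer ({x} : Set T) := by
      apply sup_le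
      · intro e he
        rw [Subgroup.mem_centralizer_iff]
        intro y hy
        rw [Set.mem_singleton_iff] at hy
        rw [hy]; exact (h1 e he).symm
      · intro r hr
        rw [Subgroup.mem_centralizer_iff]
        intro y hy
        rw [Set.mem_singleton_iff] at hy
        rw [hy]; exact (h2 r hr).symm
    rw [Subgroup.mem_center_iff]
    intro g
    have hg : g ∈ Subgroup.centralizer ({x} : Set T) := h3 (by rw [htop]; trivial)
    rw [Subgroup.mem_centralizer_iff] at hg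
    exact (hg x rfl).symm
  have hRcen : ∀ r ∈ R, r ∈ Subgroup.center T := by
    intro r hr
    apply hcen
    · intro e he; exact hER e he r hr
    · intro r' hr'
      have hcomm : (⟨r', hr'⟩ : R) * ⟨r, hr⟩ = ⟨r, hr⟩ * ⟨r', hr'⟩ :=
        (IsCyclic.commGroup (α := R)).mul_comm _ _
      exact congrArg Subtype.val hcomm
  have hRc' : ∀ r ∈ R, ∀ g : T, g * r = r * g := fun r hr =>
    Subgroup.mem_center_iff.mp (hRcen r hr)
  have hRnormal : R.Normal := by
    constructor
    intro r hr g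
    have e : g * r * g⁻¹ = r := by rw [hRc' r hr g]; group
    rw [e]; exact hr
  have hdec : ∀ q : T, ∃ e ∈ E, ∃ r ∈ R, e * r = q := by
    intro q
    have : q ∈ E ⊔ R := by rw [htop]; trivial
    exact Subgroup.mem_sup_of_normal_right.mp this
  have hEα : ∀ e ∈ E, ∀ e' ∈ E,
      (∀ x ∈ E, x * (e * e' * e⁻¹ * e'⁻¹) = (e * e' * e⁻¹ * e'⁻¹) * x) ∧
      (e * e' * e⁻¹ * e'⁻¹) * (e * e' * e⁻¹ * e'⁻¹) = 1 := by
    intro e he e' he'
    rcases hE with hbot | hex
    · rw [hbot, Subgroup.mem_bot] at he he'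
      rw [he, he']
      simp
    · obtain ⟨⟨-, -, hcomm⟩, hcard⟩ := hex
      have hmem : (⟨e, he⟩ : E) * ⟨e', he'⟩ * (⟨e, he⟩ : E)⁻¹ * (⟨e', he'⟩ : E)⁻¹ ∈
          Subgroup.center E := by
        rw [← hcomm]
        exact Subgroup.commutator_mem_commutator (Subgroup.mem_top _) (Subgroup.mem_top _)
      constructor
      · intro x hx
        have := Subgroup.mem_center_iff.mp hmem ⟨x, hx⟩
        exact congrArg Subtype.val this
      · have h2 : (⟨_, hmem⟩ : Subgroup.center E) ^ 2 = 1 := by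
          rw [← hcard]; exact pow_card_eq_one'
        have h3 := congrArg (fun w : Subgroup.center E => ((w : E) : T)) h2
        simpa [pow_two] using h3
  have hEβ : ∀ e ∈ E, ∀ x ∈ E, x * (e * e) = (e * e) * x := by
    intro e he x hx
    obtain ⟨h1, h2⟩ := hEα e he x hx
    obtain ⟨c, hc⟩ : ∃ c, c = e * x * e⁻¹ * x⁻¹ := ⟨_, rfl⟩
    rw [← hc] at h1 h2
    have hex : e * x = c * x * e := by rw [hc]; group
    have hec : e * c = c * e := h1 e he
    symm
    calc e * e * x = e * (e * x) := mul_assoc _ _ _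
      _ = e * (c * x * e) := by rw [hex]
      _ = (e * c) * x * e := by simp only [mul_assoc]
      _ = (c * e) * x * e := by rw [hec]
      _ = c * (e * x) * e := by simp only [mul_assoc]
      _ = c * (c * x * e) * e := by rw [hex]
      _ = (c * c) * x * e * e := by simp only [mul_assoc]
      _ = x * (e * e) := by rw [h2, one_mul, mul_assoc]
  have hpow4 : ∀ q : T, (q * q) * (q * q) = 1 := by
    intro q
    have : (q * q) * (q * q) = q ^ 4 := by rw [← pow_two, ← pow_two, ← pow_mul]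
    rw [this, h4]
  have hEsq : ∀ e ∈ E, e * e = 1 ∨ e * e = z := by
    intro e he
    apply huniq _ _ (hpow4 e)
    apply hcen
    · exact hEβ e he
    · intro r hr
      exact (Subgroup.mem_center_iff.mp (hRcen r hr) (e * e)).symm
  have hRsq : ∀ r ∈ R, r * r = 1 ∨ r * r = z := by
    intro r hr
    exact huniq _ (Subgroup.mul_mem _ (hRcen r hr) (hRcen r hr)) (hpow4 r)
  refine ⟨?_, ?_, huniq⟩
  · intro q
    obtain ⟨e, he, r, hr, rfl⟩ := hdec q
    have h1 : e * r * (e * r) = (e * e) * (r * r) := by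
      calc e * r * (e * r) = e * (r * e) * r := by simp only [mul_assoc]
        _ = e * (e * r) * r := by rw [← hRc' r hr e]
        _ = (e * e) * (r * r) := by simp only [mul_assoc]
    rw [h1]
    rcases hEsq e he with h | h <;> rcases hRsq r hr with h' | h' <;> rw [h, h']
    · left; rw [one_mul]
    · right; rw [one_mul]
    · right; rw [mul_one]
    · left; exact hz2
  · intro q q'
    obtain ⟨e, he, r, hr, rfl⟩ := hdec q
    obtain ⟨e', he', r', hr', rfl⟩ := hdec q'
    have key : ∀ (a b r : T), (∀ g, g * r = r * g) →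
        (a * r) * b * (a * r)⁻¹ * b⁻¹ = a * b * a⁻¹ * b⁻¹ := by
      intro a b r hr
      have h1 : (a * r) * b * (a * r)⁻¹ * b⁻¹ = a * (r * (b * r⁻¹)) * a⁻¹ * b⁻¹ := by group
      rw [h1, ← hr (b * r⁻¹)]; group
    have key2 : ∀ (a b r : T), (∀ g, g * r = r * g) →
        a * (b * r) * a⁻¹ * (b * r)⁻¹ = a * b * a⁻¹ * b⁻¹ := by
      intro a b r hr
      have h1 : a * (b * r) * a⁻¹ * (b * r)⁻¹ = a * b * (r * (a⁻¹ * r⁻¹)) * b⁻¹ := by group
      rw [h1, ← hr (a⁻¹ * r⁻¹)]; group
    rw [key e (e' * r') r (hRc' r hr), key2 e e' r' (hRc' r' hr')]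
    obtain ⟨h1, h2⟩ := hEα e he e' he'
    apply huniq _ _ h2
    apply hcen
    · exact h1
    · intro r'' hr''
      exact (hRc' r'' hr'' _).symm

/-- The structure `SympQ z Q` for `Q = F*(C_G(z))` of symplectic type and exponent dividing `4`,
from the P. Hall decomposition of `F*(C_G(z))`; and `C_G(z) = Q` when `C_G(z)` is a `2`-group. -/
theorem sympQ_of_fstar {G : Type*} [Group G] [Finite G] (z : G) (hz : orderOf z = 2)
    (hQ : Cfsg.IsOfSymplecticType
      ↥(Cfsg.generalizedFittingSubgroup ↥(Subgroup.centralizer ({z} : Set G))))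
    (h4 : ∀ q ∈ (Cfsg.generalizedFittingSubgroup ↥(Subgroup.centralizer ({z} : Set G))).map
      (Subgroup.centralizer ({z} : Set G)).subtype, q ^ 4 = 1)
    (hall : ∃ E R : Subgroup ↥(Cfsg.generalizedFittingSubgroup
        ↥(Subgroup.centralizer ({z} : Set G))),
      (∀ e ∈ E, ∀ r ∈ R, e * r = r * e) ∧ E ⊔ R = ⊤ ∧
      (E = ⊥ ∨ Cfsg.IsExtraspecial 2 ↥E) ∧ (IsCyclic R ∨ ((2 : ℕ) = 2 ∧ 16 ≤ Nat.card R ∧
        ((∃ m : ℕ, Nonempty (↥R ≃* DihedralGroup m)) ∨
          (∃ m : ℕ, Nonempty (↥R ≃* QuaternionGroup m)) ∨ Cfsg.IsQuasiDihedral ↥R)))) :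
    SympQ z ((Cfsg.generalizedFittingSubgroup ↥(Subgroup.centralizer ({z} : Set G))).map
      (Subgroup.centralizer ({z} : Set G)).subtype) ∧
    ((∀ h : G, h * z = z * h → h ^ 16 = 1) → ∀ h : G, h * z = z * h →
      h ∈ (Cfsg.generalizedFittingSubgroup ↥(Subgroup.centralizer ({z} : Set G))).map
        (Subgroup.centralizer ({z} : Set G)).subtype) := by
  have hz2 : z * z = 1 := by rw [← pow_two, ← hz]; exact pow_orderOf_eq_one z
  have hz1 : z ≠ 1 := by
    rintro rfl
    rw [orderOf_one] at hz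
    omega
  have hmemH : ∀ h : G, h ∈ Subgroup.centralizer ({z} : Set G) ↔ h * z = z * h := by
    intro h
    rw [Subgroup.mem_centralizer_iff]
    constructor
    · intro hh; exact (hh z rfl).symm
    · intro hh y hy
      rw [Set.mem_singleton_iff] at hy
      rw [hy]; exact hh.symm
  have hFn : (generalizedFittingSubgroup ↥(Subgroup.centralizer ({z} : Set G))).Normal :=
    inferInstance
  have hFc := Cfsg.Agent.Lib.helper28.centralizer_generalizedFittingSubgroup_le
    ↥(Subgroup.centralizer ({z} : Set G))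
  have hFit := Cfsg.Agent.Lib.helper28.fittingSubgroup_le_generalizedFittingSubgroup
    ↥(Subgroup.centralizer ({z} : Set G))
  obtain ⟨hQ1, hQ2⟩ := hQ
  generalize Subgroup.centralizer ({z} : Set G) = H at *
  generalize generalizedFittingSubgroup ↥H = F at *
  have hzH : z ∈ H := (hmemH z).mpr rfl
  have hzF : (⟨z, hzH⟩ : H) ∈ F := by
    apply hFc
    rw [Subgroup.mem_centralizer_iff]
    intro f _
    apply Subtype.ext
    exact (hmemH f).mp f.2
  have hzc : (⟨⟨z, hzH⟩, hzF⟩ : F) ∈ Subgroup.center F := by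
    rw [Subgroup.mem_center_iff]
    intro f
    apply Subtype.ext
    apply Subtype.ext
    exact (hmemH _).mp f.1.2
  have h4' : ∀ q : F, q ^ 4 = 1 := by
    intro q
    apply Subtype.ext
    apply Subtype.ext
    have := h4 ((q : H) : G) ⟨q.1, q.2, rfl⟩
    simpa using this
  have hz2' : (⟨⟨z, hzH⟩, hzF⟩ : F) * ⟨⟨z, hzH⟩, hzF⟩ = 1 := by
    apply Subtype.ext; apply Subtype.ext; exact hz2
  have hz1' : (⟨⟨z, hzH⟩, hzF⟩ : F) ≠ 1 := by
    intro h
    apply hz1
    exact congrArg (fun w : F => ((w : H) : G)) h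
  obtain ⟨hsq, hcm, hcinv⟩ := sq_cm_of_hall hQ2 h4' hall hzc hz2' hz1'
  have hmemQ : ∀ q : G, q ∈ F.map H.subtype ↔ ∃ hq : q ∈ H, (⟨q, hq⟩ : H) ∈ F := by
    intro q
    constructor
    · rintro ⟨f, hf, rfl⟩
      exact ⟨f.2, hf⟩
    · rintro ⟨hq, hf⟩
      exact ⟨⟨q, hq⟩, hf, rfl⟩
  constructor
  · refine ⟨hz2, hz1, ?_, ?_, ?_, ?_, ?_, ?_⟩
    · intro q hq
      obtain ⟨hqH, -⟩ := (hmemQ q).mp hq
      exact (hmemH q).mp hqH
    · intro h hh q hq
      obtain ⟨hqH, hqF⟩ := (hmemQ q).mp hq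
      rw [hmemQ]
      have hhH : h ∈ H := (hmemH h).mpr hh
      refine ⟨H.mul_mem (H.mul_mem hhH hqH) (H.inv_mem hhH), ?_⟩
      exact hFn.conj_mem ⟨q, hqH⟩ hqF ⟨h, hhH⟩
    · intro h hh hc
      have hhH : h ∈ H := (hmemH h).mpr hh
      rw [hmemQ]
      refine ⟨hhH, hFc ?_⟩
      rw [Subgroup.mem_centralizer_iff]
      intro f hf
      apply Subtype.ext
      exact (hc (f : G) ⟨f, hf, rfl⟩).symm
    · intro q hq
      obtain ⟨hqH, hqF⟩ := (hmemQ q).mp hq
      rcases hsq ⟨⟨q, hqH⟩, hqF⟩ with h | h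
      · left; exact congrArg (fun w : F => ((w : H) : G)) h
      · right; exact congrArg (fun w : F => ((w : H) : G)) h
    · intro q hq q' hq'
      obtain ⟨hqH, hqF⟩ := (hmemQ q).mp hq
      obtain ⟨hqH', hqF'⟩ := (hmemQ q').mp hq'
      rcases hcm ⟨⟨q, hqH⟩, hqF⟩ ⟨⟨q', hqH'⟩, hqF'⟩ with h | h
      · left; exact congrArg (fun w : F => ((w : H) : G)) h
      · right; exact congrArg (fun w : F => ((w : H) : G)) h
    · intro r hr hc hr2
      obtain ⟨hrH, hrF⟩ := (hmemQ r).mp hr
      have hrc : (⟨⟨r, hrH⟩, hrF⟩ : F) ∈ Subgroup.center F := by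
        rw [Subgroup.mem_center_iff]
        intro f
        apply Subtype.ext; apply Subtype.ext
        exact (hc ((f : H) : G) ⟨f.1, f.2, rfl⟩).symm
      have hr2' : (⟨⟨r, hrH⟩, hrF⟩ : F) * ⟨⟨r, hrH⟩, hrF⟩ = 1 := by
        apply Subtype.ext; apply Subtype.ext; exact hr2
      rcases hcinv _ hrc hr2' with h | h
      · left; exact congrArg (fun w : F => ((w : H) : G)) h
      · right; exact congrArg (fun w : F => ((w : H) : G)) h
  · intro h16 h hh
    have hhH : h ∈ H := (hmemH h).mpr hh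
    have hp : IsPGroup 2 H := by
      intro x
      refine ⟨4, ?_⟩
      apply Subtype.ext
      have := h16 (x : G) ((hmemH _).mp x.2)
      simpa using this
    have hnil : Group.IsNilpotent H := hp.isNilpotent
    have htop : (⊤ : Subgroup H) ≤ fittingSubgroup H :=
      Cfsg.Agent.Lib.helper28.le_fittingSubgroup inferInstance inferInstance
    rw [hmemQ]
    exact ⟨hhH, hFit (htop (Subgroup.mem_top _))⟩

end Cfsg.Agent.Lib.helper97
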