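/-
Copyright: helper97 (team library).

Central pairs in `2`-groups: a central involution `z` and a second involution `a` all of whose
conjugates are `a` or `a * z`.  Basic facts on the four-group `R = {1, z, a, a z}` and counting
tools (cosets of `R`, square roots of elements of `R`).
-/
import Mathlib

set_option autoImplicit false

namespace Cfsg.Agent.Lib.helper97

universe u

/-- A "central pair": a central involution `z` and a second involution `a ≠ z` all of whose
conjugates are `a` or `a * z`. -/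
structure CPair {G : Type u} [Group G] (z a : G) : Prop where
  zc : ∀ g : G, g * z = z * g
  z2 : z * z = 1
  a2 : a * a = 1
  z1 : z ≠ 1
  a1 : a ≠ 1
  az : a ≠ z
  conj : ∀ g : G, g * a * g⁻¹ = a ∨ g * a * g⁻¹ = a * z

namespace CPair

variable {G : Type u} [Group G] {z a : G}

theorem za (h : CPair z a) : z * a = a * z := (h.zc a).symm

theorem zinv (h : CPair z a) : z⁻¹ = z := inv_eq_of_mul_eq_one_left h.z2

theorem ainv (h : CPair z a) : a⁻¹ = a := inv_eq_of_mul_eq_one_left h.a2

theorem azaz (h : CPair z a) : a * z * (a * z) = 1 := by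
  rw [mul_assoc, ← mul_assoc z a z, h.za, mul_assoc a z z, h.z2, mul_one, h.a2]

/-- The four-group `{1, z, a, a z}`. -/
def R (h : CPair z a) : Subgroup G where
  carrier := {x | x = 1 ∨ x = z ∨ x = a ∨ x = a * z}
  one_mem' := Or.inl rfl
  mul_mem' := by
    intro x y hx hy
    rcases hx with hx | hx | hx | hx <;> rcases hy with hy | hy | hy | hy <;> rw [hx, hy]
    · left; exact mul_one 1
    · right; left; exact one_mul z
    · right; right; left; exact one_mul a
    · right; right; right; exact one_mul _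
    · right; left; exact mul_one z
    · left; exact h.z2
    · right; right; right; exact h.za
    · right; right; left; rw [← mul_assoc, h.za, mul_assoc, h.z2, mul_one]
    · right; right; left; exact mul_one a
    · right; right; right; rfl
    · left; exact h.a2
    · right; left; rw [← mul_assoc, h.a2, one_mul]
    · right; right; right; exact mul_one _
    · right; right; left; rw [mul_assoc, h.z2, mul_one]
    · right; left; rw [mul_assoc, h.za, ← mul_assoc, h.a2, one_mul]
    · left; exact h.azaz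
  inv_mem' := by
    intro x hx
    rcases hx with hx | hx | hx | hx <;> rw [hx]
    · left; exact inv_one
    · right; left; exact h.zinv
    · right; right; left; exact h.ainv
    · right; right; right; rw [mul_inv_rev, h.zinv, h.ainv, h.za]

theorem mem_R (h : CPair z a) {x : G} : x ∈ h.R ↔ x = 1 ∨ x = z ∨ x = a ∨ x = a * z := Iff.rfl

theorem z_mem (h : CPair z a) : z ∈ h.R := Or.inr (Or.inl rfl)

theorem a_mem (h : CPair z a) : a ∈ h.R := Or.inr (Or.inr (Or.inl rfl))

theorem R_sq (h : CPair z a) {r : G} (hr : r ∈ h.R) : r * r = 1 := by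
  rcases hr with hr | hr | hr | hr <;> rw [hr]
  · exact mul_one 1
  · exact h.z2
  · exact h.a2
  · exact h.azaz

theorem R_inv (h : CPair z a) {r : G} (hr : r ∈ h.R) : r⁻¹ = r :=
  inv_eq_of_mul_eq_one_left (h.R_sq hr)

theorem R_comm (h : CPair z a) {r s : G} (hr : r ∈ h.R) (hs : s ∈ h.R) : r * s = s * r := by
  have e1 : (r * s)⁻¹ = r * s := h.R_inv (h.R.mul_mem hr hs)
  rw [← e1, mul_inv_rev, h.R_inv hr, h.R_inv hs]

theorem conj_z (h : CPair z a) (g : G) : g * z * g⁻¹ = z := by
  rw [h.zc g, mul_assoc, mul_inv_cancel, mul_one]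

theorem conj_R (h : CPair z a) (g : G) {r : G} (hr : r ∈ h.R) :
    g * r * g⁻¹ = r ∨ g * r * g⁻¹ = r * z := by
  rcases hr with hr | hr | hr | hr <;> rw [hr]
  · left; rw [mul_one, mul_inv_cancel]
  · left; exact h.conj_z g
  · exact h.conj g
  · have e0 : g * (a * z) * g⁻¹ = g * a * g⁻¹ * (g * z * g⁻¹) := by group
    rw [e0, h.conj_z]
    rcases h.conj g with e | e <;> rw [e]
    · left; rfl
    · right; rfl

theorem R_normal (h : CPair z a) : h.R.Normal := by
  constructor
  intro r hr g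
  rcases h.conj_R g hr with e | e <;> rw [e]
  · exact hr
  · exact h.R.mul_mem hr h.z_mem

theorem sq_comm (h : CPair z a) (g : G) {r : G} (hr : r ∈ h.R) : g * g * r = r * (g * g) := by
  have e0 : g * g * r * (g * g)⁻¹ = g * (g * r * g⁻¹) * g⁻¹ := by group
  have e1 : g * g * r * (g * g)⁻¹ = r := by
    rw [e0]
    rcases h.conj_R g hr with e | e
    · rw [e, e]
    · rw [e]
      have e2 : g * (r * z) * g⁻¹ = g * r * g⁻¹ * (g * z * g⁻¹) := by group
      rw [e2, e, h.conj_z, mul_assoc, h.z2, mul_one]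
  exact mul_inv_eq_iff_eq_mul.mp e1

theorem card_R (h : CPair z a) : Nat.card h.R = 4 := by
  classical
  have hs : (h.R : Set G) = {1, z, a, a * z} := by
    ext x
    simp only [SetLike.mem_coe, Set.mem_insert_iff, Set.mem_singleton_iff]
    exact Iff.rfl
  have h1 : Nat.card h.R = Set.ncard (h.R : Set G) := rfl
  have haz1 : a * z ≠ 1 := fun e => h.az (by rw [← h.zinv]; exact eq_inv_of_mul_eq_one_left e)
  have hzaz : z ≠ a * z := fun e => h.a1 (by simpa using e)
  have haaz : a ≠ a * z := fun e => h.z1 (by simpa using e)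
  rw [h1, hs, Set.ncard_insert_of_notMem, Set.ncard_insert_of_notMem, Set.ncard_insert_of_notMem,
    Set.ncard_singleton]
  · simp only [Set.mem_singleton_iff]; exact haaz
  · simp only [Set.mem_insert_iff, Set.mem_singleton_iff, not_or]
    exact ⟨fun e => h.az e.symm, hzaz⟩
  · simp only [Set.mem_insert_iff, Set.mem_singleton_iff, not_or]
    exact ⟨fun e => h.z1 e.symm, fun e => h.a1 e.symm, fun e => haz1 e.symm⟩

/-- `(w r)^4 = w^4` for `r ∈ R`. -/
theorem pow_four_mul (h : CPair z a) (w : G) {r : G} (hr : r ∈ h.R) : (w * r) ^ 4 = w ^ 4 := by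
  have hn := h.R_normal
  obtain ⟨ρ, hρdef⟩ : ∃ ρ, ρ = w⁻¹ * r * w * r := ⟨_, rfl⟩
  have hρ : ρ ∈ h.R := by
    rw [hρdef]
    apply h.R.mul_mem _ hr
    have := hn.conj_mem r hr w⁻¹
    rwa [inv_inv] at this
  have e1 : (w * r) ^ 2 = w ^ 2 * ρ := by rw [hρdef, pow_two, pow_two]; group
  have e2 : (w * r) ^ 4 = ((w * r) ^ 2) ^ 2 := by rw [← pow_mul]
  have hc : Commute (w ^ 2) ρ := by
    show w ^ 2 * ρ = ρ * w ^ 2
    rw [pow_two]; exact h.sq_comm w hρ
  rw [e2, e1, hc.mul_pow, pow_two ρ, h.R_sq hρ, mul_one, ← pow_mul]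

/-- Multiplying an element of order `2^β`, `β ≥ 3`, by an element of `R` preserves the order. -/
theorem orderOf_mul_R (h : CPair z a) {w r : G} {b : ℕ} (hb : 1 ≤ b)
    (hw : orderOf w = 2 ^ (b + 2)) (hr : r ∈ h.R) : orderOf (w * r) = 2 ^ (b + 2) := by
  have : Fact (Nat.Prime 2) := ⟨Nat.prime_two⟩
  obtain ⟨c, rfl⟩ : ∃ c, b = c + 1 := ⟨b - 1, by omega⟩
  have h4 := h.pow_four_mul w hr
  have e : ∀ j, (w * r) ^ (2 ^ (j + 2)) = w ^ (2 ^ (j + 2)) := by
    intro j
    rw [show 2 ^ (j + 2) = 4 * 2 ^ j by ring, pow_mul, pow_mul, h4]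
  have h1 : ¬ (w * r) ^ 2 ^ (c + 2) = 1 := by
    rw [e c]
    intro h0
    have h5 := orderOf_dvd_of_pow_eq_one h0
    rw [hw] at h5
    have h6 := Nat.le_of_dvd (by positivity) h5
    have h7 : 2 ^ (c + 2) < 2 ^ (c + 1 + 2) := Nat.pow_lt_pow_right (by norm_num) (by omega)
    omega
  have h2 : (w * r) ^ 2 ^ (c + 2 + 1) = 1 := by
    have h8 := e (c + 1)
    rw [show c + 2 + 1 = c + 1 + 2 by omega, h8, ← hw]
    exact pow_orderOf_eq_one w
  rw [orderOf_eq_prime_pow h1 h2]

/-- A subset closed under right multiplication by `R` has cardinality divisible by `4`. -/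
theorem four_dvd_card_of_mul_R (h : CPair z a) [Finite G] (S : Set G)
    (hS : ∀ y ∈ S, ∀ r ∈ h.R, y * r ∈ S) : 4 ∣ Nat.card S := by
  obtain ⟨t, ht⟩ : ∃ t : Set (G ⧸ h.R), t = QuotientGroup.mk '' S := ⟨_, rfl⟩
  have hS' : S = QuotientGroup.mk ⁻¹' t := by
    ext y
    constructor
    · intro hy; rw [ht]; exact ⟨y, hy, rfl⟩
    · intro hy
      rw [ht] at hy
      obtain ⟨s, hs, hsy⟩ := hy
      have h1 : s⁻¹ * y ∈ h.R := QuotientGroup.eq.mp hsy
      have h2 := hS s hs _ h1
      rwa [mul_inv_cancel_left] at h2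
  rw [hS', Nat.card_congr (QuotientGroup.preimageMkEquivSubgroupProdSet h.R t), Nat.card_prod,
    h.card_R]
  exact dvd_mul_right 4 _

end CPair

/-- In a finite group of even order the number of solutions of `q * q = 1` is even. -/
theorem even_card_sq_eq_one {K : Type*} [Group K] [Finite K] (hK : Even (Nat.card K)) :
    Even (Nat.card {q : K // q * q = 1}) := by
  classical
  have : Fintype K := Fintype.ofFinite K
  have : Fact (Nat.Prime 2) := ⟨Nat.prime_two⟩
  let f : Function.End K := fun q => q⁻¹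
  have hf : f ^ 2 ^ 1 = 1 := by
    rw [pow_one, pow_two]
    funext q
    show (q⁻¹)⁻¹ = q
    exact inv_inv q
  have h1 := Equiv.Perm.card_fixedPoints_modEq (p := 2) (n := 1) hf
  have e : Function.fixedPoints f ≃ {q : K // q * q = 1} := Equiv.subtypeEquivRight (fun q => by
      show q⁻¹ = q ↔ q * q = 1
      rw [inv_eq_iff_eq_inv, eq_inv_iff_mul_eq_one])
  rw [← Nat.card_eq_fintype_card, ← Nat.card_eq_fintype_card, Nat.card_congr e] at h1
  rw [Nat.even_iff] at hK ⊢
  rw [← hK]
  exact h1.symm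

namespace CPair

variable {G : Type u} [Group G] {z a : G}

/-- The number of `y ∈ D` with `y * y ∈ R` is divisible by `8` when `R ≤ D` and `8 ∣ |D|`. -/
theorem eight_dvd_card_sq_mem (h : CPair z a) [Finite G] (D : Subgroup G) (hRD : h.R ≤ D)
    (h8 : 8 ∣ Nat.card D) : 8 ∣ Nat.card {y : G // y ∈ D ∧ y * y ∈ h.R} := by
  have hn := h.R_normal
  obtain ⟨K, hK⟩ : ∃ K : Subgroup (G ⧸ h.R), K = D.map (QuotientGroup.mk' h.R) := ⟨_, rfl⟩
  have hmemK : ∀ y : G, (QuotientGroup.mk y : G ⧸ h.R) ∈ K ↔ y ∈ D := by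
    intro y
    rw [hK]
    constructor
    · rintro ⟨d, hd, hdy⟩
      have h1 : d⁻¹ * y ∈ h.R := QuotientGroup.eq.mp hdy
      have h2 := D.mul_mem hd (hRD h1)
      rwa [mul_inv_cancel_left] at h2
    · intro hy
      exact ⟨y, hy, rfl⟩
  -- |D| = 4 |K|
  have hD : Nat.card D = 4 * Nat.card K := by
    have hS' : (D : Set G) = QuotientGroup.mk ⁻¹' (K : Set (G ⧸ h.R)) := by
      ext y
      exact (hmemK y).symm
    have h1 : Nat.card D = Nat.card (D : Set G) := rfl
    rw [h1, hS', Nat.card_congr (QuotientGroup.preimageMkEquivSubgroupProdSet h.R _), Nat.card_prod,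
      h.card_R]
    rfl
  have hKeven : Even (Nat.card K) := by
    rw [hD] at h8
    rw [even_iff_two_dvd]
    have h2 : (4 : ℕ) * 2 ∣ 4 * Nat.card K := h8
    exact Nat.dvd_of_mul_dvd_mul_left (by norm_num) h2
  have hT0 := even_card_sq_eq_one hKeven
  obtain ⟨t, ht⟩ : ∃ t : Set (G ⧸ h.R), t = {q | q ∈ K ∧ q * q = 1} := ⟨_, rfl⟩
  have ht' : Nat.card t = Nat.card {q : K // q * q = 1} := by
    rw [ht]
    apply Nat.card_congr
    refine (Equiv.subtypeSubtypeEquivSubtypeInter (fun q : G ⧸ h.R => q ∈ K)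
      (fun q => q * q = 1)).symm.trans (Equiv.subtypeEquivRight ?_)
    intro q
    rw [Subtype.ext_iff]
    rfl
  have hS' : {y : G | y ∈ D ∧ y * y ∈ h.R} = QuotientGroup.mk ⁻¹' t := by
    ext y
    rw [ht]
    simp only [Set.mem_ofPred_eq, Set.mem_preimage]
    rw [hmemK y, ← QuotientGroup.mk_mul, QuotientGroup.eq_one_iff]
  have h3 : Nat.card {y : G // y ∈ D ∧ y * y ∈ h.R} = Nat.card {y : G | y ∈ D ∧ y * y ∈ h.R} := rfl
  rw [h3, hS', Nat.card_congr (QuotientGroup.preimageMkEquivSubgroupProdSet h.R t), Nat.card_prod,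
    h.card_R, ht']
  obtain ⟨c, hc⟩ := hT0
  rw [hc]
  exact ⟨c, by ring⟩

end CPair

end Cfsg.Agent.Lib.helper97
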