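/-
Copyright: helper97 (team library).

Nilpotency class of the `2`-groups of maximal class given by the dihedral / quaternion /
semidihedral relations, and the centralizer of the second involution of a central pair.
-/
import Mathlib
import Cfsg.Agent.Lib.helper15.MaxClass
import Cfsg.Agent.Lib.helper59.TwoGroups2
import Cfsg.Agent.Lib.helper97.TwoCyc

set_option autoImplicit false

namespace Cfsg.Agent.Lib.helper97

universe u

open scoped commutatorElement

/-- A group of order `2^(n+3)` with an element `a` of order `2^(n+2)` and an element `b` with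
`b a b⁻¹ = a^(1 - 2c)`, `c` odd, has nilpotency class `n + 2` (maximal class). -/
theorem nilpotencyClass_of_conj_pow {P : Type*} [Group P] [Finite P] {n : ℕ} {a b : P}
    (ha : orderOf a = 2 ^ (n + 2)) (hP : Nat.card P = 2 ^ (n + 3)) {c₁ : ℤ} (hc₁ : Odd c₁)
    (hconj : b * a * b⁻¹ = a ^ (1 - 2 * c₁)) : Group.nilpotencyClass P = n + 2 := by
  have : Fact (Nat.Prime 2) := ⟨Nat.prime_two⟩
  have hPg : IsPGroup 2 P := IsPGroup.of_card hP
  have : Group.IsNilpotent P := hPg.isNilpotent
  apply le_antisymm
  · rw [← Subgroup.lowerCentralSeries_eq_bot_iff_nilpotencyClass_le]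
    exact Cfsg.Agent.Lib.helper15.MaxClass.lcs_eq_bot_of_card hP (by omega)
  · by_contra hlt
    have hle : Group.nilpotencyClass P ≤ n + 1 := by omega
    rw [← Subgroup.lowerCentralSeries_eq_bot_iff_nilpotencyClass_le] at hle
    have key : ∀ k : ℕ, ∃ c : ℤ, Odd c ∧
        a ^ (2 ^ k * c) ∈ (⊤ : Subgroup P).lowerCentralSeries k := by
      intro k
      induction k with
      | zero => exact ⟨1, odd_one, Subgroup.mem_top _⟩
      | succ k ih =>
        obtain ⟨c, hc, hmem⟩ := ih
        refine ⟨c * c₁, hc.mul hc₁, ?_⟩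
        have h1 := Subgroup.commutator_mem_commutator hmem (Subgroup.mem_top b)
        rw [Subgroup.lowerCentralSeries_succ]
        have h2 : ⁅a ^ (2 ^ k * c), b⁆ = a ^ (2 ^ (k + 1) * (c * c₁)) := by
          rw [commutatorElement_def]
          have h3 := Cfsg.Agent.Lib.helper59.conj_zpow_of_conj_eq hconj (2 ^ k * c)
          obtain ⟨u, hu⟩ : ∃ u, u = a ^ (2 ^ k * c) := ⟨_, rfl⟩
          rw [← hu] at h3 ⊢
          have h4 : u * b * u⁻¹ * b⁻¹ = u * (b * u * b⁻¹)⁻¹ := by group
          rw [h4, h3, hu, ← zpow_neg, ← zpow_add]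
          congr 1
          ring
        rw [← h2]
        exact h1
    obtain ⟨c, hc, hmem⟩ := key (n + 1)
    rw [hle, Subgroup.mem_bot, ← orderOf_dvd_iff_zpow_eq_one, ha] at hmem
    have h2 : ((2 ^ (n + 2) : ℕ) : ℤ) = 2 ^ (n + 1) * 2 := by push_cast; ring
    rw [h2] at hmem
    have h4 := Int.dvd_of_mul_dvd_mul_left (by positivity) hmem
    exact (Int.not_even_iff_odd.mpr hc) (even_iff_two_dvd.mpr h4)

/-- In a `2`-group of order `2^m`, `m ≥ 3`, not of maximal class, the centralizer of the second
involution of a central pair has order divisible by `8`. -/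
theorem CPair.eight_dvd_card_centralizer {G : Type u} [Group G] [Finite G] {z a : G}
    (h : CPair z a) {m : ℕ} (hG : Nat.card G = 2 ^ m) (hm : 3 ≤ m)
    (hcl : Group.nilpotencyClass G ≠ m - 1) (C : Subgroup G)
    (hC : ∀ y, y ∈ C ↔ y * a = a * y) : 8 ∣ Nat.card C := by
  have : Fact (Nat.Prime 2) := ⟨Nat.prime_two⟩
  have hGp : IsPGroup 2 G := IsPGroup.of_card hG
  have : Group.IsNilpotent G := hGp.isNilpotent
  by_cases hCtop : C = ⊤
  · rw [hCtop, Subgroup.card_top, hG]
    exact pow_dvd_pow 2 hm
  · obtain ⟨g₀, hg₀⟩ : ∃ g₀ : G, g₀ ∉ C := by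
      by_contra hall
      push Not at hall
      exact hCtop (eq_top_iff.mpr (fun g _ => hall g))
    have hnC : ∀ y, y ∉ C → y * a = a * z * y := by
      intro y hy
      rcases h.conj y with e | e
      · exfalso
        apply hy
        rw [hC]
        exact mul_inv_eq_iff_eq_mul.mp e
      · exact mul_inv_eq_iff_eq_mul.mp e
    have hidx : C.index = 2 := by
      rw [Subgroup.index_eq_two_iff]
      refine ⟨g₀, fun b => ?_⟩
      by_cases hb : b ∈ C
      · right
        refine ⟨hb, fun hbg => hg₀ ?_⟩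
        have h1 := C.mul_mem (C.inv_mem hb) hbg
        rwa [inv_mul_cancel_left] at h1
      · left
        refine ⟨?_, hb⟩
        rw [hC]
        calc b * g₀ * a = b * (g₀ * a) := mul_assoc _ _ _
          _ = b * (a * z * g₀) := by rw [hnC g₀ hg₀]
          _ = (b * a) * (z * g₀) := by group
          _ = (a * z * b) * (z * g₀) := by rw [hnC b hb]
          _ = a * z * (b * z) * g₀ := by group
          _ = a * z * (z * b) * g₀ := by rw [h.zc b]
          _ = a * (z * z) * (b * g₀) := by group
          _ = a * (b * g₀) := by rw [h.z2, mul_one]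
    obtain ⟨c, hc⟩ := IsPGroup.iff_card.mp (hGp.to_subgroup C)
    have h1 := Subgroup.card_mul_index C
    rw [hidx, hG, hc, ← pow_succ] at h1
    have h2 : c + 1 = m := Nat.pow_right_injective (le_refl 2) h1
    rw [hc]
    rcases Nat.lt_or_ge 3 m with hm4 | hm3
    · exact pow_dvd_pow 2 (show 3 ≤ c by omega)
    · exfalso
      have hm3' : m = 3 := by omega
      have hlcs := Cfsg.Agent.Lib.helper15.MaxClass.lcs_eq_bot_of_card hG (by omega)
      rw [Subgroup.lowerCentralSeries_eq_bot_iff_nilpotencyClass_le] at hlcs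
      have hle1 : Group.nilpotencyClass G ≤ 1 := by omega
      rw [Group.IsNilpotent.nilpotencyClass_le_one_iff, isMulCommutative_iff] at hle1
      exact hg₀ ((hC g₀).mpr (hle1 g₀ a))

end Cfsg.Agent.Lib.helper97
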