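/-
Copyright: helper97 (team library).

In a finite `2`-group with a central pair `(z, a)` whose centralizer `C(a)` has order at least `8`,
the number of cyclic subgroups of order `2^β` is even for every `β ≥ 2`.
-/
import Mathlib
import Cfsg.Agent.Lib.helper59.TwoGroups
import Cfsg.Agent.Lib.helper97.TwoCyc

set_option autoImplicit false

namespace Cfsg.Agent.Lib.helper97

universe u

/-- The number of elements of order `p^(k+1)` is the number of cyclic subgroups of that order times
`φ(p^(k+1))`. -/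
theorem card_orderOf_prime_pow (p : ℕ) [hp : Fact p.Prime] {G : Type*} [Group G] [Finite G]
    (k : ℕ) :
    Nat.card {y : G // orderOf y = p ^ (k + 1)} =
      Nat.card {Z : Subgroup G // IsCyclic Z ∧ Nat.card Z = p ^ (k + 1)} * (p ^ k * (p - 1)) := by
  classical
  have : Fintype G := Fintype.ofFinite G
  have : Fintype (Subgroup G) := Fintype.ofFinite _
  let Γf : Finset G := Finset.univ.filter (fun g => orderOf g = p ^ (k + 1))
  let 𝒜f : Finset (Subgroup G) :=
    Finset.univ.filter (fun M => IsCyclic M ∧ Nat.card M = p ^ (k + 1))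
  have hΓf : Nat.card {g : G // orderOf g = p ^ (k + 1)} = Γf.card := by
    rw [Nat.card_eq_fintype_card, Fintype.card_subtype]
  have h𝒜f : Nat.card {M : Subgroup G // IsCyclic M ∧ Nat.card M = p ^ (k + 1)} = 𝒜f.card := by
    rw [Nat.card_eq_fintype_card, Fintype.card_subtype]
  have hmaps : ∀ g ∈ Γf, Subgroup.zpowers g ∈ 𝒜f := by
    intro g hg
    have hgo : orderOf g = p ^ (k + 1) := (Finset.mem_filter.mp hg).2
    apply Finset.mem_filter.mpr
    refine ⟨Finset.mem_univ _, inferInstance, ?_⟩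
    rw [Nat.card_zpowers, hgo]
  have hfib := Finset.card_eq_sum_card_fiberwise hmaps
  have hfibre : ∀ M ∈ 𝒜f, (Γf.filter (fun g => Subgroup.zpowers g = M)).card =
      p ^ k * (p - 1) := by
    intro M hM
    obtain ⟨_, hMc, hMcard⟩ := Finset.mem_filter.mp hM
    have : Fintype M := Fintype.ofFinite M
    have hd : p ^ (k + 1) ∣ Fintype.card M := by
      rw [← Nat.card_eq_fintype_card, hMcard]
    have htot := IsCyclic.card_orderOf_eq_totient (α := M) hd
    have h1 : (Finset.univ.filter (fun a : M => orderOf a = p ^ (k + 1))).image Subtype.val =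
        Γf.filter (fun g => Subgroup.zpowers g = M) := by
      ext g
      simp only [Finset.mem_image, Finset.mem_filter, Finset.mem_univ, true_and, Γf]
      constructor
      · rintro ⟨a, ha, rfl⟩
        have hao : orderOf (a : G) = p ^ (k + 1) := by rw [Subgroup.orderOf_coe, ha]
        refine ⟨hao, ?_⟩
        apply Subgroup.eq_of_le_of_card_ge ((Subgroup.zpowers_le).mpr a.2)
        rw [Nat.card_zpowers, hao, hMcard]
      · rintro ⟨hgo, hgM⟩
        have hgmem : g ∈ M := hgM ▸ Subgroup.mem_zpowers g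
        exact ⟨⟨g, hgmem⟩, by rw [Subgroup.orderOf_mk, hgo], rfl⟩
    rw [← h1, Finset.card_image_of_injective _ Subtype.val_injective, htot,
      Nat.totient_prime_pow_succ hp.out]
  rw [Finset.sum_congr rfl hfibre, Finset.sum_const, smul_eq_mul] at hfib
  rw [hΓf, h𝒜f, hfib]

namespace CPair

variable {G : Type u} [Group G] {z a : G}

/-- In a `2`-group with a central pair, the number of elements of order `2^β`, `β ≥ 3`, is
divisible by `2^β`. -/
theorem pow_dvd_card_orderOf (h : CPair z a) [Finite G] (hG : IsPGroup 2 G) {b : ℕ}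
    (hb : 1 ≤ b) : 2 ^ (b + 2) ∣ Nat.card {y : G // orderOf y = 2 ^ (b + 2)} := by
  classical
  have : Fintype G := Fintype.ofFinite G
  have : Fact (Nat.Prime 2) := ⟨Nat.prime_two⟩
  have hRn := h.R_normal
  let Φ : G → Subgroup G := fun y => Subgroup.zpowers y ⊔ h.R
  let S : Finset G := Finset.univ.filter (fun y => orderOf y = 2 ^ (b + 2))
  have hS : Nat.card {y : G // orderOf y = 2 ^ (b + 2)} = S.card :=
    Nat.subtype_card S (fun y => by simp [S])
  rw [hS, Finset.card_eq_sum_card_image Φ S]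
  apply Finset.dvd_sum
  intro H hH
  obtain ⟨x, hxS, rfl⟩ := Finset.mem_image.mp hH
  have hxo : orderOf x = 2 ^ (b + 2) := (Finset.mem_filter.mp hxS).2
  obtain ⟨H₀, hH₀⟩ : ∃ H₀ : Subgroup G, H₀ = Subgroup.zpowers (x ^ 2) ⊔ h.R := ⟨_, rfl⟩
  have hRH₀ : h.R ≤ H₀ := by rw [hH₀]; exact le_sup_right
  have hx2H₀ : Subgroup.zpowers (x ^ 2) ≤ H₀ := by rw [hH₀]; exact le_sup_left
  have hH₀le : H₀ ≤ Φ x := by
    rw [hH₀]
    apply sup_le_sup_right
    rw [Subgroup.zpowers_le]
    exact Subgroup.pow_mem _ (Subgroup.mem_zpowers x) 2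
  -- (F) `x^i ∈ R → Even i`
  have hF : ∀ i : ℤ, x ^ i ∈ h.R → Even i := by
    intro i hi
    have h1 := h.R_sq hi
    rw [← zpow_add, ← orderOf_dvd_iff_zpow_eq_one, hxo] at h1
    obtain ⟨c, hc⟩ := h1
    refine ⟨2 ^ b * c, ?_⟩
    have h2 : ((2 ^ (b + 2) : ℕ) : ℤ) = 4 * 2 ^ b := by push_cast; ring
    rw [h2] at hc
    linarith
  -- `x ∉ H₀`
  have hxH₀ : x ∉ H₀ := by
    intro hx
    rw [hH₀, Subgroup.mem_sup_of_normal_right] at hx
    obtain ⟨y, hy, r, hr, hyr⟩ := hx
    obtain ⟨j, rfl⟩ := Subgroup.mem_zpowers_iff.mp hy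
    have h1 : x ^ (1 - 2 * j) = r := by
      have h2 : x ^ (1 - 2 * j) = ((x ^ 2) ^ j)⁻¹ * x := by
        rw [← zpow_natCast x 2, ← zpow_mul, ← zpow_neg, sub_eq_neg_add, zpow_add, zpow_one]
        norm_num
      exact h2.trans (eq_inv_mul_of_mul_eq hyr).symm
    have h3 := hF (1 - 2 * j) (h1 ▸ hr)
    obtain ⟨c, hc⟩ := h3
    omega
  have hfiber : S.filter (fun y => Φ y = Φ x) =
      (Finset.univ.filter (fun y => y ∈ Φ x)) \ (Finset.univ.filter (fun y => y ∈ H₀)) := by
    ext y
    simp only [Finset.mem_filter, Finset.mem_univ, true_and, Finset.mem_sdiff, S]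
    constructor
    · rintro ⟨hyo, hy⟩
      refine ⟨?_, ?_⟩
      · rw [← hy]; exact (le_sup_left : Subgroup.zpowers y ≤ _) (Subgroup.mem_zpowers y)
      · intro hyH₀
        apply hxH₀
        have h1 : Φ y ≤ H₀ := sup_le ((Subgroup.zpowers_le).mpr hyH₀) hRH₀
        rw [hy] at h1
        exact h1 ((le_sup_left : Subgroup.zpowers x ≤ _) (Subgroup.mem_zpowers x))
    · rintro ⟨hy, hyH₀⟩
      have hy' : y ∈ Subgroup.zpowers x ⊔ h.R := hy
      rw [Subgroup.mem_sup_of_normal_right] at hy'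
      obtain ⟨w, hw, r, hr, rfl⟩ := hy'
      obtain ⟨i, rfl⟩ := Subgroup.mem_zpowers_iff.mp hw
      have hiodd : ¬ Even i := by
        rintro ⟨j, hj⟩
        apply hyH₀
        rw [hH₀, Subgroup.mem_sup_of_normal_right]
        refine ⟨x ^ i, ?_, r, hr, rfl⟩
        rw [Subgroup.mem_zpowers_iff]
        exact ⟨j, by rw [hj, ← two_mul, zpow_mul, zpow_ofNat]⟩
      have hwo : orderOf (x ^ i) = 2 ^ (b + 2) := by
        have h1 : ¬ (x ^ i) ^ 2 ^ (b + 1) = 1 := by
          intro h0
          rw [← zpow_natCast, ← zpow_mul, ← orderOf_dvd_iff_zpow_eq_one, hxo] at h0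
          apply hiodd
          have h2 : ((2 ^ (b + 2) : ℕ) : ℤ) = 2 ^ (b + 1) * 2 := by push_cast; ring
          have h3 : (((2 ^ (b + 1) : ℕ)) : ℤ) = 2 ^ (b + 1) := by push_cast; ring
          rw [h2, h3, mul_comm i] at h0
          have h4 := Int.dvd_of_mul_dvd_mul_left (by positivity) h0
          exact even_iff_two_dvd.mpr h4
        have h2 : (x ^ i) ^ 2 ^ (b + 1 + 1) = 1 := by
          rw [← zpow_natCast, ← zpow_mul, mul_comm, zpow_mul, zpow_natCast, ← hxo,
            pow_orderOf_eq_one, one_zpow]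
        exact orderOf_eq_prime_pow h1 h2
      have hyo := h.orderOf_mul_R hb hwo hr
      refine ⟨hyo, ?_⟩
      apply le_antisymm
      · exact sup_le ((Subgroup.zpowers_le).mpr hy) le_sup_right
      · have h1 : x ^ i ∈ Φ (x ^ i * r) := by
          have h2 : (x ^ i * r) * r⁻¹ ∈ Φ (x ^ i * r) := Subgroup.mul_mem _
            ((le_sup_left : Subgroup.zpowers (x ^ i * r) ≤ _) (Subgroup.mem_zpowers _))
            ((le_sup_right : h.R ≤ _) (h.R.inv_mem hr))
          rwa [mul_inv_cancel_right] at h2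
        have h3 : Subgroup.zpowers (x ^ i) = Subgroup.zpowers x := by
          apply Subgroup.eq_of_le_of_card_ge
          · rw [Subgroup.zpowers_le]; exact Subgroup.zpow_mem _ (Subgroup.mem_zpowers x) i
          · rw [Nat.card_zpowers, Nat.card_zpowers, hwo, hxo]
        apply sup_le _ le_sup_right
        rw [← h3, Subgroup.zpowers_le]
        exact h1
  have hcardsub : ∀ K : Subgroup G, (Finset.univ.filter (fun y => y ∈ K)).card = Nat.card K := by
    intro K
    exact (Nat.subtype_card (Finset.univ.filter (fun y => y ∈ K)) (fun y => by simp)).symm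
  have hH₀card : 2 ^ (b + 2) ∣ Nat.card H₀ := by
    obtain ⟨j, hj⟩ := IsPGroup.iff_card.mp (hG.to_subgroup H₀)
    have hx2o : orderOf (x ^ 2) = 2 ^ (b + 1) := by
      rw [orderOf_pow_of_dvd (by norm_num) (by rw [hxo]; exact dvd_pow_self 2 (by omega)), hxo,
        pow_succ]
      exact Nat.mul_div_cancel _ (by norm_num)
    have h1 : 2 ^ (b + 1) ∣ 2 ^ j := by
      rw [← hj, ← hx2o, ← Nat.card_zpowers]
      exact Subgroup.card_dvd_of_le hx2H₀
    have h2 : b + 1 ≤ j := (Nat.pow_dvd_pow_iff_le_right (by norm_num)).mp h1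
    have h3 : j ≠ b + 1 := by
      intro hjb
      have h4 : Subgroup.zpowers (x ^ 2) = H₀ := by
        apply Subgroup.eq_of_le_of_card_ge hx2H₀
        rw [Nat.card_zpowers, hx2o, hj, hjb]
      have hz : z ∈ Subgroup.zpowers (x ^ 2) := h4 ▸ hRH₀ h.z_mem
      have ha : a ∈ Subgroup.zpowers (x ^ 2) := h4 ▸ hRH₀ h.a_mem
      have ho : orderOf (x ^ 2) = 2 * 2 ^ b := by rw [hx2o]; ring
      rcases Cfsg.Agent.Lib.helper59.eq_one_or_eq_pow_of_sq_eq_one ho hz
        (by rw [pow_two]; exact h.z2) with e | e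
      · exact h.z1 e
      · rcases Cfsg.Agent.Lib.helper59.eq_one_or_eq_pow_of_sq_eq_one ho ha
          (by rw [pow_two]; exact h.a2) with e' | e'
        · exact h.a1 e'
        · exact h.az (e'.trans e.symm)
    rw [hj]
    exact pow_dvd_pow 2 (by omega)
  have hsub : (Finset.univ.filter (fun y => y ∈ H₀)) ⊆ (Finset.univ.filter (fun y => y ∈ Φ x)) := by
    intro y hy
    simp only [Finset.mem_filter, Finset.mem_univ, true_and] at hy ⊢
    exact hH₀le hy
  show 2 ^ (b + 2) ∣ (S.filter (fun y => Φ y = Φ x)).card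
  rw [hfiber, Finset.card_sdiff_of_subset hsub, hcardsub, hcardsub]
  exact Nat.dvd_sub (hH₀card.trans (Subgroup.card_dvd_of_le hH₀le)) hH₀card

end CPair

end Cfsg.Agent.Lib.helper97
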