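/-
Copyright: helper97 (team library).

In a finite `2`-group with a central pair `(z, a)` whose centralizer `C(a)` has order divisible
by `8`, the number of cyclic subgroups of order `2^β` is even for every `β ≥ 2`.
-/
import Mathlib
import Cfsg.Agent.Lib.helper97.TwoCyc
import Cfsg.Agent.Lib.helper97.TwoCyc2

set_option autoImplicit false

namespace Cfsg.Agent.Lib.helper97

universe u

namespace CPair

variable {G : Type u} [Group G] {z a : G}

/-- `(y r)² ∈ {y², z y²}` for `r ∈ R`. -/
theorem sq_mul_R (h : CPair z a) (y : G) {r : G} (hr : r ∈ h.R) :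
    (y * r) * (y * r) = y * y ∨ (y * r) * (y * r) = z * (y * y) := by
  have e0 : y * r * (y * r) = (y * r * y⁻¹) * (y * y * r) := by group
  rw [e0, h.sq_comm y hr]
  rcases h.conj_R y hr with e | e <;> rw [e]
  · left; rw [← mul_assoc, h.R_sq hr, one_mul]
  · right; rw [h.zc r, ← mul_assoc, mul_assoc z r r, h.R_sq hr, mul_one]

theorem orderOf_eq_four_iff (y : G) :
    orderOf y = 4 ↔ (y * y ≠ 1 ∧ (y * y) * (y * y) = 1) := by
  have : Fact (Nat.Prime 2) := ⟨Nat.prime_two⟩
  constructor
  · intro hy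
    constructor
    · intro h0
      have h1 := orderOf_dvd_of_pow_eq_one (show y ^ 2 = 1 by rw [pow_two]; exact h0)
      rw [hy] at h1
      omega
    · have h1 := pow_orderOf_eq_one y
      rw [hy] at h1
      rw [← h1, show (4 : ℕ) = 2 + 2 from rfl, pow_add, pow_two]
  · rintro ⟨h1, h2⟩
    have h3 : ¬ y ^ 2 ^ 1 = 1 := by rw [pow_one, pow_two]; exact h1
    have h4 : y ^ 2 ^ (1 + 1) = 1 := by
      rw [← h2]
      show y ^ (2 + 2) = _
      rw [pow_add, pow_two]
    have h5 := orderOf_eq_prime_pow h3 h4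
    rw [h5]
    rfl

/-- Number of elements of order `4` is divisible by `4`. -/
theorem four_dvd_card_orderOf_four (h : CPair z a) [Finite G] (C : Subgroup G)
    (hC : ∀ y, y ∈ C ↔ y * a = a * y) (hC8 : 8 ∣ Nat.card C) :
    4 ∣ Nat.card {y : G // orderOf y = 4} := by
  classical
  have : Fintype G := Fintype.ofFinite G
  have hRC : h.R ≤ C := by
    intro r hr
    rw [hC]
    exact h.R_comm hr h.a_mem
  have hCR : ∀ y ∈ C, ∀ r ∈ h.R, y * r = r * y := by
    intro y hy r hr
    have hya := (hC y).mp hy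
    rcases hr with hr | hr | hr | hr <;> rw [hr]
    · rw [mul_one, one_mul]
    · exact h.zc y
    · exact hya
    · rw [← mul_assoc, hya, mul_assoc, h.zc y, mul_assoc]
  have hnC : ∀ y, y ∉ C → y * a * y⁻¹ = a * z := by
    intro y hy
    rcases h.conj y with e | e
    · exfalso
      apply hy
      rw [hC]
      exact mul_inv_eq_iff_eq_mul.mp e
    · exact e
  have hsqa : ∀ y, y ∉ C → (y * a) * (y * a) = z * (y * y) := by
    intro y hy
    have e := hnC y hy
    calc y * a * (y * a) = (y * a * y⁻¹) * (y * y * a) := by group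
      _ = a * z * (a * (y * y)) := by rw [e, h.sq_comm y h.a_mem]
      _ = (a * z * a) * (y * y) := by group
      _ = z * (y * y) := by rw [mul_assoc a z a, h.za, ← mul_assoc a a z, h.a2, one_mul]
  have hmulC : ∀ y, y ∉ C → ∀ r ∈ h.R, y * r ∉ C := by
    intro y hy r hr hyr
    apply hy
    have h1 := C.mul_mem hyr (C.inv_mem (hRC hr))
    rwa [mul_inv_cancel_right] at h1
  -- the finsets
  obtain ⟨S, hSdef⟩ : ∃ S : Finset G, S = Finset.univ.filter (fun y => orderOf y = 4) :=
    ⟨_, rfl⟩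
  obtain ⟨A, hAdef⟩ : ∃ A : Finset G,
      A = Finset.univ.filter (fun y => orderOf y = 4 ∧ y ∈ C) := ⟨_, rfl⟩
  obtain ⟨S₁, hS₁def⟩ : ∃ S₁ : Finset G,
      S₁ = Finset.univ.filter (fun y => orderOf y = 4 ∧ y ∉ C ∧ y * y ≠ z) := ⟨_, rfl⟩
  obtain ⟨S₂, hS₂def⟩ : ∃ S₂ : Finset G,
      S₂ = Finset.univ.filter (fun y => y ∉ C ∧ y * y = z) := ⟨_, rfl⟩
  obtain ⟨T₁, hT₁def⟩ : ∃ T₁ : Finset G,
      T₁ = Finset.univ.filter (fun y => y ∉ C ∧ y * y = 1) := ⟨_, rfl⟩
  obtain ⟨W, hWdef⟩ : ∃ W : Finset G,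
      W = Finset.univ.filter (fun y => y ∉ C ∧ y * y ∈ h.R) := ⟨_, rfl⟩
  obtain ⟨X, hXdef⟩ : ∃ X : Finset G,
      X = Finset.univ.filter (fun y => y ∈ (⊤ : Subgroup G) ∧ y * y ∈ h.R) := ⟨_, rfl⟩
  obtain ⟨Y, hYdef⟩ : ∃ Y : Finset G,
      Y = Finset.univ.filter (fun y => y ∈ C ∧ y * y ∈ h.R) := ⟨_, rfl⟩
  have hS : Nat.card {y : G // orderOf y = 4} = S.card :=
    Nat.subtype_card S (fun y => by simp [hSdef])
  -- (3) `4 ∣ |A|`
  have hA : 4 ∣ A.card := by
    have h1 := h.four_dvd_card_of_mul_R {y : G | orderOf y = 4 ∧ y ∈ C} (by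
      rintro y ⟨hyo, hyC⟩ r hr
      refine ⟨?_, C.mul_mem hyC (hRC hr)⟩
      have e1 : (y * r) * (y * r) = y * y := by
        calc y * r * (y * r) = y * (r * y) * r := by group
          _ = y * (y * r) * r := by rw [hCR y hyC r hr]
          _ = y * y * (r * r) := by group
          _ = y * y := by rw [h.R_sq hr, mul_one]
      rw [orderOf_eq_four_iff] at hyo ⊢
      rw [e1]
      exact hyo)
    have h2 : Nat.card {y : G | orderOf y = 4 ∧ y ∈ C} = A.card :=
      Nat.subtype_card A (fun y => by simp [hAdef])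
    rwa [h2] at h1
  -- (4) `4 ∣ |S₁|`
  have hS₁ : 4 ∣ S₁.card := by
    have h1 := h.four_dvd_card_of_mul_R {y : G | orderOf y = 4 ∧ y ∉ C ∧ y * y ≠ z} (by
      rintro y ⟨hyo, hyC, hyz⟩ r hr
      rw [orderOf_eq_four_iff] at hyo
      obtain ⟨hy1, hy4⟩ := hyo
      refine ⟨?_, hmulC y hyC r hr, ?_⟩
      · rw [orderOf_eq_four_iff]
        rcases h.sq_mul_R y hr with e | e <;> rw [e]
        · exact ⟨hy1, hy4⟩
        · refine ⟨?_, ?_⟩
          · intro h0
            apply hyz
            have h3 := eq_inv_of_mul_eq_one_right h0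
            rw [h3, h.zinv]
          · calc z * (y * y) * (z * (y * y)) = z * ((y * y) * z) * (y * y) := by group
              _ = z * (z * (y * y)) * (y * y) := by rw [h.zc (y * y)]
              _ = (z * z) * ((y * y) * (y * y)) := by group
              _ = 1 := by rw [h.z2, hy4, one_mul]
      · rcases h.sq_mul_R y hr with e | e <;> rw [e]
        · exact hyz
        · intro h0
          apply hy1
          exact mul_eq_left.mp h0)
    have h2 : Nat.card {y : G | orderOf y = 4 ∧ y ∉ C ∧ y * y ≠ z} = S₁.card :=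
      Nat.subtype_card S₁ (fun y => by simp [hS₁def])
    rwa [h2] at h1
  -- (5) `4 ∣ |S₂|`
  have hbij : S₂.card = T₁.card := by
    apply Finset.card_nbij' (fun y => y * a) (fun y => y * a)
    · intro y hy
      rw [hS₂def] at hy
      rw [hT₁def]
      simp only [Finset.coe_filter, Finset.mem_univ, true_and, Set.mem_ofPred_eq] at hy ⊢
      refine ⟨hmulC y hy.1 a h.a_mem, ?_⟩
      rw [hsqa y hy.1, hy.2, h.z2]
    · intro y hy
      rw [hT₁def] at hy
      rw [hS₂def]
      simp only [Finset.coe_filter, Finset.mem_univ, true_and, Set.mem_ofPred_eq] at hy ⊢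
      refine ⟨hmulC y hy.1 a h.a_mem, ?_⟩
      rw [hsqa y hy.1, hy.2, mul_one]
    · intro y _
      show y * a * a = y
      rw [mul_assoc, h.a2, mul_one]
    · intro y _
      show y * a * a = y
      rw [mul_assoc, h.a2, mul_one]
  have hW : W.card = S₂.card + T₁.card := by
    have h1 : W = S₂ ∪ T₁ := by
      ext y
      rw [hWdef, hS₂def, hT₁def]
      simp only [Finset.mem_filter, Finset.mem_univ, true_and, Finset.mem_union]
      constructor
      · rintro ⟨hyC, hyR⟩
        rcases hyR with e | e | e | e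
        · right; exact ⟨hyC, e⟩
        · left; exact ⟨hyC, e⟩
        · exfalso
          apply hyC
          rw [hC, ← e, mul_assoc]
        · exfalso
          apply hyC
          rw [hC]
          have h2 : y * (a * z) = (a * z) * y := by rw [← e, mul_assoc]
          have h3 : y * a * z = a * y * z := by
            rw [mul_assoc, h2, mul_assoc, ← h.zc y, mul_assoc]
          exact mul_right_cancel h3
      · rintro (⟨hyC, e⟩ | ⟨hyC, e⟩)
        · exact ⟨hyC, e ▸ h.z_mem⟩
        · exact ⟨hyC, e ▸ h.R.one_mem⟩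
    rw [h1]
    apply Finset.card_union_of_disjoint
    rw [Finset.disjoint_left]
    intro y hy1 hy2
    rw [hS₂def] at hy1
    rw [hT₁def] at hy2
    simp only [Finset.mem_filter, Finset.mem_univ, true_and] at hy1 hy2
    exact h.z1 (hy1.2.symm.trans hy2.2)
  have hX : 8 ∣ X.card := by
    have h1 := h.eight_dvd_card_sq_mem ⊤ le_top (by
      rw [Subgroup.card_top]
      exact hC8.trans (Subgroup.card_subgroup_dvd_card C))
    have h2 : Nat.card {y : G // y ∈ (⊤ : Subgroup G) ∧ y * y ∈ h.R} = X.card :=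
      Nat.subtype_card X (fun y => by simp [hXdef])
    rwa [h2] at h1
  have hY : 8 ∣ Y.card := by
    have h1 := h.eight_dvd_card_sq_mem C hRC hC8
    have h2 : Nat.card {y : G // y ∈ C ∧ y * y ∈ h.R} = Y.card :=
      Nat.subtype_card Y (fun y => by simp [hYdef])
    rwa [h2] at h1
  have hXWY : X.card = Y.card + W.card := by
    have h1 := Finset.card_filter_add_card_filter_not (s := X) (fun y => y ∈ C)
    have h2 : X.filter (fun y => y ∈ C) = Y := by
      ext y
      rw [hXdef, hYdef]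
      simp only [Finset.mem_filter, Finset.mem_univ, true_and, Subgroup.mem_top]
      tauto
    have h3 : X.filter (fun y => ¬ y ∈ C) = W := by
      ext y
      rw [hXdef, hWdef]
      simp only [Finset.mem_filter, Finset.mem_univ, true_and, Subgroup.mem_top]
      tauto
    rw [h2, h3] at h1
    exact h1.symm
  have hS₂ : 4 ∣ S₂.card := by omega
  -- (2) partition of `S`
  have hSA : S.card = A.card + (S₁.card + S₂.card) := by
    have h1 := Finset.card_filter_add_card_filter_not (s := S) (fun y => y ∈ C)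
    have h2 : S.filter (fun y => y ∈ C) = A := by
      ext y
      rw [hSdef, hAdef]
      simp only [Finset.mem_filter, Finset.mem_univ, true_and]
    have h3 := Finset.card_filter_add_card_filter_not (s := S.filter (fun y => ¬ y ∈ C))
      (fun y => y * y ≠ z)
    have h4 : (S.filter (fun y => ¬ y ∈ C)).filter (fun y => y * y ≠ z) = S₁ := by
      ext y
      rw [hSdef, hS₁def]
      simp only [Finset.mem_filter, Finset.mem_univ, true_and]
      tauto
    have h5 : (S.filter (fun y => ¬ y ∈ C)).filter (fun y => ¬ y * y ≠ z) = S₂ := by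
      ext y
      rw [hSdef, hS₂def]
      simp only [Finset.mem_filter, Finset.mem_univ, true_and, not_not]
      constructor
      · rintro ⟨⟨_, hyC⟩, e⟩
        exact ⟨hyC, e⟩
      · rintro ⟨hyC, e⟩
        refine ⟨⟨?_, hyC⟩, e⟩
        rw [orderOf_eq_four_iff, e]
        exact ⟨h.z1, h.z2⟩
    rw [h2] at h1
    rw [h4, h5] at h3
    omega
  rw [hS, hSA]
  omega

/-- **Main lemma.**  In a finite `2`-group with a central pair `(z, a)` such that `8 ∣ |C(a)|`,
the number of cyclic subgroups of order `2^β` is even for every `β ≥ 2`. -/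
theorem two_dvd_card_cyclic (h : CPair z a) [Finite G] (hG : IsPGroup 2 G) (C : Subgroup G)
    (hC : ∀ y, y ∈ C ↔ y * a = a * y) (hC8 : 8 ∣ Nat.card C) (β : ℕ) (hβ : 2 ≤ β) :
    2 ∣ Nat.card {Z : Subgroup G // IsCyclic Z ∧ Nat.card Z = 2 ^ β} := by
  have : Fact (Nat.Prime 2) := ⟨Nat.prime_two⟩
  obtain ⟨b, rfl⟩ : ∃ b, β = b + 2 := ⟨β - 2, by omega⟩
  have hcount := card_orderOf_prime_pow 2 (G := G) (b + 1)
  have hs : 2 ^ (b + 2) ∣ Nat.card {y : G // orderOf y = 2 ^ (b + 2)} := by
    rcases Nat.eq_zero_or_pos b with hb0 | hbpos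
    · subst hb0
      exact h.four_dvd_card_orderOf_four C hC hC8
    · exact h.pow_dvd_card_orderOf hG hbpos
  have e1 : b + 2 = b + 1 + 1 := rfl
  rw [hcount] at hs
  have h1 : 2 ^ (b + 1) * 2 ∣
      2 ^ (b + 1) * Nat.card {Z : Subgroup G // IsCyclic Z ∧ Nat.card Z = 2 ^ (b + 1 + 1)} := by
    have e2 : Nat.card {Z : Subgroup G // IsCyclic Z ∧ Nat.card Z = 2 ^ (b + 1 + 1)} *
        (2 ^ (b + 1) * (2 - 1)) =
        2 ^ (b + 1) * Nat.card {Z : Subgroup G // IsCyclic Z ∧ Nat.card Z = 2 ^ (b + 1 + 1)} := by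
      rw [show (2 : ℕ) - 1 = 1 from rfl, mul_one, mul_comm]
    rw [← e2, ← pow_succ]
    exact hs
  exact Nat.dvd_of_mul_dvd_mul_left (by positivity) h1

end CPair

end Cfsg.Agent.Lib.helper97
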