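import Mathlib
import Cfsg.Agent.Lib.helper16.U34CDefs

/-! S1903 piece A4a (`exists_u`): an element `u ∈ G' ∖ Z` with `(u x)^5 = 1`. -/

set_option autoImplicit false
set_option linter.unusedSectionVars false
set_option linter.unusedVariables false

namespace Cfsg.Agent.Lib.helper16.U34C

open Cfsg
open scoped commutatorElement

/-- PIECE A4a -/
theorem helper97_exists_u {G : Type*} [Group G] [Finite G] (hD : Nat.card (commutator G) = 64)
    {x : G} {Z : Subgroup G} (h1 : D1 x Z) (h2 : D2 x Z) (h3 : D3 x Z) :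
    ∃ u ∈ commutator G, u ∉ Z ∧ (u * x) ^ 5 = 1 := by
  have hPn : (commutator G).Normal := inferInstance
  have hZne : Z ≠ commutator G := by
    intro h
    have := h1.cardZ
    rw [h, hD] at this
    omega
  have hex : ∃ g ∈ commutator G, g ∉ Z := by
    by_contra hcon
    apply hZne
    apply le_antisymm h1.ZP
    intro g hg
    by_contra hgZ
    exact hcon ⟨g, hg, hgZ⟩
  obtain ⟨g, hg, hgZ⟩ := hex
  have hw : (g * x) ^ 5 ∈ commutator G := by
    rw [← QuotientGroup.eq_one_iff, QuotientGroup.mk_pow, QuotientGroup.mk_mul,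
      (QuotientGroup.eq_one_iff g).mpr hg, one_mul, ← QuotientGroup.mk_pow, h1.x5]
    rfl
  have e1 : x * (g * x) ^ 5 * x⁻¹ = g⁻¹ * (g * x) ^ 5 * g := by
    have a1 : x * (g * x) ^ 5 * x⁻¹ = (x * g) ^ 5 := by
      rw [← conj_pow]
      congr 1
      group
    have a2 : g⁻¹ * (g * x) ^ 5 * g = (x * g) ^ 5 := by
      have := conj_pow (a := g⁻¹) (b := g * x) (i := 5)
      rw [inv_inv] at this
      rw [← this]
      congr 1
      group
    rw [a1, a2]
  have hwZ : (g * x) ^ 5 ∈ Z := by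
    apply h3.fpf _ hw
    rw [e1]
    have hc := h3.comm _ (inv_mem hw) _ (inv_mem hg)
    have e2 : ((g * x) ^ 5)⁻¹ * (g⁻¹ * (g * x) ^ 5 * g) = ⁅((g * x) ^ 5)⁻¹, g⁻¹⁆ := by
      rw [commutatorElement_def]
      group
    rw [e2]
    exact hc
  refine ⟨g * (g * x) ^ 5, mul_mem hg hw, ?_, ?_⟩
  · intro hu
    apply hgZ
    have : g = g * (g * x) ^ 5 * ((g * x) ^ 5)⁻¹ := by group
    rw [this]
    exact mul_mem hu (inv_mem hwZ)
  · generalize hwdef : (g * x) ^ 5 = w at hwZ ⊢
    have hcw : ∀ y : G, w * y = y * w := h1.Zc w hwZ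
    have e3 : g * w * x = g * x * w := by rw [mul_assoc, hcw x, ← mul_assoc]
    have hcomm : Commute (g * x) w := (hcw (g * x)).symm
    rw [e3, hcomm.mul_pow, hwdef]
    have hw2 : w ^ 2 = 1 := h1.Z2 w hwZ
    have e6 : w * w ^ 5 = (w ^ 2) ^ 3 := by
      rw [← pow_mul, ← pow_succ']
    rw [e6, hw2, one_pow]

end Cfsg.Agent.Lib.helper16.U34C
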