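import Mathlib
import Cfsg.Agent.Lib.helper97.IdxP

/-!
A refinement of Wielandt's counting argument modulo `p^2` (owner: helper97).

* `card_invariant_subsets` : the number of `T`-invariant subsets of size `|T| * r` of `G`
  (under left multiplication) is `(|G| / |T|).choose r`.
* `card_subgroups_prime_pow_cyclic` : a finite cyclic group has exactly one subgroup of order
  `p^β` when `p^β` divides its order.
* `card_subgroups_modEq_sq` : if `|G| = p^β * n'` with `β ≥ 1`, then the number of subgroups of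
  order `p^(β-1)` is `≡ 1 + p * (number of noncyclic subgroups of order p^β)  (mod p^2)`.
-/

set_option autoImplicit false

universe u

namespace Cfsg.Agent.Lib.helper97

open Cfsg.Agent.Lib.helper69

open scoped Pointwise

/-- The number of `T`-invariant subsets of size `t * r` is `q.choose r`, where `|T| = t` and
`|G| = t * q`. -/
theorem card_invariant_subsets {G : Type*} [Group G] [Fintype G] [DecidableEq G] (T : Subgroup G)
    [DecidablePred fun U : Finset G => T ≤ MulAction.stabilizer G U]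
    (t r q : ℕ) (ht : Nat.card T = t) (hq : Nat.card G = t * q) :
    ((Finset.powersetCard (t * r) (Finset.univ : Finset G)).filter
      (fun U => T ≤ MulAction.stabilizer G U)).card = q.choose r := by
  classical
  have htpos : 0 < t := ht ▸ Nat.card_pos
  let 𝒪 : Finset (Finset G) := Finset.univ.image (cosetFinset T)
  have hO_card : ∀ O ∈ 𝒪, O.card = t := by
    intro O hO
    obtain ⟨g, _, rfl⟩ := Finset.mem_image.mp hO
    rw [card_cosetFinset, ht]
  have hself : ∀ g : G, g ∈ cosetFinset T g := by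
    intro g
    rw [mem_cosetFinset, mul_inv_cancel]
    exact T.one_mem
  have hO_eq : ∀ O ∈ 𝒪, ∀ x ∈ O, cosetFinset T x = O := by
    intro O hO x hx
    obtain ⟨g, _, rfl⟩ := Finset.mem_image.mp hO
    rw [mem_cosetFinset] at hx
    ext y
    rw [mem_cosetFinset, mem_cosetFinset]
    have h1 : y * g⁻¹ = (y * x⁻¹) * (x * g⁻¹) := by group
    rw [h1]
    exact (T.mul_mem_cancel_right hx).symm
  have hdisj : ∀ O₁ ∈ 𝒪, ∀ O₂ ∈ 𝒪, O₁ ≠ O₂ → Disjoint O₁ O₂ := by
    intro O₁ h₁ O₂ h₂ hne
    rw [Finset.disjoint_left]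
    intro x hx1 hx2
    exact hne ((hO_eq O₁ h₁ x hx1).symm.trans (hO_eq O₂ h₂ x hx2))
  have hunion_card : ∀ A : Finset (Finset G), A ⊆ 𝒪 → (A.biUnion id).card = A.card * t := by
    intro A hA
    rw [Finset.card_biUnion]
    · exact Finset.sum_const_nat (fun O hO => hO_card O (hA hO))
    · intro O₁ h₁ O₂ h₂ hne
      exact hdisj O₁ (hA h₁) O₂ (hA h₂) hne
  have h𝒪card : 𝒪.card = q := by
    have h1 : 𝒪.biUnion id = Finset.univ := by
      ext g
      simp only [Finset.mem_biUnion, Finset.mem_univ, iff_true, id]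
      exact ⟨cosetFinset T g, Finset.mem_image_of_mem _ (Finset.mem_univ g), hself g⟩
    have h2 := hunion_card 𝒪 (Finset.Subset.refl _)
    rw [h1, Finset.card_univ, ← Nat.card_eq_fintype_card, hq, mul_comm] at h2
    exact (Nat.eq_of_mul_eq_mul_right htpos h2).symm
  have hUeq : ∀ U : Finset G, T ≤ MulAction.stabilizer G U →
      (𝒪.filter (fun O => O ⊆ U)).biUnion id = U := by
    intro U hTU
    ext x
    simp only [Finset.mem_biUnion, Finset.mem_filter, id]
    constructor
    · rintro ⟨O, ⟨_, hOU⟩, hx⟩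
      exact hOU hx
    · intro hx
      refine ⟨cosetFinset T x, ⟨Finset.mem_image_of_mem _ (Finset.mem_univ x), ?_⟩, hself x⟩
      intro y hy
      rw [mem_cosetFinset] at hy
      have h1 : (y * x⁻¹) • U = U := hTU hy
      have h2 : (y * x⁻¹) • x ∈ (y * x⁻¹) • U := Finset.smul_mem_smul_finset hx
      rw [h1, smul_eq_mul, inv_mul_cancel_right] at h2
      exact h2
  rw [← h𝒪card, ← Finset.card_powersetCard r 𝒪]
  symm
  apply Finset.card_nbij' (fun A => A.biUnion id) (fun U => 𝒪.filter (fun O => O ⊆ U))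
  · intro A hA
    obtain ⟨hAsub, hAcard⟩ := Finset.mem_powersetCard.mp hA
    apply Finset.mem_filter.mpr
    refine ⟨Finset.mem_powersetCard.mpr ⟨Finset.subset_univ _, by
      rw [hunion_card A hAsub, hAcard, mul_comm]⟩, ?_⟩
    intro s hs
    rw [MulAction.mem_stabilizer_iff]
    ext x
    rw [← Finset.inv_smul_mem_iff]
    simp only [Finset.mem_biUnion, id]
    constructor
    · rintro ⟨O, hO, hx⟩
      refine ⟨O, hO, ?_⟩
      obtain ⟨g, _, rfl⟩ := Finset.mem_image.mp (hAsub hO)
      have h1 := smul_cosetFinset T g s hs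
      rw [← h1, ← Finset.inv_smul_mem_iff]
      exact hx
    · rintro ⟨O, hO, hx⟩
      refine ⟨O, hO, ?_⟩
      obtain ⟨g, _, rfl⟩ := Finset.mem_image.mp (hAsub hO)
      have h1 := smul_cosetFinset T g s hs
      rw [← h1, ← Finset.inv_smul_mem_iff] at hx
      exact hx
  · intro U hU
    obtain ⟨hUX, hTU⟩ := Finset.mem_filter.mp hU
    obtain ⟨_, hUcard⟩ := Finset.mem_powersetCard.mp hUX
    apply Finset.mem_powersetCard.mpr
    refine ⟨Finset.filter_subset _ _, ?_⟩
    have h1 := hunion_card (𝒪.filter (fun O => O ⊆ U)) (Finset.filter_subset _ _)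
    rw [hUeq U hTU, hUcard, mul_comm] at h1
    exact (Nat.eq_of_mul_eq_mul_right htpos h1).symm
  · intro A hA
    obtain ⟨hAsub, hAcard⟩ := Finset.mem_powersetCard.mp hA
    ext O
    simp only [Finset.mem_filter]
    constructor
    · rintro ⟨hO, hOsub⟩
      obtain ⟨g, _, rfl⟩ := Finset.mem_image.mp hO
      have hg := hOsub (hself g)
      obtain ⟨O', hO', hgO'⟩ := Finset.mem_biUnion.mp hg
      have h1 : cosetFinset T g = O' := hO_eq O' (hAsub hO') g hgO'
      rw [h1]
      exact hO'
    · intro hO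
      exact ⟨hAsub hO, Finset.subset_biUnion_of_mem id hO⟩
  · intro U hU
    exact hUeq U (Finset.mem_filter.mp hU).2

/-- A finite cyclic group has exactly one subgroup of order `p^β` when `p^β` divides its order. -/
theorem card_subgroups_prime_pow_cyclic (p : ℕ) [hp : Fact p.Prime] {M : Type*} [Group M]
    [Finite M] [IsCyclic M] (β : ℕ) (h : p ^ β ∣ Nat.card M) :
    Nat.card {C : Subgroup M // Nat.card C = p ^ β} = 1 := by
  rw [Nat.card_eq_one_iff_unique]
  constructor
  · constructor
    intro a b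
    exact Subtype.ext (subgroup_eq_of_card_eq_of_isCyclic a.1 b.1 (a.2.trans b.2.symm))
  · obtain ⟨C, hC⟩ := Sylow.exists_subgroup_card_pow_prime p (G := M) (n := β) h
    exact ⟨⟨C, hC⟩⟩

/-- The number of subgroups of order `p^(β-1)` inside a group `T` of order `p^β` is `1` if `T` is
cyclic and `≡ 1 + p (mod p^2)` otherwise. -/
theorem card_subgroups_index_p_modEq (p : ℕ) [hp : Fact p.Prime] {T : Type u} [Group T] [Finite T]
    (β : ℕ) (hβ : 1 ≤ β) (hT : Nat.card T = p ^ β) [Decidable (IsCyclic T)] :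
    Nat.card {C : Subgroup T // Nat.card C = p ^ (β - 1)} ≡
      1 + p * (if IsCyclic T then 0 else 1) [MOD p ^ 2] := by
  by_cases hc : IsCyclic T
  · rw [if_pos hc, mul_zero, add_zero,
      card_subgroups_prime_pow_cyclic p (β - 1) (by rw [hT]; exact pow_dvd_pow p (Nat.sub_le β 1))]
  · rw [if_neg hc, mul_one]
    have h1 := card_index_p_noncyclic p β hT hc
    have e : {C : Subgroup T // Nat.card C = p ^ (β - 1)} ≃ {C : Subgroup T // C.index = p} := by
      refine Equiv.subtypeEquivRight (fun C => ?_)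
      have h2 := Subgroup.card_mul_index C
      rw [hT] at h2
      have h3 : p ^ β = p ^ (β - 1) * p := by
        rw [← pow_succ]; congr 1; omega
      constructor
      · intro h
        rw [h, h3] at h2
        exact Nat.eq_of_mul_eq_mul_left (pow_pos hp.out.pos _) h2
      · intro h
        rw [h, h3] at h2
        exact Nat.eq_of_mul_eq_mul_right hp.out.pos h2
    rw [Nat.card_congr e]
    exact h1

/-- The raw counting congruence behind `card_subgroups_modEq_sq`. -/
theorem wielandt_sq_raw {G : Type u} [Group G] [Finite G] (p β n' : ℕ) (hp : p.Prime) (hβ : 1 ≤ β)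
    (hn : Nat.card G = p ^ β * n') :
    Nat.card {H : Subgroup G // Nat.card H = p ^ (β - 1)} * (p * n').choose p ≡
      p * n' * Nat.card {H : Subgroup G // Nat.card H = p ^ β ∧ ¬ IsCyclic H} +
        (Nat.card G).choose (p ^ β) [MOD p ^ 2 * n'] := by
  classical
  have hpf : Fact p.Prime := ⟨hp⟩
  have : Fintype G := Fintype.ofFinite G
  have : Fintype (Subgroup G) := Fintype.ofFinite _
  have hppos : 0 < p := hp.pos
  have hkk' : p ^ β = p ^ (β - 1) * p := by
    rw [← pow_succ]; congr 1; omega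
  have hk'pos : 0 < p ^ (β - 1) := pow_pos hppos _
  have hkpos : 0 < p ^ β := pow_pos hppos _
  have hkne : p ^ β ≠ p ^ (β - 1) := by
    intro h
    have := Nat.pow_right_injective hp.two_le h
    omega
  have hn'' : Nat.card G = p ^ (β - 1) * (p * n') := by rw [hn, hkk', mul_assoc]
  let S : Finset G → Subgroup G := fun U => MulAction.stabilizer G U
  let X : Finset (Finset G) := Finset.powersetCard (p ^ β) Finset.univ
  have hXcard : X.card = (Nat.card G).choose (p ^ β) := by
    rw [Finset.card_powersetCard, Finset.card_univ, Nat.card_eq_fintype_card]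
  have hXmem : ∀ U, U ∈ X ↔ U.card = p ^ β := by
    intro U; simp [X]
  have hSdvd : ∀ U ∈ X, ∃ j, j ≤ β ∧ Nat.card (S U) = p ^ j := by
    intro U hU
    have hdvd : Nat.card (S U) ∣ p ^ β := by
      rw [← (hXmem U).mp hU]; exact card_stabilizer_dvd_card U
    exact (Nat.dvd_prime_pow hp).mp hdvd
  let 𝒯 : Finset (Subgroup G) := Finset.univ.filter (fun T => Nat.card T = p ^ β)
  let 𝒯' : Finset (Subgroup G) := Finset.univ.filter (fun T => Nat.card T = p ^ (β - 1))
  have h𝒯' : Nat.card {H : Subgroup G // Nat.card H = p ^ (β - 1)} = 𝒯'.card := by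
    rw [Nat.card_eq_fintype_card, Fintype.card_subtype]
  have hnc : Nat.card {H : Subgroup G // Nat.card H = p ^ β ∧ ¬ IsCyclic H} =
      (𝒯.filter (fun T : Subgroup G => ¬ IsCyclic T)).card := by
    rw [Nat.card_eq_fintype_card, Fintype.card_subtype, Finset.filter_filter]
  let X₁ := X.filter (fun U => Nat.card (S U) = p ^ β)
  let X₁' := X.filter (fun U => ¬ Nat.card (S U) = p ^ β)
  let X₂ := X₁'.filter (fun U => Nat.card (S U) = p ^ (β - 1))
  let X₃ := X₁'.filter (fun U => ¬ Nat.card (S U) = p ^ (β - 1))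
  have hsplit1 : X₁.card + X₁'.card = X.card := Finset.card_filter_add_card_filter_not _
  have hsplit2 : X₂.card + X₃.card = X₁'.card := Finset.card_filter_add_card_filter_not _
  -- `X₃` is a union of orbits of length divisible by `p^2 n'`
  have hX₃ : p ^ 2 * n' ∣ X₃.card := by
    let Ω₃ : SubMulAction G (Finset G) :=
      { carrier := {U | U ∈ X₃}
        smul_mem' := by
          intro g U hU
          obtain ⟨hU1, hU3⟩ := Finset.mem_filter.mp hU
          obtain ⟨hU1, hU2⟩ := Finset.mem_filter.mp hU1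
          have h1 : S (g • U) = (S U).map (MulAut.conj g).toMonoidHom :=
            MulAction.stabilizer_smul_eq_stabilizer_map_conj g U
          have h2 : Nat.card (S (g • U)) = Nat.card (S U) := by
            rw [h1, Subgroup.card_map_of_injective (MulAut.conj g).injective]
          apply Finset.mem_filter.mpr
          refine ⟨Finset.mem_filter.mpr ⟨(hXmem _).mpr (by
            rw [Finset.card_smul_finset]; exact (hXmem U).mp hU1), ?_⟩, ?_⟩
          · rw [h2]; exact hU2
          · rw [h2]; exact hU3 }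
    have hcard : Nat.card Ω₃ = X₃.card := by
      have : Nat.card {U // U ∈ X₃} = X₃.card := by
        rw [Nat.card_eq_fintype_card, Fintype.card_coe]
      exact this
    rw [← hcard]
    apply dvd_card_of_dvd_index_stabilizer (G := G)
    intro x
    rw [SubMulAction.stabilizer_of_subMul]
    have hx : (x : Finset G) ∈ X₃ := x.2
    obtain ⟨hx1, hx3⟩ := Finset.mem_filter.mp hx
    obtain ⟨hx1, hx2⟩ := Finset.mem_filter.mp hx1
    obtain ⟨j, hj, hjc⟩ := hSdvd _ hx1
    have hj1 : j ≠ β := by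
      rintro rfl
      exact hx2 hjc
    have hj2 : j ≠ β - 1 := by
      rintro rfl
      exact hx3 hjc
    have hmul := Subgroup.card_mul_index (S x)
    rw [hjc, hn] at hmul
    have hidx : (S x).index = p ^ (β - j) * n' := by
      have h2 : p ^ β = p ^ j * p ^ (β - j) := by
        rw [← pow_add]; congr 1; omega
      rw [h2, mul_assoc] at hmul
      exact Nat.eq_of_mul_eq_mul_left (pow_pos hp.pos j) hmul
    show p ^ 2 * n' ∣ (S x).index
    rw [hidx]
    exact Nat.mul_dvd_mul_right (pow_dvd_pow p (by omega)) n'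
  -- fibres of the stabilizer map over subgroups of order `p^β`
  have hfibre : ∀ T ∈ 𝒯, (X₁.filter (fun U => S U = T)).card = n' := by
    intro T hT
    have hTk : Nat.card T = p ^ β := (Finset.mem_filter.mp hT).2
    have hfilt : X₁.filter (fun U => S U = T) = X.filter (fun U => T ≤ S U) := by
      ext U
      constructor
      · intro hU
        obtain ⟨hU1, hST⟩ := Finset.mem_filter.mp hU
        obtain ⟨hUX, _⟩ := Finset.mem_filter.mp hU1
        exact Finset.mem_filter.mpr ⟨hUX, hST ▸ le_rfl⟩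
      · intro hU
        obtain ⟨hUX, hle⟩ := Finset.mem_filter.mp hU
        have hUk := (hXmem U).mp hUX
        have hdvd : Nat.card (S U) ∣ p ^ β := hUk ▸ card_stabilizer_dvd_card U
        have hle2 : Nat.card (S U) ≤ Nat.card T := by
          rw [hTk]; exact Nat.le_of_dvd hkpos hdvd
        have heq : T = S U := Subgroup.eq_of_le_of_card_ge hle hle2
        exact Finset.mem_filter.mpr ⟨Finset.mem_filter.mpr ⟨hUX, by rw [← heq, hTk]⟩, heq.symm⟩
    rw [hfilt]
    have h1 := card_invariant_subsets T (p ^ β) 1 n' hTk hn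
    rw [mul_one, Nat.choose_one_right] at h1
    exact h1
  have hX₁ : X₁.card = 𝒯.card * n' := by
    have hfib : X₁.card = ∑ T ∈ 𝒯, (X₁.filter (fun U => S U = T)).card :=
      Finset.card_eq_sum_card_fiberwise (by
        intro U hU
        have hU' := Finset.mem_filter.mp hU
        exact Finset.mem_filter.mpr ⟨Finset.mem_univ _, hU'.2⟩)
    rw [hfib]
    exact Finset.sum_const_nat hfibre
  -- the double count
  have hdc := Finset.sum_card_bipartiteAbove_eq_sum_card_bipartiteBelow (s := X) (t := 𝒯')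
    (r := fun (U : Finset G) (T : Subgroup G) => T ≤ S U)
  have hbelow : ∀ T ∈ 𝒯',
      (X.bipartiteBelow (fun (U : Finset G) (T : Subgroup G) => T ≤ S U) T).card =
        (p * n').choose p := by
    intro T hT
    have hTk : Nat.card T = p ^ (β - 1) := (Finset.mem_filter.mp hT).2
    have h1 := card_invariant_subsets T (p ^ (β - 1)) p (p * n') hTk hn''
    rw [← hkk'] at h1
    exact h1
  rw [Finset.sum_const_nat hbelow] at hdc
  -- the function `m`
  let m : Subgroup G → ℕ := fun T => (𝒯'.filter (fun T' => T' ≤ T)).card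
  have hm : ∀ T ∈ 𝒯, m T ≡ 1 + p * (if IsCyclic T then 0 else 1) [MOD p ^ 2] := by
    intro T hT
    have hTk : Nat.card T = p ^ β := (Finset.mem_filter.mp hT).2
    have h1 := card_subgroups_index_p_modEq p β hβ hTk
    rw [card_subgroups_below_card] at h1
    have h2 : m T = Nat.card {T' : Subgroup G // T' ≤ T ∧ Nat.card T' = p ^ (β - 1)} := by
      show (𝒯'.filter (fun T' => T' ≤ T)).card = _
      rw [Nat.card_eq_fintype_card, Fintype.card_subtype]
      congr 1
      ext T'
      simp only [Finset.mem_filter, Finset.mem_univ, true_and, 𝒯']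
      exact and_comm
    rw [h2]
    exact h1
  have hmsum : ∑ T ∈ 𝒯, m T ≡ 𝒯.card + p * (𝒯.filter (fun T : Subgroup G => ¬ IsCyclic T)).card [MOD p ^ 2] := by
    have h1 : ∑ T ∈ 𝒯, m T ≡ ∑ T ∈ 𝒯, (1 + p * (if IsCyclic T then 0 else 1)) [MOD p ^ 2] :=
      Nat.ModEq.sum hm
    have h2 : ∑ T ∈ 𝒯, (1 + p * (if IsCyclic T then 0 else 1)) =
        𝒯.card + p * (𝒯.filter (fun T : Subgroup G => ¬ IsCyclic T)).card := by
      rw [Finset.sum_add_distrib, Finset.sum_const, smul_eq_mul, mul_one, ← Finset.mul_sum]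
      congr 2
      rw [Finset.card_filter]
      apply Finset.sum_congr rfl
      intro T _
      by_cases hc : IsCyclic T <;> simp [hc]
    rw [h2] at h1
    exact h1
  -- evaluate the left side of the double count
  have hc₁ : ∑ U ∈ X₁, (𝒯'.bipartiteAbove (fun (U : Finset G) (T : Subgroup G) => T ≤ S U) U).card =
      n' * ∑ T ∈ 𝒯, m T := by
    have hmaps : ∀ U ∈ X₁, S U ∈ 𝒯 := by
      intro U hU
      exact Finset.mem_filter.mpr ⟨Finset.mem_univ _, (Finset.mem_filter.mp hU).2⟩
    rw [← Finset.sum_fiberwise_of_maps_to hmaps, Finset.mul_sum]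
    apply Finset.sum_congr rfl
    intro T hT
    have h1 : ∀ U ∈ X₁.filter (fun U => S U = T),
        (𝒯'.bipartiteAbove (fun (U : Finset G) (T : Subgroup G) => T ≤ S U) U).card = m T := by
      intro U hU
      have hSU : S U = T := (Finset.mem_filter.mp hU).2
      simp only [Finset.bipartiteAbove, m, hSU]
    rw [Finset.sum_const_nat h1, hfibre T hT]
  have hc₂ : ∑ U ∈ X₂, (𝒯'.bipartiteAbove (fun (U : Finset G) (T : Subgroup G) => T ≤ S U) U).card =
      X₂.card := by
    have h1 : ∀ U ∈ X₂,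
        (𝒯'.bipartiteAbove (fun (U : Finset G) (T : Subgroup G) => T ≤ S U) U).card = 1 := by
      intro U hU
      have hSU : Nat.card (S U) = p ^ (β - 1) := (Finset.mem_filter.mp hU).2
      have h2 : 𝒯'.bipartiteAbove (fun (U : Finset G) (T : Subgroup G) => T ≤ S U) U = {S U} := by
        ext T
        simp only [Finset.bipartiteAbove, Finset.mem_filter, Finset.mem_univ, true_and,
          Finset.mem_singleton, 𝒯']
        constructor
        · rintro ⟨hTk, hle⟩
          exact Subgroup.eq_of_le_of_card_ge hle (by rw [hTk, hSU])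
        · rintro rfl
          exact ⟨hSU, le_rfl⟩
      rw [h2, Finset.card_singleton]
    rw [Finset.sum_const_nat h1, mul_one]
  have hc₃ : ∑ U ∈ X₃, (𝒯'.bipartiteAbove (fun (U : Finset G) (T : Subgroup G) => T ≤ S U) U).card =
      0 := by
    apply Finset.sum_eq_zero
    intro U hU
    obtain ⟨hU1, hU3⟩ := Finset.mem_filter.mp hU
    obtain ⟨hU1, hU2⟩ := Finset.mem_filter.mp hU1
    rw [Finset.card_eq_zero, Finset.eq_empty_iff_forall_notMem]
    intro T hT
    simp only [Finset.bipartiteAbove, Finset.mem_filter, Finset.mem_univ, true_and, 𝒯'] at hT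
    obtain ⟨hTk, hle⟩ := hT
    obtain ⟨j, hj, hjc⟩ := hSdvd U hU1
    have hd : p ^ (β - 1) ∣ p ^ j := by
      rw [← hTk, ← hjc]; exact Subgroup.card_dvd_of_le hle
    have hle2 : β - 1 ≤ j := (Nat.pow_dvd_pow_iff_le_right hp.one_lt).mp hd
    rcases Nat.lt_or_ge j β with h | h
    · have : j = β - 1 := by omega
      rw [this] at hjc
      exact hU3 hjc
    · have : j = β := le_antisymm hj h
      rw [this] at hjc
      exact hU2 hjc
  have hsum : ∑ U ∈ X, (𝒯'.bipartiteAbove (fun (U : Finset G) (T : Subgroup G) => T ≤ S U) U).card =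
      n' * ∑ T ∈ 𝒯, m T + X₂.card := by
    rw [← Finset.sum_filter_add_sum_filter_not X (fun U => Nat.card (S U) = p ^ β)]
    have h1 : ∑ U ∈ X₁', (𝒯'.bipartiteAbove (fun (U : Finset G) (T : Subgroup G) => T ≤ S U) U).card =
        X₂.card := by
      rw [← Finset.sum_filter_add_sum_filter_not X₁' (fun U => Nat.card (S U) = p ^ (β - 1))]
      have h2 := hc₂
      have h3 := hc₃
      simp only [X₂, X₃] at h2 h3
      rw [h2, h3, add_zero]
    have h4 := hc₁
    simp only [X₁, X₁'] at h4 h1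
    rw [h4, h1]
  rw [hsum] at hdc
  -- assemble
  rw [h𝒯', hnc, ← hXcard, ← hsplit1, ← hsplit2, hX₁, ← hdc]
  have h1 : n' * ∑ T ∈ 𝒯, m T ≡ n' * (𝒯.card + p * (𝒯.filter (fun T : Subgroup G => ¬ IsCyclic T)).card)
      [MOD n' * p ^ 2] := Nat.ModEq.mul_left' n' hmsum
  rw [mul_comm n' (p ^ 2)] at h1
  have h2 : X₃.card ≡ 0 [MOD p ^ 2 * n'] := (Nat.modEq_zero_iff_dvd).mpr hX₃
  have h3 := (h1.add_right X₂.card).add h2.symm
  have h4 : n' * (𝒯.card + p * (𝒯.filter (fun T : Subgroup G => ¬ IsCyclic T)).card) + X₂.card + X₃.card =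
      p * n' * (𝒯.filter (fun T : Subgroup G => ¬ IsCyclic T)).card + (𝒯.card * n' + (X₂.card + X₃.card)) := by
    ring
  rw [add_zero, h4] at h3
  exact h3

/-- **Refined Frobenius count**: if `|G| = p^β * n'` with `β ≥ 1`, then the number of subgroups of
order `p^(β-1)` is congruent modulo `p^2` to `1 + p * c`, where `c` is the number of noncyclic
subgroups of order `p^β`. -/
theorem card_subgroups_modEq_sq {G : Type u} [Group G] [Finite G] (p β n' : ℕ) (hp : p.Prime)
    (hβ : 1 ≤ β) (hn : Nat.card G = p ^ β * n') :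
    Nat.card {H : Subgroup G // Nat.card H = p ^ (β - 1)} ≡
      1 + p * Nat.card {H : Subgroup G // Nat.card H = p ^ β ∧ ¬ IsCyclic H} [MOD p ^ 2] := by
  have hpf : Fact p.Prime := ⟨hp⟩
  have hn'pos : 0 < n' := by
    rcases Nat.eq_zero_or_pos n' with h | h
    · rw [h, mul_zero] at hn
      exact absurd hn (Nat.card_pos).ne'
    · exact h
  have hG := wielandt_sq_raw p β n' hp hβ hn
  -- the cyclic group of order `p^β n'`
  have hN0 : NeZero (p ^ β * n') := ⟨(Nat.mul_pos (pow_pos hp.pos β) hn'pos).ne'⟩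
  have hZcard : Nat.card (Multiplicative (ZMod (p ^ β * n'))) = p ^ β * n' := by
    rw [Nat.card_eq_fintype_card, Fintype.card_multiplicative, ZMod.card]
  have hZ := wielandt_sq_raw (G := Multiplicative (ZMod (p ^ β * n'))) p β n' hp hβ hZcard
  have hZ1 : Nat.card {H : Subgroup (Multiplicative (ZMod (p ^ β * n'))) //
      Nat.card H = p ^ (β - 1)} = 1 :=
    card_subgroups_prime_pow_cyclic p (β - 1) (by
      rw [hZcard]
      exact Dvd.dvd.mul_right (pow_dvd_pow p (Nat.sub_le β 1)) n')
  have hZ0 : Nat.card {H : Subgroup (Multiplicative (ZMod (p ^ β * n'))) //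
      Nat.card H = p ^ β ∧ ¬ IsCyclic H} = 0 := by
    have : IsEmpty {H : Subgroup (Multiplicative (ZMod (p ^ β * n'))) //
        Nat.card H = p ^ β ∧ ¬ IsCyclic H} := ⟨fun H => H.2.2 (Subgroup.isCyclic H.1)⟩
    exact Nat.card_of_isEmpty
  rw [hZ1, hZ0, one_mul, mul_zero, zero_add, hZcard] at hZ
  rw [hn] at hG
  -- `(p n').choose p ≡ n' (mod p n')`
  have hN1 : NeZero (p ^ 1 * n') := ⟨(Nat.mul_pos (pow_pos hp.pos 1) hn'pos).ne'⟩
  have hZ'card : Nat.card (Multiplicative (ZMod (p ^ 1 * n'))) = p ^ 1 * n' := by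
    rw [Nat.card_eq_fintype_card, Fintype.card_multiplicative, ZMod.card]
  have hW := wielandt_count (G := Multiplicative (ZMod (p ^ 1 * n'))) p 1 n' hp hZ'card
  have hW1 : Nat.card {H : Subgroup (Multiplicative (ZMod (p ^ 1 * n'))) //
      Nat.card H = p ^ 1} = 1 :=
    card_subgroups_prime_pow_cyclic p 1 (by rw [hZ'card]; exact Dvd.intro _ rfl)
  rw [hW1, one_mul, hZ'card, pow_one] at hW
  have h7 := card_subgroups_prime_pow_modEq_one (G := G) p (β - 1) hp (by
    rw [hn]
    exact Dvd.dvd.mul_right (pow_dvd_pow p (Nat.sub_le β 1)) n')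
  -- arithmetic over `ℤ`
  obtain ⟨n₁, hn₁⟩ : ∃ n₁ : ℕ, n₁ = Nat.card {H : Subgroup G // Nat.card H = p ^ (β - 1)} :=
    ⟨_, rfl⟩
  obtain ⟨c, hc⟩ : ∃ c : ℕ, c = Nat.card {H : Subgroup G // Nat.card H = p ^ β ∧ ¬ IsCyclic H} :=
    ⟨_, rfl⟩
  obtain ⟨C₁, hC₁⟩ : ∃ C₁ : ℕ, C₁ = (p * n').choose p := ⟨_, rfl⟩
  obtain ⟨CN, hCN⟩ : ∃ CN : ℕ, CN = (p ^ β * n').choose (p ^ β) := ⟨_, rfl⟩
  rw [← hn₁, ← hc, ← hC₁, ← hCN] at hG
  rw [← hC₁, ← hCN] at hZ
  rw [← hC₁] at hW
  rw [← hn₁] at h7
  rw [← hn₁, ← hc]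
  obtain ⟨a, e1⟩ := (Nat.modEq_iff_dvd.mp hG)
  obtain ⟨d, e2⟩ := (Nat.modEq_iff_dvd.mp hZ)
  obtain ⟨c', e3⟩ := (Nat.modEq_iff_dvd.mp hW)
  obtain ⟨t, e4⟩ := (Nat.modEq_iff_dvd.mp h7)
  push_cast at e1 e2 e3 e4
  apply Nat.modEq_iff_dvd.mpr
  refine ⟨a - d + t * c', ?_⟩
  push_cast
  have hn'0 : (n' : ℤ) ≠ 0 := by exact_mod_cast hn'pos.ne'
  apply mul_left_cancel₀ hn'0
  linear_combination e1 - e2 + (1 - (n₁ : ℤ)) * e3 + (p : ℤ) * n' * c' * e4

end Cfsg.Agent.Lib.helper97
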